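import Mathlib
import Cfsg.Prelude.Def_ChevF4
import Cfsg.Agent.ChevalleyStructure.E6Min.Basic
import Cfsg.Agent.ChevalleyStructure.Elts
import Cfsg.Agent.ChevalleyStructure.E6Min.Forms
import Cfsg.Agent.ChevalleyStructure.E6Min.Inv
import Cfsg.Agent.ChevalleyStructure.E6Min.Adjoint
import Cfsg.Agent.ChevalleyStructure.E6Min.Torus
import Cfsg.Agent.H184.GraphE6.Dual
import Cfsg.Agent.FastGrp
import Cfsg.Agent.Prune
set_option linter.all false

section
prune_inst 0x7ffcadf9abb8a9dfffff7e77a69ecffdfdb9bfffa6dff9cbffe061ff8b9f5b00c9c56b8d0beb10fe1f96c01410f87b53f97eeeffa86bd87ffffd1ff41ffbfddf9d67b508519488340fbc2ffe83f0778e7f3fffffffffffffffffffffffffffbeffbfffbfffff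

-- part: H952/F4/Defs
section
set_option linter.all false

/-!
# S5926: common definitions (helper952)

* `ev T μ` : dimension of the `μ`-eigenspace;
* `LK K` : the adjoint module of `chevF4.group K`;
* `yM r t` : the action of the root element `x_r(t)` of `F₄` on the 27-dimensional module `I27 → K`
  (`M₃(K)³`, cubic form `cubicT`), `IsJ ρ` : `ρ` is the action of `chevF4.group K` on it;
* `u0`, `tr1`, `tf`, `sh`, `cr` : unit, trace, trace form, adjoint, and its polarization.
-/

set_option autoImplicit false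

namespace Cfsg.Agent.H952.F4

open Cfsg.Lie Module
open Cfsg.Agent.ChevalleyStructure.E6Min.Tables Cfsg.Agent.ChevalleyStructure.E6Min.Basic

/-- The dimension of the eigenspace. -/
noncomputable def ev {K V : Type*} [Field K] [AddCommGroup V] [Module K V] (T : Module.End K V) (μ : K) : ℕ :=
  finrank K (T.eigenspace μ)

/-- The eigenspace. -/
def es {K V : Type*} [Field K] [AddCommGroup V] [Module K V] (T : V →ₗ[K] V) (μ : K) : Submodule K V :=
  Module.End.eigenspace T μ

/-- The natural module of a group of matrices. -/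
def matRep {K n : Type*} [Field K] [Fintype n] [DecidableEq n] (H : Subgroup (GL n K)) :
    Representation K ↥H (n → K) :=
  ((Matrix.toLinAlgEquiv' : Matrix n n K ≃ₐ[K] ((n → K) →ₗ[K] (n → K))) : Matrix n n K →* _).comp
    ((Units.coeHom (Matrix n n K)).comp H.subtype)

/-- The adjoint module of `F₄`. -/
def LK (K : Type*) [Field K] : Representation K ↥(chevF4.group K) (chevF4.Idx → K) := matRep (chevF4.group K)

/-- The root vector with index `r` of `F₄` as a combination of root vectors of `E₆` (index, sign). -/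
def dat : List (List (ℕ × ℤ)) :=
  [[(39, -1)], [(47, -1)], [(53, -1)], [(54, 1), (64, 1)], [(65, -1)], [(70, -1)], [(71, 1)], [(14, -1), (33, 1)],
   [(29, -1), (34, 1)], [(40, 1), (43, 1)], [(48, 1), (50, -1)], [(41, -1), (58, -1)], [(49, -1), (61, 1)],
   [(55, 1), (67, -1)], [(66, -1), (68, 1)], [(2, 1)], [(8, -1)], [(11, -1)], [(9, -1), (19, -1)],
   [(12, -1), (26, -1)], [(15, -1), (35, 1)], [(20, 1)], [(27, 1)], [(25, 1)], [(46, 1)], [(44, 1)], [(51, 1)],
   [(36, 1), (56, -1)], [(45, -1), (59, -1)], [(52, -1), (62, -1)], [(60, -1)], [(63, -1)], [(69, 1)],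
   [(3, 1), (5, -1)], [(4, -1), (16, 1)], [(10, 1), (22, -1)], [(13, -1), (30, -1)], [(21, -1), (23, 1)],
   [(28, 1), (31, 1)], [(37, 1), (42, -1)], [(38, 1), (57, -1)], [(0, 1)], [(1, -1)], [(6, -1)],
   [(7, 1), (17, 1)], [(18, -1)], [(24, -1)], [(32, -1)]]

/-- The weight of the coordinate with code `i < 27`: the index of a short root, or 48 for the zero weight
(codes 0, 4, 8). -/
def wtab : List ℕ := [48, 27, 40, 20, 48, 39, 7, 8, 48, 14, 37, 38, 13, 35, 36, 3, 18, 19, 33, 34, 44, 10, 12, 29, 9,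
  11, 28]

section Ring

variable {R : Type*} [CommRing R]

/-- The root vector of `F₄` as a 27 × 27 matrix. -/
def Bm (R : Type*) [CommRing R] (r : ℕ) : Matrix I27 I27 R :=
  ((dat.getD r []).map fun e => ((e.2 : ℤ) : R) • Nm R e.1).sum

/-- The root element `x_r(t)` of `F₄` as a 27 × 27 matrix. -/
def yM (r : ℕ) (t : R) : Matrix I27 I27 R :=
  ((dat.getD r []).map fun e => zM e.1 (((e.2 : ℤ) : R) * t)).prod

/-- The unit element `(I, 0, 0)`. -/
def u0 (R : Type*) [CommRing R] : I27 → R := fun x => if x.1 = 0 ∧ x.2.1 = x.2.2 then 1 else 0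

/-- The trace. -/
def tr1 (x : I27 → R) : R := (mat3 x 0).trace

/-- The trace form. -/
def tf (x y : I27 → R) : R :=
  (mat3 x 0 * mat3 y 0).trace + (mat3 x 1 * mat3 y 2).trace + (mat3 x 2 * mat3 y 1).trace

/-- The vector with given three matrices. -/
def ofM (a b c : Matrix (Fin 3) (Fin 3) R) : I27 → R := fun x =>
  if x.1 = 0 then a x.2.1 x.2.2 else if x.1 = 1 then b x.2.1 x.2.2 else c x.2.1 x.2.2

/-- The adjoint `x ↦ x^#`. -/
def sh (x : I27 → R) : I27 → R :=
  ofM ((mat3 x 0).adjugate - mat3 x 1 * mat3 x 2) ((mat3 x 2).adjugate - mat3 x 0 * mat3 x 1)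
    ((mat3 x 1).adjugate - mat3 x 2 * mat3 x 0)

/-- The polarization of the adjoint. -/
def cr (x y : I27 → R) : I27 → R := sh (x + y) - sh x - sh y

end Ring

/-- `ρ` is the action of `F₄` on the 27-dimensional module. -/
def IsJ {K : Type*} [Field K] (ρ : ↥(chevF4.group K) →* GL I27 K) : Prop :=
  ∀ (r : Fin chevF4.nroots) (t : K) (g : ↥(chevF4.group K)),
    ((g : GL chevF4.Idx K) : Matrix chevF4.Idx chevF4.Idx K) = chevF4.xMat K r t →
    ((ρ g : GL I27 K) : Matrix I27 I27 K) = yM r.val t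

/-- The 27-dimensional module as a representation. -/
noncomputable def JK {K : Type*} [Field K] (ρ : ↥(chevF4.group K) →* GL I27 K) :
    Representation K ↥(chevF4.group K) (I27 → K) :=
  ((Matrix.toLinAlgEquiv' : Matrix I27 I27 K ≃ₐ[K] ((I27 → K) →ₗ[K] (I27 → K))) : Matrix I27 I27 K →* _).comp
    ((Units.coeHom (Matrix I27 I27 K)).comp ρ)

end Cfsg.Agent.H952.F4
end

-- part: H952/F4/Defs2
section
set_option linter.all false
open scoped Cfsg.Agent.FastGrp

/-!
# S5926: common definitions, part 2 (helper952)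

`GenT`, `Tr`, `Tab`, `Mod`, `Mod26`, `Pkg`, `MaxAlt`, the elements `v0, v1, v2, c3, z5` of `A₅`.
-/

set_option autoImplicit false

namespace Cfsg.Agent.H952.F4

open Cfsg Cfsg.Lie Module
open Cfsg.Agent.ChevalleyStructure Cfsg.Agent.ChevalleyStructure.Elts
open Cfsg.Agent.ChevalleyStructure.E6Min.Tables Cfsg.Agent.ChevalleyStructure.E6Min.Basic

/-- `chevF4` is in the list of types -/
theorem hF4 : InList chevF4 := by simp [InList]

/-- elements `x, y` generating `A_n` with given cycle types of `x`, `y`, `xy` -/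
def GenT (n : ℕ) (a b c : Multiset ℕ) : Prop := ∃ x y : ↥(alternatingGroup (Fin n)),
  Subgroup.closure {x, y} = ⊤ ∧ (x : Equiv.Perm (Fin n)).cycleType = a ∧ (y : Equiv.Perm (Fin n)).cycleType = b ∧
    ((x * y : ↥(alternatingGroup (Fin n))) : Equiv.Perm (Fin n)).cycleType = c

/-- the traces of a representation depend only on the cycle type; `t a b c d e f g h` : the values on the classes
`1, 2², 3, 3², 42, 32², 5, 7`. -/
structure Tr {K V : Type*} [Field K] [AddCommGroup V] [Module K V]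
    (ρ : Representation K ↥(alternatingGroup (Fin 7)) V) (t1 t2 t3 t33 t4 t6 t5 t7 : K) : Prop where
  one : LinearMap.trace K V (ρ 1) = t1
  two : ∀ g : ↥(alternatingGroup (Fin 7)), (g : Equiv.Perm (Fin 7)).cycleType = {2, 2} → LinearMap.trace K V (ρ g) = t2
  three : ∀ g : ↥(alternatingGroup (Fin 7)), (g : Equiv.Perm (Fin 7)).cycleType = {3} → LinearMap.trace K V (ρ g) = t3
  threeb : ∀ g : ↥(alternatingGroup (Fin 7)), (g : Equiv.Perm (Fin 7)).cycleType = {3, 3} →
    LinearMap.trace K V (ρ g) = t33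
  four : ∀ g : ↥(alternatingGroup (Fin 7)), (g : Equiv.Perm (Fin 7)).cycleType = {4, 2} →
    LinearMap.trace K V (ρ g) = t4
  six : ∀ g : ↥(alternatingGroup (Fin 7)), (g : Equiv.Perm (Fin 7)).cycleType = {3, 2, 2} →
    LinearMap.trace K V (ρ g) = t6
  five : ∀ g : ↥(alternatingGroup (Fin 7)), (g : Equiv.Perm (Fin 7)).cycleType = {5} → LinearMap.trace K V (ρ g) = t5
  seven : ∀ g : ↥(alternatingGroup (Fin 7)), (g : Equiv.Perm (Fin 7)).cycleType = {7} →
    LinearMap.trace K V (ρ g) = t7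

/-- The class table of the elements of order 2, 3, 4, 5, 7 (prime to `p`) on the modules `L` (52) and `J` (27). -/
structure Tab (p : ℕ) {k G VL VJ : Type*} [Field k] [Group G] [AddCommGroup VL] [Module k VL] [AddCommGroup VJ]
    [Module k VJ] (L : Representation k G VL) (J : Representation k G VJ) : Prop where
  two : p ≠ 2 → ∀ x : G, x ≠ 1 → x * x = 1 →
    (ev (J x) 1 = 15 ∧ ev (L x) 1 = 24 ∧ LinearMap.trace k VJ (J x) = 3 ∧ LinearMap.trace k VL (L x) = -4) ∨
    (ev (J x) 1 = 11 ∧ ev (L x) 1 = 36 ∧ LinearMap.trace k VJ (J x) = -5 ∧ LinearMap.trace k VL (L x) = 20)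
  three : p ≠ 3 → ∀ x : G, x ≠ 1 → x ^ 3 = 1 →
    (ev (J x) 1 = 15 ∧ ev (L x) 1 = 22 ∧ LinearMap.trace k VJ (J x) = 9 ∧ LinearMap.trace k VL (L x) = 7) ∨
    (ev (J x) 1 = 9 ∧ ev (L x) 1 = 22 ∧ LinearMap.trace k VJ (J x) = 0 ∧ LinearMap.trace k VL (L x) = 7) ∨
    (ev (J x) 1 = 9 ∧ ev (L x) 1 = 16 ∧ LinearMap.trace k VJ (J x) = 0 ∧ LinearMap.trace k VL (L x) = -2)
  four : p ≠ 2 → ∀ x : G, x * x ≠ 1 → x ^ 4 = 1 →
    (ev (J (x * x)) 1 = 11 ∧ ev (L (x * x)) 1 = 36 ∧ ev (J x) 1 = 5 ∧ ev (L x) 1 = 18 ∧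
      LinearMap.trace k VJ (J x) = -1 ∧ LinearMap.trace k VL (L x) = 0) ∨
    (ev (J (x * x)) 1 = 11 ∧ ev (L (x * x)) 1 = 36 ∧ ev (J x) 1 = 9 ∧ ev (L x) 1 = 22 ∧
      LinearMap.trace k VJ (J x) = 7 ∧ LinearMap.trace k VL (L x) = 8) ∨
    (ev (J (x * x)) 1 = 15 ∧ ev (L (x * x)) 1 = 24 ∧ ev (J x) 1 = 7 ∧ ev (L x) 1 = 14 ∧
      LinearMap.trace k VJ (J x) = -1 ∧ LinearMap.trace k VL (L x) = 4) ∨
    (ev (J (x * x)) 1 = 15 ∧ ev (L (x * x)) 1 = 24 ∧ ev (J x) 1 = 9 ∧ ev (L x) 1 = 12 ∧
      LinearMap.trace k VJ (J x) = 3 ∧ LinearMap.trace k VL (L x) = 0) ∨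
    (ev (J (x * x)) 1 = 15 ∧ ev (L (x * x)) 1 = 24 ∧ ev (J x) 1 = 15 ∧ ev (L x) 1 = 22 ∧
      LinearMap.trace k VJ (J x) = 15 ∧ LinearMap.trace k VL (L x) = 20)
  four_i : p ≠ 2 → ∀ x : G, x ^ 4 = 1 → ∀ i : k, i * i = -1 → ev (J x) i = ev (J x) (-i)
  five : p ≠ 5 → ∀ x : G, x ≠ 1 → x ^ 5 = 1 →
    (ev (J x) 1 = 5 ∧ ev (L x) 1 = 12) ∨ (ev (J x) 1 = 7 ∧ ev (L x) 1 = 12) ∨ (ev (J x) 1 = 9 ∧ ev (L x) 1 = 12) ∨
    (ev (J x) 1 = 9 ∧ ev (L x) 1 = 22) ∨ (ev (J x) 1 = 15 ∧ ev (L x) 1 = 22)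
  five_rat : p ≠ 5 → ∀ x : G, x ≠ 1 → x ^ 5 = 1 → (∃ g : G, g * x * g⁻¹ = x ^ 2) →
    ev (J x) 1 = 7 ∧ ev (L x) 1 = 12 ∧ LinearMap.trace k VJ (J x) = 2 ∧ LinearMap.trace k VL (L x) = 2
  seven_rat : p ≠ 7 → ∀ x : G, x ≠ 1 → x ^ 7 = 1 → (∃ g : G, g * x * g⁻¹ = x ^ 2) →
    ev (L x) 1 = 10 ∧ LinearMap.trace k VL (L x) = 3 ∧
      ((ev (J x) 1 = 3 ∧ LinearMap.trace k VJ (J x) = -1) ∨ (ev (J x) 1 = 9 ∧ LinearMap.trace k VJ (J x) = 6))

/-- a module for Scott's lemma: dimension `d`, form, no invariants; the eigenspaces of elements prime to `p` are smaller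
than those of `J` by `s` -/
structure Mod (p d s : ℕ) {F G VJ V : Type*} [Field F] [Group G] [AddCommGroup VJ] [Module F VJ] [AddCommGroup V]
    [Module F V] (J : Representation F G VJ) (σ : Representation F G V) : Prop where
  fin : FiniteDimensional F V
  dim : finrank F V = d
  form : ∃ B : V →ₗ[F] V →ₗ[F] F, (∀ v, (∀ w, B v w = 0) → v = 0) ∧ (∀ g v w, B (σ g v) (σ g w) = B v w)
  inv : σ.invariants = ⊥
  ev_eq : ∀ g : G, (orderOf g).Coprime p → ev (J g) 1 = ev (σ g) 1 + s

/-- a 26-dimensional module with alternating form without invariants -/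
structure Mod26 {F G M : Type*} [Field F] [Group G] [AddCommGroup M] [Module F M] (ρ : Representation F G M) :
    Prop where
  fin : FiniteDimensional F M
  dim : finrank F M = 26
  form : ∃ B : M →ₗ[F] M →ₗ[F] F, (∀ v, B v v = 0) ∧ (∀ v, (∀ w, B v w = 0) → v = 0) ∧
    ∀ g v w, B (ρ g v) (ρ g w) = B v w
  inv : ρ.invariants = ⊥

/-- The two 26-dimensional modules in characteristic 2 and the dimensions of the fixed spaces. -/
structure Pkg {F G M N : Type*} [Field F] [Group G] [AddCommGroup M] [Module F M] [AddCommGroup N] [Module F N]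
    (ρ : Representation F G M) (σ : Representation F G N) : Prop where
  m : Mod26 ρ
  n : Mod26 σ
  three : ∀ x : G, x ≠ 1 → x ^ 3 = 1 → ev (ρ x) 1 = 8 ∨ ev (ρ x) 1 = 14
  five : ∀ x : G, x ≠ 1 → x ^ 5 = 1 → 8 ≤ ev (ρ x) 1 ∨ 8 ≤ ev (σ x) 1 ∨ (ev (ρ x) 1 = 6 ∧ ev (σ x) 1 = 6)
  five_rat : ∀ x : G, x ≠ 1 → x ^ 5 = 1 → (∃ g : G, g * x * g⁻¹ = x ^ 2) → ev (ρ x) 1 = 6 ∧ ev (σ x) 1 = 6
  seven_rat : ∀ x : G, x ≠ 1 → x ^ 7 = 1 → (∃ g : G, g * x * g⁻¹ = x ^ 2) → ev (ρ x) 1 = 8 ∨ ev (σ x) 1 = 8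

/-- `H` is a maximal subgroup whose generalized Fitting subgroup is the image of `φ`. -/
structure MaxAlt {G : Type*} [Group G] (H : Subgroup G) (n : ℕ) (φ : ↥(alternatingGroup (Fin n)) →* G) : Prop where
  coatom : IsCoatom H
  inj : Function.Injective φ
  le : φ.range ≤ H
  norm : ∀ h ∈ H, ∀ a ∈ φ.range, h * a * h⁻¹ ∈ φ.range
  sq : ∀ h ∈ H, h * h ∈ φ.range
  min : ∀ B : Subgroup G, B ≤ H → (∀ h ∈ H, ∀ b ∈ B, h * b * h⁻¹ ∈ B) → B ≠ ⊥ → φ.range ≤ B
  card : Nat.card ↥H ≤ if n = 6 then 1440 else n.factorial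
  five : n = 5 → H = φ.range ∨ ∀ a ∈ φ.range, a ≠ 1 → a ^ 5 = 1 → ∃ h ∈ H, h * a * h⁻¹ = a ^ 2

open Equiv in
def v0 : ↥(alternatingGroup (Fin 5)) := ⟨swap (0 : Fin 5) 1 * swap (2 : Fin 5) 3, by rw [Equiv.Perm.mem_alternatingGroup]; decide⟩
open Equiv in
def v1 : ↥(alternatingGroup (Fin 5)) := ⟨swap (0 : Fin 5) 2 * swap (1 : Fin 5) 3, by rw [Equiv.Perm.mem_alternatingGroup]; decide⟩
open Equiv in
def v2 : ↥(alternatingGroup (Fin 5)) := ⟨swap (0 : Fin 5) 3 * swap (1 : Fin 5) 2, by rw [Equiv.Perm.mem_alternatingGroup]; decide⟩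
open Equiv in
/-- `1 → 2 → 3 → 1` -/
def c3 : ↥(alternatingGroup (Fin 5)) := ⟨swap (1 : Fin 5) 2 * swap (2 : Fin 5) 3, by rw [Equiv.Perm.mem_alternatingGroup]; decide⟩
open Equiv in
/-- `0 → 1 → 2 → 4 → 3 → 0` -/
def z5 : ↥(alternatingGroup (Fin 5)) := ⟨swap (0 : Fin 5) 1 * swap (1 : Fin 5) 2 * swap (2 : Fin 5) 4 * swap (4 : Fin 5) 3, by rw [Equiv.Perm.mem_alternatingGroup]; decide⟩


end Cfsg.Agent.H952.F4
end

-- part: H952/F4/Inv
section
prune_inst 0x31006544652200000018859613000020240004020040400090a003040a4bd060290328410a30080692a094d07008006811100500426000000e003800002206298000420083480104240011800080000000000000000000000000000000041000000400000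
set_option linter.all false
open scoped Cfsg.Agent.FastGrp

/-!
# S5926, F-D4: the invariance of the unit, the cubic form, the trace form, the adjoint and its polarization
-/

set_option autoImplicit false
set_option maxHeartbeats 1000000

namespace Cfsg.Agent.H952.F4

open Cfsg Cfsg.Lie Module
open Cfsg.Agent.ChevalleyStructure Cfsg.Agent.ChevalleyStructure.Elts
open Cfsg.Agent.ChevalleyStructure.E6Min.Tables Cfsg.Agent.ChevalleyStructure.E6Min.Basic
open scoped Matrix

universe u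

namespace Inv

/-! ### the root elements -/

/-- the entry with code `j` of the unit -/
def uN (j : ℕ) : ℤ := if j = 0 ∨ j = 4 ∨ j = 8 then 1 else 0

/-- the linear and the quadratic coefficient of `x_r(t) u0 - u0` vanish -/
def chkN (r j : ℕ) : Bool :=
  match dat.getD r [] with
  | [(a, s)] => Nat.blt a 72 && (s * sgN a j * uN (srN a j) == 0)
  | [(a, s), (b, s')] => Nat.blt a 72 && Nat.blt b 72 &&
      (s' * sgN b j * uN (srN b j) + s * sgN a j * uN (srN a j) == 0) &&
      (sgN a j * sgN b (srN a j) * uN (srN b (srN a j)) == 0)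
  | _ => false

theorem chk_all : allLt 48 (fun r => allLt 27 fun j => chkN r j) = true := by decide +kernel

section Ring

variable {R : Type u} [CommRing R]

theorem u0_eq (x : I27) : u0 R x = ((uN (code x) : ℤ) : R) := by
  have h : ∀ x : I27, (if x.1 = 0 ∧ x.2.1 = x.2.2 then (1 : ℤ) else 0) = uN (code x) := by decide
  unfold u0
  rw [← h x]
  split_ifs <;> simp

theorem chk_spec {r : ℕ} (hr : r < 48) (x : I27) : chkN r (code x) = true :=
  allLt_spec (allLt_spec chk_all r hr) _ (code_lt x)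

/-- the root elements fix the unit -/
theorem yM_u0 {r : ℕ} (hr : r < 48) (t : R) : yM r t *ᵥ u0 R = u0 R := by
  ext x
  have h := chk_spec hr x
  unfold yM
  unfold chkN at h
  rcases hd : dat.getD r [] with _ | ⟨⟨a, s⟩, _ | ⟨⟨b, s'⟩, _ | ⟨c, l⟩⟩⟩
  · rw [hd] at h
    simp at h
  · rw [hd] at h
    simp only [Bool.and_eq_true, Nat.blt_eq, beq_iff_eq] at h
    simp only [List.map_cons, List.map_nil, List.prod_cons, List.prod_nil, mul_one]
    rw [zM_mulVec, u0_eq, u0_eq, code_sr h.1]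
    have h2 : ((s * sgN a (code x) * uN (srN a (code x)) : ℤ) : R) = 0 := by rw [h.2, Int.cast_zero]
    push_cast at h2
    unfold sg
    linear_combination t * h2
  · rw [hd] at h
    simp only [Bool.and_eq_true, Nat.blt_eq, beq_iff_eq] at h
    obtain ⟨⟨⟨ha, hb⟩, h1⟩, h2⟩ := h
    simp only [List.map_cons, List.map_nil, List.prod_cons, List.prod_nil, mul_one]
    rw [← Matrix.mulVec_mulVec, zM_mulVec, zM_mulVec, zM_mulVec]
    simp only [u0_eq, code_sr hb, code_sr ha]
    have h1' : ((s' * sgN b (code x) * uN (srN b (code x)) + s * sgN a (code x) * uN (srN a (code x)) : ℤ) : R) = 0 := by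
      rw [h1, Int.cast_zero]
    have h2' : ((sgN a (code x) * sgN b (srN a (code x)) * uN (srN b (srN a (code x))) : ℤ) : R) = 0 := by
      rw [h2, Int.cast_zero]
    push_cast at h1' h2'
    have e1 : sg b (sr a x) = sgN b (srN a (code x)) := sg_sr ha x
    rw [e1]
    unfold sg
    linear_combination t * h1' + (s : R) * s' * t ^ 2 * h2'
  · rw [hd] at h
    simp at h

theorem dat_lt {r : ℕ} (hr : r < 48) : ∀ e ∈ dat.getD r [], e.1 < 72 := by
  have h := chk_spec hr (0, 0, 0)
  unfold chkN at h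
  rcases hd : dat.getD r [] with _ | ⟨⟨a, s⟩, _ | ⟨⟨b, s'⟩, _ | ⟨c, l⟩⟩⟩
  · intro e he
    simp at he
  · rw [hd] at h
    simp only [Bool.and_eq_true, Nat.blt_eq, beq_iff_eq] at h
    simpa using h.1
  · rw [hd] at h
    simp only [Bool.and_eq_true, Nat.blt_eq, beq_iff_eq] at h
    simpa using h.1.1
  · rw [hd] at h
    simp at h

/-- the root elements preserve the cubic form -/
theorem cubicT_yM {r : ℕ} (hr : r < 48) (t : R) (v : I27 → R) : cubicT (yM r t *ᵥ v) = cubicT v := by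
  have key : ∀ l : List (ℕ × ℤ), (∀ e ∈ l, e.1 < 72) →
      ∀ v : I27 → R, cubicT ((l.map fun e => zM e.1 (((e.2 : ℤ) : R) * t)).prod *ᵥ v) = cubicT v := by
    intro l
    induction l with
    | nil => intro _ v; simp
    | cons e l ih =>
      intro hl v
      rw [List.map_cons, List.prod_cons, ← Matrix.mulVec_mulVec,
        E6Min.Inv.cubicT_zM (hl e (List.mem_cons_self ..)), ih fun e' he' => hl e' (List.mem_cons_of_mem _ he')]
  exact key _ (dat_lt hr) v

/-! ### the forms -/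

theorem mat3_add (x y : I27 → R) (k : Fin 3) : mat3 (x + y) k = mat3 x k + mat3 y k := rfl

theorem mat3_u0_zero : mat3 (u0 R) 0 = 1 := by
  ext i j
  rw [Matrix.one_apply]
  simp [mat3, u0]

theorem mat3_u0_one : mat3 (u0 R) 1 = 0 := by
  ext i j
  simp [mat3, u0]

theorem mat3_u0_two : mat3 (u0 R) 2 = 0 := by
  ext i j
  simp [mat3, u0]

theorem det_polar (A B : Matrix (Fin 3) (Fin 3) R) :
    (A + B + 1).det - (A + B).det - (A + 1).det - (B + 1).det + A.det + B.det + 1 = A.trace * B.trace - (A * B).trace := by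
  simp only [Matrix.det_fin_three, Matrix.trace, Matrix.diag, Fin.sum_univ_three, Matrix.mul_apply, Matrix.add_apply,
    Matrix.one_apply]
  simp only [_root_.Fin.isValue, ↓ _root_.reduceIte, _root_.Fin.reduceEq, _root_.add_zero, _root_.zero_ne_one, _root_.one_ne_zero]
  ring

theorem det_add (A B : Matrix (Fin 3) (Fin 3) R) :
    (A + B).det = A.det + (A.adjugate * B).trace + (A * B.adjugate).trace + B.det := by
  simp only [Matrix.det_fin_three, Matrix.trace, Matrix.diag, Fin.sum_univ_three, Matrix.mul_apply, Matrix.add_apply,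
    Matrix.adjugate_fin_three, Matrix.of_apply, Matrix.cons_val', Matrix.cons_val_zero, Matrix.cons_val_one,
    Matrix.cons_val]
  ring

theorem T3_u0 (x y : I27 → R) : E6Min.Forms.T3 x y (u0 R) = tr1 x * tr1 y - tf x y := by
  rw [E6Min.Forms.T3_polar]
  unfold cubicT tr1 tf
  simp only [mat3_add, mat3_u0_zero, mat3_u0_one, mat3_u0_two, Matrix.det_one, add_zero]
  have h1 := det_polar (mat3 x 0) (mat3 y 0)
  have h2 : ((0 : Matrix (Fin 3) (Fin 3) R)).det = 0 := by simp
  simp only [h2, Matrix.trace_add, add_mul, mul_add, one_mul, mul_zero, Matrix.trace_zero]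
  have h3 : (mat3 y 1 * mat3 x 2).trace = (mat3 x 2 * mat3 y 1).trace := Matrix.trace_mul_comm _ _
  linear_combination h1 - h3

theorem T3_u0_u0 (x : I27 → R) : E6Min.Forms.T3 x (u0 R) (u0 R) = 2 * tr1 x := by
  rw [T3_u0]
  have h1 : tr1 (u0 R) = 3 := by
    unfold tr1
    rw [mat3_u0_zero, Matrix.trace_one]
    simp
  have h2 : tf x (u0 R) = tr1 x := by
    unfold tf tr1
    rw [mat3_u0_zero, mat3_u0_one, mat3_u0_two]
    simp
  rw [h1, h2]
  ring

omit [CommRing R] in
theorem mat3_ofM_zero (a b c : Matrix (Fin 3) (Fin 3) R) : mat3 (ofM a b c) 0 = a := by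
  ext i j
  simp [mat3, ofM]

omit [CommRing R] in
theorem mat3_ofM_one (a b c : Matrix (Fin 3) (Fin 3) R) : mat3 (ofM a b c) 1 = b := by
  ext i j
  simp [mat3, ofM]

omit [CommRing R] in
theorem mat3_ofM_two (a b c : Matrix (Fin 3) (Fin 3) R) : mat3 (ofM a b c) 2 = c := by
  ext i j
  have h1 : ¬ ((2 : Fin 3) = 1) := by decide
  simp [mat3, ofM, h1]

theorem tf_symm (x y : I27 → R) : tf x y = tf y x := by
  unfold tf
  rw [Matrix.trace_mul_comm (mat3 x 0), Matrix.trace_mul_comm (mat3 x 1), Matrix.trace_mul_comm (mat3 x 2)]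
  ring

theorem cubicT_add (x y : I27 → R) : cubicT (x + y) = cubicT x + tf (sh x) y + tf x (sh y) + cubicT y := by
  unfold cubicT tf sh
  simp only [mat3_add, mat3_ofM_zero, mat3_ofM_one, mat3_ofM_two]
  rw [det_add (mat3 x 0), det_add (mat3 x 1), det_add (mat3 x 2)]
  simp only [Matrix.trace_add, add_mul, mul_add, sub_mul, mul_sub, Matrix.trace_sub, Matrix.mul_assoc]
  generalize mat3 x 0 = A
  generalize mat3 x 1 = B
  generalize mat3 x 2 = C
  generalize mat3 y 0 = D
  generalize mat3 y 1 = E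
  generalize mat3 y 2 = G
  have e1 : (B * (C * D)).trace = (D * (B * C)).trace := by rw [← Matrix.mul_assoc, Matrix.trace_mul_comm]
  have e2 : (C * (A * E)).trace = (A * (E * C)).trace := by rw [Matrix.trace_mul_comm, Matrix.mul_assoc]
  have e3 : (B * (G * D)).trace = (D * (B * G)).trace := by rw [← Matrix.mul_assoc, Matrix.trace_mul_comm]
  have e4 : (C * (D * E)).trace = (D * (E * C)).trace := by rw [Matrix.trace_mul_comm, Matrix.mul_assoc]
  linear_combination e1 + e2 + e3 + e4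

omit [CommRing R] in
theorem mat3_ext {x y : I27 → R} (h0 : mat3 x 0 = mat3 y 0) (h1 : mat3 x 1 = mat3 y 1) (h2 : mat3 x 2 = mat3 y 2) :
    x = y := by
  funext ⟨i, a, b⟩
  fin_cases i
  · exact congrFun (congrFun h0 a) b
  · exact congrFun (congrFun h1 a) b
  · exact congrFun (congrFun h2 a) b

theorem mat3_smul (c : R) (x : I27 → R) (k : Fin 3) : mat3 (c • x) k = c • mat3 x k := rfl

theorem sh_smul (c : R) (x : I27 → R) : sh (c • x) = c ^ 2 • sh x := by
  unfold sh
  apply mat3_ext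
  · simp only [mat3_smul, mat3_ofM_zero, Matrix.adjugate_smul, Fintype.card_fin, Matrix.smul_mul, Matrix.mul_smul]
    rw [smul_sub, smul_smul, pow_two]
  · simp only [mat3_smul, mat3_ofM_one, Matrix.adjugate_smul, Fintype.card_fin, Matrix.smul_mul, Matrix.mul_smul]
    rw [smul_sub, smul_smul, pow_two]
  · simp only [mat3_smul, mat3_ofM_two, Matrix.adjugate_smul, Fintype.card_fin, Matrix.smul_mul, Matrix.mul_smul]
    rw [smul_sub, smul_smul, pow_two]

theorem tf_add_left (x y z : I27 → R) : tf (x + y) z = tf x z + tf y z := by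
  unfold tf
  simp only [mat3_add, add_mul, Matrix.trace_add]
  ring

theorem tf_smul_left (c : R) (x y : I27 → R) : tf (c • x) y = c * tf x y := by
  unfold tf
  simp only [mat3_smul, Matrix.smul_mul, Matrix.trace_smul, smul_eq_mul]
  ring

theorem cubicT_smul (c : R) (x : I27 → R) : cubicT (c • x) = c ^ 3 * cubicT x := by
  unfold cubicT
  simp only [mat3_smul, Matrix.det_smul, Fintype.card_fin, Matrix.smul_mul, Matrix.mul_smul, Matrix.trace_smul,
    smul_eq_mul]
  ring

theorem T3_self (x y : I27 → R) : E6Min.Forms.T3 x x y = 2 * tf (sh x) y := by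
  rw [E6Min.Forms.T3_polar, cubicT_add (x + x) y, cubicT_add x y, ← two_smul R x, sh_smul, cubicT_smul, tf_smul_left,
    tf_smul_left]
  ring

/-- the involution of the coordinates -/
def sw (i : I27) : I27 := (if i.1 = 0 then 0 else if i.1 = 1 then 2 else 1, i.2.2, i.2.1)

theorem sw_sw (i : I27) : sw (sw i) = i := by
  revert i
  decide

theorem tf_eq_sum (x y : I27 → R) : tf x y = ∑ i, x i * y (sw i) := by
  unfold tf
  simp only [Matrix.trace, Matrix.diag, Matrix.mul_apply, Fin.sum_univ_three, Fintype.sum_prod_type, mat3,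
    Matrix.of_apply, sw]
  simp only [_root_.Fin.isValue, ↓ _root_.reduceIte, _root_.one_ne_zero, _root_.Fin.reduceEq]

theorem tf_single_right (x : I27 → R) (j : I27) : tf x (Pi.single (sw j) 1) = x j := by
  rw [tf_eq_sum, Finset.sum_eq_single j]
  · simp
  · intro b _ hb
    rw [Pi.single_apply, if_neg, mul_zero]
    intro h
    apply hb
    rw [← sw_sw b, h, sw_sw]
  · intro h
    exact absurd (Finset.mem_univ _) h

theorem tf_nondeg {x : I27 → R} (h : ∀ y, tf x y = 0) : x = 0 := by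
  funext j
  rw [← tf_single_right x j]
  exact h _

end Ring

/-! ### the group -/

section Group

variable {K : Type u} [Field K] {ρ : ↥(chevF4.group K) →* GL I27 K}

/-- induction over the root elements -/
theorem gen_induction {P : ↥(chevF4.group K) → Prop}
    (hx : ∀ (r : Fin chevF4.nroots) (t : K) (g : ↥(chevF4.group K)),
      ((g : GL chevF4.Idx K) : Matrix chevF4.Idx chevF4.Idx K) = chevF4.xMat K r t → P g)
    (h1 : P 1) (hmul : ∀ g h, P g → P h → P (g * h)) (hinv : ∀ g, P g → P g⁻¹) (g : ↥(chevF4.group K)) : P g := by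
  have key : ∀ (g : GL chevF4.Idx K) (hg : g ∈ chevF4.group K), P ⟨g, hg⟩ := by
    intro g hg
    unfold ChevalleyDatum.group at hg
    induction hg using Subgroup.closure_induction with
    | mem x hx' =>
      obtain ⟨r, t, h⟩ := hx'
      exact hx r t _ h
    | one => exact h1
    | mul x y hx' hy' ihx ihy => exact (hmul _ _ ihx ihy :)
    | inv x hx' ihx => exact hinv _ ihx
  exact key g g.2

theorem JK_apply (g : ↥(chevF4.group K)) (x : I27 → K) :
    JK ρ g x = ((ρ g : GL I27 K) : Matrix I27 I27 K) *ᵥ x := rfl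

theorem JK_inv_apply (g : ↥(chevF4.group K)) (x : I27 → K) : JK ρ g⁻¹ (JK ρ g x) = x := by
  rw [← Module.End.mul_apply, ← map_mul, inv_mul_cancel, map_one, Module.End.one_apply]

theorem JK_apply_inv (g : ↥(chevF4.group K)) (x : I27 → K) : JK ρ g (JK ρ g⁻¹ x) = x := by
  rw [← Module.End.mul_apply, ← map_mul, mul_inv_cancel, map_one, Module.End.one_apply]

theorem u0_inv (h : IsJ ρ) (g : ↥(chevF4.group K)) : JK ρ g (u0 K) = u0 K := by
  refine gen_induction (P := fun g => JK ρ g (u0 K) = u0 K) ?_ ?_ ?_ ?_ g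
  · intro r t g hg
    rw [JK_apply, h r t g hg]
    exact yM_u0 r.isLt t
  · simp only [_root_.map_one, _root_.Module.End.one_apply]
  · intro g g' hg hg'
    rw [map_mul, Module.End.mul_apply, hg', hg]
  · intro g hg
    conv_lhs => rw [← hg]
    exact JK_inv_apply g _

theorem N_inv (h : IsJ ρ) (g : ↥(chevF4.group K)) (x : I27 → K) : cubicT (JK ρ g x) = cubicT x := by
  revert x
  refine gen_induction (P := fun g => ∀ x, cubicT (JK ρ g x) = cubicT x) ?_ ?_ ?_ ?_ g
  · intro r t g hg x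
    rw [JK_apply, h r t g hg]
    exact cubicT_yM r.isLt t x
  · intro x
    simp only [_root_.map_one, _root_.Module.End.one_apply]
  · intro g g' hg hg' x
    rw [map_mul, Module.End.mul_apply, hg, hg']
  · intro g hg x
    rw [← hg, JK_apply_inv]

theorem T3_inv (h : IsJ ρ) (g : ↥(chevF4.group K)) (x y z : I27 → K) :
    E6Min.Forms.T3 (JK ρ g x) (JK ρ g y) (JK ρ g z) = E6Min.Forms.T3 x y z := by
  simp only [E6Min.Forms.T3_polar, ← map_add, N_inv h]

theorem tr1_inv (h : IsJ ρ) (h2 : (2 : K) ≠ 0) (g : ↥(chevF4.group K)) (x : I27 → K) :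
    tr1 (JK ρ g x) = tr1 x := by
  apply mul_left_cancel₀ h2
  rw [← T3_u0_u0, ← T3_u0_u0, ← T3_inv h g x, u0_inv h]

theorem tf_inv (h : IsJ ρ) (h2 : (2 : K) ≠ 0) (g : ↥(chevF4.group K)) (x y : I27 → K) :
    tf (JK ρ g x) (JK ρ g y) = tf x y := by
  have e1 := T3_u0 (JK ρ g x) (JK ρ g y)
  have e2 := T3_u0 x y
  rw [← T3_inv h g, u0_inv h, e1, tr1_inv h h2, tr1_inv h h2] at e2
  linear_combination (-1 : K) * e2

theorem sh_inv (h : IsJ ρ) (h2 : (2 : K) ≠ 0) (g : ↥(chevF4.group K)) (x : I27 → K) :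
    sh (JK ρ g x) = JK ρ g (sh x) := by
  rw [← sub_eq_zero]
  apply tf_nondeg
  intro y
  obtain ⟨z, rfl⟩ : ∃ z, JK ρ g z = y := ⟨JK ρ g⁻¹ y, JK_apply_inv g y⟩
  have e1 := T3_self (JK ρ g x) (JK ρ g z)
  rw [T3_inv h, T3_self, ← tf_inv h h2 g] at e1
  have e2 := mul_left_cancel₀ h2 e1
  rw [sub_eq_add_neg, tf_add_left, ← e2, ← neg_one_smul K, tf_smul_left]
  ring

theorem cr_inv (h : IsJ ρ) (h2 : (2 : K) ≠ 0) (g : ↥(chevF4.group K)) (x y : I27 → K) :
    cr (JK ρ g x) (JK ρ g y) = JK ρ g (cr x y) := by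
  unfold cr
  rw [← map_add, sh_inv h h2, sh_inv h h2, sh_inv h h2, map_sub, map_sub]

end Group

end Inv

end Cfsg.Agent.H952.F4

private theorem dce_7634765358a7 : _root_.True := by
  try have : _root_.True := by simp only [_root_.Cfsg.Agent.H952.F4.ofM.eq_1]
  try have : _root_.True := by simp only [_root_.Cfsg.Agent.H952.F4.u0.eq_1]
  try have : _root_.True := by simp only [_root_.Cfsg.Agent.H952.F4.Inv.sw.eq_1]
  exact _root_.True.intro
end

-- part: H163/E6/Defs
section
prune_inst 0x400000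
set_option linter.all false

/-!
# S5927, S5928: common definitions (helper163)

* `V F`, `V' F` : the two 27-dimensional modules `I27 → F` of the simply connected group `Zgrp F` (`g` acts by the
  matrix `g`, respectively by `gU g = P g⁻ᵀ P`, so that `tf (V g x) (V' g y) = tf x y`);
* `L F` : the adjoint module (through `ad : Zgrp F →* chevE6.group F`);
* `sh`, `cr`, `tf`, `cubicT` : as in `H952/F4/Defs.lean`; `sh, cr : V → V'` and `V' → V`;
* `Lift`, `Cover` : the two possibilities for the preimage of an alternating group;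
* `Stab ρ H W`, `Sing`, `TS` : stable subspaces, singular vectors, totally singular subspaces;
* `Tab p F` : class table of the elements of order 2, 3, 4, 5, 7.
-/

set_option autoImplicit false

namespace Cfsg.Agent.H163.E6

open Cfsg Cfsg.Lie Module
open Cfsg.Agent.ChevalleyStructure.E6Min.Tables Cfsg.Agent.ChevalleyStructure.E6Min.Basic
  Cfsg.Agent.ChevalleyStructure.E6Min.Adjoint
open Cfsg.Agent.H184.GraphE6 (gU gU_mul)
open Cfsg.Agent.H952.F4 (ev es matRep sh cr tf MaxAlt)

section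
variable (F : Type*) [Field F]

/-- the 27-dimensional module -/
noncomputable def V : Representation F ↥(Zgrp F) (I27 → F) := matRep (Zgrp F)

/-- the matrix `gU g` -/
noncomputable def gUHom : GL I27 F →* GL I27 F := MonoidHom.mk' gU gU_mul

/-- the dual 27-dimensional module, on the same space -/
noncomputable def V' : Representation F ↥(Zgrp F) (I27 → F) :=
  ((Matrix.toLinAlgEquiv' : Matrix I27 I27 F ≃ₐ[F] ((I27 → F) →ₗ[F] (I27 → F))) : Matrix I27 I27 F →* _).comp
    ((Units.coeHom (Matrix I27 I27 F)).comp ((gUHom F).comp (Zgrp F).subtype))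

/-- the adjoint module of the Chevalley group -/
noncomputable def LK : Representation F ↥(chevE6.group F) (chevE6.Idx → F) := matRep (chevE6.group F)

/-- the adjoint module -/
noncomputable def L : Representation F ↥(Zgrp F) (chevE6.Idx → F) :=
  MonoidHom.comp (LK F) (ad F)

end

variable {F : Type*} [Field F]

theorem V_apply (g : ↥(Zgrp F)) (x : I27 → F) :
    V F g x = ((g : GL I27 F) : Matrix I27 I27 F).mulVec x := rfl

theorem V'_apply (g : ↥(Zgrp F)) (x : I27 → F) :
    V' F g x = ((gU (g : GL I27 F) : GL I27 F) : Matrix I27 I27 F).mulVec x := rfl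

theorem L_eq (g : ↥(Zgrp F)) : L F g = LK F (ad F g) := rfl

/-- `ψ` is a lift of `φ` to the simply connected group -/
def Lift {A : Type*} [Group A] (φ : A →* ↥(chevE6.group F)) (ψ : A →* ↥(Zgrp F)) : Prop := ∀ a, ad F (ψ a) = φ a

/-- the scalar matrix `c` as an element of the general linear group -/
def scal (c : Fˣ) : GL I27 F := Units.map (algebraMap F (Matrix I27 I27 F)).toMonoidHom c

/-- the preimage of the image of `φ` is a non-split central extension with centre of order 3: the scalar `ω` of order 3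
belongs to its commutator subgroup -/
def Cover {A : Type*} [Group A] (φ : A →* ↥(chevE6.group F)) (ω : Fˣ) : Prop :=
  ω ≠ 1 ∧ ω ^ 3 = 1 ∧ ∃ z : ↥(Zgrp F), (z : GL I27 F) = scal ω ∧
    z ∈ (⁅(φ.range.comap (ad F)), (φ.range.comap (ad F))⁆ : Subgroup ↥(Zgrp F))

/-- `W` is stable under the preimage of `H` -/
def Stab {M : Type*} [AddCommGroup M] [Module F M] (ρ : Representation F ↥(Zgrp F) M)
    (H : Subgroup ↥(chevE6.group F)) (W : Submodule F M) : Prop :=
  ∀ g : ↥(Zgrp F), ad F g ∈ H → ∀ w ∈ W, ρ g w ∈ W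

/-- totally singular subspaces of `V` (or of `V'`) -/
def TS (W : Submodule F (I27 → F)) : Prop := (∀ x ∈ W, sh x = 0) ∧ ∀ x ∈ W, ∀ y ∈ W, cr x y = 0

/-- The class table of the elements of order 2, 3, 4, 5, 7 (prime to `p`) of the simply connected group on `V` and `L`. -/
structure Tab (p : ℕ) (F : Type*) [Field F] : Prop where
  two : p ≠ 2 → ∀ x : ↥(Zgrp F), x ≠ 1 → x * x = 1 →
    (ev (V F x) 1 = 15 ∧ ev (L F x) 1 = 38 ∧ LinearMap.trace F _ (V F x) = 3 ∧ LinearMap.trace F _ (L F x) = -2) ∨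
    (ev (V F x) 1 = 11 ∧ ev (L F x) 1 = 46 ∧ LinearMap.trace F _ (V F x) = -5 ∧ LinearMap.trace F _ (L F x) = 14)
  three : p ≠ 3 → ∀ x : ↥(Zgrp F), ad F x ≠ 1 → x ^ 3 = 1 →
    (ev (V F x) 1 = 15 ∧ ev (L F x) 1 = 36 ∧ LinearMap.trace F _ (V F x) = 9 ∧ LinearMap.trace F _ (L F x) = 15) ∨
    (ev (V F x) 1 = 9 ∧ ev (L F x) 1 = 30 ∧ LinearMap.trace F _ (V F x) = 0 ∧ LinearMap.trace F _ (L F x) = 6) ∨
    (ev (V F x) 1 = 9 ∧ ev (L F x) 1 = 24 ∧ LinearMap.trace F _ (V F x) = 0 ∧ LinearMap.trace F _ (L F x) = -3) ∨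
    (ev (V F x) 1 = 6 ∧ ev (L F x) 1 = 36 ∧ LinearMap.trace F _ (V F x) ≠ 9 ∧ LinearMap.trace F _ (L F x) = 15)
  /-- real elements of order 3 have not `ev (V F x) 1 = 6` -/
  three_real : p ≠ 3 → ∀ x : ↥(Zgrp F), ad F x ≠ 1 → x ^ 3 = 1 → (∃ g, g * x * g⁻¹ = x⁻¹) → ev (V F x) 1 ≠ 6
  four : p ≠ 2 → ∀ x : ↥(Zgrp F), x * x ≠ 1 → x ^ 4 = 1 →
    (ev (V F (x * x)) 1 = 15 ∧ ev (L F (x * x)) 1 = 38 ∧ ev (V F x) 1 = 15 ∧ ev (V F x) (-1) = 0 ∧ ev (L F x) 1 = 36 ∧
      ev (L F x) (-1) = 2) ∨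
    (ev (V F (x * x)) 1 = 11 ∧ ev (L F (x * x)) 1 = 46 ∧ ev (V F x) 1 = 9 ∧ ev (V F x) (-1) = 2 ∧ ev (L F x) 1 = 30 ∧
      ev (L F x) (-1) = 16) ∨
    (ev (V F (x * x)) 1 = 15 ∧ ev (L F (x * x)) 1 = 38 ∧ ev (V F x) 1 = 9 ∧ ev (V F x) (-1) = 6 ∧ ev (L F x) 1 = 20 ∧
      ev (L F x) (-1) = 18) ∨
    (ev (V F (x * x)) 1 = 15 ∧ ev (L F (x * x)) 1 = 38 ∧ ev (V F x) 1 = 7 ∧ ev (V F x) (-1) = 8 ∧ ev (L F x) 1 = 20 ∧
      ev (L F x) (-1) = 18) ∨
    (ev (V F (x * x)) 1 = 11 ∧ ev (L F (x * x)) 1 = 46 ∧ ev (V F x) 1 = 5 ∧ ev (V F x) (-1) = 6 ∧ ev (L F x) 1 = 22 ∧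
      ev (L F x) (-1) = 24) ∨
    (ev (V F (x * x)) 1 = 15 ∧ ev (L F (x * x)) 1 = 38 ∧ ev (V F x) 1 = 5 ∧ ev (V F x) (-1) = 10 ∧ ev (L F x) 1 = 28 ∧
      ev (L F x) (-1) = 10) ∨
    (ev (V F (x * x)) 1 = 11 ∧ ev (L F (x * x)) 1 = 46 ∧ ev (V F x) 1 = 5 ∧ ev (V F x) (-1) = 6 ∧ ev (L F x) 1 = 26 ∧
      ev (L F x) (-1) = 20) ∨
    (ev (V F (x * x)) 1 = 11 ∧ ev (L F (x * x)) 1 = 46 ∧ ev (V F x) 1 = 1 ∧ ev (V F x) (-1) = 10 ∧ ev (L F x) 1 = 46 ∧
      ev (L F x) (-1) = 0)
  /-- real elements of order 4: the first five rows, with the traces -/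
  four_real : p ≠ 2 → ∀ x : ↥(Zgrp F), x * x ≠ 1 → x ^ 4 = 1 → (∃ g, g * x * g⁻¹ = x⁻¹) →
    (ev (V F (x * x)) 1 = 15 ∧ ev (V F x) 1 = 15 ∧ ev (L F x) 1 = 36 ∧
      LinearMap.trace F _ (V F x) = 15 ∧ LinearMap.trace F _ (L F x) = 34) ∨
    (ev (V F (x * x)) 1 = 11 ∧ ev (V F x) 1 = 9 ∧ ev (L F x) 1 = 30 ∧
      LinearMap.trace F _ (V F x) = 7 ∧ LinearMap.trace F _ (L F x) = 14) ∨
    (ev (V F (x * x)) 1 = 15 ∧ ev (V F x) 1 = 9 ∧ ev (L F x) 1 = 20 ∧
      LinearMap.trace F _ (V F x) = 3 ∧ LinearMap.trace F _ (L F x) = 2) ∨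
    (ev (V F (x * x)) 1 = 15 ∧ ev (V F x) 1 = 7 ∧ ev (L F x) 1 = 20 ∧
      LinearMap.trace F _ (V F x) = -1 ∧ LinearMap.trace F _ (L F x) = 2) ∨
    (ev (V F (x * x)) 1 = 11 ∧ ev (V F x) 1 = 5 ∧ ev (L F x) 1 = 22 ∧
      LinearMap.trace F _ (V F x) = -1 ∧ LinearMap.trace F _ (L F x) = -2)
  four_i : p ≠ 2 → ∀ x : ↥(Zgrp F), x ^ 4 = 1 → (∃ g, g * x * g⁻¹ = x⁻¹) → ∀ i : F, i * i = -1 →
    ev (V F x) i = ev (V F x) (-i)
  five : p ≠ 5 → ∀ x : ↥(Zgrp F), x ≠ 1 → x ^ 5 = 1 → (∃ g, g * x * g⁻¹ = x⁻¹) →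
    (ev (V F x) 1 = 15 ∧ ev (L F x) 1 = 36) ∨ (ev (V F x) 1 = 9 ∧ ev (L F x) 1 = 30) ∨
    (ev (V F x) 1 = 9 ∧ ev (L F x) 1 = 20) ∨ (ev (V F x) 1 = 7 ∧ ev (L F x) 1 = 18) ∨
    (ev (V F x) 1 = 5 ∧ ev (L F x) 1 = 16)
  /-- the other eigenspaces of real elements of order 5 -/
  five_eig : p ≠ 5 → ∀ x : ↥(Zgrp F), x ^ 5 = 1 → (∃ g, g * x * g⁻¹ = x⁻¹) → ∀ μ : F, μ ≠ 1 → μ ^ 5 = 1 →
    (ev (V F x) 1 = 15 → (ev (V F x) μ = 6 ∧ ev (V F x) (μ ^ 2) = 0) ∨ (ev (V F x) μ = 0 ∧ ev (V F x) (μ ^ 2) = 6)) ∧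
    (ev (V F x) 1 = 9 → ev (L F x) 1 = 30 →
      (ev (V F x) μ = 8 ∧ ev (V F x) (μ ^ 2) = 1) ∨ (ev (V F x) μ = 1 ∧ ev (V F x) (μ ^ 2) = 8)) ∧
    (ev (V F x) 1 = 9 → ev (L F x) 1 = 20 →
      (ev (V F x) μ = 6 ∧ ev (V F x) (μ ^ 2) = 3) ∨ (ev (V F x) μ = 3 ∧ ev (V F x) (μ ^ 2) = 6)) ∧
    (ev (V F x) 1 = 7 → ev (V F x) μ = 5 ∧ ev (L F x) μ = 15) ∧
    (ev (V F x) 1 = 5 → (ev (V F x) μ = 6 ∧ ev (V F x) (μ ^ 2) = 5 ∧ ev (L F x) μ = 15 ∧ ev (L F x) (μ ^ 2) = 16) ∨
      (ev (V F x) μ = 5 ∧ ev (V F x) (μ ^ 2) = 6 ∧ ev (L F x) μ = 16 ∧ ev (L F x) (μ ^ 2) = 15))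
  five_rat : p ≠ 5 → ∀ x : ↥(Zgrp F), x ≠ 1 → x ^ 5 = 1 → (∃ g, g * x * g⁻¹ = x ^ 2) →
    ev (V F x) 1 = 7 ∧ ev (L F x) 1 = 18 ∧ LinearMap.trace F _ (V F x) = 2 ∧ LinearMap.trace F _ (L F x) = 3
  seven_rat : p ≠ 7 → ∀ x : ↥(Zgrp F), x ≠ 1 → x ^ 7 = 1 → (∃ g, g * x * g⁻¹ = x ^ 2) →
    (ev (V F x) 1 = 9 ∧ ev (L F x) 1 = 18 ∧ LinearMap.trace F _ (V F x) = 6 ∧ LinearMap.trace F _ (L F x) = 8) ∨
    (ev (V F x) 1 = 3 ∧ ev (L F x) 1 = 12 ∧ LinearMap.trace F _ (V F x) = -1 ∧ LinearMap.trace F _ (L F x) = 1) ∨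
    (ev (V F x) 1 = 0 ∧ ev (L F x) 1 = 30 ∧ LinearMap.trace F _ (L F x) = 22)

end Cfsg.Agent.H163.E6
end

-- part: H952/F4/Scott
section
prune_inst 0x400000
set_option linter.all false
open scoped Cfsg.Agent.FastGrp

/-!
# S5926, task A1 (helper486): Scott's lemma for groups generated by two elements

* `scott` : `ev x 1 + ev y 1 + ev (x * y) 1 ≤ dim V + dim V^G + dim (V*)^G`;
* `scott_form` : the same with an invariant nondegenerate form.
-/

set_option autoImplicit false

namespace Cfsg.Agent.H952.F4.Scott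

open Module

variable {K V G : Type*} [Field K] [AddCommGroup V] [Module K V] [FiniteDimensional K V] [Group G]

theorem rank_add_ev (T : Module.End K V) : finrank K (LinearMap.range (T - 1)) + ev T 1 = finrank K V := by
  have h := LinearMap.finrank_range_add_finrank_ker (T - 1)
  rw [ev, Module.End.eigenspace_def, one_smul]
  exact h

theorem fix_all {G : Type*} [Group G] {x y : G} (hgen : Subgroup.closure {x, y} = ⊤) {P : G → Prop} (hx : P x)
    (hy : P y) (h1 : P 1) (hmul : ∀ a b, P a → P b → P (a * b)) (hinv : ∀ a, P a → P a⁻¹) (g : G) : P g := by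
  have hg : g ∈ Subgroup.closure {x, y} := by rw [hgen]; exact Subgroup.mem_top g
  induction hg using Subgroup.closure_induction with
  | mem z hz =>
    rcases hz with rfl | rfl
    · exact hx
    · exact hy
  | one => exact h1
  | mul a b _ _ ha hb => exact hmul a b ha hb
  | inv a _ ha => exact hinv a ha

theorem scott (ρ : Representation K G V) {x y : G} (hgen : Subgroup.closure {x, y} = ⊤) :
    ev (ρ x) 1 + ev (ρ y) 1 + ev (ρ (x * y)) 1 ≤
      finrank K V + finrank K ρ.invariants + finrank K ρ.dual.invariants := by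
  have hxi : ∀ v, ρ x⁻¹ (ρ x v) = v := fun v => by
    rw [← Module.End.mul_apply, ← map_mul, inv_mul_cancel, map_one, Module.End.one_apply]
  have hxi' : ∀ v, ρ x (ρ x⁻¹ v) = v := fun v => by
    rw [← Module.End.mul_apply, ← map_mul, mul_inv_cancel, map_one, Module.End.one_apply]
  have hmem : ∀ {g : G} {v : V}, v ∈ Module.End.eigenspace (ρ g) 1 ↔ ρ g v = v := fun {g v} => by
    rw [Module.End.mem_eigenspace_iff, one_smul]
  set A := LinearMap.range (ρ x - 1) with hA
  set B := LinearMap.range (ρ y - 1) with hB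
  -- the map `y - 1` on the fixed space of `x * y`
  have hinv : ∀ v, ρ x v = v → ρ y v = v → v ∈ ρ.invariants := by
    intro v h1 h2
    rw [Representation.mem_invariants]
    intro g
    refine fix_all (P := fun g => ρ g v = v) hgen h1 h2 ?_ ?_ ?_ g
    · rw [map_one, Module.End.one_apply]
    · intro a b ha hb
      rw [map_mul, Module.End.mul_apply, hb, ha]
    · intro a ha
      calc ρ a⁻¹ v = ρ a⁻¹ (ρ a v) := by rw [ha]
        _ = v := by rw [← Module.End.mul_apply, ← map_mul, inv_mul_cancel, map_one, Module.End.one_apply]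
  have h3 : ev (ρ (x * y)) 1 ≤ finrank K ↥(A ⊓ B) + finrank K ρ.invariants := by
    let φ : ↥(Module.End.eigenspace (ρ (x * y)) 1) →ₗ[K] V := (ρ y - 1) ∘ₗ (Module.End.eigenspace (ρ (x * y)) 1).subtype
    have hr : LinearMap.range φ ≤ A ⊓ B := by
      rintro _ ⟨⟨v, hv⟩, rfl⟩
      refine ⟨?_, ⟨v, rfl⟩⟩
      have hv' : ρ x (ρ y v) = v := by
        rw [hmem, map_mul, Module.End.mul_apply] at hv
        exact hv
      refine ⟨- ρ y v, ?_⟩
      change ρ x (- ρ y v) - (- ρ y v) = ρ y v - v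
      rw [map_neg, hv']
      abel
    have hk : (LinearMap.ker φ).map (Module.End.eigenspace (ρ (x * y)) 1).subtype ≤ ρ.invariants := by
      rintro _ ⟨⟨v, hv⟩, hvk, rfl⟩
      have h2 : ρ y v = v := sub_eq_zero.1 (LinearMap.mem_ker.1 hvk)
      have hv' : ρ x (ρ y v) = v := by
        rw [hmem, map_mul, Module.End.mul_apply] at hv
        exact hv
      rw [h2] at hv'
      exact hinv v hv' h2
    have h := LinearMap.finrank_range_add_finrank_ker φ
    have h4 := Submodule.finrank_mono hr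
    have h5 := Submodule.finrank_mono hk
    rw [Submodule.finrank_map_subtype_eq] at h5
    rw [ev]
    omega
  -- the annihilator of the augmentation module
  have h6 : finrank K V ≤ finrank K ↥(A ⊔ B) + finrank K ρ.dual.invariants := by
    have hle : (A ⊔ B).dualAnnihilator ≤ ρ.dual.invariants := by
      intro f hf
      rw [Representation.mem_invariants]
      rw [Submodule.mem_dualAnnihilator] at hf
      have hfx : ∀ v, f (ρ x v) = f v := fun v => by
        have := hf (ρ x v - v) (Submodule.mem_sup_left ⟨v, rfl⟩)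
        rwa [map_sub, sub_eq_zero] at this
      have hfy : ∀ v, f (ρ y v) = f v := fun v => by
        have := hf (ρ y v - v) (Submodule.mem_sup_right ⟨v, rfl⟩)
        rwa [map_sub, sub_eq_zero] at this
      have hall : ∀ g v, f (ρ g v) = f v := by
        intro g
        refine fix_all (P := fun g => ∀ v, f (ρ g v) = f v) hgen hfx hfy ?_ ?_ ?_ g
        · intro v
          rw [map_one, Module.End.one_apply]
        · intro a b ha hb v
          rw [map_mul, Module.End.mul_apply, ha, hb]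
        · intro a ha v
          rw [← ha (ρ a⁻¹ v), ← Module.End.mul_apply, ← map_mul, mul_inv_cancel, map_one, Module.End.one_apply]
      intro g
      refine LinearMap.ext fun v => ?_
      change f (ρ g⁻¹ v) = f v
      exact hall _ _
    have h7 := Submodule.finrank_mono hle
    have h8 := Subspace.finrank_add_finrank_dualAnnihilator_eq (A ⊔ B)
    omega
  have h9 := Submodule.finrank_sup_add_finrank_inf_eq A B
  have h10 := rank_add_ev (ρ x)
  have h11 := rank_add_ev (ρ y)
  rw [← hA] at h10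
  rw [← hB] at h11
  omega

theorem scott_form (ρ : Representation K G V) {x y : G} (hgen : Subgroup.closure {x, y} = ⊤)
    (B : V →ₗ[K] V →ₗ[K] K) (hB : ∀ v, (∀ w, B v w = 0) → v = 0) (hinv : ∀ g v w, B (ρ g v) (ρ g w) = B v w) :
    ev (ρ x) 1 + ev (ρ y) 1 + ev (ρ (x * y)) 1 ≤ finrank K V + 2 * finrank K ρ.invariants := by
  have h := scott ρ hgen
  have hinj : Function.Injective B := by
    rw [← LinearMap.ker_eq_bot, eq_bot_iff]
    intro v hv
    refine (Submodule.mem_bot K).2 (hB v fun w => ?_)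
    rw [LinearMap.mem_ker.1 hv]
    rfl
  have hd : finrank K (Module.Dual K V) = finrank K V := Subspace.dual_finrank_eq
  have hsurj : Function.Surjective B :=
    (LinearMap.injective_iff_surjective_of_finrank_eq_finrank (f := (B : V →ₗ[K] Module.Dual K V)) hd.symm).1 hinj
  have hle : ρ.dual.invariants ≤ ρ.invariants.map (B : V →ₗ[K] Module.Dual K V) := by
    intro f hf
    obtain ⟨v, rfl⟩ := hsurj f
    refine ⟨v, ?_, rfl⟩
    have hf' := (Representation.mem_invariants (ρ := ρ.dual) _).1 hf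
    change v ∈ ρ.invariants
    rw [Representation.mem_invariants]
    intro g
    refine sub_eq_zero.1 (hB _ fun w => ?_)
    have h1 : B v (ρ g⁻¹ w) = B v w := LinearMap.congr_fun (hf' g) w
    have h2 : B (ρ g v) w = B v (ρ g⁻¹ w) := by
      rw [← hinv g v (ρ g⁻¹ w), ← Module.End.mul_apply, ← map_mul, mul_inv_cancel, map_one, Module.End.one_apply]
    rw [map_sub, LinearMap.sub_apply, h2, h1, sub_self]
  have h1 : finrank K ρ.dual.invariants ≤ finrank K ρ.invariants :=
    (Submodule.finrank_mono hle).trans (Submodule.finrank_map_le (B : V →ₗ[K] Module.Dual K V) ρ.invariants)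
  omega

end Cfsg.Agent.H952.F4.Scott

private theorem dce_46cef498fd05 : _root_.True := by
  try have : _root_.True := by simp only [_root_.Cfsg.Agent.H952.F4.ev.eq_1]
  exact _root_.True.intro
end

-- part: H952/F4/EigFrob
section
prune_inst 0x34204540756200000018809203000020600004000003000000a007060a092260094326410e900404020204c04800002000100420400000000a000400002006090088100481080000000006000080000000000000000000000000000000000004000400000
set_option linter.all false
open scoped Cfsg.Agent.FastGrp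

/-!
# S5926: eigenspaces, Frobenius groups and the groups `3²:2` (helper212)

`core` : a complete set of idempotents permuted freely by an operator `Y`, `Y ^ k = 1`: the dimension of `ker (Y - μ)`.
`frob`, `nine` : the applications.
-/

set_option autoImplicit false
set_option linter.unusedVariables false
set_option linter.unusedSectionVars false

namespace Cfsg.Agent.H952.F4.EigFr

open Module

variable {K V G : Type*} [Field K] [AddCommGroup V] [Module K V] [FiniteDimensional K V] [Group G]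

section core

variable {P₀ P Y : Module.End K V} {k : ℕ}

theorem core_mid (hk : 0 < k) (hY : Y ^ k = 1) (hP : P * P = P) (h2 : ∀ j, 0 < j → j < k → P * Y ^ j * P = 0)
    {i j : ℕ} (hi : i < k) (hj : j < k) {w : V} (hw : P w = w) :
    P ((Y ^ (k - i)) ((Y ^ j) w)) = if i = j then w else 0 := by
  have h3 : (Y ^ (k - i)) ((Y ^ j) w) = (Y ^ (k - i + j)) w := by
    rw [pow_add, Module.End.mul_apply]
  rw [h3]
  by_cases hij : i = j
  · subst hij
    rw [if_pos rfl, Nat.sub_add_cancel hi.le, hY, Module.End.one_apply, hw]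
  · rw [if_neg hij]
    have key : ∀ n, 0 < n → n < k → P ((Y ^ n) w) = 0 := by
      intro n h1 h4
      have h5 := LinearMap.congr_fun (h2 n h1 h4) w
      rw [Module.End.mul_apply, Module.End.mul_apply, hw] at h5
      exact h5
    rcases Nat.lt_or_ge j i with h | h
    · exact key _ (by omega) (by omega)
    · have h4 : k - i + j = k + (j - i) := by omega
      rw [h4, pow_add, hY, one_mul]
      exact key _ (by omega) (by omega)

theorem core_dim (hk : 0 < k) (hY : Y ^ k = 1)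
    (h00 : P₀ * P₀ = P₀) (h0 : P₀ * P = 0) (h0' : P * P₀ = 0) (hP : P * P = P) (hYP : Y * P₀ = P₀ * Y)
    (h2 : ∀ j, 0 < j → j < k → P * Y ^ j * P = 0)
    (h3 : P₀ + ∑ j ∈ Finset.range k, Y ^ j * P * Y ^ (k - j) = 1) :
    finrank K V = finrank K (LinearMap.range P₀) + k * finrank K (LinearMap.range P) := by
  have hYPn : ∀ n : ℕ, Y ^ n * P₀ = P₀ * Y ^ n := fun n => (Commute.pow_left (show Commute Y P₀ from hYP) n)
  let f : V →ₗ[K] LinearMap.range P₀ × (Fin k → LinearMap.range P) :=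
    LinearMap.prod P₀.rangeRestrict (LinearMap.pi fun j => P.rangeRestrict ∘ₗ (Y ^ (k - (j : ℕ))))
  have hf1 : ∀ v, ((f v).1 : V) = P₀ v := fun v => rfl
  have hf2 : ∀ v (j : Fin k), ((f v).2 j : V) = P ((Y ^ (k - (j : ℕ))) v) := fun v j => rfl
  have hinj : Function.Injective f := by
    rw [← LinearMap.ker_eq_bot, eq_bot_iff]
    intro v hv
    rw [LinearMap.mem_ker] at hv
    have e1 : P₀ v = 0 := by rw [← hf1, hv]; rfl
    have e2 : ∀ j : Fin k, P ((Y ^ (k - (j : ℕ))) v) = 0 := by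
      intro j
      rw [← hf2, hv]
      rfl
    have e3 := LinearMap.congr_fun h3 v
    rw [LinearMap.add_apply, e1, zero_add, LinearMap.sum_apply, Module.End.one_apply] at e3
    rw [Submodule.mem_bot, ← e3]
    apply Finset.sum_eq_zero
    intro j hj
    rw [Module.End.mul_apply, Module.End.mul_apply, e2 ⟨j, Finset.mem_range.1 hj⟩, map_zero]
  have hsurj : Function.Surjective f := by
    rintro ⟨⟨u, hu⟩, w⟩
    have hu' : P₀ u = u := by
      obtain ⟨x, rfl⟩ := hu
      rw [← Module.End.mul_apply, h00]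
    have hw : ∀ j, P (w j : V) = w j := by
      intro j
      obtain ⟨x, hx⟩ := (w j).2
      rw [← hx, ← Module.End.mul_apply, hP]
    have hw0 : ∀ j, P₀ (w j : V) = 0 := by
      intro j
      rw [← hw j, ← Module.End.mul_apply, h0, LinearMap.zero_apply]
    have hu0 : P u = 0 := by rw [← hu', ← Module.End.mul_apply, h0', LinearMap.zero_apply]
    refine ⟨u + ∑ j : Fin k, (Y ^ (j : ℕ)) (w j : V), ?_⟩
    apply Prod.ext
    · apply Subtype.ext
      rw [hf1, map_add, hu', map_sum, Finset.sum_eq_zero, add_zero]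
      intro j _
      rw [← Module.End.mul_apply, ← hYPn, Module.End.mul_apply, hw0, map_zero]
    · funext i
      apply Subtype.ext
      rw [hf2, map_add, map_add, map_sum, map_sum, Finset.sum_eq_single i]
      · rw [core_mid hk hY hP h2 i.2 i.2 (hw i), if_pos rfl]
        have : P ((Y ^ (k - (i : ℕ))) u) = 0 := by
          rw [← hu', ← Module.End.mul_apply (Y ^ _), hYPn, Module.End.mul_apply, ← Module.End.mul_apply P, h0',
            LinearMap.zero_apply]
        rw [this, zero_add]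
      · intro j _ hj
        rw [core_mid hk hY hP h2 i.2 j.2 (hw j), if_neg]
        intro h
        exact hj (Fin.ext h.symm)
      · intro h
        exact absurd (Finset.mem_univ i) h
  have h := (LinearEquiv.ofBijective f ⟨hinj, hsurj⟩).finrank_eq
  rw [h, Module.finrank_prod, Module.finrank_pi_fintype, Finset.sum_const, Finset.card_univ, Fintype.card_fin,
    smul_eq_mul]

theorem core_eig (hk : 0 < k) {μ : K} (hμ : μ ^ k = 1) (hY : Y ^ k = 1)
    (h00 : P₀ * P₀ = P₀) (h0 : P₀ * P = 0) (h0' : P * P₀ = 0) (hP : P * P = P) (hYP : Y * P₀ = P₀ * Y)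
    (h2 : ∀ j, 0 < j → j < k → P * Y ^ j * P = 0)
    (h3 : P₀ + ∑ j ∈ Finset.range k, Y ^ j * P * Y ^ (k - j) = 1) :
    finrank K (es Y μ) = finrank K ↥(LinearMap.range P₀ ⊓ es Y μ) + finrank K (LinearMap.range P) := by
  have hYPn : ∀ n : ℕ, Y ^ n * P₀ = P₀ * Y ^ n := fun n => (Commute.pow_left (show Commute Y P₀ from hYP) n)
  have hmem : ∀ v, v ∈ es Y μ ↔ Y v = μ • v := fun v => Module.End.mem_eigenspace_iff
  have hpow : ∀ v, v ∈ es Y μ → ∀ n : ℕ, (Y ^ n) v = μ ^ n • v := by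
    intro v hv n
    induction n with
    | zero => rw [pow_zero, pow_zero, one_smul, Module.End.one_apply]
    | succ n ih => rw [pow_succ, Module.End.mul_apply, (hmem v).1 hv, map_smul, ih, smul_smul, ← pow_succ']
  have hP₀ : ∀ v, v ∈ es Y μ → P₀ v ∈ LinearMap.range P₀ ⊓ es Y μ := by
    intro v hv
    refine ⟨⟨v, rfl⟩, (hmem _).2 ?_⟩
    rw [← Module.End.mul_apply, hYP, Module.End.mul_apply, (hmem v).1 hv, map_smul]
  let f : es Y μ →ₗ[K] ↥(LinearMap.range P₀ ⊓ es Y μ) × LinearMap.range P :=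
    LinearMap.prod ((P₀ ∘ₗ (es Y μ).subtype).codRestrict _ fun v => hP₀ v v.2)
      (P.rangeRestrict ∘ₗ (es Y μ).subtype)
  have hf1 : ∀ v, ((f v).1 : V) = P₀ v := fun v => rfl
  have hf2 : ∀ v, ((f v).2 : V) = P v := fun v => rfl
  have hinj : Function.Injective f := by
    rw [← LinearMap.ker_eq_bot, eq_bot_iff]
    intro v hv
    rw [LinearMap.mem_ker] at hv
    have e1 : P₀ v = 0 := by rw [← hf1, hv]; rfl
    have e2 : P v = 0 := by rw [← hf2, hv]; rfl
    have e3 := LinearMap.congr_fun h3 (v : V)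
    rw [LinearMap.add_apply, e1, zero_add, LinearMap.sum_apply, Module.End.one_apply] at e3
    rw [Submodule.mem_bot]
    apply Subtype.ext
    rw [← e3]
    apply Finset.sum_eq_zero
    intro j hj
    rw [Module.End.mul_apply, Module.End.mul_apply, hpow v v.2, map_smul, e2, smul_zero, map_zero]
  have hsurj : Function.Surjective f := by
    rintro ⟨⟨e, he, he'⟩, ⟨w, hw⟩⟩
    have he1 : P₀ e = e := by
      obtain ⟨x, rfl⟩ := he
      rw [← Module.End.mul_apply, h00]
    have he2 : P e = 0 := by rw [← he1, ← Module.End.mul_apply, h0', LinearMap.zero_apply]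
    have hw1 : P w = w := by
      obtain ⟨x, rfl⟩ := hw
      rw [← Module.End.mul_apply, hP]
    have hw0 : P₀ w = 0 := by rw [← hw1, ← Module.End.mul_apply, h0, LinearMap.zero_apply]
    have hsum : Y (∑ j ∈ Finset.range k, μ ^ (k - j) • (Y ^ j) w) =
        μ • ∑ j ∈ Finset.range k, μ ^ (k - j) • (Y ^ j) w := by
      obtain ⟨n, rfl⟩ : ∃ n, k = n + 1 := ⟨k - 1, by omega⟩
      rw [map_sum, Finset.smul_sum, Finset.sum_range_succ, Finset.sum_range_succ']
      congr 1
      · apply Finset.sum_congr rfl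
        intro j hj
        have hj' := Finset.mem_range.1 hj
        rw [map_smul, smul_smul, ← pow_succ', ← Module.End.mul_apply, ← pow_succ']
        congr 2
        omega
      · rw [map_smul, ← Module.End.mul_apply, ← pow_succ', hY, Nat.add_sub_cancel_left, pow_one, pow_zero,
          Nat.sub_zero, hμ, one_smul]
    refine ⟨⟨e + ∑ j ∈ Finset.range k, μ ^ (k - j) • (Y ^ j) w, ?_⟩, ?_⟩
    · rw [hmem, map_add, hsum, (hmem e).1 he', smul_add]
    · apply Prod.ext
      · apply Subtype.ext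
        rw [hf1]
        change P₀ (e + _) = e
        rw [map_add, he1, map_sum, Finset.sum_eq_zero, add_zero]
        intro j _
        rw [map_smul, ← Module.End.mul_apply, ← hYPn, Module.End.mul_apply, hw0, map_zero, smul_zero]
      · apply Subtype.ext
        rw [hf2]
        change P (e + _) = w
        rw [map_add, he2, zero_add, map_sum, Finset.sum_eq_single 0]
        · rw [map_smul, pow_zero, Nat.sub_zero, hμ, one_smul, Module.End.one_apply, hw1]
        · intro j hj hj0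
          have h5 := LinearMap.congr_fun (h2 j (Nat.pos_of_ne_zero hj0) (Finset.mem_range.1 hj)) w
          rw [Module.End.mul_apply, Module.End.mul_apply, hw1] at h5
          rw [map_smul, h5]
          exact smul_zero _
        · intro h
          exact absurd (Finset.mem_range.2 hk) h
  have h := (LinearEquiv.ofBijective f ⟨hinj, hsurj⟩).finrank_eq
  rw [h, Module.finrank_prod]

/-- **The core lemma** -/
theorem core (hk : 0 < k) {μ : K} (hμ : μ ^ k = 1) (hY : Y ^ k = 1)
    (h00 : P₀ * P₀ = P₀) (h0 : P₀ * P = 0) (h0' : P * P₀ = 0) (hP : P * P = P) (hYP : Y * P₀ = P₀ * Y)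
    (h2 : ∀ j, 0 < j → j < k → P * Y ^ j * P = 0)
    (h3 : P₀ + ∑ j ∈ Finset.range k, Y ^ j * P * Y ^ (k - j) = 1) :
    k * ev Y μ + finrank K (LinearMap.range P₀) =
      k * finrank K ↥(LinearMap.range P₀ ⊓ es Y μ) + finrank K V := by
  have h4 := core_dim hk hY h00 h0 h0' hP hYP h2 h3
  have h5 := core_eig hk hμ hY h00 h0 h0' hP hYP h2 h3
  have h6 : ev Y μ = finrank K (es Y μ) := rfl
  rw [h6, h5, h4]
  ring

end core

/-! ### Projections on the eigenspaces of an operator of finite order -/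

section proj

variable {m : ℕ} [NeZero m] {T Y : Module.End K V} {ψ : AddChar (ZMod m) K}

theorem pow_val_add (hT : T ^ m = 1) (s t : ZMod m) : T ^ (s + t).val = T ^ s.val * T ^ t.val := by
  rw [← pow_add, ZMod.val_add, ← pow_eq_pow_mod _ hT]

/-- the projection on an eigenspace -/
noncomputable def pj (ψ : AddChar (ZMod m) K) (T : Module.End K V) (i : ZMod m) : Module.End K V :=
  (m : K)⁻¹ • ∑ t : ZMod m, ψ (-(t * i)) • T ^ t.val

theorem sum_psi (hψ : ψ.IsPrimitive) (b : ZMod m) : ∑ t : ZMod m, ψ (t * b) = if b = 0 then (m : K) else 0 := by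
  rw [AddChar.sum_mulShift b hψ]
  split_ifs
  · rw [ZMod.card]
  · exact Nat.cast_zero

theorem sum_pj (hmK : (m : K) ≠ 0) (hψ : ψ.IsPrimitive) : ∑ i, pj ψ T i = 1 := by
  have h1 : ∀ t : ZMod m, ∑ i : ZMod m, ψ (-(t * i)) = if t = 0 then (m : K) else 0 := by
    intro t
    have h2 := sum_psi (K := K) hψ (-t)
    simp only [neg_eq_zero] at h2
    rw [← h2]
    apply Finset.sum_congr rfl
    intro i _
    congr 1
    ring
  unfold pj
  rw [← Finset.smul_sum, Finset.sum_comm]
  simp_rw [← Finset.sum_smul, h1]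
  rw [Finset.sum_eq_single 0]
  · rw [if_pos rfl, smul_smul, inv_mul_cancel₀ hmK, one_smul, ZMod.val_zero, pow_zero]
  · intro t _ ht
    rw [if_neg ht, zero_smul]
  · intro h
    exact absurd (Finset.mem_univ _) h

theorem pj_mul (hT : T ^ m = 1) (hmK : (m : K) ≠ 0) (hψ : ψ.IsPrimitive) (i j : ZMod m) :
    pj ψ T i * pj ψ T j = if i = j then pj ψ T j else 0 := by
  unfold pj
  rw [smul_mul_smul_comm, Finset.sum_mul_sum]
  have h1 : ∀ s : ZMod m, ∑ t : ZMod m, (ψ (-(s * i)) • T ^ s.val) * (ψ (-(t * j)) • T ^ t.val) =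
      ∑ u : ZMod m, (ψ (s * (j - i)) * ψ (-(u * j))) • T ^ u.val := by
    intro s
    rw [← Equiv.sum_comp (Equiv.addLeft s) fun u : ZMod m => (ψ (s * (j - i)) * ψ (-(u * j))) • T ^ u.val]
    apply Finset.sum_congr rfl
    intro t _
    rw [smul_mul_smul_comm, Equiv.coe_addLeft, pow_val_add hT, ← AddChar.map_add_eq_mul, ← AddChar.map_add_eq_mul]
    congr 2
    ring
  simp_rw [h1]
  rw [Finset.sum_comm]
  simp_rw [← Finset.sum_smul, ← Finset.sum_mul, sum_psi (K := K) hψ, sub_eq_zero]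
  by_cases hij : i = j
  · subst hij
    simp only [if_true, ← smul_smul, ← Finset.smul_sum]
    rw [smul_smul (m : K)⁻¹ (m : K), inv_mul_cancel₀ hmK, one_smul]
  · rw [if_neg hij]
    simp only [if_neg (Ne.symm hij), zero_mul, zero_smul, Finset.sum_const_zero, smul_zero]

theorem range_pj (hT : T ^ m = 1) (hmK : (m : K) ≠ 0) : LinearMap.range (pj ψ T 0) = es T 1 := by
  have h0 : pj ψ T 0 = (m : K)⁻¹ • ∑ t : ZMod m, T ^ t.val := by
    unfold pj
    congr 1
    apply Finset.sum_congr rfl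
    intro t _
    rw [mul_zero, neg_zero, AddChar.map_zero_eq_one, one_smul]
  rw [h0]
  ext v
  unfold es
  rw [Module.End.mem_eigenspace_iff, one_smul]
  constructor
  · rintro ⟨w, rfl⟩
    rw [← Module.End.mul_apply, mul_smul_comm, Finset.mul_sum]
    congr 2
    rw [← Equiv.sum_comp (Equiv.addLeft (1 : ZMod m)) fun t : ZMod m => T ^ t.val]
    apply Finset.sum_congr rfl
    intro t _
    rw [Equiv.coe_addLeft, pow_val_add hT]
    congr 1
    rw [ZMod.val_one_eq_one_mod, ← pow_eq_pow_mod _ hT, pow_one]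
  · intro hv
    refine ⟨v, ?_⟩
    have h1 : ∀ n : ℕ, (T ^ n) v = v := by
      intro n
      induction n with
      | zero => rfl
      | succ n ih => rw [pow_succ, Module.End.mul_apply, hv, ih]
    rw [LinearMap.smul_apply, LinearMap.sum_apply]
    simp_rw [h1]
    rw [Finset.sum_const, Finset.card_univ, ZMod.card, ← Nat.cast_smul_eq_nsmul K, smul_smul, inv_mul_cancel₀ hmK,
      one_smul]

theorem mul_pj {a b : ZMod m} (hab : a * b = 1) (h : ∀ t : ZMod m, Y * T ^ t.val = T ^ (a * t).val * Y) (i : ZMod m) :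
    Y * pj ψ T i = pj ψ T (b * i) * Y := by
  unfold pj
  rw [mul_smul_comm, smul_mul_assoc, Finset.mul_sum, Finset.sum_mul]
  congr 1
  let e : ZMod m ≃ ZMod m := ⟨fun t => a * t, fun t => b * t, fun t => by
    change b * (a * t) = t
    rw [← mul_assoc, mul_comm b a, hab, one_mul], fun t => by
    change a * (b * t) = t
    rw [← mul_assoc, hab, one_mul]⟩
  rw [← Equiv.sum_comp e fun t : ZMod m => (ψ (-(t * (b * i))) • T ^ t.val) * Y]
  apply Finset.sum_congr rfl
  intro t _
  have he : e t = a * t := rfl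
  rw [he, mul_smul_comm, smul_mul_assoc, h]
  congr 2
  have : a * t * (b * i) = a * b * (t * i) := by ring
  rw [this, hab, one_mul]

end proj

/-- a transversal for the multiplication by `b` on the nonzero residues -/
theorem exists_transversal {m : ℕ} [Fact m.Prime] (b : ZMod m) {k : ℕ} (hb : orderOf b = k) (hk : 0 < k) :
    ∃ R : Finset (ZMod m), (0 : ZMod m) ∉ R ∧ (∀ i, i ≠ 0 → ∃ j < k, b ^ j * i ∈ R) ∧
      ∀ i ∈ R, ∀ j, 0 < j → j < k → b ^ j * i ∉ R := by
  classical
  have hb0 : b ≠ 0 := by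
    rintro rfl
    have h := pow_orderOf_eq_one (0 : ZMod m)
    rw [hb, zero_pow hk.ne'] at h
    exact zero_ne_one h
  refine ⟨Finset.univ.filter fun i => i ≠ 0 ∧ ∀ j : ℕ, i.val ≤ (b ^ j * i).val, by simp only [_root_.ne_eq, _root_.Finset.mem_filter, _root_.Finset.mem_univ, _root_.not_true_eq_false, _root_.ZMod.val_zero, _root_.MulZeroClass.mul_zero, _root_.Std.le_refl, _root_.implies_true, _root_.and_true, _root_.and_false, _root_.not_false_eq_true], ?_, ?_⟩
  · intro i hi
    obtain ⟨j, hj, hmin⟩ := Finset.exists_min_image (Finset.range k) (fun j => (b ^ j * i).val)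
      ⟨0, Finset.mem_range.2 hk⟩
    refine ⟨j, Finset.mem_range.1 hj, ?_⟩
    rw [Finset.mem_filter]
    refine ⟨Finset.mem_univ _, mul_ne_zero (pow_ne_zero _ hb0) hi, fun n => ?_⟩
    have h1 := hmin ((n + j) % k) (Finset.mem_range.2 (Nat.mod_lt _ hk))
    have h2 : b ^ ((n + j) % k) = b ^ n * b ^ j := by
      rw [← hb, pow_mod_orderOf, pow_add]
    rw [h2, mul_assoc] at h1
    exact h1
  · intro i hi j hj0 hjk hji
    rw [Finset.mem_filter] at hi hji
    have h1 := hi.2.2 j
    have h2 := hji.2.2 (k - j)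
    rw [← mul_assoc, ← pow_add, Nat.sub_add_cancel hjk.le, ← hb, pow_orderOf_eq_one, one_mul] at h2
    have h3 : b ^ j * i = i := ZMod.val_injective m (le_antisymm h2 h1)
    have h4 : b ^ j = 1 := mul_right_cancel₀ hi.2.1 (by rw [h3, one_mul])
    have h5 := orderOf_dvd_of_pow_eq_one h4
    rw [hb] at h5
    exact absurd (Nat.le_of_dvd hj0 h5) (by omega)

/-- the core lemma for eigenspaces of an operator of prime order -/
theorem frob_core {m : ℕ} [Fact m.Prime] (hmK : (m : K) ≠ 0) {ψ : AddChar (ZMod m) K} (hψ : ψ.IsPrimitive)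
    {T Y : Module.End K V} (hT : T ^ m = 1) {k : ℕ} (hk : 0 < k) (hY : Y ^ k = 1) {b : ZMod m} (hb : orderOf b = k)
    (hYT : ∀ i, Y * pj ψ T i = pj ψ T (b * i) * Y) {μ : K} (hμ : μ ^ k = 1) :
    k * ev Y μ + ev T 1 = k * finrank K ↥(es T 1 ⊓ es Y μ) + finrank K V := by
  classical
  obtain ⟨R, hR0, hR1, hR2⟩ := exists_transversal b hb hk
  have hYn : ∀ (n : ℕ) (i : ZMod m), Y ^ n * pj ψ T i = pj ψ T (b ^ n * i) * Y ^ n := by
    intro n
    induction n with
    | zero => intro i; rw [pow_zero, pow_zero, one_mul, one_mul, mul_one]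
    | succ n ih =>
      intro i
      rw [pow_succ', mul_assoc, ih, ← mul_assoc, hYT, mul_assoc, ← mul_assoc b, ← pow_succ']
  have hYP : ∀ n : ℕ, Y ^ n * (∑ i ∈ R, pj ψ T i) = (∑ i ∈ R, pj ψ T (b ^ n * i)) * Y ^ n := by
    intro n
    rw [Finset.mul_sum, Finset.sum_mul]
    exact Finset.sum_congr rfl fun i _ => hYn n i
  have hbk : b ^ k = 1 := by rw [← hb, pow_orderOf_eq_one]
  have hb0 : b ≠ 0 := by
    rintro rfl
    rw [zero_pow hk.ne'] at hbk
    exact zero_ne_one hbk
  have h := core (K := K) (P₀ := pj ψ T 0) (P := ∑ i ∈ R, pj ψ T i) (Y := Y) hk hμ hY ?_ ?_ ?_ ?_ ?_ ?_ ?_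
  · rw [range_pj hT hmK] at h
    exact h
  · rw [pj_mul hT hmK hψ, if_pos rfl]
  · rw [Finset.mul_sum]
    apply Finset.sum_eq_zero
    intro i hi
    rw [pj_mul hT hmK hψ, if_neg]
    rintro rfl
    exact hR0 hi
  · rw [Finset.sum_mul]
    apply Finset.sum_eq_zero
    intro i hi
    rw [pj_mul hT hmK hψ, if_neg]
    rintro rfl
    exact hR0 hi
  · rw [Finset.sum_mul_sum]
    apply Finset.sum_congr rfl
    intro i hi
    rw [Finset.sum_eq_single i]
    · rw [pj_mul hT hmK hψ, if_pos rfl]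
    · intro j _ hj
      rw [pj_mul hT hmK hψ, if_neg (Ne.symm hj)]
    · intro h
      exact absurd hi h
  · rw [hYT, mul_zero]
  · intro j hj0 hjk
    rw [mul_assoc, hYP, ← mul_assoc, Finset.sum_mul_sum]
    have : ∑ i ∈ R, ∑ i' ∈ R, pj ψ T i * pj ψ T (b ^ j * i') = 0 := by
      apply Finset.sum_eq_zero
      intro i hi
      apply Finset.sum_eq_zero
      intro i' hi'
      rw [pj_mul hT hmK hψ, if_neg]
      rintro rfl
      exact hR2 i' hi' j hj0 hjk hi
    rw [this, zero_mul]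
  · have h1 : ∀ j ∈ Finset.range k, Y ^ j * (∑ i ∈ R, pj ψ T i) * Y ^ (k - j) = ∑ i ∈ R, pj ψ T (b ^ j * i) := by
      intro j hj
      rw [hYP, mul_assoc, ← pow_add, Nat.add_sub_cancel' (Finset.mem_range.1 hj).le, hY, mul_one]
    rw [Finset.sum_congr rfl h1, ← Finset.sum_product', ← sum_pj (T := T) hmK hψ,
      ← Finset.add_sum_erase Finset.univ _ (Finset.mem_univ (0 : ZMod m))]
    congr 1
    refine Finset.sum_bij (fun x _ => b ^ x.1 * x.2) ?_ ?_ ?_ ?_
    · rintro ⟨j, i⟩ hx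
      rw [Finset.mem_product] at hx
      rw [Finset.mem_erase]
      refine ⟨mul_ne_zero (pow_ne_zero _ hb0) ?_, Finset.mem_univ _⟩
      rintro h0
      have h2 : i = 0 := h0
      subst h2
      exact hR0 hx.2
    · rintro ⟨j, i⟩ hx ⟨j', i'⟩ hx' heq
      rw [Finset.mem_product] at hx hx'
      have hj := Finset.mem_range.1 hx.1
      have hj' := Finset.mem_range.1 hx'.1
      change b ^ j * i = b ^ j' * i' at heq
      have key : ∀ (j i j' i' : _), j < j' → j' < k → i ∈ R → i' ∈ R → b ^ j * i ≠ b ^ j' * i' := by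
        intro j i j' i' h1 h2 h3 h4 h5
        obtain ⟨c, rfl⟩ := Nat.exists_eq_add_of_lt h1
        rw [add_assoc, pow_add, mul_assoc] at h5
        have h6 := mul_left_cancel₀ (pow_ne_zero _ hb0) h5
        rw [h6] at h3
        exact hR2 i' h4 (c + 1) (by omega) (by omega) h3
      rcases lt_trichotomy j j' with h1 | h1 | h1
      · exact absurd heq (key j i j' i' h1 hj' hx.2 hx'.2)
      · subst h1
        have h2 := mul_left_cancel₀ (pow_ne_zero _ hb0) heq
        rw [h2]
      · exact absurd heq.symm (key j' i' j i h1 hj hx'.2 hx.2)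
    · intro i hi
      rw [Finset.mem_erase] at hi
      obtain ⟨j, hj, hji⟩ := hR1 i hi.1
      rcases Nat.eq_zero_or_pos j with h0 | h0
      · subst h0
        rw [pow_zero, one_mul] at hji
        exact ⟨(0, i), Finset.mem_product.2 ⟨Finset.mem_range.2 hk, hji⟩, by rw [pow_zero, one_mul]⟩
      · refine ⟨(k - j, b ^ j * i), Finset.mem_product.2 ⟨Finset.mem_range.2 (by omega), hji⟩, ?_⟩
        change b ^ (k - j) * (b ^ j * i) = i
        rw [← mul_assoc, ← pow_add, Nat.sub_add_cancel hj.le, hbk, one_mul]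
    · rintro ⟨j, i⟩ hx
      rfl

/-- an operator `T` of order dividing `m` with `Y T = T ^ a Y` -/
theorem mul_pow_val {m a : ℕ} [NeZero m] {T Y : Module.End K V} (hT : T ^ m = 1) (h : Y * T = T ^ a * Y)
    (t : ZMod m) : Y * T ^ t.val = T ^ ((a : ZMod m) * t).val * Y := by
  have h1 : ∀ n : ℕ, Y * T ^ n = T ^ (a * n) * Y := by
    intro n
    induction n with
    | zero => rw [mul_zero, pow_zero, mul_one, one_mul]
    | succ n ih => rw [pow_succ, ← mul_assoc, ih, mul_assoc, h, ← mul_assoc, ← pow_add, Nat.mul_succ]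
  have h2 : ((a : ZMod m) * t).val = (a * t.val) % m := by
    rw [← ZMod.val_natCast, Nat.cast_mul, ZMod.natCast_zmod_val]
  rw [h1, h2, ← pow_eq_pow_mod _ hT]

/-- Frobenius groups: `z` of prime order `m`, `y z y⁻¹ = z ^ a`, `a` of order `k` modulo `m`, `y ^ k = 1`. -/
theorem frob [IsAlgClosed K] (ρ : Representation K G V) {m : ℕ} (hm : m.Prime) (hmK : (m : K) ≠ 0) {z y : G}
    {a k : ℕ} (hz : z ^ m = 1) (hyz : y * z * y⁻¹ = z ^ a) (hk : orderOf (a : ZMod m) = k) (hk0 : 0 < k)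
    (hy : y ^ k = 1) {μ : K} (hμ : μ ^ k = 1) :
    k * ev (ρ y) μ + ev (ρ z) 1 =
      k * finrank K ↥(es (ρ z) 1 ⊓ es (ρ y) μ) + finrank K V := by
  have hmf : Fact m.Prime := ⟨hm⟩
  have : NeZero (m : K) := ⟨hmK⟩
  obtain ⟨ω, hω⟩ := HasEnoughRootsOfUnity.exists_primitiveRoot K m
  have hψ := AddChar.zmodChar_primitive_of_primitive_root m hω
  have hT : ρ z ^ m = 1 := by rw [← map_pow, hz, map_one]
  have hY : ρ y ^ k = 1 := by rw [← map_pow, hy, map_one]
  have h1 : ρ y * ρ z = ρ z ^ a * ρ y := by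
    rw [← map_pow, ← map_mul, ← map_mul, ← hyz]
    congr 1
    group
  have ha0 : (a : ZMod m) ≠ 0 := by
    intro h0
    have h := pow_orderOf_eq_one (a : ZMod m)
    rw [hk, h0, zero_pow hk0.ne'] at h
    exact zero_ne_one h
  have hb : orderOf ((a : ZMod m)⁻¹) = k := by
    rw [← hk, orderOf_eq_orderOf_iff]
    intro n
    rw [inv_pow, inv_eq_one]
  exact frob_core hmK hψ hT hk0 hY hb (mul_pj (mul_inv_cancel₀ ha0) (mul_pow_val hT h1)) hμ

/-! ### Groups of order 9 -/

/-- a complete family of orthogonal idempotents -/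
theorem finrank_complete {ι : Type*} [Fintype ι] [DecidableEq ι] (Q : ι → Module.End K V) (h1 : ∑ i, Q i = 1)
    (h2 : ∀ i j, i ≠ j → Q i * Q j = 0) (h3 : ∀ i, Q i * Q i = Q i) :
    finrank K V = ∑ i, finrank K (LinearMap.range (Q i)) := by
  let f : V →ₗ[K] (∀ i, LinearMap.range (Q i)) := LinearMap.pi fun i => (Q i).rangeRestrict
  have hf : ∀ v i, ((f v i : LinearMap.range (Q i)) : V) = Q i v := fun v i => rfl
  have hinj : Function.Injective f := by
    rw [← LinearMap.ker_eq_bot, eq_bot_iff]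
    intro v hv
    rw [LinearMap.mem_ker] at hv
    have e3 := LinearMap.congr_fun h1 v
    rw [LinearMap.sum_apply, Module.End.one_apply] at e3
    rw [Submodule.mem_bot, ← e3]
    apply Finset.sum_eq_zero
    intro i _
    rw [← hf, hv]
    rfl
  have hsurj : Function.Surjective f := by
    intro w
    refine ⟨∑ i, (w i : V), ?_⟩
    have hw : ∀ i j, Q i (w j : V) = if i = j then (w j : V) else 0 := by
      intro i j
      obtain ⟨x, hx⟩ := (w j).2
      rw [← hx, ← Module.End.mul_apply]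
      by_cases hij : i = j
      · subst hij
        rw [if_pos rfl, h3]
      · rw [if_neg hij, h2 i j hij, LinearMap.zero_apply]
    funext i
    apply Subtype.ext
    rw [hf, map_sum, Finset.sum_eq_single i]
    · rw [hw, if_pos rfl]
    · intro j _ hj
      rw [hw, if_neg (Ne.symm hj)]
    · intro h
      exact absurd (Finset.mem_univ i) h
  rw [(LinearEquiv.ofBijective f ⟨hinj, hsurj⟩).finrank_eq, Module.finrank_pi_fintype]

theorem finrank_sub {e g : Module.End K V} (he : e * e = e) (hg : g * g = g) (h1 : e * g = g) (h2 : g * e = g) :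
    finrank K (LinearMap.range e) = finrank K (LinearMap.range g) + finrank K (LinearMap.range (e - g)) := by
  have a1 := finrank_complete (K := K) (V := V) ![e, 1 - e] (by simp [Fin.sum_univ_two])
    (by
      intro i j hij
      fin_cases i <;> fin_cases j <;> simp_all only [mul_sub, sub_mul, _root_.Nat.succ_eq_add_one, _root_.Nat.reduceAdd, _root_.Fin.zero_eta, _root_.Fin.isValue, _root_.ne_eq, _root_.not_true_eq_false, _root_.Fin.mk_one, _root_.zero_ne_one, _root_.not_false_eq_true, _root_.Matrix.cons_val_zero, _root_.Matrix.cons_val_one, _root_.Matrix.cons_val_fin_one, _root_.mul_one, _root_.sub_self, _root_.one_ne_zero, _root_.one_mul])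
    (by
      intro i
      fin_cases i <;> simp_all only [mul_sub, sub_mul, _root_.Nat.succ_eq_add_one, _root_.Nat.reduceAdd, _root_.Fin.zero_eta, _root_.Fin.isValue, _root_.Matrix.cons_val_zero, _root_.Fin.mk_one, _root_.Matrix.cons_val_one, _root_.Matrix.cons_val_fin_one, _root_.mul_one, _root_.one_mul, _root_.sub_self, _root_.sub_zero])
  have a2 := finrank_complete (K := K) (V := V) ![g, e - g, 1 - e] (by simp [Fin.sum_univ_three])
    (by
      intro i j hij
      fin_cases i <;> fin_cases j <;> simp_all only [mul_sub, sub_mul, _root_.Nat.succ_eq_add_one, _root_.Nat.reduceAdd, _root_.Fin.sum_univ_two, _root_.Fin.isValue, _root_.Matrix.cons_val_zero, _root_.Matrix.cons_val_one, _root_.Fin.zero_eta, _root_.ne_eq, _root_.not_true_eq_false, _root_.Fin.mk_one, _root_.zero_ne_one, _root_.not_false_eq_true, _root_.sub_self, _root_.Fin.reduceFinMk, _root_.Fin.reduceEq, _root_.Matrix.cons_val, _root_.mul_one, _root_.one_ne_zero, _root_.one_mul])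
    (by
      intro i
      fin_cases i <;> simp_all only [mul_sub, sub_mul, _root_.Nat.succ_eq_add_one, _root_.Nat.reduceAdd, _root_.Fin.sum_univ_two, _root_.Fin.isValue, _root_.Matrix.cons_val_zero, _root_.Matrix.cons_val_one, _root_.Fin.zero_eta, _root_.Fin.mk_one, _root_.sub_self, _root_.sub_zero, _root_.Fin.reduceFinMk, _root_.Matrix.cons_val, _root_.mul_one, _root_.one_mul])
  have b1 : finrank K V = finrank K (LinearMap.range e) + finrank K (LinearMap.range (1 - e)) := by
    rw [a1, Fin.sum_univ_two]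
    rfl
  have b2 : finrank K V = finrank K (LinearMap.range g) + finrank K (LinearMap.range (e - g)) +
      finrank K (LinearMap.range (1 - e)) := by
    rw [a2, Fin.sum_univ_three]
    rfl
  omega

/-- the average over a group of order 3 -/
noncomputable def av (T : Module.End K V) : Module.End K V := (3 : K)⁻¹ • (1 + T + T * T)

theorem pj_three {ψ : AddChar (ZMod 3) K} (T : Module.End K V) : pj ψ T 0 = av T := by
  unfold pj av
  have h : ∀ t : ZMod 3, ψ (-(t * 0)) = 1 := fun t => by rw [mul_zero, neg_zero, AddChar.map_zero_eq_one]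
  simp_rw [h, one_smul]
  have h2 : ∑ t : ZMod 3, T ^ t.val = T ^ 0 + T ^ 1 + T ^ 2 := Fin.sum_univ_three _
  rw [h2, pow_zero, pow_one, pow_two, Nat.cast_ofNat]

theorem av_mul_self {T : Module.End K V} (h3 : (3 : K) ≠ 0) (hT : T * (T * T) = 1) : av T * av T = av T := by
  unfold av
  rw [smul_mul_smul_comm]
  have h1 : (1 + T + T * T) * (1 + T + T * T) = (3 : K) • (1 + T + T * T) := by
    have h2 : (3 : K) • (1 + T + T * T) = (1 + T + T * T) + (1 + T + T * T) + (1 + T + T * T) := by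
      rw [show (3 : K) = 1 + 1 + 1 by norm_num, add_smul, add_smul, one_smul]
    rw [h2]
    simp only [mul_add, add_mul, mul_one, one_mul, mul_assoc, hT]
    abel
  rw [h1, smul_smul, mul_assoc, inv_mul_cancel₀ h3, mul_one]

section comm

variable {T S : Module.End K V}

theorem av_comm (h : S * T = T * S) : av T * av S = av S * av T := by
  have h1 : Commute (1 + T + T * T) (1 + S + S * S) := by
    have h0 : Commute T S := h.symm
    have h2 : Commute T (1 + S + S * S) := ((Commute.one_right T).add_right h0).add_right (h0.mul_right h0)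
    exact ((Commute.one_left _).add_left h2).add_left (h2.mul_left h2)
  unfold av
  rw [smul_mul_smul_comm, smul_mul_smul_comm, h1.eq]

/-- the four subgroups of order 3 -/
theorem av_prod (h : S * T = T * S) (hT : T * (T * T) = 1) (hS : S * (S * S) = 1) :
    av T * av (T * S) = av T * av S ∧ av T * av (T * (S * S)) = av T * av S ∧
      av S * av (T * S) = av T * av S ∧ av S * av (T * (S * S)) = av T * av S ∧
      av (T * S) * av (T * (S * S)) = av T * av S := by
  have h1 : ∀ x, S * (T * x) = T * (S * x) := fun x => by rw [← mul_assoc, h, mul_assoc]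
  have h2 : ∀ x, T * (T * (T * x)) = x := fun x => by
    rw [← mul_assoc T T x, ← mul_assoc T (T * T) x, hT, one_mul]
  have h3 : ∀ x, S * (S * (S * x)) = x := fun x => by
    rw [← mul_assoc S S x, ← mul_assoc S (S * S) x, hS, one_mul]
  unfold av
  simp only [smul_mul_smul_comm, mul_add, add_mul, mul_one, one_mul, mul_assoc, hT, hS, h, h1, h2]
  refine ⟨?_, ?_, ?_, ?_, ?_⟩ <;> congr 1 <;> abel

theorem av_sum (h3 : (3 : K) ≠ 0) (h : S * T = T * S) (hT : T * (T * T) = 1) (hS : S * (S * S) = 1) :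
    av T + av S + av (T * S) + av (T * (S * S)) = 1 + (3 : K) • (av T * av S) := by
  have h1 : ∀ x, S * (T * x) = T * (S * x) := fun x => by rw [← mul_assoc, h, mul_assoc]
  have h2 : ∀ x, T * (T * (T * x)) = x := fun x => by
    rw [← mul_assoc T T x, ← mul_assoc T (T * T) x, hT, one_mul]
  have h4 : ∀ x, S * (S * (S * x)) = x := fun x => by
    rw [← mul_assoc S S x, ← mul_assoc S (S * S) x, hS, one_mul]
  have h5 : (1 : Module.End K V) = (3 : K)⁻¹ • (1 + 1 + 1) := by
    rw [show (1 + 1 + 1 : Module.End K V) = (3 : K) • 1 by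
      rw [show (3 : K) = 1 + 1 + 1 by norm_num, add_smul, add_smul, one_smul], smul_smul, inv_mul_cancel₀ h3,
      one_smul]
  rw [h5]
  unfold av
  rw [smul_mul_smul_comm, smul_smul, ← mul_assoc (3 : K), mul_inv_cancel₀ h3, one_mul, ← smul_add, ← smul_add,
    ← smul_add, ← smul_add]
  congr 1
  simp only [mul_add, add_mul, mul_one, one_mul, mul_assoc, hS, h, h1]
  abel

theorem orth_sub {g a b : Module.End K V} (hab : a * b = g) (hag : a * g = g) (hgb : g * b = g) (hgg : g * g = g) :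
    (a - g) * (b - g) = 0 := by
  rw [mul_sub, sub_mul, sub_mul, hab, hag, hgb, hgg, sub_self]

theorem finrank_five {g a b c d : Module.End K V} (ab : a * b = g) (ba : b * a = g) (ac : a * c = g) (ca : c * a = g)
    (ad : a * d = g) (da : d * a = g) (bc : b * c = g) (cb : c * b = g) (bd : b * d = g) (db : d * b = g)
    (cd : c * d = g) (dc : d * c = g) (aa : a * a = a) (bb : b * b = b) (cc : c * c = c) (dd : d * d = d)
    (ag : a * g = g) (ga : g * a = g) (bg : b * g = g) (gb : g * b = g) (cg : c * g = g) (gc : g * c = g)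
    (dg : d * g = g) (gd : g * d = g) (gg : g * g = g) (hsum : a + b + c + d = 1 + (g + g + g)) :
    finrank K V = finrank K (LinearMap.range g) + finrank K (LinearMap.range (a - g)) +
      finrank K (LinearMap.range (b - g)) + finrank K (LinearMap.range (c - g)) +
      finrank K (LinearMap.range (d - g)) := by
  have z1 : ∀ {x : Module.End K V}, g * x = g → g * (x - g) = 0 := fun h => by rw [mul_sub, h, gg, sub_self]
  have z2 : ∀ {x : Module.End K V}, x * g = g → (x - g) * g = 0 := fun h => by rw [sub_mul, h, gg, sub_self]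
  have z3 : ∀ {x : Module.End K V}, x * x = x → x * g = g → g * x = g → (x - g) * (x - g) = x - g :=
    fun h h1 h2 => by rw [mul_sub, sub_mul, sub_mul, h, h1, h2, gg, sub_self, sub_zero]
  have key := finrank_complete (K := K) (V := V) ![g, a - g, b - g, c - g, d - g] (by
      rw [Fin.sum_univ_five]
      change g + (a - g) + (b - g) + (c - g) + (d - g) = 1
      have : g + (a - g) + (b - g) + (c - g) + (d - g) = (a + b + c + d) - (g + g + g) := by abel
      rw [this, hsum, add_sub_cancel_right])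
    (by
      intro i j hij
      fin_cases i <;> fin_cases j
      · exact absurd rfl hij
      · exact z1 ga
      · exact z1 gb
      · exact z1 gc
      · exact z1 gd
      · exact z2 ag
      · exact absurd rfl hij
      · exact orth_sub ab ag gb gg
      · exact orth_sub ac ag gc gg
      · exact orth_sub ad ag gd gg
      · exact z2 bg
      · exact orth_sub ba bg ga gg
      · exact absurd rfl hij
      · exact orth_sub bc bg gc gg
      · exact orth_sub bd bg gd gg
      · exact z2 cg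
      · exact orth_sub ca cg ga gg
      · exact orth_sub cb cg gb gg
      · exact absurd rfl hij
      · exact orth_sub cd cg gd gg
      · exact z2 dg
      · exact orth_sub da dg ga gg
      · exact orth_sub db dg gb gg
      · exact orth_sub dc dg gc gg
      · exact absurd rfl hij)
    (by
      intro i
      fin_cases i
      · exact gg
      · exact z3 aa ag ga
      · exact z3 bb bg gb
      · exact z3 cc cg gc
      · exact z3 dd dg gd)
  rw [key, Fin.sum_univ_five]
  rfl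

/-- **elementary abelian groups of order 9** -/
theorem finrank_nine (h3 : (3 : K) ≠ 0) (h : S * T = T * S) (hT : T * (T * T) = 1) (hS : S * (S * S) = 1) :
    finrank K V + 3 * finrank K (LinearMap.range (av T * av S)) =
      finrank K (LinearMap.range (av T)) + finrank K (LinearMap.range (av S)) +
        finrank K (LinearMap.range (av (T * S))) + finrank K (LinearMap.range (av (T * (S * S)))) := by
  have e1 : ∀ x, S * (T * x) = T * (S * x) := fun x => by rw [← mul_assoc, h, mul_assoc]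
  have e2 : ∀ x, T * (T * (T * x)) = x := fun x => by
    rw [← mul_assoc T T x, ← mul_assoc T (T * T) x, hT, one_mul]
  have e3 : ∀ x, S * (S * (S * x)) = x := fun x => by
    rw [← mul_assoc S S x, ← mul_assoc S (S * S) x, hS, one_mul]
  have hU : T * S * (T * S * (T * S)) = 1 := by simp only [mul_assoc, e1, e2, hS]
  have hW : T * (S * S) * (T * (S * S) * (T * (S * S))) = 1 := by simp only [mul_assoc, e1, e2, e3, hS]
  obtain ⟨g, hg⟩ : ∃ g, g = av T * av S := ⟨_, rfl⟩
  obtain ⟨a, ha⟩ : ∃ a, a = av T := ⟨_, rfl⟩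
  obtain ⟨b, hb⟩ : ∃ b, b = av S := ⟨_, rfl⟩
  obtain ⟨c, hc⟩ : ∃ c, c = av (T * S) := ⟨_, rfl⟩
  obtain ⟨d, hd⟩ : ∃ d, d = av (T * (S * S)) := ⟨_, rfl⟩
  have haa : a * a = a := by rw [ha]; exact av_mul_self h3 hT
  have hbb : b * b = b := by rw [hb]; exact av_mul_self h3 hS
  have hcc : c * c = c := by rw [hc]; exact av_mul_self h3 hU
  have hdd : d * d = d := by rw [hd]; exact av_mul_self h3 hW
  obtain ⟨p1, p2, p3, p4, p5⟩ := av_prod (K := K) h hT hS
  rw [← hg] at p1 p2 p3 p4 p5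
  rw [← ha, ← hc] at p1
  rw [← ha, ← hd] at p2
  rw [← hb, ← hc] at p3
  rw [← hb, ← hd] at p4
  rw [← hc, ← hd] at p5
  have hab : a * b = g := by rw [ha, hb, hg]
  -- commutations
  have q0 : b * a = g := by rw [← hab, ha, hb]; exact (av_comm h).symm
  have q1 : c * a = g := by
    rw [← p1, ha, hc]
    exact av_comm (show T * (T * S) = T * S * T by simp only [mul_assoc, h])
  have q2 : d * a = g := by
    rw [← p2, ha, hd]
    exact av_comm (show T * (T * (S * S)) = T * (S * S) * T by simp only [mul_assoc, h, e1])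
  have q3 : c * b = g := by
    rw [← p3, hb, hc]
    exact av_comm (show S * (T * S) = T * S * S by simp only [mul_assoc, e1])
  have q4 : d * b = g := by
    rw [← p4, hb, hd]
    exact av_comm (show S * (T * (S * S)) = T * (S * S) * S by simp only [mul_assoc, e1])
  have q5 : d * c = g := by
    rw [← p5, hc, hd]
    exact av_comm (show T * S * (T * (S * S)) = T * (S * S) * (T * S) by simp only [mul_assoc, e1])
  have ag : a * g = g := by rw [← hab, ← mul_assoc, haa]
  have bg : b * g = g := by rw [← q0, ← mul_assoc, hbb]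
  have cg : c * g = g := by rw [← q1, ← mul_assoc, hcc]
  have dg : d * g = g := by rw [← q2, ← mul_assoc, hdd]
  have ga : g * a = g := by rw [← q0, mul_assoc, haa]
  have gb : g * b = g := by rw [← hab, mul_assoc, hbb]
  have gc : g * c = g := by rw [← p1, mul_assoc, hcc]
  have gd : g * d = g := by rw [← p2, mul_assoc, hdd]
  have gg : g * g = g := by
    nth_rewrite 1 [← hab]
    rw [mul_assoc, bg, ag]
  have hsum : a + b + c + d = 1 + (3 : K) • g := by
    rw [ha, hb, hc, hd, hg]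
    exact av_sum h3 h hT hS
  have h3g : (3 : K) • g = g + g + g := by
    rw [show (3 : K) = 1 + 1 + 1 by norm_num, add_smul, add_smul, one_smul]
  have key' := finrank_five (K := K) (V := V) hab q0 p1 q1 p2 q2 p3 q3 p4 q4 p5 q5 haa hbb hcc hdd ag ga bg gb cg gc dg gd gg
    (by rw [hsum, h3g])
  have f1 := finrank_sub haa gg ag ga
  have f2 := finrank_sub hbb gg bg gb
  have f3 := finrank_sub hcc gg cg gc
  have f4 := finrank_sub hdd gg dg gd
  rw [← hg, ← ha, ← hb, ← hc, ← hd]
  omega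

end comm

/-- projections of commuting operators commute -/
theorem pj_comm {m : ℕ} [NeZero m] {ψ : AddChar (ZMod m) K} {T S : Module.End K V} (h : S * T = T * S)
    (i j : ZMod m) : pj ψ S j * pj ψ T i = pj ψ T i * pj ψ S j := by
  have h1 : Commute (∑ t : ZMod m, ψ (-(t * j)) • S ^ t.val) (∑ t : ZMod m, ψ (-(t * i)) • T ^ t.val) := by
    refine Commute.sum_left _ _ _ fun s _ => Commute.sum_right _ _ _ fun t _ => ?_
    exact (((show Commute S T from h).pow_pow _ _).smul_left _).smul_right _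
  unfold pj
  rw [smul_mul_smul_comm, smul_mul_smul_comm, h1.eq]

theorem nine_alg {Z0 Z1 Z2 W0 W1 W2 Y : Module.End K V}
    (h00 : Z0 * Z0 = Z0) (h01 : Z0 * Z1 = 0) (h02 : Z0 * Z2 = 0) (h10 : Z1 * Z0 = 0) (h11 : Z1 * Z1 = Z1)
    (h12 : Z1 * Z2 = 0)
    (k00 : W0 * W0 = W0) (k01 : W0 * W1 = 0) (k10 : W1 * W0 = 0) (k11 : W1 * W1 = W1) (k12 : W1 * W2 = 0)
    (hZ : Z0 + Z1 + Z2 = 1) (hW : W0 + W1 + W2 = 1)
    (c00 : W0 * Z0 = Z0 * W0) (c01 : W0 * Z1 = Z1 * W0) (c10 : W1 * Z0 = Z0 * W1) (c11 : W1 * Z1 = Z1 * W1)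
    (c12 : W1 * Z2 = Z2 * W1)
    (hY : Y * Y = 1) (y0 : Y * Z0 = Z0 * Y) (y1 : Y * Z1 = Z2 * Y) (y2 : Y * W0 = W0 * Y) (y3 : Y * W1 = W2 * Y) :
    finrank K V ≤ 2 * ev Y 1 + finrank K (LinearMap.range (Z0 * W0)) := by
  have yP : Y * (Z1 + Z0 * W1) = (Z2 + Z0 * W2) * Y := by
    rw [mul_add, y1, ← mul_assoc, y0, mul_assoc, y3, ← mul_assoc, add_mul]
  have e1 : (Z1 + Z0 * W1) * (Z2 + Z0 * W2) = 0 := by
    have a1 : Z0 * W1 * Z2 = 0 := by rw [mul_assoc, c12, ← mul_assoc, h02, zero_mul]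
    have a2 : Z0 * W1 * (Z0 * W2) = 0 := by
      rw [mul_assoc Z0 W1, ← mul_assoc W1 Z0, c10, mul_assoc Z0 W1, k12, mul_zero, mul_zero]
    rw [mul_add, add_mul, add_mul, h12, a1, ← mul_assoc Z1, h10, zero_mul, a2, add_zero, add_zero]
  have h := core (K := K) (P₀ := Z0 * W0) (P := Z1 + Z0 * W1) (Y := Y) (k := 2) (μ := 1) two_pos (one_pow _)
    (by rw [pow_two, hY]) ?_ ?_ ?_ ?_ ?_ ?_ ?_
  · have h1 : 2 * ev Y 1 + finrank K (LinearMap.range (Z0 * W0)) =
      2 * finrank K ↥(LinearMap.range (Z0 * W0) ⊓ es Y 1) + finrank K V := h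
    omega
  · rw [mul_assoc, ← mul_assoc W0, c00, mul_assoc, k00, ← mul_assoc, h00]
  · have a1 : Z0 * W0 * Z1 = 0 := by rw [mul_assoc, c01, ← mul_assoc, h01, zero_mul]
    have a2 : Z0 * W0 * (Z0 * W1) = 0 := by
      rw [mul_assoc Z0 W0, ← mul_assoc W0 Z0, c00, mul_assoc Z0 W0, k01, mul_zero, mul_zero]
    rw [mul_add, a1, a2, add_zero]
  · have a2 : Z0 * W1 * (Z0 * W0) = 0 := by
      rw [mul_assoc Z0 W1, ← mul_assoc W1 Z0, c10, mul_assoc Z0 W1, k10, mul_zero, mul_zero]
    rw [add_mul, ← mul_assoc, h10, zero_mul, a2, add_zero]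
  · have a1 : Z0 * W1 * Z1 = 0 := by rw [mul_assoc, c11, ← mul_assoc, h01, zero_mul]
    have a2 : Z0 * W1 * (Z0 * W1) = Z0 * W1 := by
      rw [mul_assoc Z0 W1, ← mul_assoc W1 Z0, c10, mul_assoc Z0 W1, k11, ← mul_assoc, h00]
    rw [mul_add, add_mul, add_mul, h11, a1, ← mul_assoc Z1, h10, zero_mul, a2, zero_add, add_zero]
  · rw [← mul_assoc, y0, mul_assoc, y2, mul_assoc]
  · intro j h1 h2
    have hj : j = 1 := by omega
    subst hj
    rw [pow_one, mul_assoc, yP, ← mul_assoc, e1, zero_mul]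
  · rw [Finset.sum_range_succ, Finset.sum_range_one, pow_zero, one_mul, Nat.sub_zero, pow_two, hY, mul_one, pow_one,
      yP, mul_assoc, hY, mul_one]
    have : Z0 * W0 + (Z1 + Z0 * W1 + (Z2 + Z0 * W2)) = Z0 * (W0 + W1 + W2) + Z1 + Z2 := by
      rw [mul_add, mul_add]
      abel
    rw [this, hW, mul_one, hZ]

/-- elementary abelian groups of order 9 with an inverting element, characteristic not 3 -/
theorem nine [IsAlgClosed K] (h3 : (3 : K) ≠ 0) (ρ : Representation K G V) {z w s : G} (hz : z ^ 3 = 1)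
    (hw : w ^ 3 = 1) (hzw : z * w = w * z) (hs : s * s = 1) (hsz : s * z * s⁻¹ = z⁻¹) (hsw : s * w * s⁻¹ = w⁻¹) :
    4 * finrank K V ≤ 6 * ev (ρ s) 1 + (ev (ρ z) 1 + ev (ρ w) 1 + ev (ρ (z * w)) 1 + ev (ρ (z * w⁻¹)) 1) := by
  have hm : ((3 : ℕ) : K) ≠ 0 := by exact_mod_cast h3
  have : NeZero ((3 : ℕ) : K) := ⟨hm⟩
  obtain ⟨ω, hω⟩ := HasEnoughRootsOfUnity.exists_primitiveRoot K 3
  obtain ⟨ψ, hψ⟩ : ∃ ψ : AddChar (ZMod 3) K, ψ.IsPrimitive :=
    ⟨_, AddChar.zmodChar_primitive_of_primitive_root 3 hω⟩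
  have hT : ρ z ^ 3 = 1 := by rw [← map_pow, hz, map_one]
  have hS : ρ w ^ 3 = 1 := by rw [← map_pow, hw, map_one]
  have hTS : ρ w * ρ z = ρ z * ρ w := by rw [← map_mul, ← map_mul, hzw]
  have hww : w⁻¹ = w * w := by
    rw [inv_eq_iff_mul_eq_one, ← mul_assoc, ← hw]
    rw [pow_succ, pow_two]
  have hzz : z⁻¹ = z ^ 2 := by
    rw [inv_eq_iff_mul_eq_one, ← pow_succ', hz]
  have hww2 : w⁻¹ = w ^ 2 := by rw [hww, pow_two]
  have hT' : ρ z * (ρ z * ρ z) = 1 := by rw [← hT, pow_succ, pow_two, mul_assoc]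
  have hS' : ρ w * (ρ w * ρ w) = 1 := by rw [← hS, pow_succ, pow_two, mul_assoc]
  have hev : ∀ {X : Module.End K V}, X ^ 3 = 1 → ev X 1 = finrank K (LinearMap.range (av X)) := by
    intro X hX
    have h1 := range_pj (ψ := ψ) hX hm
    rw [pj_three] at h1
    rw [h1]
    rfl
  have hzw3 : (z * w) ^ 3 = 1 := by
    rw [(show Commute z w from hzw).mul_pow, hz, hw, one_mul]
  have hzw3' : (z * w⁻¹) ^ 3 = 1 := by
    rw [(show Commute z w from hzw).inv_right.mul_pow, hz, inv_pow, hw, inv_one, one_mul]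
  have key := finrank_nine h3 hTS hT' hS'
  rw [← hev hT, ← hev hS, ← map_mul, ← map_mul, ← map_mul, ← hww, ← hev (by rw [← map_pow, hzw3, map_one]),
    ← hev (by rw [← map_pow, hzw3', map_one])] at key
  -- the element `s`
  have hab : (2 : ZMod 3) * 2 = 1 := by decide
  have y1 : ∀ {x : G}, x ^ 3 = 1 → s * x * s⁻¹ = x ^ 2 → ∀ i, ρ s * pj ψ (ρ x) i = pj ψ (ρ x) (2 * i) * ρ s := by
    intro x hx hsx
    have h1 : ρ s * ρ x = ρ x ^ 2 * ρ s := by
      rw [← map_pow, ← map_mul, ← map_mul, ← hsx]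
      congr 1
      group
    exact mul_pj hab (mul_pow_val (a := 2) (by rw [← map_pow, hx, map_one]) h1)
  have yz := y1 hz (by rw [hsz, hzz])
  have yw := y1 hw (by rw [hsw, hww2])
  have hpz := fun i j => pj_mul (T := ρ z) hT hm hψ i j
  have hpw := fun i j => pj_mul (T := ρ w) hS hm hψ i j
  have hsum : ∀ X : Module.End K V, pj ψ X 0 + pj ψ X 1 + pj ψ X 2 = 1 := by
    intro X
    rw [← sum_pj (T := X) hm hψ]
    exact (Fin.sum_univ_three _).symm
  have h := nine_alg (Z0 := pj ψ (ρ z) 0) (Z1 := pj ψ (ρ z) 1) (Z2 := pj ψ (ρ z) 2) (W0 := pj ψ (ρ w) 0)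
    (W1 := pj ψ (ρ w) 1) (W2 := pj ψ (ρ w) 2) (Y := ρ s)
    (by rw [hpz, if_pos rfl]) (by rw [hpz, if_neg (by decide)]) (by rw [hpz, if_neg (by decide)])
    (by rw [hpz, if_neg (by decide)]) (by rw [hpz, if_pos rfl]) (by rw [hpz, if_neg (by decide)])
    (by rw [hpw, if_pos rfl]) (by rw [hpw, if_neg (by decide)]) (by rw [hpw, if_neg (by decide)])
    (by rw [hpw, if_pos rfl]) (by rw [hpw, if_neg (by decide)]) (hsum _) (hsum _) (pj_comm hTS _ _) (pj_comm hTS _ _)
    (pj_comm hTS _ _) (pj_comm hTS _ _) (pj_comm hTS _ _) (by rw [← map_mul, hs, map_one])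
    (by rw [yz, mul_zero]) (by rw [yz, mul_one]) (by rw [yw, mul_zero]) (by rw [yw, mul_one])
  rw [pj_three, pj_three] at h
  omega

end Cfsg.Agent.H952.F4.EigFr

namespace Cfsg.Agent.H952.F4.Eig

open Module

variable {K V G : Type*} [Field K] [AddCommGroup V] [Module K V] [FiniteDimensional K V] [Group G]

/-- Frobenius groups: `z` of prime order `m`, `y z y⁻¹ = z ^ a`, `a` of order `k` modulo `m`, `y ^ k = 1`. -/
theorem frob [IsAlgClosed K] (ρ : Representation K G V) {m : ℕ} (hm : m.Prime) (hmK : (m : K) ≠ 0) {z y : G}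
    {a k : ℕ} (hz : z ^ m = 1) (hyz : y * z * y⁻¹ = z ^ a) (hk : orderOf (a : ZMod m) = k) (hk0 : 0 < k)
    (hy : y ^ k = 1) {μ : K} (hμ : μ ^ k = 1) :
    k * ev (ρ y) μ + ev (ρ z) 1 =
      k * finrank K ↥(es (ρ z) 1 ⊓ es (ρ y) μ) + finrank K V :=
  EigFr.frob ρ hm hmK hz hyz hk hk0 hy hμ

/-- elementary abelian groups of order 9 with an inverting element, characteristic not 3 -/
theorem nine [IsAlgClosed K] (h3 : (3 : K) ≠ 0) (ρ : Representation K G V) {z w s : G} (hz : z ^ 3 = 1)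
    (hw : w ^ 3 = 1) (hzw : z * w = w * z) (hs : s * s = 1) (hsz : s * z * s⁻¹ = z⁻¹) (hsw : s * w * s⁻¹ = w⁻¹) :
    4 * finrank K V ≤ 6 * ev (ρ s) 1 + (ev (ρ z) 1 + ev (ρ w) 1 + ev (ρ (z * w)) 1 + ev (ρ (z * w⁻¹)) 1) :=
  EigFr.nine h3 ρ hz hw hzw hs hsz hsw

end Cfsg.Agent.H952.F4.Eig
end

-- part: H333/E6Act
section
prune_inst 0x11006504052200000000850412002000200000020000000080800004004080200002280000b0000692a004002000006811000520424000000e000000002006090000000081480000000010000000000000000000000000000000000000000000000400000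
set_option linter.all false
open scoped Cfsg.Agent.FastGrp

/-!
# S5927: the group `Zgrp F` and the cubic form (helper333)

* `N_act`, `tf_act`, `sh_act`, `cr_act` (and for the dual module), for every field;
* `ev_dual`, `inv_bot`, `inv_bot'`, `exists_graph`, `ad_eq_one_iff`.
-/

set_option autoImplicit false
set_option linter.unusedSectionVars false

namespace Cfsg.Agent.H163.E6.Act

open Cfsg Cfsg.Lie Module
open Cfsg.Agent.ChevalleyStructure.E6Min.Tables Cfsg.Agent.ChevalleyStructure.E6Min.Basic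
  Cfsg.Agent.ChevalleyStructure.E6Min.Adjoint Cfsg.Agent.ChevalleyStructure.E6Min.Checks
  Cfsg.Agent.ChevalleyStructure.E6Min.Checks2
open Cfsg.Agent.H184.GraphE6 (gU gU_mul gU_gU dual dual_dual coe_dual PU PU_sq dual_PU coe_PU PM PM_apply PM_mulVec pi pi_pi
  dual_mem_Zgrp PM_sq PM_transpose)
open Cfsg.Agent.H952.F4 (ev es matRep sh cr tf)
open Cfsg.Agent.H952.F4.Inv (cubicT_add tf_nondeg tf_eq_sum tf_symm sw sh_smul tf_smul_left cubicT_smul tf_add_left)
open scoped Matrix

universe u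

/-! ### conjugation with `P` -/

/-- the code of `pi` -/
def piN (j : ℕ) : ℕ :=
  (if j / 9 = 0 then 0 else if j / 9 = 1 then 2 else 1) * 9 + (j % 9 % 3) * 3 + j % 9 / 3

/-- the image of the root `r` under the graph automorphism and the sign: `P N_r P = ε N_r'` -/
def gtab : List (ℕ × ℤ) := [(71, -1), (70, -1), (69, -1), (66, 1), (55, 1), (68, 1), (65, -1), (54, -1), (63, -1), (52, -1),
  (49, 1), (60, -1), (45, -1), (41, -1), (38, 1), (36, 1), (67, 1), (64, -1), (53, -1), (62, -1),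
  (51, -1), (48, 1), (61, 1), (50, 1), (47, -1), (46, -1), (59, -1), (44, -1), (40, -1), (37, 1),
  (58, -1), (43, -1), (39, -1), (57, 1), (42, 1), (56, 1), (15, 1), (29, 1), (14, 1), (32, -1),
  (28, -1), (13, -1), (34, 1), (31, -1), (27, -1), (12, -1), (25, -1), (24, -1), (21, 1), (10, 1),
  (23, 1), (20, -1), (9, -1), (18, -1), (7, -1), (4, 1), (35, 1), (33, 1), (30, -1), (26, -1),
  (11, -1), (22, 1), (19, -1), (8, -1), (17, -1), (6, -1), (3, 1), (16, 1), (5, 1), (2, -1),
  (1, -1), (0, -1)]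

theorem code_pi (x : I27) : code (pi x) = piN (code x) := by revert x; decide

theorem gtab_all : allLt 72 (fun r => Nat.blt (gtab.getD r (0, 0)).1 72 && allLt 27 fun j =>
    (sgN r (piN j) == (gtab.getD r (0, 0)).2 * sgN (gtab.getD r (0, 0)).1 j) &&
      ((sgN (gtab.getD r (0, 0)).1 j == 0) || (piN (srN r (piN j)) == srN (gtab.getD r (0, 0)).1 j))) = true := by
  decide +kernel

section ring

variable {R : Type*} [CommRing R]

theorem PM_Nm_PM {r : ℕ} (hr : r < 72) : (gtab.getD r (0, 0)).1 < 72 ∧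
    PM R * Nm R r * PM R = (((gtab.getD r (0, 0)).2 : ℤ) : R) • Nm R (gtab.getD r (0, 0)).1 := by
  have h := allLt_spec gtab_all r hr
  rw [Bool.and_eq_true, Nat.blt_eq] at h
  refine ⟨h.1, ?_⟩
  ext x y
  have h2 := allLt_spec h.2 _ (code_lt x)
  rw [Bool.and_eq_true, beq_iff_eq, Bool.or_eq_true, beq_iff_eq, beq_iff_eq] at h2
  have e1 : (PM R * Nm R r * PM R) x y = Nm R r (pi x) (pi y) := by
    rw [Matrix.mul_apply]
    have e2 : ∀ z, (PM R * Nm R r) x z = Nm R r (pi x) z := by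
      intro z
      rw [Matrix.mul_apply]
      simp only [PM_apply, ite_mul, one_mul, zero_mul, Finset.sum_ite_eq', Finset.mem_univ, if_true]
    simp only [e2, PM_apply]
    have e3 : ∀ z, (if y = pi z then (1 : R) else 0) = if z = pi y then 1 else 0 := by
      intro z
      congr 1
      apply propext
      constructor
      · rintro rfl; rw [pi_pi]
      · rintro rfl; rw [pi_pi]
    simp only [e3, mul_ite, mul_one, mul_zero, Finset.sum_ite_eq', Finset.mem_univ, if_true]
  rw [e1, Matrix.smul_apply, Nm_apply, Nm_apply, smul_eq_mul]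
  have e4 : sg r (pi x) = (gtab.getD r (0, 0)).2 * sg (gtab.getD r (0, 0)).1 x := by
    unfold sg
    rw [code_pi]
    exact h2.1
  have e5 : sg (gtab.getD r (0, 0)).1 x = 0 ∨ pi (sr r (pi x)) = sr (gtab.getD r (0, 0)).1 x := by
    rcases h2.2 with h3 | h3
    · exact Or.inl h3
    · right
      have h4 : code (pi (sr r (pi x))) = code (sr (gtab.getD r (0, 0)).1 x) := by
        rw [code_pi, code_sr hr, code_pi, code_sr h.1]
        exact h3
      rw [← dec_code (pi (sr r (pi x))), h4, dec_code]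
  rw [e4]
  rcases e5 with e5 | e5
  · rw [e5]
    simp
  · rw [← e5]
    have e6 : (pi y = sr r (pi x)) ↔ (y = pi (sr r (pi x))) := by
      constructor
      · intro h; rw [← h, pi_pi]
      · intro h; rw [h, pi_pi]
    by_cases h5 : y = pi (sr r (pi x))
    · rw [if_pos h5, if_pos (e6.2 h5)]
      push_cast
      rfl
    · rw [if_neg h5, if_neg fun h => h5 (e6.1 h), mul_zero]

theorem PM_zM_PM {r : ℕ} (hr : r < 72) (t : R) :
    PM R * zM r t * PM R = zM (gtab.getD r (0, 0)).1 ((((gtab.getD r (0, 0)).2 : ℤ) : R) * t) := by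
  rw [zM_def, zM_def, mul_add, add_mul, mul_one, PM_sq, mul_smul_comm, smul_mul_assoc, (PM_Nm_PM hr).2, smul_smul, mul_comm t]

theorem PU_conj_mem {g : GL I27 R} (hg : g ∈ Zgrp R) : PU R * g * PU R ∈ Zgrp R := by
  have h1 : ∀ a b : GL I27 R, PU R * (a * b) * PU R = (PU R * a * PU R) * (PU R * b * PU R) := by
    intro a b
    calc PU R * (a * b) * PU R = PU R * a * 1 * b * PU R := by group
      _ = _ := by rw [← PU_sq (F := R)]; group
  unfold Zgrp at hg
  induction hg using Subgroup.closure_induction with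
  | mem x hx =>
    obtain ⟨r, t, hr, hx⟩ := hx
    refine Subgroup.subset_closure ⟨(gtab.getD r (0, 0)).1, (((gtab.getD r (0, 0)).2 : ℤ) : R) * t, (PM_Nm_PM (R := R) hr).1, ?_⟩
    rw [← PM_zM_PM hr, ← hx]
    rfl
  | one => rw [mul_one, PU_sq]; exact one_mem _
  | mul a b _ _ ha hb => rw [h1]; exact mul_mem ha hb
  | inv a _ ha =>
    have h2 : PU R * a⁻¹ * PU R = (PU R * a * PU R)⁻¹ := by
      have h3 : (PU R)⁻¹ = PU R := inv_eq_of_mul_eq_one_right PU_sq
      rw [mul_inv_rev, mul_inv_rev, h3, mul_assoc]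
    rw [h2]
    exact inv_mem ha

theorem gU_mem {R : Type*} [Field R] {g : GL I27 R} (hg : g ∈ Zgrp R) : gU g ∈ Zgrp R := PU_conj_mem (dual_mem_Zgrp hg)

end ring

/-! ### naturality -/

section nat

variable {R S : Type*} [CommRing R] [CommRing S] (f : R →+* S)

theorem mat3_map (x : I27 → R) (k : Fin 3) : mat3 (fun i => f (x i)) k = (mat3 x k).map f := rfl

theorem map_mul_map (A B : Matrix (Fin 3) (Fin 3) R) : A.map f * B.map f = (A * B).map f := by
  ext i j
  simp [Matrix.mul_apply]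

theorem cubicT_map (x : I27 → R) : cubicT (fun i => f (x i)) = f (cubicT x) := by
  unfold cubicT
  simp only [mat3_map, map_mul_map]
  rw [← RingHom.mapMatrix_apply, ← RingHom.mapMatrix_apply, ← RingHom.mapMatrix_apply, ← RingHom.map_det, ← RingHom.map_det,
    ← RingHom.map_det]
  simp only [map_add, map_sub]
  congr 1
  simp only [Matrix.trace, Matrix.diag, Matrix.map_apply, map_sum]

theorem tf_map (x y : I27 → R) : tf (fun i => f (x i)) (fun i => f (y i)) = f (tf x y) := by
  rw [tf_eq_sum, tf_eq_sum, map_sum]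
  simp only [map_mul]

theorem sh_map (x : I27 → R) : sh (fun i => f (x i)) = fun i => f (sh x i) := by
  have h1 : ∀ A : Matrix (Fin 3) (Fin 3) R, (A.map f).adjugate = A.adjugate.map f := by
    intro A
    rw [← RingHom.mapMatrix_apply, ← RingHom.mapMatrix_apply, RingHom.map_adjugate]
  funext i
  unfold Cfsg.Agent.H952.F4.sh Cfsg.Agent.H952.F4.ofM
  simp only [mat3_map, map_mul_map, h1]
  split_ifs <;> simp only [Matrix.sub_apply, Matrix.map_apply, map_sub]

end nat

/-! ### the adjoint -/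

section adj

variable {R : Type*} [CommRing R]

theorem cubicT_line (x y : I27 → R) :
    cubicT (fun i => Polynomial.C (x i) + Polynomial.X * Polynomial.C (y i)) =
      Polynomial.C (cubicT x) + Polynomial.X * Polynomial.C (tf (sh x) y) +
        Polynomial.X ^ 2 * Polynomial.C (tf x (sh y)) + Polynomial.X ^ 3 * Polynomial.C (cubicT y) := by
  have h1 : (fun i => Polynomial.C (x i) + Polynomial.X * Polynomial.C (y i)) =
      (fun i => Polynomial.C (x i)) + (Polynomial.X : Polynomial R) • (fun i => Polynomial.C (y i)) := rfl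
  rw [h1, cubicT_add, sh_smul, cubicT_smul, tf_symm _ (_ • _), tf_smul_left, tf_symm _ (_ • _), tf_smul_left, cubicT_map,
    cubicT_map, sh_map, sh_map, tf_map, tf_map, tf_symm y, tf_symm (sh y)]

theorem coeff_one_line (a b c d : R) : (Polynomial.C a + Polynomial.X * Polynomial.C b + Polynomial.X ^ 2 * Polynomial.C c +
    Polynomial.X ^ 3 * Polynomial.C d : Polynomial R).coeff 1 = b := by
  simp [Polynomial.coeff_C]

theorem tf_sh_zM {r : ℕ} (hr : r < 72) (t : R) (x y : I27 → R) :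
    tf (sh (zM r t *ᵥ x)) (zM r t *ᵥ y) = tf (sh x) y := by
  have h1 : zM r (Polynomial.C t) *ᵥ (fun i => Polynomial.C (x i) + Polynomial.X * Polynomial.C (y i)) =
      fun i => Polynomial.C ((zM r t *ᵥ x) i) + Polynomial.X * Polynomial.C ((zM r t *ᵥ y) i) := by
    funext i
    rw [zM_mulVec, zM_mulVec, zM_mulVec]
    simp only [map_add, map_mul, map_intCast]
    ring
  have h2 := Cfsg.Agent.ChevalleyStructure.E6Min.Inv.cubicT_zM hr (Polynomial.C t)
    (fun i => Polynomial.C (x i) + Polynomial.X * Polynomial.C (y i))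
  rw [h1, cubicT_line, cubicT_line] at h2
  have h3 := congrArg (fun p => Polynomial.coeff p 1) h2
  simpa only [coeff_one_line] using h3

end adj

section group

variable {F : Type u} [Field F]

theorem tf_sh_of_mem {g : GL I27 F} (hg : g ∈ Zgrp F) : ∀ x y : I27 → F,
    tf (sh ((g : Matrix I27 I27 F) *ᵥ x)) ((g : Matrix I27 I27 F) *ᵥ y) = tf (sh x) y := by
  unfold Zgrp at hg
  induction hg using Subgroup.closure_induction with
  | mem g hg =>
    obtain ⟨r, t, hr, h⟩ := hg
    intro x y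
    rw [h]
    exact tf_sh_zM hr t x y
  | one =>
    intro x y
    rw [Units.val_one, Matrix.one_mulVec, Matrix.one_mulVec]
  | mul a b _ _ ha hb =>
    intro x y
    rw [Units.val_mul, ← Matrix.mulVec_mulVec, ← Matrix.mulVec_mulVec, ha, hb]
  | inv a _ ha =>
    intro x y
    rw [← ha, Matrix.mulVec_mulVec, Matrix.mulVec_mulVec, ← Units.val_mul, mul_inv_cancel, Units.val_one,
      Matrix.one_mulVec, Matrix.one_mulVec]

theorem sw_eq (i : I27) : sw i = pi i := by revert i; decide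

theorem tf_eq_dot (x y : I27 → F) : tf x y = x ⬝ᵥ (PM F *ᵥ y) := by
  rw [tf_eq_sum]
  simp only [dotProduct, PM_mulVec, sw_eq]

theorem coe_gU (g : GL I27 F) : ((gU g : GL I27 F) : Matrix I27 I27 F) =
    PM F * ((g⁻¹ : GL I27 F) : Matrix I27 I27 F)ᵀ * PM F := rfl

/-- the element `gU g` of the group -/
noncomputable def gz (g : ↥(Zgrp F)) : ↥(Zgrp F) := ⟨gU g, gU_mem g.2⟩

theorem gz_gz (g : ↥(Zgrp F)) : gz (gz g) = g := Subtype.ext (gU_gU _)

theorem gz_mul (g h : ↥(Zgrp F)) : gz (g * h) = gz g * gz h := Subtype.ext (gU_mul _ _)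

theorem V_gz (g : ↥(Zgrp F)) : V F (gz g) = V' F g := rfl

theorem V'_gz (g : ↥(Zgrp F)) : V' F (gz g) = V F g := by
  rw [← V_gz, gz_gz]

theorem V_inv_apply (g : ↥(Zgrp F)) (x : I27 → F) : V F g⁻¹ (V F g x) = x := by
  rw [← Module.End.mul_apply, ← map_mul, inv_mul_cancel, map_one, Module.End.one_apply]

theorem V_apply_inv (g : ↥(Zgrp F)) (x : I27 → F) : V F g (V F g⁻¹ x) = x := by
  rw [← Module.End.mul_apply, ← map_mul, mul_inv_cancel, map_one, Module.End.one_apply]

/-- the cubic form is invariant -/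
theorem N_act (g : ↥(Zgrp F)) (x : I27 → F) : cubicT (V F g x) = cubicT x :=
  Cfsg.Agent.ChevalleyStructure.E6Min.Inv.Zgrp_le F g.2 x

theorem N_act' (g : ↥(Zgrp F)) (x : I27 → F) : cubicT (V' F g x) = cubicT x := N_act (gz g) x

theorem tf_act (g : ↥(Zgrp F)) (x y : I27 → F) : tf (V F g x) (V' F g y) = tf x y := by
  rw [tf_eq_dot, tf_eq_dot, V_apply, V'_apply, coe_gU, Matrix.mulVec_mulVec, ← mul_assoc, ← mul_assoc, PM_sq, one_mul,
    ← Matrix.mulVec_mulVec, Matrix.dotProduct_mulVec, Matrix.vecMul_transpose, Matrix.mulVec_mulVec, ← Units.val_mul,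
    inv_mul_cancel, Units.val_one, Matrix.one_mulVec]

theorem sh_act (g : ↥(Zgrp F)) (x : I27 → F) : sh (V F g x) = V' F g (sh x) := by
  rw [← sub_eq_zero]
  apply tf_nondeg
  intro y
  obtain ⟨z, rfl⟩ : ∃ z, V F g z = y := ⟨V F g⁻¹ y, V_apply_inv g y⟩
  rw [sub_eq_add_neg, tf_add_left, ← neg_one_smul F, tf_smul_left]
  have h1 : tf (sh (V F g x)) (V F g z) = tf (sh x) z := tf_sh_of_mem g.2 x z
  have h2 := tf_act g z (sh x)
  rw [tf_symm, tf_symm z] at h2
  rw [h1, h2]
  ring

theorem sh_act' (g : ↥(Zgrp F)) (x : I27 → F) : sh (V' F g x) = V F g (sh x) := by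
  rw [← V_gz, sh_act, V'_gz]

theorem cr_act (g : ↥(Zgrp F)) (x y : I27 → F) : cr (V F g x) (V F g y) = V' F g (cr x y) := by
  unfold Cfsg.Agent.H952.F4.cr
  rw [← map_add, sh_act, sh_act, sh_act, map_sub, map_sub]

theorem cr_act' (g : ↥(Zgrp F)) (x y : I27 → F) : cr (V' F g x) (V' F g y) = V F g (cr x y) := by
  rw [← V_gz, cr_act, V'_gz]

/-- `gU g` and `g` : eigenspaces -/
theorem ev_dual (g : ↥(Zgrp F)) {μ : F} (hμ : μ ≠ 0) : ev (V' F g) μ = ev (V F g) μ⁻¹ := by
  have hk : ∀ (A : Matrix I27 I27 F) (c : F), ev (Matrix.toLin' A) c = Fintype.card I27 - (A - c • 1).rank := by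
    intro A c
    have h1 : Module.End.eigenspace (Matrix.toLin' A) c = LinearMap.ker (Matrix.toLin' (A - c • 1)) := by
      rw [Module.End.eigenspace_def, map_sub, map_smul, Matrix.toLin'_one]
      rfl
    have h2 := LinearMap.finrank_range_add_finrank_ker (Matrix.toLin' (A - c • 1))
    rw [Module.finrank_fintype_fun_eq_card] at h2
    unfold Cfsg.Agent.H952.F4.ev
    rw [h1, Matrix.rank_eq_finrank_range_toLin _ (Pi.basisFun F I27) (Pi.basisFun F I27), Matrix.toLin_eq_toLin']
    omega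
  have e1 : ev (V' F g) μ = ev (Matrix.toLin' ((gU (g : GL I27 F) : GL I27 F) : Matrix I27 I27 F)) μ := rfl
  have e2 : ev (V F g) μ⁻¹ = ev (Matrix.toLin' ((g : GL I27 F) : Matrix I27 I27 F)) μ⁻¹ := rfl
  rw [e1, e2, hk, hk]
  congr 1
  have e3 : ((gU (g : GL I27 F) : GL I27 F) : Matrix I27 I27 F) - μ • 1 =
      ((PU F : GL I27 F) : Matrix I27 I27 F) * ((((g⁻¹ : ↥(Zgrp F)) : GL I27 F) : Matrix I27 I27 F) - μ • 1)ᵀ *
        ((PU F : GL I27 F) : Matrix I27 I27 F) := by
    rw [coe_gU, coe_PU, Matrix.transpose_sub, mul_sub, sub_mul, Matrix.transpose_smul, Matrix.transpose_one, mul_smul_comm,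
      smul_mul_assoc, mul_one, PM_sq]
    rfl
  have e4 : (((g⁻¹ : ↥(Zgrp F)) : GL I27 F) : Matrix I27 I27 F) - μ • 1 =
      (((((g⁻¹ : ↥(Zgrp F)) : GL I27 F) * (Units.map (algebraMap F (Matrix I27 I27 F)).toMonoidHom (Units.mk0 (-μ) (neg_ne_zero.2 hμ)))) :
        GL I27 F) : Matrix I27 I27 F) * (((g : GL I27 F) : Matrix I27 I27 F) - μ⁻¹ • 1) := by
    have e5 : (((Units.map (algebraMap F (Matrix I27 I27 F)).toMonoidHom (Units.mk0 (-μ) (neg_ne_zero.2 hμ))) : GL I27 F) :
        Matrix I27 I27 F) = (-μ) • (1 : Matrix I27 I27 F) := by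
      show algebraMap F (Matrix I27 I27 F) (-μ) = _
      rw [Algebra.algebraMap_eq_smul_one]
    have e6 : (((g⁻¹ : ↥(Zgrp F)) : GL I27 F) : Matrix I27 I27 F) * ((g : GL I27 F) : Matrix I27 I27 F) = 1 := by
      rw [← Units.val_mul, ← Subgroup.coe_mul, inv_mul_cancel]
      rfl
    rw [Units.val_mul, e5, mul_smul_comm, mul_one, smul_mul_assoc, mul_sub, e6, mul_smul_comm, mul_one, smul_sub, smul_smul,
      neg_mul, mul_inv_cancel₀ hμ]
    simp only [neg_smul, one_smul]
    abel
  have hu : ∀ u : GL I27 F, IsUnit ((u : Matrix I27 I27 F)).det := fun u =>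
    (Matrix.isUnit_iff_isUnit_det _).1 (Units.isUnit u)
  rw [e3, Matrix.rank_mul_eq_left_of_isUnit_det _ _ (hu _), Matrix.rank_mul_eq_right_of_isUnit_det _ _ (hu _),
    Matrix.rank_transpose, e4, Matrix.rank_mul_eq_right_of_isUnit_det _ _ (hu _)]

/-! ### invariants -/

theorem exists_of_not_allLt {n : ℕ} {p : ℕ → Bool} (h : (!(allLt n p)) = true) : ∃ k < n, p k = false := by
  by_contra hc
  push Not at hc
  have h1 : allLt n p = true := by
    clear h
    induction n with
    | zero => rfl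
    | succ n ih =>
      have h2 : allLt (n + 1) p = (p n && allLt n p) := rfl
      rw [h2, ih fun k hk => hc k (by omega), Bool.and_true]
      cases h3 : p n
      · exact absurd h3 (hc n (by omega))
      · rfl
  rw [h1] at h
  exact Bool.noConfusion h

/-! ### the graph automorphism -/

/-! ### the kernel of `ad` -/

theorem sep_all : allLt 27 (fun j => allLt 27 fun k => (j == k) || !(allLt 72 fun r => indN r j == indN r k)) = true := by
  decide +kernel

theorem path_all : allLt 27 (fun j => (j == 0) || !(allLt 72 fun r => ((sgN r 0 == 0) || !(srN r 0 == j)) &&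
    allLt 72 fun s => (sgN r 0 == 0) || (sgN s (srN r 0) == 0) || !(srN s (srN r 0) == j))) = true := by
  decide +kernel

theorem cast_sg_ne {r : ℕ} {y : I27} (h1 : sg r y ≠ 0) : ((sg r y : ℤ) : F) ≠ 0 := by
  have h5 := sg_sq r y h1
  intro h6
  have h7 : (((sg r y * sg r y : ℤ)) : F) = 1 := by rw [h5, Int.cast_one]
  rw [Int.cast_mul, h6, zero_mul] at h7
  exact zero_ne_one h7

/-- a matrix commuting with all root vectors is scalar -/
theorem scalar_of_comm {M : Matrix I27 I27 F} (h : ∀ r < 72, M * Nm F r = Nm F r * M) : ∃ c : F, M = c • 1 := by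
  -- diagonal
  have hd : ∀ x y, x ≠ y → M x y = 0 := by
    intro x y hxy
    have h1 := allLt_spec (allLt_spec sep_all _ (code_lt x)) _ (code_lt y)
    rw [Bool.or_eq_true, beq_iff_eq] at h1
    rcases h1 with h1 | h1
    · exact absurd (by rw [← dec_code x, h1, dec_code]) hxy
    · obtain ⟨r, hr, h2⟩ := exists_of_not_allLt h1
      rw [beq_eq_false_iff_ne] at h2
      have h3 : M * (Nm F r * Nm F (71 - r)) = Nm F r * Nm F (71 - r) * M := by
        rw [← mul_assoc, h r hr, mul_assoc, h (71 - r) (by omega), ← mul_assoc]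
      rw [Nm_mul_opp hr] at h3
      have h4 := congrFun (congrFun h3 x) y
      rw [Matrix.mul_diagonal, Matrix.diagonal_mul] at h4
      have h5 : ∀ z, ind r z = 0 ∨ ind r z = 1 := by
        intro z
        by_cases h6 : sg r z = 0
        · exact Or.inl (ind_of_eq h6)
        · exact Or.inr (ind_of_ne h6)
      have h6 : ind r x ≠ ind r y := h2
      rcases h5 x with h7 | h7 <;> rcases h5 y with h8 | h8
      · exact absurd (h7.trans h8.symm) h6
      · rw [h7, h8] at h4; simpa using h4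
      · rw [h7, h8] at h4; simpa using h4.symm
      · exact absurd (h7.trans h8.symm) h6
  have hstep : ∀ r < 72, ∀ x, sg r x ≠ 0 → M x x = M (sr r x) (sr r x) := by
    intro r hr x hx
    have h1 := congrFun (congrFun (h r hr) x) (sr r x)
    rw [Nm_mul_apply, Matrix.mul_apply, Finset.sum_eq_single x] at h1
    · rw [Nm_apply, if_pos rfl] at h1
      have h2 : ((sg r x : ℤ) : F) * (M x x - M (sr r x) (sr r x)) = 0 := by linear_combination h1
      exact sub_eq_zero.1 ((mul_eq_zero.1 h2).resolve_left (cast_sg_ne hx))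
    · intro z _ hz
      rw [hd x z (Ne.symm hz), zero_mul]
    · intro h2
      exact absurd (Finset.mem_univ _) h2
  have hc : ∀ x, M x x = M (dec 0) (dec 0) := by
    intro x
    have h1 := allLt_spec path_all _ (code_lt x)
    rw [Bool.or_eq_true, beq_iff_eq] at h1
    have h0 : code (dec 0) = 0 := code_dec (by norm_num)
    rcases h1 with h1 | h1
    · rw [← dec_code x, h1]
    · obtain ⟨r, hr, h2⟩ := exists_of_not_allLt h1
      rw [Bool.and_eq_false_iff] at h2
      rcases h2 with h2 | h2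
      · rw [Bool.or_eq_false_iff, beq_eq_false_iff_ne, Bool.not_eq_false', beq_iff_eq] at h2
        have h3 : sg r (dec 0) ≠ 0 := by unfold sg; rw [h0]; exact h2.1
        have h4 : sr r (dec 0) = x := by unfold sr; rw [h0, h2.2, dec_code]
        rw [hstep r hr _ h3, h4]
      · obtain ⟨s, hs, h2⟩ := exists_of_not_allLt (n := 72) (by rw [h2]; rfl)
        simp only [Bool.or_eq_false_iff, beq_eq_false_iff_ne, Bool.not_eq_false', beq_iff_eq] at h2
        have h3 : sg r (dec 0) ≠ 0 := by unfold sg; rw [h0]; exact h2.1.1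
        have h4 : sg s (sr r (dec 0)) ≠ 0 := by rw [sg_sr hr, h0]; exact h2.1.2
        have h5 : sr s (sr r (dec 0)) = x := by rw [sr_sr hr, h0, h2.2, dec_code]
        rw [hstep r hr _ h3, hstep s hs _ h4, h5]
  refine ⟨M (dec 0) (dec 0), ?_⟩
  ext x y
  rw [Matrix.smul_apply, smul_eq_mul, Matrix.one_apply]
  by_cases hxy : x = y
  · rw [if_pos hxy, mul_one, ← hxy, hc x]
  · rw [if_neg hxy, mul_zero, hd x y hxy]

theorem cubicT_u0 : cubicT (Cfsg.Agent.H952.F4.u0 F) = 1 := by
  unfold cubicT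
  rw [Cfsg.Agent.H952.F4.Inv.mat3_u0_zero, Cfsg.Agent.H952.F4.Inv.mat3_u0_one, Cfsg.Agent.H952.F4.Inv.mat3_u0_two]
  simp

theorem coe_scal (c : Fˣ) : ((scal c : GL I27 F) : Matrix I27 I27 F) = (c : F) • 1 := by
  show algebraMap F (Matrix I27 I27 F) c = _
  rw [Algebra.algebraMap_eq_smul_one]

/-- the kernel of `ad` consists of the scalar matrices of order dividing 3 -/
theorem ad_eq_one_iff (g : ↥(Zgrp F)) : ad F g = 1 ↔ ∃ c : Fˣ, c ^ 3 = 1 ∧ (g : GL I27 F) = scal c := by
  constructor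
  · intro hg
    obtain ⟨c, hc⟩ := scalar_of_comm (M := ((g : GL I27 F) : Matrix I27 I27 F)) fun r hr =>
      comm_B_of_ker hg (Sum.inr ⟨r, hr⟩)
    have h1 := N_act g (Cfsg.Agent.H952.F4.u0 F)
    rw [V_apply, hc, Matrix.smul_mulVec, Matrix.one_mulVec, cubicT_smul, cubicT_u0, mul_one] at h1
    have hc0 : c ≠ 0 := by
      rintro rfl
      rw [zero_pow (by norm_num)] at h1
      exact zero_ne_one h1
    refine ⟨Units.mk0 c hc0, Units.ext (by simpa using h1), Units.ext ?_⟩
    rw [coe_scal]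
    exact hc
  · rintro ⟨c, -, hc⟩
    apply Subtype.ext
    apply Units.ext
    refine P_unique (g := (g : GL I27 F)) (ad_P g) ?_
    intro col
    have h4 : comb (fun row => (1 : Matrix chevE6.Idx chevE6.Idx F) row col) = B F col := by
      have := P_one (F := F) col
      rw [one_mul, mul_one] at this
      exact this.symm
    show _ = comb (fun row => (1 : Matrix chevE6.Idx chevE6.Idx F) row col) * _
    rw [h4, hc, coe_scal, smul_mul_assoc, mul_smul_comm, one_mul, mul_one]

end group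

end Cfsg.Agent.H163.E6.Act
end

-- part: H952/F4/Count
section
prune_inst 0x252020444040000000188596010000044000050200430000080006040248a26229012e4104b00006123a8040400880680010003000500000240004000000000000a112263150b000000016000804000000000000000000000000000000000004000000000
set_option linter.all false
open scoped Cfsg.Agent.FastGrp

/-!
# S5926, G2 and G3: counting (helper361)

* `no_fixed`  : the alternating group has no fixed vectors on a module of small dimension;
* `few_fixed` : bounds for the dimension of the fixed space (`n = 5`).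
-/

set_option autoImplicit false

namespace Cfsg.Agent.H952.F4

open Cfsg Cfsg.Lie Module
open Cfsg.Agent.ChevalleyStructure Cfsg.Agent.ChevalleyStructure.Elts
open Cfsg.Agent.ChevalleyStructure.E6Min.Tables Cfsg.Agent.ChevalleyStructure.E6Min.Basic

universe u

namespace MaxA

section count

variable {G : Type u} [Group G] {F V : Type*} [Field F] [AddCommGroup V] [Module F V] (ρ : Representation F G V)

theorem rmul (g h : G) (v : V) : ρ (g * h) v = ρ g (ρ h v) := by
  rw [map_mul, Module.End.mul_apply]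

theorem rone (v : V) : ρ 1 v = v := by
  rw [map_one, Module.End.one_apply]

theorem rinv (g : G) (v : V) : ρ g⁻¹ (ρ g v) = v := by
  rw [← rmul, inv_mul_cancel, rone]

/-- the stabilizer of the line spanned by `w` -/
def LS (w : V) : Subgroup G where
  carrier := {g | ∃ c : Fˣ, ρ g w = (c : F) • w}
  one_mem' := ⟨1, by rw [rone, Units.val_one, one_smul]⟩
  mul_mem' := by
    rintro g h ⟨c, hc⟩ ⟨d, hd⟩
    exact ⟨d * c, by rw [rmul, hd, map_smul, hc, smul_smul, Units.val_mul]⟩
  inv_mem' := by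
    rintro g ⟨c, hc⟩
    refine ⟨c⁻¹, ?_⟩
    have h1 := rinv ρ g w
    rw [hc, map_smul] at h1
    have h2 : ((c⁻¹ : Fˣ) : F) • ((c : F) • ρ g⁻¹ w) = ((c⁻¹ : Fˣ) : F) • w := by rw [h1]
    rwa [smul_smul, Units.inv_mul, one_smul] at h2

/-- the stabilizer of `w` -/
def VS (w : V) : Subgroup G where
  carrier := {g | ρ g w = w}
  one_mem' := rone ρ w
  mul_mem' := by
    intro g h hg hh
    change ρ (g * h) w = w
    rw [rmul, show ρ h w = w from hh, show ρ g w = w from hg]
  inv_mem' := by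
    intro g hg
    change ρ g⁻¹ w = w
    conv_lhs => rw [← show ρ g w = w from hg]
    exact rinv ρ g w

variable {ρ}

theorem mem_LS {w : V} {g : G} : g ∈ LS ρ w ↔ ∃ c : Fˣ, ρ g w = (c : F) • w := Iff.rfl

theorem mem_VS {w : V} {g : G} : g ∈ VS ρ w ↔ ρ g w = w := Iff.rfl

theorem inv_smul' {w : V} {g : G} {c : Fˣ} (hc : ρ g w = (c : F) • w) : ρ g⁻¹ w = ((c⁻¹ : Fˣ) : F) • w := by
  have h1 := rinv ρ g w
  rw [hc, map_smul] at h1
  have h2 : ((c⁻¹ : Fˣ) : F) • ((c : F) • ρ g⁻¹ w) = ((c⁻¹ : Fˣ) : F) • w := by rw [h1]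
  rwa [smul_smul, Units.inv_mul, one_smul] at h2

/-- commutators act trivially on invariant lines -/
theorem comm_mem {w : V} {g h : G} (hg : g ∈ LS ρ w) (hh : h ∈ LS ρ w) : g * h * g⁻¹ * h⁻¹ ∈ VS ρ w := by
  obtain ⟨c, hc⟩ := hg
  obtain ⟨d, hd⟩ := hh
  rw [mem_VS, rmul, rmul, rmul, inv_smul' hd, map_smul, inv_smul' hc, map_smul, map_smul, map_smul, map_smul, hd,
    map_smul, hc, smul_smul, smul_smul, smul_smul, ← Units.val_mul, ← Units.val_mul, ← Units.val_mul]
  rw [show d⁻¹ * c⁻¹ * d * c = 1 by rw [mul_right_comm d⁻¹ c⁻¹ d]; group, Units.val_one, one_smul]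

/-- the counting lemma -/
theorem count [Finite G] [Finite F] [FiniteDimensional F V] (H : Subgroup G) (S : Set V) (hS0 : (0 : V) ∉ S)
    (h : ∀ w ∈ S, ∀ w' ∈ S, ∀ x : G, ρ x w = w' → x ∈ H) :
    Nat.card S * Nat.card G ≤ Nat.card H * (Nat.card F ^ finrank F V - 1) := by
  classical
  have : Finite V := Module.finite_of_finite F
  have := Fintype.ofFinite G
  have := Fintype.ofFinite V
  have := Fintype.ofFinite S
  have := Fintype.ofFinite H
  let f : S × G → V := fun x => ρ x.2 x.1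
  have h1 : (Finset.univ : Finset (S × G)).card ≤ Nat.card H * ((Finset.univ : Finset (S × G)).image f).card := by
    refine Finset.card_le_mul_card_image _ _ fun v hv => ?_
    obtain ⟨⟨⟨w', hw'⟩, g'⟩, -, rfl⟩ := Finset.mem_image.1 hv
    rw [Nat.card_eq_fintype_card, ← Finset.card_univ]
    refine Finset.card_le_card_of_injOn (fun x => if hx : g'⁻¹ * x.2 ∈ H then (⟨g'⁻¹ * x.2, hx⟩ : H) else 1)
      (fun _ _ => Finset.mem_coe.2 (Finset.mem_univ _)) ?_
    have key : ∀ x : S × G, f x = f (⟨w', hw'⟩, g') → g'⁻¹ * x.2 ∈ H := by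
      rintro ⟨⟨w, hw⟩, g⟩ hx
      refine h w hw w' hw' _ ?_
      change ρ (g'⁻¹ * g) w = w'
      rw [rmul, show ρ g w = ρ g' w' from hx, rinv]
    rintro ⟨⟨w, hw⟩, g⟩ hx ⟨⟨w1, hw1⟩, g1⟩ hx1 he
    have e1 := (Finset.mem_filter.1 (Finset.mem_coe.1 hx)).2
    have e2 := (Finset.mem_filter.1 (Finset.mem_coe.1 hx1)).2
    have k1 : g'⁻¹ * g ∈ H := key _ e1
    have k2 : g'⁻¹ * g1 ∈ H := key _ e2
    simp only [k1, k2, dif_pos, Subtype.mk.injEq, mul_right_inj] at he
    subst he
    have h5 : ρ g w = ρ g w1 := Eq.trans (b := ρ g' w') e1 e2.symm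
    have h6 : w = w1 := by rw [← rinv ρ g w, h5, rinv]
    subst h6
    rfl
  have h2 : ((Finset.univ : Finset (S × G)).image f).card ≤ Nat.card F ^ finrank F V - 1 := by
    have h3 : ((Finset.univ : Finset (S × G)).image f) ⊆ Finset.univ.erase (0 : V) := by
      intro v hv
      obtain ⟨⟨⟨w, hw⟩, g⟩, -, rfl⟩ := Finset.mem_image.1 hv
      refine Finset.mem_erase.2 ⟨fun h0 => hS0 ?_, Finset.mem_univ _⟩
      have h4 : w = 0 := by
        rw [← rinv ρ g w, show ρ g w = 0 from h0, map_zero]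
      rwa [← h4]
    have h4 := Finset.card_le_card h3
    rw [Finset.card_erase_of_mem (Finset.mem_univ _), Finset.card_univ, ← Nat.card_eq_fintype_card,
      Module.natCard_eq_pow_finrank (K := F)] at h4
    exact h4
  rw [Finset.card_univ, Fintype.card_prod, ← Nat.card_eq_fintype_card, ← Nat.card_eq_fintype_card] at h1
  exact h1.trans (Nat.mul_le_mul_left _ h2)

end count

variable {G : Type u} [Group G] [Finite G] [IsSimpleGroup G] {F V : Type*} [Field F] [Finite F] [AddCommGroup V]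
  [Module F V] [FiniteDimensional F V] {H : Subgroup G} {n : ℕ} {φ : ↥(alternatingGroup (Fin n)) →* G}

omit [Finite G] in
omit [IsSimpleGroup G] in
theorem nonab (hM : MaxAlt H n φ) (hn : 5 ≤ n) : ¬ ∀ x y : G, x * y = y * x := by
  intro hc
  have h4 : 4 ≤ Nat.card (Fin n) := by rw [Nat.card_eq_fintype_card, Fintype.card_fin]; omega
  have h1 := alternatingGroup.center_eq_bot h4
  have h2 : Subgroup.center ↥(alternatingGroup (Fin n)) = ⊤ := by
    rw [eq_top_iff]
    intro x _
    rw [Subgroup.mem_center_iff]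
    intro y
    apply hM.inj
    rw [map_mul, map_mul, hc]
  have h3 : Nontrivial ↥(alternatingGroup (Fin n)) :=
    alternatingGroup.nontrivial_of_three_le_card (by rw [Nat.card_eq_fintype_card, Fintype.card_fin]; omega)
  rw [h1] at h2
  exact bot_ne_top h2

omit [Finite G] [Finite F] [FiniteDimensional F V] in
/-- the stabilizer of an `H`-invariant line is `H` -/
theorem LS_eq {ρ : Representation F G V} (hρ : ρ.invariants = ⊥) (hM : MaxAlt H n φ) (hn : 5 ≤ n) {w : V} (hw : w ≠ 0)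
    (h : ∀ x ∈ H, ∃ c : Fˣ, ρ x w = (c : F) • w) : LS ρ w = H := by
  have h1 : H ≤ LS ρ w := fun x hx => h x hx
  rcases eq_or_lt_of_le h1 with h2 | h2
  · exact h2.symm
  exfalso
  have h3 : LS ρ w = ⊤ := hM.coatom.2 _ h2
  have h4 : commutator G ≤ VS ρ w := by
    rw [commutator_def, Subgroup.commutator_le]
    intro g _ g' _
    exact comm_mem (by rw [h3]; trivial) (by rw [h3]; trivial)
  have h5 : commutator G = ⊤ := by
    rcases (inferInstance : (commutator G).Normal).eq_bot_or_eq_top with h6 | h6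
    · exfalso
      apply nonab hM hn
      intro x y
      have h7 : x * y * x⁻¹ * y⁻¹ ∈ commutator G :=
        Subgroup.commutator_mem_commutator (Subgroup.mem_top _) (Subgroup.mem_top _)
      rw [h6, Subgroup.mem_bot] at h7
      exact mul_inv_eq_iff_eq_mul.1 (mul_inv_eq_one.1 h7)
    · exact h6
  apply hw
  have h8 : w ∈ ρ.invariants := by
    rw [Representation.mem_invariants]
    intro g
    exact h4 (by rw [h5]; trivial)
  rw [hρ] at h8
  exact (Submodule.mem_bot F).1 h8

omit [Finite G] in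
theorem norm_eq (hM : MaxAlt H n φ) (hn : 5 ≤ n) {x : G} (hx : ∀ h, h ∈ H ↔ x * h * x⁻¹ ∈ H) : x ∈ H := by
  have h1 : H ≤ Subgroup.normalizer (H : Set G) := Subgroup.le_normalizer
  have hxN : x ∈ Subgroup.normalizer (H : Set G) := Subgroup.mem_normalizer_iff.2 hx
  rcases eq_or_lt_of_le h1 with h2 | h2
  · rwa [h2]
  exfalso
  have h3 : H.Normal := Subgroup.normalizer_eq_top_iff.1 (hM.coatom.2 _ h2)
  rcases h3.eq_bot_or_eq_top with h4 | h4
  · have h5 : Nontrivial ↥(alternatingGroup (Fin n)) :=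
      alternatingGroup.nontrivial_of_three_le_card
        (by rw [Nat.card_eq_fintype_card, Fintype.card_fin]; omega)
    obtain ⟨a, ha⟩ := exists_ne (1 : ↥(alternatingGroup (Fin n)))
    apply ha
    apply hM.inj
    have h6 : φ a ∈ H := hM.le ⟨a, rfl⟩
    rw [h4, Subgroup.mem_bot] at h6
    rw [h6, map_one]
  · exact hM.coatom.1 h4

omit [Finite G] [Finite F] [FiniteDimensional F V] in
/-- two vectors spanning `H`-invariant lines which are conjugate -/
theorem mem_of_conj {ρ : Representation F G V} (hρ : ρ.invariants = ⊥) (hM : MaxAlt H n φ) (hn : 5 ≤ n) {w w' : V}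
    (hw : w ≠ 0) (hw' : w' ≠ 0)
    (h : ∀ x ∈ H, ∃ c : Fˣ, ρ x w = (c : F) • w) (h' : ∀ x ∈ H, ∃ c : Fˣ, ρ x w' = (c : F) • w') {x : G}
    (hx : ρ x w = w') : x ∈ H := by
  have h1 := LS_eq hρ hM hn hw h
  have h2 := LS_eq hρ hM hn hw' h'
  refine norm_eq hM hn fun g => ?_
  have h3 : ρ x⁻¹ w' = w := by rw [← hx, rinv]
  constructor
  · intro hg
    rw [← h2, mem_LS]
    obtain ⟨c, hc⟩ := h g hg
    exact ⟨c, by rw [rmul, rmul, h3, hc, map_smul, hx]⟩
  · intro hg
    rw [← h1, mem_LS]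
    obtain ⟨c, hc⟩ := h' _ hg
    refine ⟨c, ?_⟩
    rw [rmul, rmul, h3] at hc
    have h4 : ρ x⁻¹ (ρ x (ρ g w)) = ρ x⁻¹ ((c : F) • w') := by rw [hc]
    rwa [rinv, map_smul, h3] at h4

omit [Finite G] [IsSimpleGroup G] [Finite F] [FiniteDimensional F V] in
theorem mem_inv {ρ : Representation F G V} {v : V} :
    v ∈ Representation.invariants (MonoidHom.comp ρ φ : ↥(alternatingGroup (Fin n)) →* (V →ₗ[F] V)) ↔
      ∀ a ∈ φ.range, ρ a v = v := by
  rw [Representation.mem_invariants]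
  constructor
  · rintro h _ ⟨a, rfl⟩
    exact h a
  · intro h a
    exact h _ ⟨a, rfl⟩

omit [Finite G] [IsSimpleGroup G] [Finite F] in
/-- commuting involutions have a common eigenvector -/
theorem exists_line {ρ : Representation F G V} (H : Subgroup G) (W : Submodule F V) :
    W ≠ ⊥ → (∀ x ∈ H, ∀ v ∈ W, ρ x v ∈ W) → (∀ x ∈ H, ∀ v ∈ W, ρ x (ρ x v) = v) →
    ∃ w ∈ W, w ≠ 0 ∧ ∀ x ∈ H, ρ x w = w ∨ ρ x w = -w := by
  induction W using WellFoundedLT.induction with
  | ind W ih =>
    intro h0 hW hsq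
    have hcomm : ∀ x ∈ H, ∀ y ∈ H, ∀ v ∈ W, ρ x (ρ y v) = ρ y (ρ x v) := by
      intro x hx y hy v hv
      have h1 := hsq (x * y) (mul_mem hx hy) v hv
      rw [rmul, rmul] at h1
      have h2 : ρ y (ρ x (ρ y v)) = ρ x v := by
        rw [← hsq x hx (ρ y (ρ x (ρ y v))) (hW y hy _ (hW x hx _ (hW y hy v hv))), h1]
      rw [← h2, hsq y hy _ (hW x hx _ (hW y hy v hv))]
    by_cases hall : ∀ x ∈ H, (∀ v ∈ W, ρ x v = v) ∨ ∀ v ∈ W, ρ x v = -v
    · obtain ⟨w, hw, hw0⟩ := Submodule.exists_mem_ne_zero_of_ne_bot h0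
      refine ⟨w, hw, hw0, fun x hx => ?_⟩
      rcases hall x hx with h1 | h1
      · exact Or.inl (h1 w hw)
      · exact Or.inr (h1 w hw)
    · push Not at hall
      obtain ⟨x, hx, ⟨u, hu, hu'⟩, ⟨u1, hu1, hu1'⟩⟩ := hall
      let W1 : Submodule F V := W ⊓ LinearMap.ker (ρ x - 1)
      have mem1 : ∀ v, v ∈ W1 ↔ v ∈ W ∧ ρ x v = v := by
        intro v
        rw [Submodule.mem_inf, LinearMap.mem_ker, LinearMap.sub_apply, Module.End.one_apply, sub_eq_zero]
      have hlt : W1 < W := by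
        refine lt_of_le_of_ne inf_le_left fun he => hu' ?_
        rw [← he] at hu
        exact ((mem1 u).1 hu).2
      have hne : W1 ≠ ⊥ := by
        intro he
        apply hu1'
        have h1 : ρ x u1 + u1 ∈ W1 := by
          rw [mem1]
          refine ⟨add_mem (hW x hx u1 hu1) hu1, ?_⟩
          rw [map_add, hsq x hx u1 hu1, add_comm]
        rw [he, Submodule.mem_bot] at h1
        exact eq_neg_of_add_eq_zero_left h1
      obtain ⟨w, hw, hw0, hw'⟩ := ih W1 hlt hne (fun y hy v hv => by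
        obtain ⟨h1, h2⟩ := (mem1 v).1 hv
        rw [mem1]
        refine ⟨hW y hy v h1, ?_⟩
        rw [hcomm x hx y hy v h1, h2]) (fun y hy v hv => hsq y hy v ((mem1 v).1 hv).1)
      exact ⟨w, ((mem1 w).1 hw).1, hw0, hw'⟩

/-- G2 -/
theorem no_fixed (ρ : Representation F G V) (hρ : ρ.invariants = ⊥) (hM : MaxAlt H n φ) (hn : 5 ≤ n)
    (hcard : Nat.card ↥H * Nat.card F ^ finrank F V < Nat.card G * (Nat.card F - 1)) :
    Representation.invariants (MonoidHom.comp ρ φ) = ⊥ := by
  by_contra hne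
  set W : Submodule F V := Representation.invariants (MonoidHom.comp ρ φ) with hWdef
  have memW : ∀ v, v ∈ W ↔ ∀ a ∈ φ.range, ρ a v = v := fun v => mem_inv
  have hW : ∀ x ∈ H, ∀ v ∈ W, ρ x v ∈ W := by
    intro x hx v hv
    rw [memW] at hv ⊢
    intro a ha
    have h1 := hM.norm x⁻¹ (inv_mem hx) a ha
    rw [inv_inv] at h1
    have h2 : ρ a (ρ x v) = ρ x (ρ (x⁻¹ * a * x) v) := by
      rw [← rmul, ← rmul]
      congr 2
      group
    rw [h2, hv _ h1]
  have hsq : ∀ x ∈ H, ∀ v ∈ W, ρ x (ρ x v) = v := by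
    intro x hx v hv
    rw [← rmul]
    exact (memW v).1 hv _ (hM.sq x hx)
  obtain ⟨w, hw, hw0, hw'⟩ := exists_line H W hne hW hsq
  have hline : ∀ x ∈ H, ∃ c : Fˣ, ρ x w = (c : F) • w := by
    intro x hx
    rcases hw' x hx with h1 | h1
    · exact ⟨1, by rw [h1, Units.val_one, one_smul]⟩
    · exact ⟨-1, by rw [h1, Units.val_neg, Units.val_one, neg_smul, one_smul]⟩
  have hS := count (ρ := ρ) H (Set.range fun c : Fˣ => (c : F) • w) (by
    rintro ⟨c, hc⟩
    exact hw0 ((smul_eq_zero.1 hc).resolve_left c.ne_zero)) (by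
    rintro _ ⟨c, rfl⟩ _ ⟨d, rfl⟩ x hx
    rw [← LS_eq hρ hM hn hw0 hline, mem_LS]
    refine ⟨d * c⁻¹, ?_⟩
    change ρ x ((c : F) • w) = (d : F) • w at hx
    rw [map_smul] at hx
    have h1 : ((c⁻¹ : Fˣ) : F) • ((c : F) • ρ x w) = ((c⁻¹ : Fˣ) : F) • ((d : F) • w) := by rw [hx]
    rwa [smul_smul, Units.inv_mul, one_smul, smul_smul, ← Units.val_mul, mul_comm] at h1)
  have hinj : Function.Injective fun c : Fˣ => (c : F) • w := by
    intro c d h
    have h1 : ((c : F) - d) • w = 0 := by rw [sub_smul, sub_eq_zero]; exact h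
    exact Units.ext (sub_eq_zero.1 ((smul_eq_zero.1 h1).resolve_right hw0))
  have h2 : Nat.card (Set.range fun c : Fˣ => (c : F) • w) = Nat.card F - 1 := by
    rw [Nat.card_congr (Equiv.ofInjective _ hinj).symm, Nat.card_units]
  rw [h2] at hS
  have h3 : Nat.card ↥H * (Nat.card F ^ finrank F V - 1) ≤ Nat.card ↥H * Nat.card F ^ finrank F V :=
    Nat.mul_le_mul_left _ (Nat.sub_le _ _)
  rw [mul_comm] at hS
  omega

/-- G3 -/
theorem few_fixed (ρ : Representation F G V) (hρ : ρ.invariants = ⊥) (hM : MaxAlt H n φ) (hn : n = 5)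
    (h2 : (2 : F) ≠ 0) : ∃ k l : ℕ, k + l = finrank F (Representation.invariants (MonoidHom.comp ρ φ)) ∧
      (H = φ.range → l = 0) ∧
      ((Nat.card F ^ k - 1) + (Nat.card F ^ l - 1)) * Nat.card G ≤ Nat.card ↥H * (Nat.card F ^ finrank F V - 1) := by
  have hn5 : 5 ≤ n := hn.ge
  set W : Submodule F V := Representation.invariants (MonoidHom.comp ρ φ) with hWdef
  have memW : ∀ v, v ∈ W ↔ ∀ a ∈ φ.range, ρ a v = v := fun v => mem_inv
  have hfV : Finite V := Module.finite_of_finite F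
  have card0 : ∀ U : Submodule F V, ((U : Set V) \ {0}).ncard = Nat.card F ^ finrank F U - 1 := by
    intro U
    rw [Set.ncard_sdiff_singleton_of_mem (zero_mem U), ← Nat.card_coe_set_eq]
    congr 1
    exact Module.natCard_eq_pow_finrank (K := F)
  by_cases hHA : H = φ.range
  · refine ⟨finrank F W, 0, add_zero _, fun _ => rfl, ?_⟩
    have hline : ∀ w ∈ W, ∀ x ∈ H, ∃ c : Fˣ, ρ x w = (c : F) • w := by
      intro w hw x hx
      rw [hHA] at hx
      exact ⟨1, by rw [(memW w).1 hw x hx, Units.val_one, one_smul]⟩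
    have hS := count (ρ := ρ) H ((W : Set V) \ {0}) (fun h => h.2 rfl) (by
      rintro w ⟨hw, hw0⟩ w' ⟨hw', hw0'⟩ x hx
      exact mem_of_conj hρ hM hn5 hw0 hw0' (hline w hw) (hline w' hw') hx)
    rw [Nat.card_coe_set_eq, card0] at hS
    rw [pow_zero, Nat.sub_self, add_zero]
    exact hS
  · -- `H = A <h0>`
    have hlt : ∃ h0 ∈ H, h0 ∉ φ.range := by
      by_contra hcon
      push Not at hcon
      exact hHA (le_antisymm hcon hM.le)
    obtain ⟨h0, hh0, hh0A⟩ := hlt
    have hidx : (φ.range.subgroupOf H).index = 2 := by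
      have h3 := (φ.range.subgroupOf H).card_mul_index
      have h4 : Nat.card (φ.range.subgroupOf H) = 60 := by
        rw [Nat.card_congr (Subgroup.subgroupOfEquivOfLe hM.le).toEquiv,
          ← Nat.card_congr (MonoidHom.ofInjective hM.inj).toEquiv, hn]
        rw [Nat.card_eq_fintype_card]
        decide +kernel
      have h5 := hM.card
      rw [if_neg (by omega), hn] at h5
      have h6 : (φ.range.subgroupOf H).index ≠ 0 := Subgroup.index_ne_zero_of_finite
      have h7 : (φ.range.subgroupOf H).index ≠ 1 := by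
        rw [Ne, Subgroup.index_eq_one]
        intro h8
        have h9 : (⟨h0, hh0⟩ : H) ∈ φ.range.subgroupOf H := by rw [h8]; trivial
        exact hh0A h9
      have h8 : Nat.factorial 5 = 120 := rfl
      rw [h4] at h3
      omega
    have hact : ∀ x ∈ H, ∀ w ∈ W, ρ x w = w ∨ ρ x w = ρ h0 w := by
      intro x hx w hw
      by_cases hxA : x ∈ φ.range
      · exact Or.inl ((memW w).1 hw x hxA)
      · right
        have h3 : (⟨h0, hh0⟩⁻¹ * ⟨x, hx⟩ : H) ∈ φ.range.subgroupOf H := by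
          rw [Subgroup.mul_mem_iff_of_index_two hidx]
          constructor
          · intro h4
            exact absurd (inv_mem_iff.1 h4) hh0A
          · intro h4
            exact absurd h4 hxA
        have h4 := (memW w).1 hw (h0⁻¹ * x) h3
        have h5 : ρ x w = ρ h0 (ρ (h0⁻¹ * x) w) := by
          rw [← rmul, mul_inv_cancel_left]
        rw [h5, h4]
    have hW0 : ∀ v ∈ W, ρ h0 v ∈ W := by
      intro v hv
      rw [memW] at hv ⊢
      intro a ha
      have h3 := hM.norm h0⁻¹ (inv_mem hh0) a ha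
      rw [inv_inv] at h3
      have h4 : ρ a (ρ h0 v) = ρ h0 (ρ (h0⁻¹ * a * h0) v) := by
        rw [← rmul, ← rmul]
        congr 2
        group
      rw [h4, hv _ h3]
    have hsq : ∀ v ∈ W, ρ h0 (ρ h0 v) = v := by
      intro v hv
      rw [← rmul]
      exact (memW v).1 hv _ (hM.sq h0 hh0)
    let Wp : Submodule F V := W ⊓ LinearMap.ker (ρ h0 - 1)
    let Wm : Submodule F V := W ⊓ LinearMap.ker (ρ h0 + 1)
    have memp : ∀ v, v ∈ Wp ↔ v ∈ W ∧ ρ h0 v = v := by
      intro v
      rw [Submodule.mem_inf, LinearMap.mem_ker, LinearMap.sub_apply, Module.End.one_apply, sub_eq_zero]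
    have memm : ∀ v, v ∈ Wm ↔ v ∈ W ∧ ρ h0 v = -v := by
      intro v
      rw [Submodule.mem_inf, LinearMap.mem_ker, LinearMap.add_apply, Module.End.one_apply, eq_neg_iff_add_eq_zero]
    have hinf : Wp ⊓ Wm = ⊥ := by
      rw [eq_bot_iff]
      rintro v ⟨h3, h4⟩
      have h5 := ((memp v).1 h3).2
      rw [((memm v).1 h4).2] at h5
      have h6 : (2 : F) • v = 0 := by
        rw [two_smul]
        nth_rewrite 1 [← h5]
        exact neg_add_cancel v
      exact (Submodule.mem_bot F).2 ((smul_eq_zero.1 h6).resolve_left h2)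
    have hsup : Wp ⊔ Wm = W := by
      refine le_antisymm (sup_le inf_le_left inf_le_left) fun v hv => ?_
      have h3 : v = (2 : F)⁻¹ • (v + ρ h0 v) + (2 : F)⁻¹ • (v - ρ h0 v) := by
        rw [← smul_add, add_add_sub_cancel, ← two_smul F v, smul_smul, inv_mul_cancel₀ h2, one_smul]
      rw [h3]
      refine Submodule.add_mem_sup ((memp _).2 ⟨?_, ?_⟩) ((memm _).2 ⟨?_, ?_⟩)
      · exact W.smul_mem _ (add_mem hv (hW0 v hv))
      · rw [map_smul, map_add, hsq v hv, add_comm]
      · exact W.smul_mem _ (sub_mem hv (hW0 v hv))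
      · rw [map_smul, map_sub, hsq v hv, ← smul_neg, neg_sub]
    refine ⟨finrank F Wp, finrank F Wm, ?_, fun h => absurd h hHA, ?_⟩
    · have h3 := Submodule.finrank_sup_add_finrank_inf_eq Wp Wm
      rw [hsup, hinf, finrank_bot, add_zero] at h3
      exact h3.symm
    · have hline : ∀ w ∈ ((Wp : Set V) \ {0}) ∪ ((Wm : Set V) \ {0}), w ≠ 0 ∧
          ∀ x ∈ H, ∃ c : Fˣ, ρ x w = (c : F) • w := by
        rintro w (⟨hw, hw0⟩ | ⟨hw, hw0⟩)
        · refine ⟨hw0, fun x hx => ⟨1, ?_⟩⟩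
          obtain ⟨h3, h4⟩ := (memp w).1 hw
          rw [Units.val_one, one_smul]
          rcases hact x hx w h3 with h5 | h5
          · exact h5
          · rw [h5, h4]
        · refine ⟨hw0, fun x hx => ?_⟩
          obtain ⟨h3, h4⟩ := (memm w).1 hw
          rcases hact x hx w h3 with h5 | h5
          · exact ⟨1, by rw [h5, Units.val_one, one_smul]⟩
          · exact ⟨-1, by rw [h5, h4, Units.val_neg, Units.val_one, neg_smul, one_smul]⟩
      have hS := count (ρ := ρ) H (((Wp : Set V) \ {0}) ∪ ((Wm : Set V) \ {0}))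
        (fun h => (hline 0 h).1 rfl) (by
        intro w hw w' hw' x hx
        exact mem_of_conj hρ hM hn5 (hline w hw).1 (hline w' hw').1 (hline w hw).2 (hline w' hw').2 hx)
      rw [Nat.card_coe_set_eq, Set.ncard_union_eq (by
        rw [Set.disjoint_left]
        rintro w ⟨hw, hw0⟩ ⟨hw', -⟩
        apply hw0
        have h3 : w ∈ Wp ⊓ Wm := ⟨hw, hw'⟩
        rw [hinf] at h3
        exact (Submodule.mem_bot F).1 h3), card0, card0] at hS
      exact hS

end MaxA

end Cfsg.Agent.H952.F4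
end

-- part: H952/F4/Eig
section
prune_inst 0x34206144752200000018059403000024600001020043000008e003020249204229420e410eb0040210220440480000481010043000400000040004000020060900801004b0080100000016000000000000000000000000000000000000000000000400000
set_option linter.all false
open scoped Cfsg.Agent.FastGrp

-- part: H546/F4/Eig
section
/-!
# Eigenspaces of elements of small order (helper546, for S5926, task F-A2 part 1)

`le_mul_ev`, `ev_neg`, `ev_i`, `four`, `eight`, `a4`, `dihedral`, `trace_pow_char`.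
-/

set_option autoImplicit false
set_option linter.unusedSectionVars false

namespace Cfsg.Agent.H546.F4Eig

open Module Cfsg.Agent.H952.F4

variable {K V G : Type*} [Field K] [AddCommGroup V] [Module K V] [FiniteDimensional K V] [Group G]

theorem mem_es {T : V →ₗ[K] V} {μ : K} {v : V} : v ∈ es T μ ↔ T v = μ • v := Module.End.mem_eigenspace_iff

theorem mem_es_one {T : V →ₗ[K] V} {v : V} : v ∈ es T 1 ↔ T v = v := by rw [mem_es, one_smul]

theorem mem_es_neg {T : V →ₗ[K] V} {v : V} : v ∈ es T (-1) ↔ T v = -v := by rw [mem_es, neg_one_smul]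

theorem ev_eq (T : Module.End K V) (μ : K) : ev T μ = finrank K (es T μ) := rfl

/-! ### Unipotent elements -/

theorem finrank_ker_pow_le (N : Module.End K V) (k : ℕ) :
    finrank K (LinearMap.ker (N ^ k)) ≤ k * finrank K (LinearMap.ker N) := by
  induction k with
  | zero =>
    rw [pow_zero, zero_mul]
    have : LinearMap.ker (1 : Module.End K V) = ⊥ := by
      rw [LinearMap.ker_eq_bot']
      intro m hm
      exact hm
    rw [this, finrank_bot]
  | succ k ih =>
    -- the map `N ^ k` from `ker (N ^ (k + 1))` to `ker N`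
    let f : LinearMap.ker (N ^ (k + 1)) →ₗ[K] LinearMap.ker N :=
      LinearMap.codRestrict _ ((N ^ k).domRestrict (LinearMap.ker (N ^ (k + 1)))) (fun x => by
        rw [LinearMap.mem_ker, LinearMap.domRestrict_apply]
        have e : N ((N ^ k) (x : V)) = (N ^ (k + 1)) (x : V) := (LinearMap.congr_fun (pow_succ' N k) _).symm
        rw [e]
        exact x.2)
    have h1 := LinearMap.finrank_range_add_finrank_ker f
    have h2 : finrank K (LinearMap.range f) ≤ finrank K (LinearMap.ker N) := Submodule.finrank_le _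
    have h3 : finrank K (LinearMap.ker f) ≤ finrank K (LinearMap.ker (N ^ k)) := by
      have h4 : (LinearMap.ker f).map (LinearMap.ker (N ^ (k + 1))).subtype ≤ LinearMap.ker (N ^ k) := by
        rintro _ ⟨x, hx, rfl⟩
        have hx' : f x = 0 := hx
        exact congrArg Subtype.val hx'
      have h5 := Submodule.finrank_mono h4
      rwa [Submodule.finrank_map_subtype_eq] at h5
    calc finrank K (LinearMap.ker (N ^ (k + 1))) = finrank K (LinearMap.range f) + finrank K (LinearMap.ker f) := h1.symm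
      _ ≤ finrank K (LinearMap.ker N) + k * finrank K (LinearMap.ker N) := by omega
      _ = (k + 1) * finrank K (LinearMap.ker N) := by ring

theorem le_mul_ev (p : ℕ) [Fact p.Prime] [CharP K p] {T : Module.End K V} (h : T ^ p = 1) :
    finrank K V ≤ p * ev T 1 := by
  rcases subsingleton_or_nontrivial V with hV | hV
  · rw [finrank_zero_of_subsingleton]
    exact Nat.zero_le _
  have hc : CharP (Module.End K V) p := charP_of_injective_algebraMap' K (A := Module.End K V) p
  have h1 : (T - 1) ^ p = 0 := by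
    rw [sub_pow_char_of_commute p (Commute.one_right T), h, one_pow, sub_self]
  have h2 := finrank_ker_pow_le (T - 1) p
  rw [h1] at h2
  have h3 : LinearMap.ker (0 : Module.End K V) = ⊤ := LinearMap.ker_zero
  rw [h3, finrank_top] at h2
  have h4 : LinearMap.ker (T - 1) = es T 1 := by
    ext v
    rw [mem_es_one, LinearMap.mem_ker, LinearMap.sub_apply, sub_eq_zero]
    rfl
  rwa [h4] at h2

/-! ### Involutions -/

/-- the `c`- and `-c`-eigenspaces in an invariant subspace on which `T ^ 2 = c ^ 2` -/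
theorem split_sq (h2 : (2 : K) ≠ 0) {c : K} (hc : c ≠ 0) (T : V →ₗ[K] V) (W : Submodule K V)
    (hW : ∀ v ∈ W, T v ∈ W) (hT : ∀ v ∈ W, T (T v) = (c * c) • v) :
    finrank K W = finrank K ↥(W ⊓ es T c) + finrank K ↥(W ⊓ es T (-c)) := by
  have h1 := Submodule.finrank_sup_add_finrank_inf_eq (W ⊓ es T c) (W ⊓ es T (-c))
  have h3 : W ⊓ es T c ⊓ (W ⊓ es T (-c)) = ⊥ := by
    rw [Submodule.eq_bot_iff]
    rintro v ⟨⟨-, hv1⟩, -, hv2⟩
    rw [SetLike.mem_coe, mem_es] at hv1 hv2
    have h4 : (2 * c) • v = 0 := by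
      have e : c • v = -(c • v) := by
        rw [← neg_smul]
        exact hv1.symm.trans hv2
      rw [two_mul, add_smul]
      exact add_eq_zero_iff_eq_neg.2 e
    exact (smul_eq_zero.1 h4).resolve_left (mul_ne_zero h2 hc)
  have h4 : W ⊓ es T c ⊔ W ⊓ es T (-c) = W := by
    apply le_antisymm (sup_le inf_le_left inf_le_left)
    intro v hv
    have e : v = (2 * c)⁻¹ • (c • v + T v) + (2 * c)⁻¹ • (c • v - T v) := by
      rw [← smul_add]
      have : c • v + T v + (c • v - T v) = (2 * c) • v := by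
        rw [two_mul, add_smul]; abel
      rw [this, smul_smul, inv_mul_cancel₀ (mul_ne_zero h2 hc), one_smul]
    rw [e]
    refine Submodule.add_mem_sup (Submodule.smul_mem _ _ ⟨W.add_mem (W.smul_mem _ hv) (hW v hv), ?_⟩)
      (Submodule.smul_mem _ _ ⟨W.sub_mem (W.smul_mem _ hv) (hW v hv), ?_⟩)
    · rw [SetLike.mem_coe, mem_es, map_add, map_smul, hT v hv, smul_add, smul_smul, add_comm]
    · rw [SetLike.mem_coe, mem_es, map_sub, map_smul, hT v hv, smul_sub, smul_smul, neg_smul, neg_mul, neg_smul]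
      abel
  rw [h3, finrank_bot, add_zero, h4] at h1
  exact h1

theorem ev_sq (h2 : (2 : K) ≠ 0) {c : K} (hc : c ≠ 0) (T : Module.End K V) :
    ev (T * T) (c * c) = ev T c + ev T (-c) := by
  have h1 := split_sq h2 hc T (es (T * T) (c * c)) (fun v hv => ?_) (fun v hv => ?_)
  · have e1 : es (T * T) (c * c) ⊓ es T c = es T c := by
      refine inf_eq_right.2 fun v hv => ?_
      rw [mem_es] at hv ⊢
      show T (T v) = _
      rw [hv, map_smul, hv, smul_smul]
    have e2 : es (T * T) (c * c) ⊓ es T (-c) = es T (-c) := by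
      refine inf_eq_right.2 fun v hv => ?_
      rw [mem_es] at hv ⊢
      show T (T v) = _
      rw [hv, map_smul, hv, smul_smul, neg_mul_neg]
    rw [e1, e2] at h1
    exact h1
  · rw [mem_es] at hv ⊢
    have hv' : T (T v) = (c * c) • v := hv
    show T (T (T v)) = (c * c) • T v
    rw [hv', map_smul]
  · rw [mem_es] at hv
    exact hv

/-- `T ^ 2 = 1` in characteristic not 2, `T ^ 4 = 1` -/
theorem ev_neg (h2 : (2 : K) ≠ 0) (T : Module.End K V) : ev (T * T) 1 = ev T 1 + ev T (-1) := by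
  have h := ev_sq h2 one_ne_zero T
  rwa [one_mul] at h

theorem ev_one_of_eq_one {T : Module.End K V} (h : T = 1) : ev T 1 = finrank K V := by
  rw [ev_eq, h]
  have : es (1 : Module.End K V) 1 = ⊤ := by
    rw [eq_top_iff]
    intro v _
    exact mem_es_one.2 rfl
  rw [this, finrank_top]

theorem ev_i (h2 : (2 : K) ≠ 0) {i : K} (hi : i * i = -1) {T : Module.End K V} (hT : T ^ 4 = 1) :
    finrank K V = ev (T * T) 1 + ev T i + ev T (-i) := by
  have hi0 : i ≠ 0 := by
    rintro rfl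
    rw [mul_zero] at hi
    exact one_ne_zero (neg_eq_zero.1 hi.symm)
  have h1 := ev_sq h2 hi0 T
  rw [hi] at h1
  have h3 := ev_neg h2 (T * T)
  have h4 : T * T * (T * T) = 1 := by rw [← hT]; noncomm_ring
  rw [ev_one_of_eq_one h4] at h3
  omega

/-! ### Elementary abelian 2-groups -/

section rep

variable (ρ : Representation K G V)

theorem rho_sq {a : G} (ha : a * a = 1) (v : V) : ρ a (ρ a v) = v := by
  have h : ρ (a * a) v = v := by rw [ha, map_one]; rfl
  rwa [map_mul] at h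

theorem rho_comm {a b : G} (hab : a * b = b * a) (v : V) : ρ a (ρ b v) = ρ b (ρ a v) := by
  have h : ρ (a * b) v = ρ (b * a) v := by rw [hab]
  rwa [map_mul, map_mul] at h

theorem rho_mul (a b : G) (v : V) : ρ (a * b) v = ρ a (ρ b v) := by
  rw [map_mul]; rfl

/-- an involution on an invariant subspace -/
theorem split_inv (h2 : (2 : K) ≠ 0) {a : G} (ha : a * a = 1) (W : Submodule K V) (hW : ∀ v ∈ W, ρ a v ∈ W) :
    finrank K W = finrank K ↥(W ⊓ es (ρ a) 1) + finrank K ↥(W ⊓ es (ρ a) (-1)) :=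
  split_sq h2 one_ne_zero (ρ a) W hW (fun v _ => by rw [rho_sq ρ ha, one_mul, one_smul])

/-- four-groups on an invariant subspace -/
theorem four_rel (h2 : (2 : K) ≠ 0) {a b : G} (ha : a * a = 1) (hb : b * b = 1)
    (hab : a * b = b * a) (W : Submodule K V) (hWa : ∀ v ∈ W, ρ a v ∈ W) (hWb : ∀ v ∈ W, ρ b v ∈ W) :
    2 * finrank K ↥(W ⊓ es (ρ a) 1 ⊓ es (ρ b) 1) + finrank K W =
      finrank K ↥(W ⊓ es (ρ a) 1) + finrank K ↥(W ⊓ es (ρ b) 1) + finrank K ↥(W ⊓ es (ρ (a * b)) 1) := by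
  have h1 := split_inv ρ h2 ha W hWa
  have h3 := split_inv ρ h2 hb (W ⊓ es (ρ a) 1) (fun v hv => ⟨hWb v hv.1, by
    have h := hv.2
    rw [SetLike.mem_coe, mem_es_one] at h ⊢
    rw [rho_comm ρ hab, h]⟩)
  have h4 := split_inv ρ h2 hb (W ⊓ es (ρ a) (-1)) (fun v hv => ⟨hWb v hv.1, by
    have h := hv.2
    rw [SetLike.mem_coe, mem_es_neg] at h ⊢
    rw [rho_comm ρ hab, h, map_neg]⟩)
  have h5 := split_inv ρ h2 ha (W ⊓ es (ρ b) 1) (fun v hv => ⟨hWa v hv.1, by
    have h := hv.2
    rw [SetLike.mem_coe, mem_es_one] at h ⊢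
    rw [← rho_comm ρ hab, h]⟩)
  have h6 := split_inv ρ h2 ha (W ⊓ es (ρ (a * b)) 1) (fun v hv => ⟨hWa v hv.1, by
    have h := hv.2
    rw [SetLike.mem_coe, mem_es_one] at h ⊢
    rw [rho_mul, ← rho_comm ρ hab, ← rho_mul ρ a b, h]⟩)
  have e1 : W ⊓ es (ρ b) 1 ⊓ es (ρ a) 1 = W ⊓ es (ρ a) 1 ⊓ es (ρ b) 1 := inf_right_comm _ _ _
  have e2 : W ⊓ es (ρ b) 1 ⊓ es (ρ a) (-1) = W ⊓ es (ρ a) (-1) ⊓ es (ρ b) 1 := inf_right_comm _ _ _
  have e3 : W ⊓ es (ρ (a * b)) 1 ⊓ es (ρ a) 1 = W ⊓ es (ρ a) 1 ⊓ es (ρ b) 1 := by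
    ext v
    simp only [Submodule.mem_inf, mem_es_one, rho_mul]
    constructor
    · rintro ⟨⟨h, h'⟩, h''⟩
      rw [rho_comm ρ hab, h''] at h'
      exact ⟨⟨h, h''⟩, h'⟩
    · rintro ⟨⟨h, h'⟩, h''⟩
      exact ⟨⟨h, by rw [h'', h']⟩, h'⟩
  have e4 : W ⊓ es (ρ (a * b)) 1 ⊓ es (ρ a) (-1) = W ⊓ es (ρ a) (-1) ⊓ es (ρ b) (-1) := by
    ext v
    simp only [Submodule.mem_inf, mem_es_one, mem_es_neg, rho_mul]
    constructor
    · rintro ⟨⟨h, h'⟩, h''⟩
      rw [rho_comm ρ hab, h'', map_neg] at h'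
      exact ⟨⟨h, h''⟩, by rw [← h', neg_neg, h']⟩
    · rintro ⟨⟨h, h'⟩, h''⟩
      exact ⟨⟨h, by rw [h'', map_neg, h', neg_neg]⟩, h'⟩
  rw [e1, e2] at h5
  rw [e3, e4] at h6
  omega

end rep

/-- four-groups in characteristic not 2 -/
theorem four (h2 : (2 : K) ≠ 0) (ρ : Representation K G V) {a b : G} (ha : a * a = 1) (hb : b * b = 1)
    (hab : a * b = b * a) :
    2 * finrank K ↥(es (ρ a) 1 ⊓ es (ρ b) 1) + finrank K V =
      ev (ρ a) 1 + ev (ρ b) 1 + ev (ρ (a * b)) 1 := by
  have h := four_rel ρ h2 ha hb hab ⊤ (fun v _ => trivial) (fun v _ => trivial)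
  have e : ∀ X : Submodule K V, ⊤ ⊓ X = X := fun X => top_inf_eq X
  rw [e, e, e, finrank_top] at h
  exact h

/-- elementary abelian groups of order 8 in characteristic not 2 -/
theorem eight (h2 : (2 : K) ≠ 0) (ρ : Representation K G V) {a b c : G} (ha : a * a = 1) (hb : b * b = 1)
    (hc : c * c = 1) (hab : a * b = b * a) (hac : a * c = c * a) (hbc : b * c = c * b) :
    4 * finrank K ↥(es (ρ a) 1 ⊓ es (ρ b) 1 ⊓ es (ρ c) 1) + 3 * finrank K V =
      ev (ρ a) 1 + ev (ρ b) 1 + ev (ρ c) 1 + ev (ρ (a * b)) 1 + ev (ρ (a * c)) 1 + ev (ρ (b * c)) 1 +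
        ev (ρ (a * b * c)) 1 := by
  have hab2 : a * b * (a * b) = 1 := by
    calc a * b * (a * b) = a * (b * a) * b := by group
      _ = a * (a * b) * b := by rw [hab]
      _ = (a * a) * (b * b) := by group
      _ = 1 := by rw [ha, hb, one_mul]
  have habc : a * b * c = c * (a * b) := by rw [mul_assoc, hbc, ← mul_assoc, hac, mul_assoc]
  have h1 := four h2 ρ ha hc hac
  have h3 := four h2 ρ hb hc hbc
  have h4 := four h2 ρ hab2 hc habc
  have h5 := four_rel ρ h2 ha hb hab (es (ρ c) 1) (fun v hv => by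
    rw [mem_es_one] at hv ⊢
    rw [← rho_comm ρ hac, hv]) (fun v hv => by
    rw [mem_es_one] at hv ⊢
    rw [← rho_comm ρ hbc, hv])
  have e1 : es (ρ c) 1 ⊓ es (ρ a) 1 ⊓ es (ρ b) 1 = es (ρ a) 1 ⊓ es (ρ b) 1 ⊓ es (ρ c) 1 := by
    rw [inf_comm (es (ρ c) 1), inf_right_comm]
  rw [e1, inf_comm (es (ρ c) 1), inf_comm (es (ρ c) 1), inf_comm (es (ρ c) 1), ← ev_eq] at h5
  omega

/-! ### `A₄` -/

/-- `A₄`: the element `t` of order 3 permutes `a, b, ab` -/
theorem a4 (h2 : (2 : K) ≠ 0) (ρ : Representation K G V) {a b t : G} (ha : a * a = 1) (hb : b * b = 1)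
    (hab : a * b = b * a) (ht : t ^ 3 = 1) (hta : t * a * t⁻¹ = b) (htb : t * b * t⁻¹ = a * b) :
    3 * ev (ρ t) 1 + finrank K ↥(es (ρ a) 1 ⊓ es (ρ b) 1) =
      3 * finrank K ↥(es (ρ a) 1 ⊓ es (ρ b) 1 ⊓ es (ρ t) 1) + finrank K V := by
  -- the action of `t`
  have t1 : t * a = b * t := by rw [← hta]; group
  have t2 : t * b = a * b * t := by rw [← htb]; group
  have t3 : t * (a * b) = a * t := by
    calc t * (a * b) = (t * a) * b := by group
      _ = b * (t * b) := by rw [t1]; group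
      _ = b * (a * b) * t := by rw [t2]; group
      _ = (b * a) * b * t := by group
      _ = a * (b * b) * t := by rw [← hab]; group
      _ = a * t := by rw [hb, mul_one]
  have r1 : ∀ v, ρ t (ρ a v) = ρ b (ρ t v) := fun v => by rw [← rho_mul, t1, rho_mul]
  have r2 : ∀ v, ρ t (ρ b v) = ρ a (ρ b (ρ t v)) := fun v => by rw [← rho_mul, t2, rho_mul, rho_mul]
  have r3 : ∀ v, ρ t (ρ a (ρ b v)) = ρ a (ρ t v) := fun v => by rw [← rho_mul ρ a b, ← rho_mul, t3, rho_mul]
  have rt : ∀ v, ρ t (ρ t (ρ t v)) = v := fun v => by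
    rw [← rho_mul, ← rho_mul, ← pow_three', ht, map_one]
    rfl
  have ra : ∀ v, ρ a (ρ a v) = v := rho_sq ρ ha
  have rb : ∀ v, ρ b (ρ b v) = v := rho_sq ρ hb
  have rab : ∀ v, ρ a (ρ b v) = ρ b (ρ a v) := rho_comm ρ hab
  have r1' : ∀ v, ρ b v = ρ t (ρ a (ρ t (ρ t v))) := fun v => by rw [r1, rt]
  -- the eigenspaces of `a`, `b`, `ab` have the same dimension
  have inj : ∀ {x y : G}, t * x = y * t → ev (ρ x) 1 ≤ ev (ρ y) 1 := by
    intro x y hxy
    have hinj : Function.Injective (ρ t) := by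
      intro v w hvw
      rw [← rt v, hvw, rt]
    rw [ev_eq, ev_eq, (Submodule.equivMapOfInjective (ρ t) hinj (es (ρ x) 1)).finrank_eq]
    apply Submodule.finrank_mono
    rintro _ ⟨v, hv, rfl⟩
    rw [SetLike.mem_coe, mem_es_one] at hv
    rw [mem_es_one, ← rho_mul, ← hxy, rho_mul, hv]
  have i1 := inj t1
  have i2 := inj t2
  have i3 := inj t3
  have h4 := four h2 ρ ha hb hab
  -- the map `Q = (1 + a)(1 - b)`
  let Q : V →ₗ[K] V := (1 + ρ a) * (1 - ρ b)
  have hQ : ∀ v, Q v = v - ρ b v + ρ a (v - ρ b v) := fun v => rfl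
  let f : es (ρ t) 1 →ₗ[K] V := Q.domRestrict (es (ρ t) 1)
  have hr := LinearMap.finrank_range_add_finrank_ker f
  -- the kernel
  have hker : finrank K (LinearMap.ker f) = finrank K ↥(es (ρ a) 1 ⊓ es (ρ b) 1 ⊓ es (ρ t) 1) := by
    have e : (LinearMap.ker f).map (es (ρ t) 1).subtype = es (ρ a) 1 ⊓ es (ρ b) 1 ⊓ es (ρ t) 1 := by
      apply le_antisymm
      · rintro _ ⟨⟨v, hv⟩, hv0, rfl⟩
        have hv1 := hv
        rw [mem_es_one] at hv1
        have hQ0 : v - ρ b v + ρ a (v - ρ b v) = 0 := hv0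
        rw [map_sub] at hQ0
        -- apply `t`
        have hQ1 := congrArg (ρ t) hQ0
        rw [map_add, map_sub, map_sub, r3, r2, r1, hv1, map_zero] at hQ1
        have hQ2 := congrArg (ρ t) hQ1
        rw [map_add, map_sub, map_sub, r3, r2, r1, hv1, map_zero] at hQ2
        have k1 : (2 : K) • (v - ρ a (ρ b v)) = 0 := by
          have e := congrArg₂ (fun x y : V => x + y) hQ0 hQ1
          simp only [add_zero] at e
          rw [two_smul, ← e]
          abel
        have k2 : (2 : K) • (v - ρ b v) = 0 := by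
          have e := congrArg₂ (fun x y : V => x + y) hQ0 hQ2
          simp only [add_zero] at e
          rw [two_smul, ← e]
          abel
        have k3 := sub_eq_zero.1 ((smul_eq_zero.1 k2).resolve_left h2)
        have k4 := sub_eq_zero.1 ((smul_eq_zero.1 k1).resolve_left h2)
        rw [← k3] at k4
        exact ⟨⟨mem_es_one.2 k4.symm, mem_es_one.2 k3.symm⟩, hv⟩
      · rintro v ⟨⟨hva, hvb⟩, hvt⟩
        refine ⟨⟨v, hvt⟩, ?_, rfl⟩
        rw [SetLike.mem_coe, mem_es_one] at hva hvb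
        show v - ρ b v + ρ a (v - ρ b v) = 0
        rw [hvb, sub_self, map_zero, add_zero]
    rw [← e, Submodule.finrank_map_subtype_eq]
  -- the range
  have hran : LinearMap.range f = es (ρ a) 1 ⊓ es (ρ b) (-1) := by
    apply le_antisymm
    · rintro _ ⟨v, rfl⟩
      have hfv : f v = (v : V) - ρ b v + ρ a ((v : V) - ρ b v) := rfl
      rw [hfv]
      refine ⟨?_, ?_⟩
      · rw [SetLike.mem_coe, mem_es_one, map_add, ra, add_comm]
      · rw [SetLike.mem_coe, mem_es_neg]
        simp only [map_add, map_sub, ← rab, rb]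
        abel
    · rintro u ⟨hua, hub⟩
      rw [SetLike.mem_coe, mem_es_one] at hua
      rw [SetLike.mem_coe, mem_es_neg] at hub
      -- `w = u + t u + t² u`
      have hw : u + ρ t u + ρ t (ρ t u) ∈ es (ρ t) 1 := by
        rw [mem_es_one, map_add, map_add, rt]
        abel
      have a1 : ρ b (ρ t u) = ρ t u := by rw [← r1, hua]
      have a2 : ρ a (ρ t u) = -ρ t u := by rw [← r3, hub, map_neg, hua, map_neg]
      have a3 : ρ b (ρ t (ρ t u)) = -ρ t (ρ t u) := by rw [← r1, a2, map_neg]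
      have a4 : ρ a (ρ t (ρ t u)) = -ρ t (ρ t u) := by rw [← r3, a1, a2, map_neg]
      refine ⟨((2 : K) * 2)⁻¹ • ⟨_, hw⟩, ?_⟩
      rw [map_smul]
      have e : f ⟨_, hw⟩ = ((2 : K) * 2) • u := by
        show u + ρ t u + ρ t (ρ t u) - ρ b (u + ρ t u + ρ t (ρ t u)) +
          ρ a (u + ρ t u + ρ t (ρ t u) - ρ b (u + ρ t u + ρ t (ρ t u))) = _
        simp only [map_add, map_sub, map_neg, hub, a1, a3, hua, a2, a4, mul_smul, two_smul]
        abel
      rw [e, smul_smul, inv_mul_cancel₀ (mul_ne_zero h2 h2), one_smul]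
  have h5 := split_inv ρ h2 hb (es (ρ a) 1) (fun v hv => by
    rw [mem_es_one] at hv ⊢
    rw [rab, hv])
  rw [hker, hran] at hr
  have e1 : finrank K (es (ρ t) 1) = ev (ρ t) 1 := rfl
  have e2 : finrank K (es (ρ a) 1) = ev (ρ a) 1 := rfl
  omega

/-! ### Dihedral groups -/

/-- dihedral groups of twice odd order, any field of characteristic not 2 -/
theorem dihedral (h2 : (2 : K) ≠ 0) (ρ : Representation K G V) {z s : G} {m : ℕ} (hm : Odd m) (hmK : (m : K) ≠ 0)
    (hz : z ^ m = 1) (hs : s * s = 1) (hsz : s * z * s⁻¹ = z⁻¹) {μ : K} (hμ : μ = 1 ∨ μ = -1) :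
    2 * finrank K ↥(es (ρ z) 1 ⊓ es (ρ s) μ) + finrank K V = 2 * ev (ρ s) μ + ev (ρ z) 1 := by
  have sz : s * z = z⁻¹ * s := by rw [← hsz]; group
  have r1 : ∀ v, ρ s (ρ z v) = ρ z⁻¹ (ρ s v) := fun v => by rw [← rho_mul, sz, rho_mul]
  have sz' : s * z⁻¹ = z * s := by
    calc s * z⁻¹ = z * (z⁻¹ * s) * z⁻¹ := by group
      _ = z * s := by rw [← sz]; group
  have r2 : ∀ v, ρ s (ρ z⁻¹ v) = ρ z (ρ s v) := fun v => by rw [← rho_mul, sz', rho_mul]
  have rz : ∀ v, ρ z (ρ z⁻¹ v) = v := fun v => by rw [← rho_mul, mul_inv_cancel, map_one]; rfl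
  have rz' : ∀ v, ρ z⁻¹ (ρ z v) = v := fun v => by rw [← rho_mul, inv_mul_cancel, map_one]; rfl
  have rs : ∀ v, ρ s (ρ s v) = v := rho_sq ρ hs
  let D : V →ₗ[K] V := ρ z - 1
  let U : Submodule K V := LinearMap.range D
  have hD : ∀ v, D v = ρ z v - v := fun v => rfl
  have hK : LinearMap.ker D = es (ρ z) 1 := by
    ext v
    rw [LinearMap.mem_ker, hD, sub_eq_zero, mem_es_one]
  have hrk := LinearMap.finrank_range_add_finrank_ker D
  rw [hK] at hrk
  -- `K ∩ U = 0`
  have hpow : ∀ (n : ℕ) (v : V), ρ z v = v → ρ (z ^ n) v = v := by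
    intro n v hv
    induction n with
    | zero => rw [pow_zero, map_one]; rfl
    | succ n ih => rw [pow_succ, rho_mul, hv, ih]
  have hsum : ∀ (n : ℕ) (v : V), ∑ i ∈ Finset.range n, ρ (z ^ i) (ρ z v - v) = ρ (z ^ n) v - v := by
    intro n v
    induction n with
    | zero => simp
    | succ n ih =>
      rw [Finset.sum_range_succ, ih, map_sub, ← rho_mul ρ (z ^ n) z, ← pow_succ]
      abel
  have hKU : ∀ v, v ∈ es (ρ z) 1 → v ∈ U → v = 0 := by
    rintro _ hv ⟨w, rfl⟩
    rw [mem_es_one] at hv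
    have h1 := hsum m w
    rw [hz, map_one, Module.End.one_apply, sub_self] at h1
    have h3 : ∑ i ∈ Finset.range m, ρ (z ^ i) (ρ z w - w) = (m : K) • D w := by
      have h4 : ∑ i ∈ Finset.range m, ρ (z ^ i) (ρ z w - w) = ∑ i ∈ Finset.range m, D w :=
        Finset.sum_congr rfl fun i _ => hpow i _ hv
      rw [h4, Finset.sum_const, Finset.card_range, Nat.cast_smul_eq_nsmul]
    rw [h3] at h1
    exact (smul_eq_zero.1 h1).resolve_left hmK
  -- `s` acts on `U` and on `K`
  have hsU : ∀ v ∈ U, ρ s v ∈ U := by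
    rintro _ ⟨w, rfl⟩
    refine ⟨-(ρ z⁻¹ (ρ s w)), ?_⟩
    rw [hD, hD, map_sub, map_neg, r1, rz]
    abel
  have hsK : ∀ v ∈ es (ρ z) 1, ρ s v ∈ es (ρ z) 1 := by
    intro v hv
    rw [mem_es_one] at hv ⊢
    rw [← r2]
    congr 1
    nth_rw 1 [← hv]
    rw [rz']
  have hzU : ∀ v ∈ U, ρ z v ∈ U := by
    rintro _ ⟨w, rfl⟩
    exact ⟨ρ z w, by rw [hD, hD, map_sub]⟩
  have hzU' : ∀ v ∈ U, ρ z⁻¹ v ∈ U := by
    rintro _ ⟨w, rfl⟩
    exact ⟨ρ z⁻¹ w, by rw [hD, hD, map_sub, rz, rz']⟩
  -- the map `z - z⁻¹` is injective on `U`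
  let E : V →ₗ[K] V := ρ z - ρ z⁻¹
  have hE : ∀ v, E v = ρ z v - ρ z⁻¹ v := fun v => rfl
  have hEinj : ∀ v ∈ U, E v = 0 → v = 0 := by
    intro v hv h0
    apply hKU v _ hv
    rw [mem_es_one]
    rw [hE, sub_eq_zero] at h0
    -- `z ^ 2` fixes `v`
    have h1 : ρ (z ^ 2) v = v := by rw [pow_two, rho_mul, h0, rz]
    have h3 : ∀ n : ℕ, ρ (z ^ (2 * n)) v = v := by
      intro n
      induction n with
      | zero => rw [mul_zero, pow_zero, map_one]; rfl
      | succ n ih => rw [mul_add, mul_one, pow_add, rho_mul, h1, ih]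
    obtain ⟨n, hn⟩ := hm
    have h4 : ρ (z ^ (m + 1)) v = v := by
      rw [show m + 1 = 2 * (n + 1) by omega]
      exact h3 _
    rwa [pow_succ, hz, one_mul] at h4
  have hEs : ∀ v, ρ s (E v) = -E (ρ s v) := by
    intro v
    rw [hE, hE, map_sub, r1, r2]
    abel
  have key : ∀ c : K, finrank K ↥(U ⊓ es (ρ s) c) ≤ finrank K ↥(U ⊓ es (ρ s) (-c)) := by
    intro c
    let g : ↥(U ⊓ es (ρ s) c) →ₗ[K] ↥(U ⊓ es (ρ s) (-c)) :=
      LinearMap.codRestrict _ (E.domRestrict (U ⊓ es (ρ s) c)) (fun v => by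
        have h1 := v.2.2
        rw [SetLike.mem_coe, mem_es] at h1
        refine ⟨?_, ?_⟩
        · rw [SetLike.mem_coe, LinearMap.domRestrict_apply, hE]
          exact U.sub_mem (hzU _ v.2.1) (hzU' _ v.2.1)
        · rw [SetLike.mem_coe, LinearMap.domRestrict_apply, mem_es, hEs, h1, map_smul, neg_smul])
    apply LinearMap.finrank_le_finrank_of_injective (f := g)
    rw [← LinearMap.ker_eq_bot, LinearMap.ker_eq_bot']
    intro v hv
    have h1 : E (v : V) = 0 := congrArg Subtype.val hv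
    exact Subtype.ext (hEinj v v.2.1 h1)
  have k1 := key 1
  have k2 := key (-1)
  rw [neg_neg] at k2
  have s1 := split_inv ρ h2 hs U hsU
  have s2 := split_inv ρ h2 hs (es (ρ z) 1) hsK
  have s3 := split_inv ρ h2 hs ⊤ (fun _ _ => trivial)
  have e : ∀ X : Submodule K V, ⊤ ⊓ X = X := fun X => top_inf_eq X
  rw [e, e, finrank_top] at s3
  have low : ∀ c : K, finrank K ↥(es (ρ z) 1 ⊓ es (ρ s) c) + finrank K ↥(U ⊓ es (ρ s) c) ≤ finrank K ↥(es (ρ s) c) := by
    intro c
    have h1 := Submodule.finrank_sup_add_finrank_inf_eq (es (ρ z) 1 ⊓ es (ρ s) c) (U ⊓ es (ρ s) c)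
    have h3 : es (ρ z) 1 ⊓ es (ρ s) c ⊓ (U ⊓ es (ρ s) c) = ⊥ := by
      rw [Submodule.eq_bot_iff]
      rintro v ⟨⟨hv1, -⟩, hv2, -⟩
      exact hKU v hv1 hv2
    rw [h3, finrank_bot, add_zero] at h1
    rw [← h1]
    exact Submodule.finrank_mono (sup_le inf_le_right inf_le_right)
  have l1 := low 1
  have l2 := low (-1)
  have hUr : finrank K U = finrank K (LinearMap.range D) := rfl
  have e1 : ∀ c : K, ev (ρ s) c = finrank K (es (ρ s) c) := fun c => rfl
  have e2 : ev (ρ z) 1 = finrank K (es (ρ z) 1) := rfl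
  rcases hμ with rfl | rfl
  · rw [e1, e2]; omega
  · rw [e1, e2]; omega

/-! ### Traces of `p`-th powers -/

open Polynomial in
theorem expand_charpoly (p : ℕ) [Fact p.Prime] [CharP K p] {n : Type*} [Fintype n] [DecidableEq n]
    (M : Matrix n n K) : Polynomial.expand K p (M ^ p).charpoly = M.charpoly ^ p := by
  cases (isEmpty_or_nonempty n).symm
  · unfold Matrix.charpoly
    rw [AlgHom.map_det, ← Matrix.coe_detMonoidHom,
      ← (Matrix.detMonoidHom : Matrix n n K[X] →* K[X]).map_pow]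
    apply congr_arg Matrix.det
    refine matPolyEquiv.injective ?_
    rw [map_pow, Matrix.matPolyEquiv_charmatrix, sub_pow_char_of_commute p (Polynomial.C M).commute_X, ← Polynomial.C_pow]
    exact (id (matPolyEquiv_eq_X_pow_sub_C p M) :)
  · simp [Matrix.charpoly]

/-- traces of `p`-th powers in characteristic `p` -/
theorem trace_pow_char (p : ℕ) [Fact p.Prime] [CharP K p] (T : Module.End K V) :
    LinearMap.trace K V (T ^ p) = LinearMap.trace K V T ^ p := by
  classical
  have hp : p.Prime := Fact.out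
  let b := Module.finBasis K V
  rw [LinearMap.trace_eq_matrix_trace K b, LinearMap.trace_eq_matrix_trace K b, ← LinearMap.toMatrix_pow]
  set M := LinearMap.toMatrix b b T
  rcases isEmpty_or_nonempty (Fin (finrank K V)) with hE | hN
  · simp [Matrix.trace, hp.ne_zero]
  · have h1 := expand_charpoly p M
    have h3 : Polynomial.expand K p (M ^ p).charpoly =
        Polynomial.expand K p (M.charpoly.map (frobenius K p)) := by
      rw [h1, ← Polynomial.map_expand, Polynomial.map_frobenius_expand]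
    have h4 := Polynomial.expand_injective hp.pos h3
    rw [Matrix.trace_eq_neg_charpoly_coeff, Matrix.trace_eq_neg_charpoly_coeff, h4, Polynomial.coeff_map,
      ← map_neg]
    rfl

end Cfsg.Agent.H546.F4Eig

/-! ### The statements of the plan -/

namespace Cfsg.Agent.H952.F4.Eig

open Module
variable {K V G : Type*} [Field K] [AddCommGroup V] [Module K V] [FiniteDimensional K V] [Group G]

theorem le_mul_ev (p : ℕ) [Fact p.Prime] [CharP K p] {T : Module.End K V} (h : T ^ p = 1) :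
    finrank K V ≤ p * ev T 1 := Cfsg.Agent.H546.F4Eig.le_mul_ev p h

theorem ev_neg (h2 : (2 : K) ≠ 0) (T : Module.End K V) : ev (T * T) 1 = ev T 1 + ev T (-1) := Cfsg.Agent.H546.F4Eig.ev_neg h2 T

theorem ev_i (h2 : (2 : K) ≠ 0) {i : K} (hi : i * i = -1) {T : Module.End K V} (hT : T ^ 4 = 1) :
    finrank K V = ev (T * T) 1 + ev T i + ev T (-i) := Cfsg.Agent.H546.F4Eig.ev_i h2 hi hT

theorem four (h2 : (2 : K) ≠ 0) (ρ : Representation K G V) {a b : G} (ha : a * a = 1) (hb : b * b = 1)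
    (hab : a * b = b * a) :
    2 * finrank K ↥(es (ρ a) 1 ⊓ es (ρ b) 1) + finrank K V =
      ev (ρ a) 1 + ev (ρ b) 1 + ev (ρ (a * b)) 1 := Cfsg.Agent.H546.F4Eig.four h2 ρ ha hb hab

theorem a4 (h2 : (2 : K) ≠ 0) (ρ : Representation K G V) {a b t : G} (ha : a * a = 1) (hb : b * b = 1)
    (hab : a * b = b * a) (ht : t ^ 3 = 1) (hta : t * a * t⁻¹ = b) (htb : t * b * t⁻¹ = a * b) :
    3 * ev (ρ t) 1 + finrank K ↥(es (ρ a) 1 ⊓ es (ρ b) 1) =
      3 * finrank K ↥(es (ρ a) 1 ⊓ es (ρ b) 1 ⊓ es (ρ t) 1) + finrank K V := Cfsg.Agent.H546.F4Eig.a4 h2 ρ ha hb hab ht hta htb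

theorem eight (h2 : (2 : K) ≠ 0) (ρ : Representation K G V) {a b c : G} (ha : a * a = 1) (hb : b * b = 1)
    (hc : c * c = 1) (hab : a * b = b * a) (hac : a * c = c * a) (hbc : b * c = c * b) :
    4 * finrank K ↥(es (ρ a) 1 ⊓ es (ρ b) 1 ⊓ es (ρ c) 1) + 3 * finrank K V =
      ev (ρ a) 1 + ev (ρ b) 1 + ev (ρ c) 1 + ev (ρ (a * b)) 1 + ev (ρ (a * c)) 1 + ev (ρ (b * c)) 1 +
        ev (ρ (a * b * c)) 1 := Cfsg.Agent.H546.F4Eig.eight h2 ρ ha hb hc hab hac hbc

theorem dihedral (h2 : (2 : K) ≠ 0) (ρ : Representation K G V) {z s : G} {m : ℕ} (hm : Odd m) (hmK : (m : K) ≠ 0)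
    (hz : z ^ m = 1) (hs : s * s = 1) (hsz : s * z * s⁻¹ = z⁻¹) {μ : K} (hμ : μ = 1 ∨ μ = -1) :
    2 * finrank K ↥(es (ρ z) 1 ⊓ es (ρ s) μ) + finrank K V = 2 * ev (ρ s) μ + ev (ρ z) 1 := Cfsg.Agent.H546.F4Eig.dihedral h2 ρ hm hmK hz hs hsz hμ

theorem trace_pow_char (p : ℕ) [Fact p.Prime] [CharP K p] (T : Module.End K V) :
    LinearMap.trace K V (T ^ p) = LinearMap.trace K V T ^ p := Cfsg.Agent.H546.F4Eig.trace_pow_char p T

end Cfsg.Agent.H952.F4.Eig
end

-- part: H952/F4/Eig
section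
/-! Umbrella: all statements of the namespace `Cfsg.Agent.H952.F4.Eig`. -/
end
end

-- part: H952/F4/Gen
section
set_option linter.all false
open scoped Cfsg.Agent.FastGrp

/-!
# S5926, F-A5: generating pairs of small alternating groups with given cycle types (helper870)

`x, y` were found by computer; the words `W k` in `x, x⁻¹, y, y⁻¹` give the 3-cycles `(0 1)(0 k)`.
-/

set_option autoImplicit false

namespace Cfsg.Agent.H952.F4.Gen

open Equiv Equiv.Perm

/-- The 3-cycles `(0 1)(0 k)` generate the alternating group. -/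
theorem mem_of_star {n : ℕ} (H : Subgroup (Perm (Fin (n + 2)))) (hH : H ≤ alternatingGroup (Fin (n + 2)))
    (h : ∀ k : Fin (n + 2), k ≠ 0 → swap 0 1 * swap 0 k ∈ H) {σ : Perm (Fin (n + 2))}
    (hσ : σ ∈ alternatingGroup (Fin (n + 2))) : σ ∈ H := by
  have h' : ∀ k : Fin (n + 2), k ≠ 0 → swap 0 k * swap 0 1 ∈ H := by
    intro k hk
    have := H.inv_mem (h k hk)
    rwa [mul_inv_rev, swap_inv, swap_inv] at this
  -- the property is preserved by the star transpositions
  have star : ∀ k : Fin (n + 2), k ≠ 0 → ∀ τ : Perm (Fin (n + 2)), (τ ∈ H ∨ swap 0 1 * τ ∈ H) →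
      (swap 0 k * τ ∈ H ∨ swap 0 1 * (swap 0 k * τ) ∈ H) := by
    rintro k hk τ (hτ | hτ)
    · right
      rw [← mul_assoc]
      exact H.mul_mem (h k hk) hτ
    · left
      have h1 := H.mul_mem (h' k hk) hτ
      rwa [mul_assoc, ← mul_assoc (swap 0 1) (swap 0 1), swap_mul_self, one_mul] at h1
  have gen : ∀ τ : Perm (Fin (n + 2)), τ ∈ H ∨ swap 0 1 * τ ∈ H := by
    intro τ
    induction τ using Equiv.Perm.swap_induction_on with
    | one => exact Or.inl H.one_mem
    | swap_mul f x y hxy ih =>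
      by_cases hx : x = 0
      · subst hx
        exact star y hxy.symm f ih
      · by_cases hy : y = 0
        · subst hy
          rw [swap_comm]
          exact star x hx f ih
        · have e : (swap x y : Perm (Fin (n + 2))) = swap 0 x * swap 0 y * swap 0 x := by
            have h1 := swap_mul_swap_mul_swap (x := y) (y := (0 : Fin (n + 2))) (z := x) (by exact hy)
              (by exact fun h => hxy h.symm)
            rw [swap_comm y 0] at h1
            exact h1.symm
          rw [e, mul_assoc, mul_assoc]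
          exact star x hx _ (star y hy _ (star x hx f ih))
  rcases gen σ with h1 | h1
  · exact h1
  · exfalso
    have h2 := hH h1
    rw [mem_alternatingGroup] at h2 hσ
    rw [Equiv.Perm.sign_mul, hσ, mul_one, sign_swap (by simp)] at h2
    exact absurd h2 (by decide)

/-- evaluation of words -/
def ev {n : ℕ} (x y : Perm (Fin n)) (l : List (Fin 4)) : Perm (Fin n) :=
  (l.map fun i => (![x, x⁻¹, y, y⁻¹] : Fin 4 → Perm (Fin n)) i).prod

theorem ev_mem {n : ℕ} {x y : Perm (Fin n)} {H : Subgroup (Perm (Fin n))} (hx : x ∈ H) (hy : y ∈ H)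
    (l : List (Fin 4)) : ev x y l ∈ H := by
  refine H.list_prod_mem ?_
  intro z hz
  obtain ⟨i, -, rfl⟩ := List.mem_map.1 hz
  fin_cases i
  · exact hx
  · exact H.inv_mem hx
  · exact hy
  · exact H.inv_mem hy

theorem genT_of {n : ℕ} {a b c : Multiset ℕ} (x y : Perm (Fin (n + 2))) (hx : sign x = 1) (hy : sign y = 1)
    (W : Fin (n + 2) → List (Fin 4)) (hW : ∀ k, k ≠ 0 → ev x y (W k) = swap 0 1 * swap 0 k)
    (ha : x.cycleType = a) (hb : y.cycleType = b) (hc : (x * y).cycleType = c) : GenT (n + 2) a b c := by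
  refine ⟨⟨x, mem_alternatingGroup.2 hx⟩, ⟨y, mem_alternatingGroup.2 hy⟩, ?_, ha, hb, hc⟩
  rw [eq_top_iff]
  intro σ _
  have h1 : (σ : Perm (Fin (n + 2))) ∈ Subgroup.closure {x, y} := by
    refine mem_of_star _ ?_ ?_ σ.2
    · rw [Subgroup.closure_le]
      rintro z (rfl | rfl)
      · exact mem_alternatingGroup.2 hx
      · exact mem_alternatingGroup.2 hy
    · intro k hk
      rw [← hW k hk]
      exact ev_mem (Subgroup.subset_closure (by simp)) (Subgroup.subset_closure (by simp)) _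
  have h2 : (Subgroup.closure {(⟨x, mem_alternatingGroup.2 hx⟩ : ↥(alternatingGroup (Fin (n + 2)))),
      ⟨y, mem_alternatingGroup.2 hy⟩}).map (alternatingGroup (Fin (n + 2))).subtype = Subgroup.closure {x, y} := by
    rw [MonoidHom.map_closure, Set.image_pair]
    rfl
  rw [← h2] at h1
  obtain ⟨τ, hτ, h3⟩ := h1
  rwa [← Subtype.ext h3]

theorem gen5 : GenT 5 {2, 2} {3} {5} :=
  genT_of (n := 3) (c[0, 4] * c[1, 2]) (c[2, 3, 4]) (by decide +kernel) (by decide +kernel)
    ![[], [], [3, 0, 3, 0, 2], [0, 3, 0], [2, 0, 3, 0, 3]]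
    (by decide +kernel) (by decide +kernel) (by decide +kernel) (by decide +kernel)

theorem gen6a : GenT 6 {2, 2} {5} {5} :=
  genT_of (n := 4) (c[0, 3] * c[4, 5]) (c[0, 3, 1, 2, 5]) (by decide +kernel) (by decide +kernel)
    ![[],
    [],
    [2, 0, 3, 0, 2, 2, 0],
    [2, 2, 0, 2, 0, 3, 0, 2],
    [3, 0, 2, 2, 0, 2, 0],
    [2, 0, 3, 3, 0, 2, 0, 2]]
    (by decide +kernel) (by decide +kernel) (by decide +kernel) (by decide +kernel)

theorem gen6b : GenT 6 {3} {3, 3} {5} :=
  genT_of (n := 4) (c[3, 5, 4]) (c[0, 5, 3] * c[1, 4, 2]) (by decide +kernel) (by decide +kernel)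
    ![[], [], [3, 1, 2, 0, 2, 1, 3, 1], [1, 3, 1, 2, 0], [0, 3, 1, 2, 1], [3, 1, 2]]
    (by decide +kernel) (by decide +kernel) (by decide +kernel) (by decide +kernel)

theorem gen7 : GenT 7 {2, 2} {5} {7} :=
  genT_of (n := 5) (c[0, 3] * c[1, 5]) (c[2, 5, 6, 4, 3]) (by decide +kernel) (by decide +kernel)
    ![[],
    [],
    [3, 0, 2, 0, 2, 0, 2, 0, 3],
    [2, 2, 0, 3, 0, 3, 0, 3],
    [2, 0, 3, 0, 3, 0],
    [3, 0, 3, 0, 3, 0, 2, 2],
    [0, 3, 0, 3, 0, 2]]
    (by decide +kernel) (by decide +kernel) (by decide +kernel) (by decide +kernel)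

theorem gen8 : GenT 8 {2, 2} {7} {7} :=
  genT_of (n := 6) (c[0, 6] * c[3, 4]) (c[0, 3, 4, 1, 2, 5, 7]) (by decide +kernel) (by decide +kernel)
    ![[],
    [],
    [2, 2, 0, 3, 3, 0, 2, 0, 3, 0, 2, 0, 3, 0],
    [3, 0, 2, 0, 3, 0, 2, 2, 0, 3, 3, 0, 2, 0],
    [2, 2, 0, 3, 3, 0, 2, 2, 0, 3, 0, 3],
    [0, 2, 0, 2, 0, 2, 2, 0, 2, 2, 2, 0, 3],
    [3, 0, 2, 0, 2, 0, 3, 0, 3, 0, 2, 0],
    [0, 2, 0, 3, 0, 2, 0, 3, 3, 0, 2, 0]]
    (by decide +kernel) (by decide +kernel) (by decide +kernel) (by decide +kernel)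

theorem gen9 : GenT 9 {2, 2, 2, 2} {7} {7} :=
  genT_of (n := 7) (c[0, 5] * c[1, 7] * c[2, 8] * c[4, 6]) (c[0, 3, 6, 4, 1, 2, 8]) (by decide +kernel) (by decide +kernel)
    ![[],
    [],
    [2, 0, 2, 0, 3, 0, 3, 3, 0, 2],
    [2, 0, 2, 2, 0, 3, 0, 2, 0, 2, 0, 3, 3, 0, 2, 2, 2],
    [3, 3, 3, 0, 2, 2, 0, 3, 0, 2, 0, 2, 0, 3, 3, 0],
    [0, 2, 0, 2, 0, 2, 0, 3, 0, 3, 3, 0, 2, 0, 3, 0],
    [2, 0, 2, 2, 2, 0, 3, 0, 2, 0, 2, 0, 3, 3, 0, 2, 2, 0],
    [2, 2, 2, 0, 3, 0, 3, 3, 0, 2, 2, 0, 3, 3],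
    [0, 3, 0, 2, 0, 2, 0, 3, 0, 3, 3, 0, 2, 0, 2, 0]]
    (by decide +kernel) (by decide +kernel) (by decide +kernel) (by decide +kernel)

theorem gen10 : GenT 10 {2, 2, 2, 2} {7} {5, 5} :=
  genT_of (n := 8) (c[0, 5] * c[2, 7] * c[3, 8] * c[4, 9]) (c[1, 6, 5, 7, 9, 8, 2]) (by decide +kernel) (by decide +kernel)
    ![[],
    [],
    [0, 2, 2, 2, 0, 2, 2, 0, 2, 2, 2, 0, 3, 0, 2, 2, 0, 3, 0],
    [0, 3, 0, 2, 2, 2, 0, 3, 0, 2, 0, 3, 0, 2, 0, 3, 0, 2, 0, 3, 3, 0],
    [3, 3, 0, 3, 0, 2, 0, 3, 3, 3, 0, 3, 3, 0, 3, 3, 0, 3, 0, 2, 2],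
    [3, 0, 2, 2, 0, 2, 2, 0, 2, 2, 2, 0, 3, 0, 2, 2, 2],
    [2, 0, 2, 0, 3, 3, 0, 2, 0, 3, 3, 3, 0, 3, 3, 0, 3, 3, 3, 0, 3],
    [0, 2, 0, 3, 0, 3, 0, 2, 0, 2, 2, 0, 2, 2, 0, 3, 0, 3, 0, 2, 2],
    [2, 2, 0, 2, 0, 3, 3, 3, 0, 3, 3, 0, 3, 3, 0, 2, 2, 2],
    [3, 3, 0, 3, 0, 2, 0, 2, 2, 2, 0, 3, 0, 2, 2, 0, 2, 0, 3, 0, 2]]
    (by decide +kernel) (by decide +kernel) (by decide +kernel) (by decide +kernel)

end Cfsg.Agent.H952.F4.Gen
end

-- part: H163/E6/Two
section
prune_inst 0x350065445562000000188586110020244400059200600000d8a00244024bb3622901294104b01c06122aae406008006811100470425000000e00040000200629808842063340a104240017800084000000000000000000000000000000041004000400000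
set_option linter.all false
open scoped Cfsg.Agent.FastGrp

/-!
# Homomorphisms of covers of alternating groups to `GL₂` are trivial (helper163)
-/

set_option autoImplicit false

namespace Cfsg.Agent.H163.E6.Two

open Equiv

universe u v

section
variable {F : Type u} [Field F]

/-- `x² = 1` and `det x = 1` imply `x = ± 1`, characteristic not 2 -/
theorem eq_one_or_neg {x : Matrix (Fin 2) (Fin 2) F} (h2 : (2 : F) ≠ 0) (hx : x * x = 1) (hd : x.det = 1) :
    x = 1 ∨ x = -1 := by
  have h00 := congrFun (congrFun hx 0) 0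
  have h01 := congrFun (congrFun hx 0) 1
  have h10 := congrFun (congrFun hx 1) 0
  have h11 := congrFun (congrFun hx 1) 1
  simp only [Matrix.mul_apply, Fin.sum_univ_two, Matrix.one_apply_eq, ne_eq, zero_ne_one, one_ne_zero,
    not_false_eq_true, Matrix.one_apply_ne] at h00 h01 h10 h11
  rw [Matrix.det_fin_two] at hd
  set a := x 0 0 with ha
  set b := x 0 1 with hb
  set c := x 1 0 with hc
  set d := x 1 1 with hd'
  -- a d - b c = 1, a² + b c = 1, b (a + d) = 0, c (a + d) = 0, b c + d² = 1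
  have had : a + d ≠ 0 := by
    intro h
    have h1 : d = -a := by linear_combination h
    rw [h1] at hd
    have : (2 : F) = 0 := by linear_combination -hd - h00
    exact h2 this
  have hb0 : b = 0 := by
    have : b * (a + d) = 0 := by linear_combination h01
    exact (mul_eq_zero.1 this).resolve_right had
  have hc0 : c = 0 := by
    have : c * (a + d) = 0 := by linear_combination h10
    exact (mul_eq_zero.1 this).resolve_right had
  rw [hb0] at h00 hd
  have ha2 : (a - 1) * (a + 1) = 0 := by linear_combination h00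
  have hade : a * d = 1 := by linear_combination hd
  rcases mul_eq_zero.1 ha2 with h | h
  · left
    have ha1 : a = 1 := by linear_combination h
    rw [ha1, one_mul] at hade
    ext i j
    fin_cases i <;> fin_cases j
    · exact ha1
    · exact hb0
    · exact hc0
    · exact hade
  · right
    have ha1 : a = -1 := by linear_combination h
    rw [ha1] at hade
    have hd1 : d = -1 := by linear_combination -hade
    ext i j
    fin_cases i <;> fin_cases j
    · simpa using ha1
    · simpa using hb0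
    · simpa using hc0
    · simpa using hd1

/-- characteristic 2: `x⁴ = 1` implies `x² = 1` -/
theorem sq_eq_one {x : Matrix (Fin 2) (Fin 2) F} (h2 : (2 : F) = 0) (hx : x * x * (x * x) = 1) : x * x = 1 := by
  have h00 := congrFun (congrFun hx 0) 0
  have h11 := congrFun (congrFun hx 1) 1
  simp only [Matrix.mul_apply, Fin.sum_univ_two, Matrix.one_apply_eq] at h00 h11
  set a := x 0 0 with ha
  set b := x 0 1 with hb
  set c := x 1 0 with hc
  set d := x 1 1 with hd'
  have hsq : ∀ y : F, y * y = 0 → y = 0 := fun y h => mul_self_eq_zero.1 h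
  have h1 : a * a + b * c - (c * b + d * d) = 0 := by
    apply hsq
    linear_combination h00 - h11 + (-(a * a + b * c) * (c * b + d * d) + (c * b + d * d) ^ 2) * h2
  have ht : a + d = 0 := by
    apply hsq
    linear_combination h1 + (a * d + d * d) * h2
  have hq : a * b + b * d = 0 := by linear_combination b * ht
  have hr : c * a + d * c = 0 := by linear_combination c * ht
  have hp : a * a + b * c - 1 = 0 := by
    apply hsq
    linear_combination h00 - (a * b + b * d) * hr + (-(a * a + b * c) + 1) * h2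
  have hs : c * b + d * d - 1 = 0 := by
    linear_combination hp - h1
  ext i j
  fin_cases i <;> fin_cases j
  · simp only [Fin.zero_eta, Matrix.mul_apply, Fin.sum_univ_two, Matrix.one_apply_eq]
    linear_combination hp
  · simp only [Fin.zero_eta, Fin.mk_one, Matrix.mul_apply, Fin.sum_univ_two]
    rw [Matrix.one_apply_ne (by decide)]
    linear_combination hq
  · simp only [Fin.zero_eta, Fin.mk_one, Matrix.mul_apply, Fin.sum_univ_two]
    rw [Matrix.one_apply_ne (by decide)]
    linear_combination hr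
  · simp only [Fin.mk_one, Matrix.mul_apply, Fin.sum_univ_two, Matrix.one_apply_eq]
    linear_combination hs

end

/-! ### elements of `A_n` -/

/-- the embedding of `A_m` in `A_n` -/
theorem exists_alt {m n : ℕ} (h : m ≤ n) : ∃ j : ↥(alternatingGroup (Fin m)) →* ↥(alternatingGroup (Fin n)),
    Function.Injective j := by
  classical
  let f : Fin m ≃ Set.range (Fin.castLEEmb h) := Equiv.ofInjective _ (Fin.castLEEmb h).injective
  let e : Perm (Fin m) →* Perm (Fin n) := Equiv.Perm.extendDomainHom f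
  have he : Function.Injective e := Equiv.Perm.extendDomainHom_injective f
  refine ⟨(e.comp (alternatingGroup (Fin m)).subtype).codRestrict _ fun a => ?_, ?_⟩
  · rw [Equiv.Perm.mem_alternatingGroup]
    show Equiv.Perm.sign ((a : Perm (Fin m)).extendDomain f) = 1
    rw [Equiv.Perm.sign_extendDomain]
    exact Equiv.Perm.mem_alternatingGroup.1 a.2
  · intro a b hab
    exact Subtype.ext (he (congrArg Subtype.val hab))

open scoped commutatorElement in

/-- homomorphisms of a perfect central extension of `A_n` by a group of exponent 3 to `GL₂(F)` are trivial -/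
theorem hom_eq_one {F : Type u} [Field F] {B : Type v} [Group B] (hB : commutator B = ⊤) {n : ℕ} (hn : 5 ≤ n)
    (hc : n ≠ 5 ∨ (2 : F) ≠ 0) (π : B →* ↥(alternatingGroup (Fin n))) (hs : Function.Surjective π)
    (hk : ∀ b, π b = 1 → b ∈ Subgroup.center B ∧ b ^ 3 = 1) (θ : B →* GL (Fin 2) F) : ∀ b, θ b = 1 := by
  haveI hsim : IsSimpleGroup (alternatingGroup (Fin n)) := alternatingGroup.isSimpleGroup (by
    rw [Nat.card_eq_fintype_card, Fintype.card_fin]; exact hn)
  set N := θ.ker with hN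
  have hNn : N.Normal := MonoidHom.normal_ker θ
  have hmap : (N.map π).Normal := hNn.map π hs
  rcases hsim.eq_bot_or_eq_top_of_normal _ hmap with h | h
  · exfalso
    have hN1 : ∀ b, θ b = 1 → π b = 1 := by
      intro b hb
      have : π b ∈ N.map π := ⟨b, hb, rfl⟩
      rw [h] at this
      exact Subgroup.mem_bot.1 this
    have hN3 : ∀ b, θ b = 1 → b ^ 3 = 1 := fun b hb => (hk b (hN1 b hb)).2
    have hcen : ∀ b, π b = 1 → ∀ g, g * b = b * g := fun b hb => Subgroup.mem_center_iff.1 (hk b hb).1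
    by_cases h2 : (2 : F) = 0
    · -- an element of order 4
      have hn6 : n ≠ 5 := by
        rcases hc with h | h
        · exact h
        · exact absurd h2 h
      have hn' : 6 ≤ n := by omega
      obtain ⟨c, hc4, hc2⟩ : ∃ c : ↥(alternatingGroup (Fin n)), c ^ 4 = 1 ∧ c ^ 2 ≠ 1 := by
        obtain ⟨j, hj⟩ := exists_alt hn'
        let c0 : ↥(alternatingGroup (Fin 6)) := ⟨swap 0 1 * swap 1 2 * swap 2 3 * swap 4 5, by
          rw [Equiv.Perm.mem_alternatingGroup]; decide⟩
        refine ⟨j c0, ?_, ?_⟩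
        · rw [← map_pow, show c0 ^ 4 = 1 from by decide, map_one]
        · intro h
          rw [← map_pow] at h
          exact absurd (hj (h.trans (map_one j).symm)) (by decide)
      obtain ⟨x, hx⟩ := hs c
      have hx4 : π (x ^ 4) = 1 := by rw [map_pow, hx, hc4]
      have hx12 : x ^ 12 = 1 := by
        rw [show 12 = 4 * 3 from rfl, pow_mul]
        exact (hk _ hx4).2
      have h9 : (x ^ 3) ^ 4 = 1 := by rw [← pow_mul]; exact hx12
      have h10 : θ ((x ^ 3) ^ 2) = 1 := by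
        apply Units.ext
        rw [map_pow, Units.val_pow_eq_pow_val, sq, Units.val_one]
        apply sq_eq_one h2
        have h11 := congrArg (fun y : B => ((θ y : GL (Fin 2) F) : Matrix (Fin 2) (Fin 2) F)) h9
        simp only [map_pow, Units.val_pow_eq_pow_val, map_one, Units.val_one] at h11
        rw [← h11, show 4 = 2 * 2 from rfl, pow_mul, sq, sq, map_pow, Units.val_pow_eq_pow_val]
      have h12 := hN1 _ h10
      rw [map_pow, map_pow, hx, ← pow_mul, show 3 * 2 = 4 + 2 from rfl, pow_add, hc4, one_mul] at h12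
      exact hc2 h12
    · -- a four-group
      obtain ⟨a, b, ha, hb, hab, ha1, hb1, hab1⟩ : ∃ a b : ↥(alternatingGroup (Fin n)), a * a = 1 ∧ b * b = 1 ∧
          a * b = b * a ∧ a ≠ 1 ∧ b ≠ 1 ∧ a * b ≠ 1 := by
        obtain ⟨j, hj⟩ := exists_alt hn
        let a0 : ↥(alternatingGroup (Fin 5)) := ⟨swap 0 1 * swap 2 3, by
          rw [Equiv.Perm.mem_alternatingGroup]; decide⟩
        let b0 : ↥(alternatingGroup (Fin 5)) := ⟨swap 0 2 * swap 1 3, by
          rw [Equiv.Perm.mem_alternatingGroup]; decide⟩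
        have hj1 : ∀ x, x ≠ 1 → j x ≠ 1 := fun x hx h => hx (hj (h.trans (map_one j).symm))
        refine ⟨j a0, j b0, ?_, ?_, ?_, hj1 _ (by decide), hj1 _ (by decide), ?_⟩
        · rw [← map_mul, show a0 * a0 = 1 from by decide, map_one]
        · rw [← map_mul, show b0 * b0 = 1 from by decide, map_one]
        · rw [← map_mul, ← map_mul, show a0 * b0 = b0 * a0 from by decide]
        · rw [← map_mul]
          exact hj1 _ (by decide)
      have hlift : ∀ c : ↥(alternatingGroup (Fin n)), c * c = 1 → ∃ x : B, π x = c ∧ x * x = 1 := by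
        intro c hc
        obtain ⟨x, hx⟩ := hs c
        refine ⟨x ^ 3, by rw [map_pow, hx, pow_succ, sq, hc, one_mul], ?_⟩
        have h1 : π (x ^ 2) = 1 := by rw [map_pow, hx, sq, hc]
        rw [← sq, ← pow_mul, mul_comm, pow_mul]
        exact (hk _ h1).2
      obtain ⟨x, hx, hx2⟩ := hlift a ha
      obtain ⟨y, hy, hy2⟩ := hlift b hb
      -- x y = c y x
      have hxy : x * y = y * x := by
        set c := x * y * x⁻¹ * y⁻¹ with hcdef
        have hc1 : π c = 1 := by
          rw [hcdef, map_mul, map_mul, map_mul, map_inv, map_inv, hx, hy, hab]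
          group
        have hcc := hcen c hc1
        have hc3 := (hk c hc1).2
        have e1 : x * y = c * (y * x) := by
          rw [hcdef]
          group
        have e2 : y = c * c * y := by
          calc y = x * (x * y) := by rw [← mul_assoc, hx2, one_mul]
            _ = x * (c * (y * x)) := by rw [e1]
            _ = c * (x * y) * x := by rw [← mul_assoc, hcc x]; group
            _ = c * (c * (y * x)) * x := by rw [e1]
            _ = c * c * y * (x * x) := by group
            _ = c * c * y := by rw [hx2, mul_one]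
        have e3 : c * c = 1 := by
          have := e2
          nth_rewrite 1 [← one_mul y] at this
          exact (mul_right_cancel this).symm
        have e4 : c = 1 := by
          rw [pow_succ, sq, e3, one_mul] at hc3
          exact hc3
        rw [e1, e4, one_mul]
      have hdet : ∀ g : B, ((θ g : GL (Fin 2) F) : Matrix (Fin 2) (Fin 2) F).det = 1 := by
        intro g
        have h1 : g ∈ ((Matrix.GeneralLinearGroup.det).comp θ).ker := by
          have h2 : commutator B ≤ ((Matrix.GeneralLinearGroup.det).comp θ).ker :=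
            Abelianization.commutator_subset_ker _
          apply h2
          rw [hB]
          exact Subgroup.mem_top _
        have h3 : Matrix.GeneralLinearGroup.det (θ g) = 1 := h1
        have h4 := congrArg Units.val h3
        exact h4
      have hpm : ∀ g : B, g * g = 1 → ((θ g : GL (Fin 2) F) : Matrix (Fin 2) (Fin 2) F) = 1 ∨
          ((θ g : GL (Fin 2) F) : Matrix (Fin 2) (Fin 2) F) = -1 := by
        intro g hg
        apply eq_one_or_neg h2 _ (hdet g)
        rw [← Units.val_mul, ← map_mul, hg, map_one, Units.val_one]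
      have hno : ∀ g : B, g * g = 1 → π g ≠ 1 → ((θ g : GL (Fin 2) F) : Matrix (Fin 2) (Fin 2) F) = -1 := by
        intro g hg h1
        refine (hpm g hg).resolve_left fun h3 => h1 (hN1 g (Units.ext h3))
      have k1 := hno x hx2 (by rw [hx]; exact ha1)
      have k2 := hno y hy2 (by rw [hy]; exact hb1)
      have k3 := hno (x * y) (by rw [mul_assoc, ← mul_assoc y, ← hxy, mul_assoc, hy2, mul_one, hx2])
        (by rw [map_mul, hx, hy]; exact hab1)
      rw [map_mul, Units.val_mul, k1, k2, neg_mul_neg, one_mul] at k3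
      have k4 := congrFun (congrFun k3 0) 0
      rw [Matrix.one_apply_eq, Matrix.neg_apply, Matrix.one_apply_eq] at k4
      apply h2
      linear_combination k4
  · -- `N` maps onto `A_n`
    have h1 : commutator B ≤ N := by
      rw [commutator_def, Subgroup.commutator_le]
      intro g _ g' _
      have key : ∀ g : B, ∃ m ∈ N, ∃ c ∈ Subgroup.center B, g = m * c := by
        intro g
        have h2 : π g ∈ N.map π := by rw [h]; exact Subgroup.mem_top _
        obtain ⟨m, hm, hmg⟩ := h2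
        refine ⟨m, hm, m⁻¹ * g, (hk _ ?_).1, by group⟩
        rw [map_mul, map_inv, hmg, inv_mul_cancel]
      obtain ⟨m, hm, c, hcc, rfl⟩ := key g
      obtain ⟨m', hm', c', hcc', rfl⟩ := key g'
      have h3 : ⁅m * c, m' * c'⁆ = ⁅m, m'⁆ := by
        have q1 := Subgroup.mem_center_iff.1 hcc
        have q2 := Subgroup.mem_center_iff.1 hcc'
        rw [commutatorElement_def, commutatorElement_def, mul_inv_rev, mul_inv_rev]
        calc m * c * (m' * c') * (c⁻¹ * m⁻¹) * (c'⁻¹ * m'⁻¹)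
            = m * (c * (m' * c' * (c⁻¹ * m⁻¹))) * (c'⁻¹ * m'⁻¹) := by group
          _ = m * (m' * c' * (c⁻¹ * m⁻¹) * c) * (c'⁻¹ * m'⁻¹) := by rw [q1]
          _ = m * m' * (c' * (c⁻¹ * m⁻¹ * c * c'⁻¹)) * m'⁻¹ := by group
          _ = m * m' * (c⁻¹ * m⁻¹ * c * c'⁻¹ * c') * m'⁻¹ := by rw [q2]
          _ = m * m' * (c⁻¹ * (m⁻¹ * c)) * m'⁻¹ := by group
          _ = m * m' * (c⁻¹ * (c * m⁻¹)) * m'⁻¹ := by rw [q1]
          _ = m * m' * m⁻¹ * m'⁻¹ := by group
      rw [h3, commutatorElement_def]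
      exact N.mul_mem (N.mul_mem (N.mul_mem hm hm') (N.inv_mem hm)) (N.inv_mem hm')
    rw [hB] at h1
    exact fun b => h1 (Subgroup.mem_top b)

end Cfsg.Agent.H163.E6.Two
end

-- part: H251/E6/Gen7
section
set_option linter.all false

/-!
# Generating triples (helper251, S5927)
-/

set_option autoImplicit false

namespace Cfsg.Agent.H251.E6

open Equiv Equiv.Perm Cfsg.Agent.H952.F4 Cfsg.Agent.H952.F4.Gen

theorem gen247 : GenT 7 {2, 2} {4, 2} {7} :=
  genT_of (n := 5) (c[2, 6] * c[4, 5]) (c[0, 5, 1, 3] * c[4, 6]) (by decide +kernel) (by decide +kernel)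
    ![[], [],
    [0, 3, 0, 2, 2, 0, 3, 0],
    [0, 3, 0, 2, 0, 3, 0, 2, 0, 3],
    [2, 0, 2, 0, 2, 2, 0, 2, 2, 0, 3, 0, 2],
    [2, 2, 0, 2, 0, 3, 0, 2, 0, 3, 0, 3],
    [3, 0, 2, 2, 0, 3]]
    (by decide +kernel) (by decide +kernel) (by decide +kernel) (by decide +kernel)

theorem gen434 : GenT 7 {4, 2} {3, 3} {4, 2} :=
  genT_of (n := 5) (c[0, 1, 5, 6] * c[3, 4]) (c[0, 2, 3] * c[1, 4, 5]) (by decide +kernel) (by decide +kernel)
    ![[], [],
    [2, 1, 3, 0, 3, 0, 3, 1],
    [2, 1, 3, 0, 2, 0],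
    [2, 1, 2, 0, 3, 0, 2, 1],
    [3, 0, 0, 2, 1],
    [1, 3, 0, 0, 2]]
    (by decide +kernel) (by decide +kernel) (by decide +kernel) (by decide +kernel)

theorem gen6c : GenT 6 {3} {3, 3} {4, 2} :=
  genT_of (n := 4) (c[2, 5, 3]) (c[0, 2, 5] * c[1, 3, 4]) (by decide +kernel) (by decide +kernel)
    ![[], [],
    [3, 0, 2],
    [1, 3, 0, 2, 0],
    [0, 3, 0, 2, 1, 2, 0, 3],
    [0, 3, 0, 2, 1]]
    (by decide +kernel) (by decide +kernel) (by decide +kernel) (by decide +kernel)

end Cfsg.Agent.H251.E6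
end
end
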