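import Mathlib
import Cfsg.Agent.H952.F4.Scott_m3
import Cfsg.Agent.BpExc.AsmN_m3
import Cfsg.Agent.H952.F4.TorDiag_m3
import Cfsg.Agent.FastGrp
import Cfsg.Agent.Prune
set_option linter.all false

section
prune_inst 0x7ffffdfffbfecbffffff7e7ffefffffffabdbfffefdff9cbffe8e3ffabdf7b92cbc5fb8f8fe878fe1effe23410f87b53fbffffffeb6ffc7ffffdfff45ffbffcfedf7bd0051d6983e0fb80fffe3f077ce7f3fffffffffffffffffffffffffffbeffbfffffffff

-- part: H952/F4/TabLin
section
set_option linter.all false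
open scoped Cfsg.Agent.FastGrp

-- part: H952/F4/TabNum
section
/-!
# S5926: the values of the roots of F₄ on vectors modulo `m` (helper755)

`rowsL` : the coefficient vectors of the 48 roots (plus 8), `rowsJ` : the 27 weights of the 27-dimensional module (plus 8).
`nn rows m j a b c d` : the number of rows `r` with `⟨r - 8, (a, b, c, d)⟩ ≡ j (mod m)`; tables of these numbers for
`m = 2, 3, 4, 5, 7`.
-/

set_option autoImplicit false

namespace Cfsg.Agent.H952.F4.TabNum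

/-- the roots of `F₄` plus `(8, 8, 8, 8)` -/
def rowsL : List (ℕ × ℕ × ℕ × ℕ) :=
  [(6, 4, 5, 6), (6, 4, 5, 7), (6, 4, 6, 7), (6, 5, 6, 7), (6, 6, 6, 7), (6, 6, 7, 7), (6, 6, 7, 8),
   (7, 5, 6, 7), (7, 6, 6, 7), (7, 6, 7, 7), (7, 6, 7, 8), (7, 7, 7, 7), (7, 7, 7, 8), (7, 7, 8, 8),
   (7, 8, 8, 8), (8, 6, 6, 7), (8, 6, 7, 7), (8, 6, 7, 8), (8, 7, 7, 7), (8, 7, 7, 8), (8, 7, 8, 8),
   (8, 8, 7, 7), (8, 8, 7, 8), (8, 8, 8, 7), (8, 8, 8, 9), (8, 8, 9, 8), (8, 8, 9, 9), (8, 9, 8, 8),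
   (8, 9, 9, 8), (8, 9, 9, 9), (8, 10, 9, 8), (8, 10, 9, 9), (8, 10, 10, 9), (9, 8, 8, 8), (9, 9, 8, 8),
   (9, 9, 9, 8), (9, 9, 9, 9), (9, 10, 9, 8), (9, 10, 9, 9), (9, 10, 10, 9), (9, 11, 10, 9), (10, 10, 9, 8),
   (10, 10, 9, 9), (10, 10, 10, 9), (10, 11, 10, 9), (10, 12, 10, 9), (10, 12, 11, 9), (10, 12, 11, 10)]

/-- the weights of the 27-dimensional module plus `(8, 8, 8, 8)` -/
def rowsJ : List (ℕ × ℕ × ℕ × ℕ) :=
  [(8, 8, 8, 8), (8, 9, 8, 8), (9, 11, 10, 9), (8, 7, 8, 8), (8, 8, 8, 8), (9, 10, 10, 9), (7, 5, 6, 7),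
   (7, 6, 6, 7), (8, 8, 8, 8), (7, 8, 8, 8), (9, 10, 9, 8), (9, 10, 9, 9), (7, 7, 8, 8), (9, 9, 9, 8),
   (9, 9, 9, 9), (6, 5, 6, 7), (8, 7, 7, 7), (8, 7, 7, 8), (9, 8, 8, 8), (9, 9, 8, 8), (10, 11, 10, 9),
   (7, 6, 7, 8), (7, 7, 7, 8), (8, 9, 9, 9), (7, 6, 7, 7), (7, 7, 7, 7), (8, 9, 9, 8)]

/-- the value of a row -/
def rv (m a b c d : ℕ) (r : ℕ × ℕ × ℕ × ℕ) : ℕ :=
  Nat.mod (Nat.add (Nat.add (Nat.mul r.1 a) (Nat.mul r.2.1 b)) (Nat.add (Nat.mul r.2.2.1 c) (Nat.mul r.2.2.2 d))) m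

/-- number of rows with value `T` -/
def cnt (m T a b c d : ℕ) : List (ℕ × ℕ × ℕ × ℕ) → ℕ
  | [] => 0
  | r :: t => bif Nat.beq (rv m a b c d r) T then Nat.succ (cnt m T a b c d t) else cnt m T a b c d t

/-- number of rows with value `j` (corrected by the shift) -/
def nn (rows : List (ℕ × ℕ × ℕ × ℕ)) (m j a b c d : ℕ) : ℕ :=
  cnt m (Nat.mod (Nat.add j (Nat.mul 8 (Nat.add (Nat.add a b) (Nat.add c d)))) m) a b c d rows

/-- `f` holds below `n` -/
def allLT (f : ℕ → Bool) : ℕ → Bool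
  | 0 => true
  | n + 1 => f n && allLT f n

theorem allLT_spec {f : ℕ → Bool} {n : ℕ} (h : allLT f n = true) : ∀ a < n, f a = true := by
  induction n with
  | zero => intro a ha; omega
  | succ n ih =>
    rw [allLT, Bool.and_eq_true] at h
    intro a ha
    rcases Nat.lt_succ_iff_lt_or_eq.1 ha with h1 | h1
    · exact ih h.2 a h1
    · rw [h1]; exact h.1

theorem allLT_of {f : ℕ → Bool} : ∀ {n : ℕ}, (∀ a < n, f a = true) → allLT f n = true := by
  intro n
  induction n with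
  | zero => intro _; rfl
  | succ n ih =>
    intro h
    rw [allLT, Bool.and_eq_true]
    exact ⟨h n (Nat.lt_succ_self n), ih fun a ha => h a (Nat.lt_succ_of_lt ha)⟩

def all4 (f : ℕ → ℕ → ℕ → ℕ → Bool) (m : ℕ) : Bool :=
  allLT (fun a => allLT (fun b => allLT (fun c => allLT (f a b c) m) m) m) m

theorem all4_spec {f : ℕ → ℕ → ℕ → ℕ → Bool} {m : ℕ} (h : all4 f m = true) {a b c d : ℕ} (ha : a < m) (hb : b < m)
    (hc : c < m) (hd : d < m) : f a b c d = true :=
  allLT_spec (allLT_spec (allLT_spec (allLT_spec h a ha) b hb) c hc) d hd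

def z4 (a b c d : ℕ) : Bool := Nat.beq (Nat.add (Nat.add a b) (Nat.add c d)) 0

theorem z4_iff {a b c d : ℕ} : z4 a b c d = true ↔ a = 0 ∧ b = 0 ∧ c = 0 ∧ d = 0 := by
  unfold z4
  rw [Nat.beq_eq]
  show a + b + (c + d) = 0 ↔ _
  omega

/-- the rows as a polynomial in `2 ^ 8` (the first three coordinates) and `2 ^ 2048` (the last one) -/
private noncomputable def zF (m a b c : ℕ) (rows : List (ℕ × ℕ × ℕ × ℕ)) : ℕ :=
  List.rec 0 (fun r _ ih => Nat.add (Nat.shiftLeft 1 (Nat.add (Nat.mul 8 (Nat.mod (Nat.add (Nat.add (Nat.mul r.1 a)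
    (Nat.mul r.2.1 b)) (Nat.mul r.2.2.1 c)) m)) (Nat.mul 2048 r.2.2.2))) ih) rows

/-- the numbers of the rows with the values `0, …, m - 1` as digits -/
private noncomputable def hF (rows : List (ℕ × ℕ × ℕ × ℕ)) (m a b c d : ℕ) : ℕ :=
  Nat.mod (Nat.mod (zF m a b c rows) (Nat.sub (Nat.shiftLeft 1 2048) (Nat.shiftLeft 1 (Nat.mul 8 d))))
    (Nat.sub (Nat.shiftLeft 1 (Nat.mul 8 m)) 1)

/-- the range of `hF` -/
private noncomputable def okF (rows : List (ℕ × ℕ × ℕ × ℕ)) (m : ℕ) : Bool :=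
  Nat.blt rows.length 255 && rows.all (fun r => Nat.blt r.2.2.2 16) && Nat.blt 0 m && Nat.ble m 16

/-- `nn` from the digits -/
private noncomputable def nnF (rows : List (ℕ × ℕ × ℕ × ℕ)) (m j a b c d : ℕ) : ℕ :=
  Bool.rec (nn rows m j a b c d) (Bool.rec (nn rows m j a b c d) (Nat.mod (Nat.shiftRight (hF rows m a b c d)
    (Nat.mul 8 (Nat.mod (Nat.add j (Nat.mul 8 (Nat.add (Nat.add a b) (Nat.add c d)))) m))) 256) (Nat.ble d 15)) (okF rows m)

private theorem sum_le {α : Type} {f : α → ℕ} {l : List α} {n : ℕ} (h : ∀ x ∈ l, f x ≤ n) :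
    (l.map fun x => 256 ^ f x).sum ≤ l.length * 256 ^ n := by
  induction l with
  | nil => exact Nat.zero_le _
  | cons x l ih =>
    rw [List.map_cons, List.sum_cons, List.length_cons, Nat.succ_mul, Nat.add_comm]
    exact Nat.add_le_add (ih fun y hy => h y (List.mem_cons_of_mem _ hy))
      (Nat.pow_le_pow_right (by decide) (h x List.mem_cons_self))

private theorem dig_sum {α : Type} (f : α → ℕ) (T : ℕ) (l : List α) : ∃ lo hi, (l.map fun x => 256 ^ f x).sum =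
    lo + 256 ^ T * (l.countP (fun x => Nat.beq (f x) T) + 256 * hi) ∧ 256 * lo ≤ l.length * 256 ^ T := by
  induction l with
  | nil => exact ⟨0, 0, rfl, Nat.zero_le _⟩
  | cons x l ih =>
    obtain ⟨lo, hi, h1, h2⟩ := ih
    rw [List.map_cons, List.sum_cons, List.length_cons, h1, List.countP_cons]
    simp only [Nat.beq_eq]
    rcases lt_trichotomy (f x) T with e | e | e
    · refine ⟨256 ^ f x + lo, hi, by rw [if_neg e.ne]; ring, ?_⟩
      have : 256 ^ (f x + 1) ≤ 256 ^ T := Nat.pow_le_pow_right (by decide) e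
      rw [Nat.succ_mul l.length, Nat.mul_add, Nat.add_comm, Nat.mul_comm 256 (256 ^ f x)]
      exact Nat.add_le_add h2 this
    · exact ⟨lo, hi, by rw [if_pos e, e]; ring, h2.trans (Nat.mul_le_mul_right _ (Nat.le_succ _))⟩
    · obtain ⟨k, e1⟩ := Nat.exists_eq_add_of_lt e
      exact ⟨lo, hi + 256 ^ k, by rw [if_neg e.ne', e1]; ring, h2.trans (Nat.mul_le_mul_right _ (Nat.le_succ _))⟩

private theorem mod_sum {α : Type} {f g : α → ℕ} {l : List α} {N : ℕ} (h : ∀ x, f x ≡ g x [MOD N])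
    (hN : (l.map g).sum < N) : (l.map f).sum % N = (l.map g).sum := by
  refine Eq.trans ?_ (Nat.mod_eq_of_lt hN)
  clear hN
  induction l with
  | nil => rfl
  | cons x l ih => exact Nat.ModEq.add (h x) ih

theorem nn_fast : nn = nnF := by
  funext rows m j a b c d
  delta nnF
  cases e : okF rows m
  · rfl
  cases e1 : Nat.ble d 15
  · rfl
  simp only [okF, Bool.and_eq_true, Nat.blt_eq, Nat.ble_eq, List.all_eq_true] at e e1
  obtain ⟨⟨⟨h1, h2⟩, h3⟩, h4⟩ := e
  have h5 : zF m a b c rows =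
      (rows.map fun r => 256 ^ ((r.1 * a + r.2.1 * b + r.2.2.1 * c) % m) * (256 ^ 256) ^ r.2.2.2).sum := by
    clear h1 h2
    induction rows with
    | nil => rfl
    | cons r rows ih =>
      rw [List.map_cons, List.sum_cons, ← ih]
      refine congrArg (· + zF m a b c rows) ?_
      show 1 <<< (8 * ((r.1 * a + r.2.1 * b + r.2.2.1 * c) % m) + 2048 * r.2.2.2) = _
      rw [Nat.one_shiftLeft, pow_add, pow_mul, show 2048 = 8 * 256 from rfl, pow_mul, pow_mul]
      rfl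
  have h6 : 256 ^ d ≤ 256 ^ 15 := Nat.pow_le_pow_right (by decide) e1
  have h7 : hF rows m a b c d = (rows.map fun r => 256 ^ rv m a b c d r).sum := by
    show zF m a b c rows % (1 <<< (8 * 256) - 1 <<< (8 * d)) % (1 <<< (8 * m) - 1) = _
    rw [h5, Nat.one_shiftLeft, Nat.one_shiftLeft, Nat.one_shiftLeft, pow_mul, pow_mul, pow_mul, show 2 ^ 8 = 256 from rfl,
      mod_sum (g := fun r : ℕ × ℕ × ℕ × ℕ => 256 ^ ((r.1 * a + r.2.1 * b + r.2.2.1 * c) % m + d * r.2.2.2)) (fun r => ?_) ?_]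
    · refine mod_sum (fun r => ?_) ?_
      · have h8 : (r.1 * a + r.2.1 * b + r.2.2.1 * c) % m + d * r.2.2.2 ≡
            r.1 * a + r.2.1 * b + (r.2.2.1 * c + r.2.2.2 * d) [MOD m] := by
          rw [← Nat.add_assoc, Nat.mul_comm d]
          exact (Nat.mod_modEq _ _).add_right _
        rw [show rv m a b c d r = _ from h8.symm]
        generalize (r.1 * a + r.2.1 * b + r.2.2.1 * c) % m + d * r.2.2.2 = v
        conv_lhs => rw [← Nat.mod_add_div v m, pow_add, pow_mul]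
        conv_rhs => rw [← Nat.mul_one (256 ^ (v % m)), ← one_pow (v / m)]
        exact (((Nat.modEq_iff_dvd' (Nat.one_le_pow _ _ (by decide))).2 dvd_rfl).symm.pow _).mul_left _
      · obtain ⟨m, rfl⟩ := Nat.exists_eq_succ_of_ne_zero h3.ne'
        have h8 := sum_le (l := rows) (f := rv (m + 1) a b c d) (n := m) fun r _ => Nat.le_of_lt_succ (Nat.mod_lt _ h3)
        refine (h8.trans (Nat.mul_le_mul_right (256 ^ m) (Nat.le_of_lt_succ h1))).trans_lt ?_
        have := Nat.one_le_pow m 256 (by decide)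
        rw [Nat.pow_succ]
        clear * - this
        omega
    · have h8 := sum_le (l := rows) (f := fun r => (r.1 * a + r.2.1 * b + r.2.2.1 * c) % m + d * r.2.2.2) (n := 240)
        fun r hr => by
          have := Nat.mod_lt (r.1 * a + r.2.1 * b + r.2.2.1 * c) h3
          have := Nat.mul_le_mul e1 (Nat.le_of_lt_succ (h2 r hr))
          omega
      refine (h8.trans (Nat.mul_le_mul_right _ h1.le)).trans_lt (Nat.lt_sub_of_add_lt ?_)
      exact (Nat.add_le_add_left h6 _).trans_lt (by decide +kernel)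
    · rw [pow_add, pow_mul]
      exact (((Nat.modEq_iff_dvd' (h6.trans (Nat.pow_le_pow_right (by decide) (by decide)))).2 dvd_rfl).symm.pow _).mul_left _
  have h12 : ∀ T, cnt m T a b c d rows = rows.countP fun r => Nat.beq (rv m a b c d r) T := fun T => by
    clear * -
    induction rows with
    | nil => rfl
    | cons r t ih =>
      show (bif Nat.beq (rv m a b c d r) T then Nat.succ (cnt m T a b c d t) else cnt m T a b c d t) = _
      rw [List.countP_cons, ih]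
      cases Nat.beq (rv m a b c d r) T <;> rfl
  show cnt m _ a b c d rows = hF rows m a b c d >>> (8 * _) % 256
  generalize Nat.mod (Nat.add j _) m = T
  obtain ⟨lo, hi, h8, h9⟩ := dig_sum (rv m a b c d) T rows
  have h10 := Nat.mul_le_mul_right (256 ^ T) h1.le
  have h11 := Nat.one_le_pow T 256 (by decide)
  rw [h12, h7, h8, Nat.shiftRight_eq_div_pow, pow_mul, show 2 ^ 8 = 256 from rfl, Nat.add_mul_div_left _ _ h11,
    Nat.div_eq_of_lt (by omega), Nat.zero_add, Nat.add_mul_mod_self_left,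
    Nat.mod_eq_of_lt (List.countP_le_length.trans_lt (by omega))]

/-- `m = 2` -/
def chk2 (a b c d : ℕ) : Bool :=
  z4 a b c d ||
  (Nat.beq (nn rowsJ 2 0 a b c d) 15 && Nat.beq (nn rowsJ 2 1 a b c d) 12 &&
    Nat.beq (nn rowsL 2 0 a b c d) 20 && Nat.beq (nn rowsL 2 1 a b c d) 28) ||
  (Nat.beq (nn rowsJ 2 0 a b c d) 11 && Nat.beq (nn rowsJ 2 1 a b c d) 16 &&
    Nat.beq (nn rowsL 2 0 a b c d) 32 && Nat.beq (nn rowsL 2 1 a b c d) 16)

theorem chk2_all : all4 chk2 2 = true := by delta chk2; rewrite [nn_fast]; decide +kernel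

/-- `m = 3` -/
def chk3 (a b c d : ℕ) : Bool :=
  z4 a b c d ||
  (Nat.beq (nn rowsJ 3 0 a b c d) 15 && Nat.beq (nn rowsJ 3 1 a b c d) 6 && Nat.beq (nn rowsJ 3 2 a b c d) 6 &&
    Nat.beq (nn rowsL 3 0 a b c d) 18 && Nat.beq (nn rowsL 3 1 a b c d) 15 && Nat.beq (nn rowsL 3 2 a b c d) 15) ||
  (Nat.beq (nn rowsJ 3 0 a b c d) 9 && Nat.beq (nn rowsJ 3 1 a b c d) 9 && Nat.beq (nn rowsJ 3 2 a b c d) 9 &&
    Nat.beq (nn rowsL 3 0 a b c d) 18 && Nat.beq (nn rowsL 3 1 a b c d) 15 && Nat.beq (nn rowsL 3 2 a b c d) 15) ||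
  (Nat.beq (nn rowsJ 3 0 a b c d) 9 && Nat.beq (nn rowsJ 3 1 a b c d) 9 && Nat.beq (nn rowsJ 3 2 a b c d) 9 &&
    Nat.beq (nn rowsL 3 0 a b c d) 12 && Nat.beq (nn rowsL 3 1 a b c d) 18 && Nat.beq (nn rowsL 3 2 a b c d) 18)

theorem chk3_all : all4 chk3 3 = true := by delta chk3; rewrite [nn_fast]; decide +kernel

/-- the numbers for `m = 4` -/
def q4 (a b c d j0 j1 j2 l0 l1 l2 : ℕ) : Bool :=
  Nat.beq (nn rowsJ 4 0 a b c d) j0 && Nat.beq (nn rowsJ 4 1 a b c d) j1 && Nat.beq (nn rowsJ 4 2 a b c d) j2 &&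
    Nat.beq (nn rowsJ 4 3 a b c d) j1 &&
    Nat.beq (nn rowsL 4 0 a b c d) l0 && Nat.beq (nn rowsL 4 1 a b c d) l1 && Nat.beq (nn rowsL 4 2 a b c d) l2 &&
    Nat.beq (nn rowsL 4 3 a b c d) l1

/-- `m = 4` -/
def chk4 (a b c d : ℕ) : Bool :=
  z4 (Nat.mod a 2) (Nat.mod b 2) (Nat.mod c 2) (Nat.mod d 2) ||
  q4 a b c d 9 6 6 8 14 12 || q4 a b c d 7 6 8 10 14 10 || q4 a b c d 5 8 6 14 8 18 || q4 a b c d 9 8 2 18 8 14 ||
  q4 a b c d 15 6 0 18 14 2

theorem chk4_all_p0 :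
    allLT (fun b => allLT (fun c => allLT (chk4 0 b c) 4) 4) 4 = true := by delta chk4 q4; rewrite [nn_fast]; decide +kernel

theorem chk4_all_p1 :
    allLT (fun b => allLT (fun c => allLT (chk4 1 b c) 4) 4) 4 = true := by delta chk4 q4; rewrite [nn_fast]; decide +kernel

theorem chk4_all_p2 :
    allLT (fun b => allLT (fun c => allLT (chk4 2 b c) 4) 4) 4 = true := by delta chk4 q4; rewrite [nn_fast]; decide +kernel

theorem chk4_all_p3 :
    allLT (fun b => allLT (fun c => allLT (chk4 3 b c) 4) 4) 4 = true := by delta chk4 q4; rewrite [nn_fast]; decide +kernel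

theorem chk4_all : all4 chk4 4 = true :=
  allLT_of fun a ha => by
    interval_cases a
    · exact chk4_all_p0
    · exact chk4_all_p1
    · exact chk4_all_p2
    · exact chk4_all_p3

/-- `m = 4`, symmetry -/
def chk4s (a b c d : ℕ) : Bool :=
  Nat.beq (nn rowsJ 4 1 a b c d) (nn rowsJ 4 3 a b c d)

theorem chk4s_all : all4 chk4s 4 = true := by delta chk4s; rewrite [nn_fast]; decide +kernel

/-- `m = 5` -/
def chk5 (a b c d : ℕ) : Bool :=
  z4 a b c d ||
  (Nat.beq (nn rowsL 5 0 a b c d) 8 && (Nat.beq (nn rowsJ 5 0 a b c d) 5 || Nat.beq (nn rowsJ 5 0 a b c d) 7 ||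
    Nat.beq (nn rowsJ 5 0 a b c d) 9)) ||
  (Nat.beq (nn rowsL 5 0 a b c d) 18 && (Nat.beq (nn rowsJ 5 0 a b c d) 9 || Nat.beq (nn rowsJ 5 0 a b c d) 15))

theorem chk5_all_p0 :
    allLT (fun b => allLT (fun c => allLT (chk5 0 b c) 5) 5) 5 = true := by delta chk5; rewrite [nn_fast]; decide +kernel

theorem chk5_all_p1 :
    allLT (fun b => allLT (fun c => allLT (chk5 1 b c) 5) 5) 5 = true := by delta chk5; rewrite [nn_fast]; decide +kernel

theorem chk5_all_p2 :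
    allLT (fun b => allLT (fun c => allLT (chk5 2 b c) 5) 5) 5 = true := by delta chk5; rewrite [nn_fast]; decide +kernel

theorem chk5_all_p3 :
    allLT (fun b => allLT (fun c => allLT (chk5 3 b c) 5) 5) 5 = true := by delta chk5; rewrite [nn_fast]; decide +kernel

theorem chk5_all_p4 :
    allLT (fun b => allLT (fun c => allLT (chk5 4 b c) 5) 5) 5 = true := by delta chk5; rewrite [nn_fast]; decide +kernel

theorem chk5_all : all4 chk5 5 = true :=
  allLT_of fun a ha => by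
    interval_cases a
    · exact chk5_all_p0
    · exact chk5_all_p1
    · exact chk5_all_p2
    · exact chk5_all_p3
    · exact chk5_all_p4

/-- `m = 5`, rational elements -/
def chk5r (a b c d : ℕ) : Bool :=
  z4 a b c d || !(Nat.beq (nn rowsJ 5 1 a b c d) (nn rowsJ 5 2 a b c d)) ||
  (Nat.beq (nn rowsJ 5 0 a b c d) 7 && Nat.beq (nn rowsJ 5 1 a b c d) 5 && Nat.beq (nn rowsJ 5 2 a b c d) 5 &&
    Nat.beq (nn rowsJ 5 3 a b c d) 5 && Nat.beq (nn rowsJ 5 4 a b c d) 5 &&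
    Nat.beq (nn rowsL 5 0 a b c d) 8 && Nat.beq (nn rowsL 5 1 a b c d) 10 && Nat.beq (nn rowsL 5 2 a b c d) 10 &&
    Nat.beq (nn rowsL 5 3 a b c d) 10 && Nat.beq (nn rowsL 5 4 a b c d) 10)

theorem chk5r_all_p0 :
    allLT (fun b => allLT (fun c => allLT (chk5r 0 b c) 5) 5) 5 = true := by delta chk5r; rewrite [nn_fast]; decide +kernel

theorem chk5r_all_p1 :
    allLT (fun b => allLT (fun c => allLT (chk5r 1 b c) 5) 5) 5 = true := by delta chk5r; rewrite [nn_fast]; decide +kernel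

theorem chk5r_all_p2 :
    allLT (fun b => allLT (fun c => allLT (chk5r 2 b c) 5) 5) 5 = true := by delta chk5r; rewrite [nn_fast]; decide +kernel

theorem chk5r_all_p3 :
    allLT (fun b => allLT (fun c => allLT (chk5r 3 b c) 5) 5) 5 = true := by delta chk5r; rewrite [nn_fast]; decide +kernel

theorem chk5r_all_p4 :
    allLT (fun b => allLT (fun c => allLT (chk5r 4 b c) 5) 5) 5 = true := by delta chk5r; rewrite [nn_fast]; decide +kernel

theorem chk5r_all : all4 chk5r 5 = true :=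
  allLT_of fun a ha => by
    interval_cases a
    · exact chk5r_all_p0
    · exact chk5r_all_p1
    · exact chk5r_all_p2
    · exact chk5r_all_p3
    · exact chk5r_all_p4

/-- the numbers of `J` for `m = 7` -/
def q7 (a b c d j0 j1 : ℕ) : Bool :=
  Nat.beq (nn rowsJ 7 0 a b c d) j0 && Nat.beq (nn rowsJ 7 1 a b c d) j1 && Nat.beq (nn rowsJ 7 2 a b c d) j1 &&
    Nat.beq (nn rowsJ 7 3 a b c d) j1 && Nat.beq (nn rowsJ 7 4 a b c d) j1 && Nat.beq (nn rowsJ 7 5 a b c d) j1 &&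
    Nat.beq (nn rowsJ 7 6 a b c d) j1

/-- `m = 7`, rational elements -/
def chk7r (a b c d : ℕ) : Bool :=
  z4 a b c d || !(Nat.beq (nn rowsL 7 1 a b c d) (nn rowsL 7 2 a b c d)) ||
  !(Nat.beq (nn rowsL 7 2 a b c d) (nn rowsL 7 4 a b c d)) ||
  (Nat.beq (nn rowsL 7 0 a b c d) 6 && Nat.beq (nn rowsL 7 1 a b c d) 7 && Nat.beq (nn rowsL 7 2 a b c d) 7 &&
    Nat.beq (nn rowsL 7 3 a b c d) 7 && Nat.beq (nn rowsL 7 4 a b c d) 7 && Nat.beq (nn rowsL 7 5 a b c d) 7 &&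
    Nat.beq (nn rowsL 7 6 a b c d) 7 && (q7 a b c d 3 4 || q7 a b c d 9 3))

theorem chk7r_all_p0 :
    allLT (fun b => allLT (fun c => allLT (chk7r 0 b c) 7) 7) 7 = true := by delta chk7r q7; rewrite [nn_fast]; decide +kernel

theorem chk7r_all_p1 :
    allLT (fun b => allLT (fun c => allLT (chk7r 1 b c) 7) 7) 7 = true := by delta chk7r q7; rewrite [nn_fast]; decide +kernel

theorem chk7r_all_p2 :
    allLT (fun b => allLT (fun c => allLT (chk7r 2 b c) 7) 7) 7 = true := by delta chk7r q7; rewrite [nn_fast]; decide +kernel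

theorem chk7r_all_p3 :
    allLT (fun b => allLT (fun c => allLT (chk7r 3 b c) 7) 7) 7 = true := by delta chk7r q7; rewrite [nn_fast]; decide +kernel

theorem chk7r_all_p4 :
    allLT (fun b => allLT (fun c => allLT (chk7r 4 b c) 7) 7) 7 = true := by delta chk7r q7; rewrite [nn_fast]; decide +kernel

theorem chk7r_all_p5 :
    allLT (fun b => allLT (fun c => allLT (chk7r 5 b c) 7) 7) 7 = true := by delta chk7r q7; rewrite [nn_fast]; decide +kernel

theorem chk7r_all_p6 :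
    allLT (fun b => allLT (fun c => allLT (chk7r 6 b c) 7) 7) 7 = true := by delta chk7r q7; rewrite [nn_fast]; decide +kernel

theorem chk7r_all : all4 chk7r 7 = true :=
  allLT_of fun a ha => by
    interval_cases a
    · exact chk7r_all_p0
    · exact chk7r_all_p1
    · exact chk7r_all_p2
    · exact chk7r_all_p3
    · exact chk7r_all_p4
    · exact chk7r_all_p5
    · exact chk7r_all_p6

end Cfsg.Agent.H952.F4.TabNum
end

-- part: H952/F4/TabLin
section
/-!
# S5926: eigenspaces of diagonal matrices, and the counts `nn` (helper755)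
-/

set_option autoImplicit false

namespace Cfsg.Agent.H952.F4.TabLin

open Cfsg Cfsg.Lie Module
open Cfsg.Agent.ChevalleyStructure Cfsg.Agent.ChevalleyStructure.RootVecTab Cfsg.Agent.ChevalleyStructure.RootVec
open Cfsg.Agent.ChevalleyStructure.E6Min.Tables Cfsg.Agent.ChevalleyStructure.E6Min.Basic
open Cfsg.Agent.H952.F4.TabNum

/-! ### linear algebra -/

theorem ev_diag {K ι : Type*} [Field K] [Fintype ι] [DecidableEq ι] [DecidableEq K] (d : ι → K) (μ : K)
    {T : Module.End K (ι → K)} (hT : T = Matrix.toLin' (Matrix.diagonal d)) :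
    ev T μ = (Finset.univ.filter fun i => d i = μ).card := by
  subst hT
  unfold ev
  have h1 : Module.End.eigenspace (Matrix.toLin' (Matrix.diagonal d)) μ =
      LinearMap.ker (Matrix.toLin' (Matrix.diagonal fun i => d i - μ)) := by
    rw [Module.End.eigenspace_def]
    congr 1
    refine LinearMap.ext fun v => funext fun i => ?_
    rw [LinearMap.sub_apply, Pi.sub_apply, Matrix.toLin'_apply, Matrix.toLin'_apply, Matrix.mulVec_diagonal,
      Matrix.mulVec_diagonal, sub_mul]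
    rfl
  rw [h1]
  have h2 := LinearMap.finrank_range_add_finrank_ker (Matrix.toLin' (Matrix.diagonal fun i => d i - μ))
  have h3 : finrank K ↥(LinearMap.range (Matrix.toLin' (Matrix.diagonal fun i => d i - μ))) =
      Fintype.card {i // d i - μ ≠ 0} := by
    have := Matrix.rank_diagonal (fun i => d i - μ)
    rw [Matrix.rank, ← Matrix.toLin'_apply'] at this
    exact this
  rw [h3, Module.finrank_fintype_fun_eq_card] at h2
  have h4 : Fintype.card {i // d i - μ ≠ 0} = (Finset.univ.filter fun i => ¬ d i = μ).card := by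
    rw [Fintype.card_subtype]
    congr 1
    ext i
    simp [sub_eq_zero]
  have h5 := Finset.card_filter_add_card_filter_not (s := (Finset.univ : Finset ι)) (fun i => d i = μ)
  rw [Finset.card_univ] at h5
  omega

theorem trace_diag {K ι : Type*} [Field K] [Fintype ι] [DecidableEq ι] (d : ι → K)
    {T : Module.End K (ι → K)} (hT : T = Matrix.toLin' (Matrix.diagonal d)) :
    LinearMap.trace K (ι → K) T = ∑ i, d i := by
  rw [hT, Matrix.trace_toLin'_eq, Matrix.trace_diagonal]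

section conj

variable {K V G : Type*} [Field K] [AddCommGroup V] [Module K V] [Group G]

theorem ev_conj (ρ : Representation K G V) (g x : G) (μ : K) : ev (ρ (g * x * g⁻¹)) μ = ev (ρ x) μ := by
  unfold ev
  let e : V ≃ₗ[K] V := LinearEquiv.ofLinearMap (ρ g) (ρ g⁻¹)
    (by rw [← Module.End.mul_eq_comp, ← map_mul, mul_inv_cancel, map_one]; rfl)
    (by rw [← Module.End.mul_eq_comp, ← map_mul, inv_mul_cancel, map_one]; rfl)
  have h1 : Module.End.eigenspace (ρ (g * x * g⁻¹)) μ = (Module.End.eigenspace (ρ x) μ).map (e : V →ₗ[K] V) := by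
    ext v
    rw [Submodule.mem_map, Module.End.mem_eigenspace_iff]
    constructor
    · intro h
      refine ⟨ρ g⁻¹ v, ?_, ?_⟩
      · rw [Module.End.mem_eigenspace_iff]
        have h2 : ρ x (ρ g⁻¹ v) = ρ g⁻¹ (ρ (g * x * g⁻¹) v) := by
          rw [← Module.End.mul_apply, ← Module.End.mul_apply, ← map_mul, ← map_mul]
          congr 2
          group
        rw [h2, h, map_smul]
      · show ρ g (ρ g⁻¹ v) = v
        rw [← Module.End.mul_apply, ← map_mul, mul_inv_cancel, map_one]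
        rfl
    · rintro ⟨w, hw, rfl⟩
      rw [Module.End.mem_eigenspace_iff] at hw
      show ρ (g * x * g⁻¹) (ρ g w) = μ • ρ g w
      have h2 : ρ (g * x * g⁻¹) (ρ g w) = ρ g (ρ x w) := by
        rw [← Module.End.mul_apply, ← Module.End.mul_apply, ← map_mul, ← map_mul]
        congr 2
        group
      rw [h2, hw, map_smul]
  rw [h1]
  exact LinearEquiv.finrank_map_eq e _

theorem trace_conj (ρ : Representation K G V) (g x : G) :
    LinearMap.trace K V (ρ (g * x * g⁻¹)) = LinearMap.trace K V (ρ x) := by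
  rw [map_mul ρ, map_mul ρ, mul_assoc, LinearMap.trace_mul_comm, mul_assoc, ← map_mul ρ, inv_mul_cancel, map_one,
    mul_one]

end conj

/-! ### counting -/

theorem countP_ofFn {α : Type*} (p : α → Bool) : ∀ (n : ℕ) (f : Fin n → α),
    (List.ofFn f).countP p = ∑ i, if p (f i) then 1 else 0
  | 0, f => by simp
  | n + 1, f => by
    rw [List.ofFn_succ, List.countP_cons, countP_ofFn p n, Fin.sum_univ_succ, add_comm]

theorem cnt_eq (m T a b c d : ℕ) (l : List (ℕ × ℕ × ℕ × ℕ)) :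
    cnt m T a b c d l = l.countP fun r => Nat.beq (rv m a b c d r) T := by
  induction l with
  | nil => rfl
  | cons r t ih =>
    rw [List.countP_cons, cnt, ih]
    cases Nat.beq (rv m a b c d r) T <;> simp

theorem rowsL_ofFn : rowsL = List.ofFn fun s : Fin 48 => rowsL.getD s (8, 8, 8, 8) := by decide +kernel

theorem rowsJ_ofFn : rowsJ = List.ofFn fun s : Fin 27 => rowsJ.getD s (8, 8, 8, 8) := by decide +kernel

theorem rowsL_spec : ∀ s : Fin 48, rowsL.getD s (8, 8, 8, 8) =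
    (dig (RootVecTab.code chevF4 s) 3, dig (RootVecTab.code chevF4 s) 2, dig (RootVecTab.code chevF4 s) 1,
      dig (RootVecTab.code chevF4 s) 0) := by decide +kernel

theorem rowsJ_spec : ∀ n : Fin 27, rowsJ.getD n (8, 8, 8, 8) =
    if wtab.getD n 48 = 48 then (8, 8, 8, 8) else rowsL.getD (wtab.getD n 48) (8, 8, 8, 8) := by decide +kernel

theorem wtab_spec : ∀ n : Fin 27, wtab.getD n 48 = 48 ∨ wtab.getD n 48 < 48 := by decide +kernel

/-- the value of a row as a unit -/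
def val {K : Type*} [Field K] (z : Kˣ) (a : Fin 4 → ℕ) (r : ℕ × ℕ × ℕ × ℕ) : Kˣ :=
  z ^ (((r.1 : ℤ) - 8) * a 0 + ((r.2.1 : ℤ) - 8) * a 1 + ((r.2.2.1 : ℤ) - 8) * a 2 + ((r.2.2.2 : ℤ) - 8) * a 3)

theorem val_eq_iff {K : Type*} [Field K] {z : Kˣ} {m : ℕ} (hz : orderOf z = m) (a : Fin 4 → ℕ)
    (r : ℕ × ℕ × ℕ × ℕ) (j : ℕ) : val z a r = z ^ j ↔
    Nat.beq (rv m (a 0) (a 1) (a 2) (a 3) r)
      (Nat.mod (Nat.add j (Nat.mul 8 (Nat.add (Nat.add (a 0) (a 1)) (Nat.add (a 2) (a 3))))) m) = true := by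
  rw [Nat.beq_eq]
  show _ ↔ (r.1 * a 0 + r.2.1 * a 1 + (r.2.2.1 * a 2 + r.2.2.2 * a 3)) % m =
    (j + 8 * (a 0 + a 1 + (a 2 + a 3))) % m
  have h1 : val z a r * z ^ (8 * (a 0 + a 1 + (a 2 + a 3))) =
      z ^ (r.1 * a 0 + r.2.1 * a 1 + (r.2.2.1 * a 2 + r.2.2.2 * a 3)) := by
    unfold val
    rw [← zpow_natCast, ← zpow_natCast, ← zpow_add]
    congr 1
    push_cast
    ring
  rw [← mul_left_inj (z ^ (8 * (a 0 + a 1 + (a 2 + a 3)))), h1, ← pow_add, pow_eq_pow_iff_modEq, hz]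
  rfl

/-- the number of indices of `L` -/
theorem card_L {K : Type*} [Field K] [DecidableEq K] {z : Kˣ} {m : ℕ} (hz : orderOf z = m) (a : Fin 4 → ℕ) (j : ℕ) :
    (Finset.univ.filter fun s : Fin 48 => ((val z a (rowsL.getD s (8, 8, 8, 8)) : Kˣ) : K) = ((z ^ j : Kˣ) : K)).card =
      nn rowsL m j (a 0) (a 1) (a 2) (a 3) := by
  unfold nn
  rw [cnt_eq, rowsL_ofFn, countP_ofFn, ← rowsL_ofFn, Finset.card_filter]
  refine Finset.sum_congr rfl fun s _ => ?_
  exact if_congr (Units.val_inj.trans (val_eq_iff hz a _ j)) rfl rfl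

/-- the number of indices of `J` -/
theorem card_J {K : Type*} [Field K] [DecidableEq K] {z : Kˣ} {m : ℕ} (hz : orderOf z = m) (a : Fin 4 → ℕ) (j : ℕ) :
    (Finset.univ.filter fun x : I27 => ((val z a (rowsJ.getD (E6Min.Tables.code x) (8, 8, 8, 8)) : Kˣ) : K) =
      ((z ^ j : Kˣ) : K)).card = nn rowsJ m j (a 0) (a 1) (a 2) (a 3) := by
  unfold nn
  rw [cnt_eq, rowsJ_ofFn, countP_ofFn, ← rowsJ_ofFn, Finset.card_filter]
  have hb : Function.Bijective (fun x : I27 => (⟨E6Min.Tables.code x, E6Min.Tables.code_lt x⟩ : Fin 27)) := by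
    refine (Fintype.bijective_iff_injective_and_card _).2 ⟨?_, by decide⟩
    intro x y h
    exact E6Min.Tables.code_injective (Fin.mk.inj_iff.1 h)
  refine Fintype.sum_bijective _ hb _ _ fun x => ?_
  exact if_congr (Units.val_inj.trans (val_eq_iff hz a _ j)) rfl rfl

/-- sum over the fibres -/
theorem sum_fib {K ι : Type*} [Field K] [DecidableEq K] [Fintype ι] {ζ : K} {m : ℕ} (hζ : IsPrimitiveRoot ζ m)
    (hm : m ≠ 0) (d : ι → K) (hd : ∀ i, d i ^ m = 1) :
    ∑ i, d i = ∑ j ∈ Finset.range m, ((Finset.univ.filter fun i => d i = ζ ^ j).card : K) * ζ ^ j := by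
  have : NeZero m := ⟨hm⟩
  have h1 : ∀ i, ∃ j < m, ζ ^ j = d i := fun i => by
    obtain ⟨j, hj, h⟩ := hζ.eq_pow_of_pow_eq_one (hd i)
    exact ⟨j, hj, h⟩
  choose e he1 he2 using h1
  have h2 : ∀ i j, j < m → (d i = ζ ^ j ↔ e i = j) := by
    intro i j hj
    rw [← he2 i]
    constructor
    · intro h
      exact hζ.pow_inj (he1 i) hj h
    · rintro rfl
      rfl
  rw [← Finset.sum_fiberwise_of_maps_to (s := Finset.univ) (t := Finset.range m) (g := e)
    (fun i _ => Finset.mem_range.2 (he1 i)) d]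
  refine Finset.sum_congr rfl fun j hj => ?_
  have h3 : (Finset.univ.filter fun i => d i = ζ ^ j) = Finset.univ.filter fun i => e i = j := by
    ext i
    simp only [Finset.mem_filter, Finset.mem_univ, true_and]
    exact h2 i j (Finset.mem_range.1 hj)
  rw [h3, Finset.sum_congr rfl (g := fun _ => ζ ^ j), Finset.sum_const, nsmul_eq_mul]
  intro i hi
  rw [← (Finset.mem_filter.1 hi).2]
  exact (he2 i).symm

end Cfsg.Agent.H952.F4.TabLin
end

private theorem dce_e3d54ec3a317 : _root_.True := by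
  try have : _root_.True := by simp only [_root_.Cfsg.Agent.H952.F4.TabNum.allLT.eq_def]
  try have : _root_.True := by simp only [_root_.Cfsg.Agent.H952.F4.TabNum.cnt.eq_1]
  try have : _root_.True := by simp only [_root_.Cfsg.Agent.H952.F4.TabNum.cnt.eq_def]
  try have : _root_.True := by simp only [_root_.Cfsg.Agent.H952.F4.TabNum.allLT.eq_1]
  try have : _root_.True := by simp only [_root_.Cfsg.Agent.H952.F4.TabNum.cnt.eq_2]
  try have : _root_.True := by simp only [_root_.Cfsg.Agent.H952.F4.TabNum.allLT.eq_2]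
  exact _root_.True.intro
end

-- part: H952/F4/TabMult
section
prune_inst 0x400200000000000000000000502400000200634000400000400800814280000700082000100000a49020000040000001000000000000000800000000000001920200500800000000000080000000000000000000000000000000000000000000000
set_option linter.all false
open scoped Cfsg.Agent.FastGrp

/-!
# S5926: multiplicities of the eigenvalues of the elements of order prime to `p` (helper755)

`Mult ρ m ζ x a` : the element `x` (`x ^ m = 1`) has the eigenvalue `ζ ^ j` on `L` and `J` as often as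
`⟨s, a⟩ ≡ j (mod m)` for a root (weight) `s`.
-/

set_option autoImplicit false

namespace Cfsg.Agent.H952.F4.TabMult

open Cfsg Cfsg.Lie Module
open Cfsg.Agent.ChevalleyStructure Cfsg.Agent.ChevalleyStructure.Elts Cfsg.Agent.ChevalleyStructure.RootVecTab
open Cfsg.Agent.ChevalleyStructure.RootVec
open Cfsg.Agent.ChevalleyStructure.E6Min.Tables Cfsg.Agent.ChevalleyStructure.E6Min.Basic
open Cfsg.Agent.GpExc.Field (emb)
open Cfsg.Agent.BpExc.TorAll Cfsg.Agent.BpExc.TorChev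
open Cfsg.Agent.Tits.Roots Cfsg.Agent.Nodes.BNOf Cfsg.Agent.Nodes.RGDChev Cfsg.Agent.KFacts.RgdChevCoord
open Cfsg.Agent.H952.F4.TabNum Cfsg.Agent.H952.F4.TabLin
open Cfsg.Agent.ChevalleyStructure.CoxeterGeom Cfsg.Agent.ChevalleyStructure.CoxeterGeomTypes
  Cfsg.Agent.Nodes.Reps

universe u

variable {K : Type u} [Field K]

/-- The multiplicities of the eigenvalues. -/
structure Mult (ρ : ↥(chevF4.group K) →* GL I27 K) (m : ℕ) (ζ : K) (x : ↥(chevF4.group K)) (a : Fin 4 → ℕ) :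
    Prop where
  lt : ∀ i, a i < m
  ord : ∀ k : ℕ, (∀ i, m ∣ k * a i) → x ^ k = 1
  evL : ∀ j, ev (LK K x) (ζ ^ j) = (if m ∣ j then 4 else 0) + nn rowsL m j (a 0) (a 1) (a 2) (a 3)
  evJ : ∀ j, ev (JK ρ x) (ζ ^ j) = nn rowsJ m j (a 0) (a 1) (a 2) (a 3)
  trL : LinearMap.trace K _ (LK K x) = ∑ j ∈ Finset.range m, (ev (LK K x) (ζ ^ j) : K) * ζ ^ j
  trJ : LinearMap.trace K _ (JK ρ x) = ∑ j ∈ Finset.range m, (ev (JK ρ x) (ζ ^ j) : K) * ζ ^ j
  powL : ∀ k j, k.Coprime m → ev (LK K (x ^ k)) (ζ ^ (k * j)) = ev (LK K x) (ζ ^ j)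
  powJ : ∀ k j, k.Coprime m → ev (JK ρ (x ^ k)) (ζ ^ (k * j)) = ev (JK ρ x) (ζ ^ j)
  sqL : m = 4 → ev (LK K (x * x)) 1 = ev (LK K x) 1 + ev (LK K x) (ζ ^ 2)
  sqJ : m = 4 → ev (JK ρ (x * x)) 1 = ev (JK ρ x) 1 + ev (JK ρ x) (ζ ^ 2)

theorem hpF4 : IsType chevF4 4 CoxeterMatrix.F₄ := by simp [IsType, typeList]

/-- powers of roots of unity -/
theorem pow_eq_pow_iff_of_coprime {m k : ℕ} (hk : k.Coprime m) {d e : K} (hd : d ^ m = 1) (he : e ^ m = 1)
    (hm : m ≠ 0) : d ^ k = e ^ k ↔ d = e := by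
  constructor
  · intro h
    have he0 : e ≠ 0 := by
      rintro rfl
      rw [zero_pow hm] at he
      exact zero_ne_one he
    have h1 : (d / e) ^ k = 1 := by rw [div_pow, h, div_self (pow_ne_zero _ he0)]
    have h2 : (d / e) ^ m = 1 := by rw [div_pow, hd, he, div_self one_ne_zero]
    have h3 : (d / e) ^ (Nat.gcd k m) = 1 := by
      have h4 := orderOf_dvd_of_pow_eq_one h1
      have h5 := orderOf_dvd_of_pow_eq_one h2
      exact orderOf_dvd_iff_pow_eq_one.1 (Nat.dvd_gcd h4 h5)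
    rw [hk, pow_one] at h3
    exact (div_eq_one_iff_eq he0).1 h3
  · rintro rfl
    rfl

theorem sq_one_iff {d : K} : d ^ 2 = 1 ↔ d = 1 ∨ d = -1 := by
  rw [← sub_eq_zero, show d ^ 2 - 1 = (d - 1) * (d + 1) by ring, mul_eq_zero, sub_eq_zero, add_eq_zero_iff_eq_neg]

/-- facts on a module with diagonal action of a conjugate -/
theorem diag_facts {ι G : Type*} [Fintype ι] [DecidableEq ι] [DecidableEq K] [Group G] (σ : Representation K G (ι → K))
    {x g : G} {m : ℕ} {ζ : K} (hζ : IsPrimitiveRoot ζ m) (hm : m ≠ 0) {d : ι → K}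
    (hd : ∀ k : ℕ, σ ((g * x * g⁻¹) ^ k) = Matrix.toLin' (Matrix.diagonal fun i => d i ^ k)) (hdm : ∀ i, d i ^ m = 1) :
    (∀ μ : K, ev (σ x) μ = (Finset.univ.filter fun i => d i = μ).card) ∧
    (LinearMap.trace K _ (σ x) = ∑ j ∈ Finset.range m, (ev (σ x) (ζ ^ j) : K) * ζ ^ j) ∧
    (∀ k j, k.Coprime m → ev (σ (x ^ k)) (ζ ^ (k * j)) = ev (σ x) (ζ ^ j)) ∧
    (m = 4 → ev (σ (x * x)) 1 = ev (σ x) 1 + ev (σ x) (ζ ^ 2)) := by
  have hk : ∀ (k : ℕ) (μ : K), ev (σ (x ^ k)) μ = (Finset.univ.filter fun i => d i ^ k = μ).card := by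
    intro k μ
    rw [← ev_conj σ g (x ^ k) μ, ← conj_pow]
    exact ev_diag _ _ (hd k)
  have h1 : ∀ μ : K, ev (σ x) μ = (Finset.univ.filter fun i => d i = μ).card := by
    intro μ
    have := hk 1 μ
    simpa only [pow_one] using this
  refine ⟨h1, ?_, ?_, ?_⟩
  · rw [← trace_conj σ g x]
    have h2 := hd 1
    simp only [pow_one] at h2
    rw [trace_diag d h2, sum_fib hζ hm d hdm]
    exact Finset.sum_congr rfl fun j _ => by rw [h1]
  · intro k j hkm
    rw [hk, h1]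
    congr 1
    ext i
    simp only [Finset.mem_filter, Finset.mem_univ, true_and]
    rw [mul_comm, pow_mul]
    exact pow_eq_pow_iff_of_coprime hkm (hdm i) (by rw [← pow_mul, mul_comm, pow_mul, hζ.pow_eq_one, one_pow]) hm
  · rintro rfl
    have h2 := hk 2 1
    rw [pow_two] at h2
    rw [h2, h1, h1]
    have hζ2 : ζ ^ 2 = -1 := by
      have h3 : (ζ ^ 2) ^ 2 = 1 := by rw [← pow_mul]; exact hζ.pow_eq_one
      rcases sq_one_iff.1 h3 with h4 | h4
      · exact absurd h4 (hζ.pow_ne_one_of_pos_of_lt (by norm_num) (by norm_num))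
      · exact h4
    have hne : (1 : K) ≠ ζ ^ 2 := fun h => hζ.pow_ne_one_of_pos_of_lt (by norm_num) (by norm_num) h.symm
    rw [← Finset.card_union_of_disjoint]
    · congr 1
      ext i
      simp only [Finset.mem_filter, Finset.mem_univ, true_and, Finset.mem_union]
      rw [hζ2, sq_one_iff]
    · rw [Finset.disjoint_filter]
      intro i _ h3 h4
      exact hne (h3.symm.trans h4)

/-- the torus element of exponents `a` -/
theorem prod_eq_val {z : Kˣ} {a : Fin 4 → ℕ} {c : Fin 4 → Kˣ} (hc : ∀ i, z ^ a i = c i) (s : ℕ) (hs : s < 48) :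
    ∏ i, c i ^ (vec chevF4 4 s i) = val z a (rowsL.getD s (8, 8, 8, 8)) := by
  have h0 : ∀ i : Fin 4, vec chevF4 4 s i = (dig (RootVecTab.code chevF4 s) (3 - i) : ℤ) - 8 := by
    intro i
    rw [vec_apply, rt_of_lt (D := chevF4) (show s < chevF4.nroots from hs) (show (i : ℕ) < chevF4.rank from i.2)]
    rfl
  have h1 := rowsL_spec ⟨s, hs⟩
  simp only at h1
  rw [h1, Fin.prod_univ_four, ← hc, ← hc, ← hc, ← hc, h0, h0, h0, h0]
  unfold val
  simp only [← zpow_natCast, ← zpow_mul, ← zpow_add]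
  congr 1
  show (a 0 : ℤ) * ((dig (RootVecTab.code chevF4 s) 3 : ℤ) - 8) + (a 1 : ℤ) * ((dig (RootVecTab.code chevF4 s) 2 : ℤ) - 8) +
    (a 2 : ℤ) * ((dig (RootVecTab.code chevF4 s) 1 : ℤ) - 8) + (a 3 : ℤ) * ((dig (RootVecTab.code chevF4 s) 0 : ℤ) - 8) = _
  ring

/-- **Multiplicities of the eigenvalues of the elements of order prime to `p`.** -/
theorem exists_mult [IsAlgClosed K] (p : ℕ) [Fact p.Prime] [CharP K p] (hK : HAlg p K)
    {ρ : ↥(chevF4.group K) →* GL I27 K} (hρ : IsJ ρ) {m : ℕ} (hm0 : m ≠ 0) (hm : m.Coprime p) {ζ : K}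
    (hζ : IsPrimitiveRoot ζ m) {x : ↥(chevF4.group K)} (hx : x ^ m = 1) :
    ∃ a : Fin 4 → ℕ, Mult ρ m ζ x a := by
  classical
  obtain ⟨g, hg⟩ := Cfsg.Agent.H944.TorAnyChev.exists_conj_mem_TT hpF4 p hK hm0 hm hx
  set t := g * x * g⁻¹ with ht
  obtain ⟨c, hcL, hcJ⟩ := Tor.diag hρ hg
  have htm : t ^ m = 1 := by rw [ht, conj_pow, hx, mul_one, mul_inv_cancel]
  have hζ0 : ζ ≠ 0 := hζ.ne_zero hm0
  let z : Kˣ := Units.mk0 ζ hζ0
  have hz : orderOf z = m := by rw [← orderOf_units]; exact hζ.eq_orderOf.symm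
  -- the powers of `t` on `L`
  have hpow : ∀ d : ℕ, (((t ^ d : ↥(chevF4.group K)) : GL chevF4.Idx K) : Matrix chevF4.Idx chevF4.Idx K) =
      Matrix.diagonal (Sum.elim (fun _ => (1 : K)) (fun s : Fin chevF4.nroots =>
        ((∏ i, c i ^ (vec chevF4 4 s i) : Kˣ) : K) ^ d)) := by
    intro d
    rw [Subgroup.coe_pow, Units.val_pow_eq_pow_val, hcL, Matrix.diagonal_pow]
    congr 1
    funext i
    rcases i with i | i
    · simp
    · simp
  -- the values on the simple roots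
  have hsimple : ∀ j : Fin 4, ∃ s : Fin chevF4.nroots, (∏ i, c i ^ (vec chevF4 4 s i) : Kˣ) = c j := by
    intro j
    have hlt := NPerm.simple_lt hpF4.inList (lt_rank hpF4 j)
    refine ⟨⟨chevF4.simple j, hlt⟩, ?_⟩
    show (∏ i, c i ^ (vec chevF4 4 (chevF4.simple j) i) : Kˣ) = c j
    rw [vec_simple hpF4 j, Finset.prod_eq_single j]
    · rw [sr_self, zpow_one]
    · intro i _ hij
      rw [sr_ne hij, zpow_zero]
    · intro h
      exact absurd (Finset.mem_univ j) h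
  have hcm : ∀ j, c j ^ m = 1 := by
    intro j
    obtain ⟨s, hs⟩ := hsimple j
    have h2 := hpow m
    rw [htm, Subgroup.coe_one, Units.val_one] at h2
    have h3 := congrFun (congrFun h2 (Sum.inr s)) (Sum.inr s)
    rw [Matrix.one_apply_eq, Matrix.diagonal_apply_eq, Sum.elim_inr, hs, ← Units.val_pow_eq_pow_val] at h3
    exact Units.ext h3.symm
  have hex : ∀ j, ∃ a < m, z ^ a = c j := by
    intro j
    have : NeZero m := ⟨hm0⟩
    have h1 : ((c j : Kˣ) : K) ^ m = 1 := by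
      rw [← Units.val_pow_eq_pow_val, hcm j, Units.val_one]
    obtain ⟨a, ha', ha⟩ := hζ.eq_pow_of_pow_eq_one h1
    refine ⟨a, ha', Units.ext ?_⟩
    rw [Units.val_pow_eq_pow_val, ← ha]
    rfl
  choose a ha' ha using hex
  -- the entries
  set dL : chevF4.Idx → K := Sum.elim (fun _ => (1 : K)) (fun s : Fin chevF4.nroots =>
    ((val z a (rowsL.getD s (8, 8, 8, 8)) : Kˣ) : K)) with hdL
  set dJ : I27 → K := fun x => ((val z a (rowsJ.getD (E6Min.Tables.code x) (8, 8, 8, 8)) : Kˣ) : K) with hdJ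
  have hval8 : val z a (8, 8, 8, 8) = 1 := by
    unfold val
    simp
  have hvalm : ∀ r, ((val z a r : Kˣ) : K) ^ m = 1 := by
    intro r
    unfold val
    rw [← Units.val_pow_eq_pow_val, ← zpow_natCast, ← zpow_mul, mul_comm, zpow_mul, zpow_natCast, ← hz,
      pow_orderOf_eq_one, one_zpow, Units.val_one]
  have hL1 : (((t : ↥(chevF4.group K)) : GL chevF4.Idx K) : Matrix chevF4.Idx chevF4.Idx K) = Matrix.diagonal dL := by
    rw [hcL]
    congr 1
    funext i
    rcases i with i | i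
    · rfl
    · show ((∏ j, c j ^ (vec chevF4 4 i j) : Kˣ) : K) = ((val z a (rowsL.getD i (8, 8, 8, 8)) : Kˣ) : K)
      rw [prod_eq_val ha i i.2]
  have hJ1 : ((ρ t : GL I27 K) : Matrix I27 I27 K) = Matrix.diagonal dJ := by
    rw [hcJ]
    congr 1
    funext x
    have h1 := rowsJ_spec ⟨E6Min.Tables.code x, E6Min.Tables.code_lt x⟩
    have h2 := wtab_spec ⟨E6Min.Tables.code x, E6Min.Tables.code_lt x⟩
    simp only at h1 h2
    show _ = ((val z a (rowsJ.getD (E6Min.Tables.code x) (8, 8, 8, 8)) : Kˣ) : K)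
    rw [h1]
    split_ifs with h3
    · rw [hval8, Units.val_one]
    · rw [prod_eq_val ha _ (h2.resolve_left h3)]
  have hL : ∀ k : ℕ, LK K (t ^ k) = Matrix.toLin' (Matrix.diagonal fun i => dL i ^ k) := by
    intro k
    show Matrix.toLin' (((t ^ k : ↥(chevF4.group K)) : GL chevF4.Idx K) : Matrix chevF4.Idx chevF4.Idx K) = _
    rw [Subgroup.coe_pow, Units.val_pow_eq_pow_val, hL1, Matrix.diagonal_pow]
    rfl
  have hJ : ∀ k : ℕ, JK ρ (t ^ k) = Matrix.toLin' (Matrix.diagonal fun i => dJ i ^ k) := by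
    intro k
    show Matrix.toLin' ((ρ (t ^ k) : GL I27 K) : Matrix I27 I27 K) = _
    rw [map_pow, Units.val_pow_eq_pow_val, hJ1, Matrix.diagonal_pow]
    rfl
  obtain ⟨l1, l2, l3, l4⟩ := diag_facts (LK K) hζ hm0 (x := x) (g := g) (d := dL) hL (by
    intro i
    rcases i with i | i
    · exact one_pow _
    · exact hvalm _)
  obtain ⟨j1, j2, j3, j4⟩ := diag_facts (JK ρ) hζ hm0 (x := x) (g := g) (d := dJ) hJ (fun i => hvalm _)
  have hζz : ∀ j : ℕ, ζ ^ j = ((z ^ j : Kˣ) : K) := fun j => by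
    rw [Units.val_pow_eq_pow_val]
    rfl
  refine ⟨a, ha', ?_, ?_, ?_, l2, j2, l3, j3, l4, j4⟩
  · intro k hk
    have h1 : t ^ k = 1 := by
      apply Subtype.ext
      apply Units.ext
      rw [hpow, Subgroup.coe_one, Units.val_one, ← Matrix.diagonal_one]
      congr 1
      funext i
      rcases i with i | i
      · rfl
      · rw [Sum.elim_inr, ← Units.val_pow_eq_pow_val, ← Finset.prod_pow]
        have : ∀ j ∈ (Finset.univ : Finset (Fin 4)), (c j ^ vec chevF4 4 i j) ^ k = 1 := by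
          intro j _
          rw [← zpow_natCast, ← zpow_mul, mul_comm, zpow_mul, zpow_natCast, ← ha j, ← pow_mul, mul_comm (a j)]
          obtain ⟨b, hb⟩ := hk j
          rw [hb, pow_mul, ← hz, pow_orderOf_eq_one, one_pow, one_zpow]
        rw [Finset.prod_congr rfl this, Finset.prod_const_one, Units.val_one]
    rw [ht, conj_pow, conj_eq_one_iff] at h1
    exact h1
  · intro j
    rw [l1, ← card_L hz a j, Finset.card_filter, Fintype.sum_sum_type, ← Finset.card_filter, ← Finset.card_filter]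
    congr 1
    · show (Finset.univ.filter fun i : Fin chevF4.rank => (1 : K) = ζ ^ j).card = _
      by_cases hj : m ∣ j
      · rw [if_pos hj, Finset.filter_true_of_mem, Finset.card_univ, Fintype.card_fin]
        · rfl
        · intro i _
          exact ((hζ.pow_eq_one_iff_dvd j).2 hj).symm
      · rw [if_neg hj, Finset.filter_false_of_mem, Finset.card_empty]
        intro i _ h
        exact hj ((hζ.pow_eq_one_iff_dvd j).1 h.symm)
  · intro j
    rw [j1, ← card_J hz a j, ← hζz]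

end Cfsg.Agent.H952.F4.TabMult
end

-- part: H952/F4/TabClosed
section
prune_inst 0x200040030000000000001000000014240000000020000030c0014000029342800601003830080000cc381040080040000001000000000000000000000101208000520292480104660001800080000000000000000000000000000000041004000000000
set_option linter.all false
open scoped Cfsg.Agent.FastGrp

/-!
# S5926: class tables of the elements of order 2, 3, 4, 5, 7 of `F₄` over an algebraically closed field (helper755)
-/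

set_option autoImplicit false

namespace Cfsg.Agent.H952.F4.Tor

open Cfsg Cfsg.Lie Module
open Cfsg.Agent.ChevalleyStructure Cfsg.Agent.ChevalleyStructure.Elts Cfsg.Agent.ChevalleyStructure.RootVecTab
open Cfsg.Agent.ChevalleyStructure.E6Min.Tables Cfsg.Agent.ChevalleyStructure.E6Min.Basic
open Cfsg.Agent.GpExc.Field (emb)
open Cfsg.Agent.BpExc.TorAll Cfsg.Agent.BpExc.TorChev
open Cfsg.Agent.H952.F4.TabNum Cfsg.Agent.H952.F4.TabLin Cfsg.Agent.H952.F4.TabMult

universe u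

section closed

variable (p : ℕ) [Fact p.Prime] {K : Type u} [Field K] [IsAlgClosed K] [CharP K p] (hK : HAlg p K)
  {ρ : ↥(chevF4.group K) →* GL I27 K} (hρ : IsJ ρ)

include hK hρ in
theorem exists_root {m : ℕ} (hm0 : m ≠ 0) (hm : m.Coprime p) : ∃ ζ : K, IsPrimitiveRoot ζ m ∧
    ∀ x : ↥(chevF4.group K), x ^ m = 1 → ∃ a : Fin 4 → ℕ, Mult ρ m ζ x a := by
  have hNk : ((m : ℕ) : K) ≠ 0 := by
    intro h0
    have h1 : p ∣ m := (CharP.cast_eq_zero_iff K p m).1 h0
    have h2 : p ∣ 1 := by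
      rw [← hm]
      exact Nat.dvd_gcd h1 dvd_rfl
    exact (Fact.out : p.Prime).one_lt.ne' (Nat.dvd_one.1 h2)
  have : NeZero ((m : ℕ) : K) := ⟨hNk⟩
  obtain ⟨ζ, hζ⟩ : ∃ ζ : K, IsPrimitiveRoot ζ m := HasEnoughRootsOfUnity.exists_primitiveRoot K m
  exact ⟨ζ, hζ, fun x hx => exists_mult p hK hρ hm0 hm hζ hx⟩

omit [IsAlgClosed K] [CharP K p] in
theorem coprime_of_ne {m : ℕ} (hm : m.Prime) (h : p ≠ m) : m.Coprime p :=
  (Nat.coprime_primes hm Fact.out).2 fun h' => h h'.symm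

include hK hρ in
theorem two_closed (hp : p ≠ 2) (x : ↥(chevF4.group K)) (hx1 : x ≠ 1) (hx : x * x = 1) :
    (ev (JK ρ x) 1 = 15 ∧ ev (LK K x) 1 = 24 ∧ LinearMap.trace K _ (JK ρ x) = 3 ∧
      LinearMap.trace K _ (LK K x) = -4) ∨
    (ev (JK ρ x) 1 = 11 ∧ ev (LK K x) 1 = 36 ∧ LinearMap.trace K _ (JK ρ x) = -5 ∧
      LinearMap.trace K _ (LK K x) = 20) := by
  obtain ⟨ζ, hζ, h⟩ := exists_root p hK hρ (m := 2) (by norm_num) (coprime_of_ne p Nat.prime_two hp)
  obtain ⟨a, ha⟩ := h x (by rw [pow_two, hx])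
  have hc := all4_spec chk2_all (ha.lt 0) (ha.lt 1) (ha.lt 2) (ha.lt 3)
  have hz : z4 (a 0) (a 1) (a 2) (a 3) = false := by
    rw [Bool.eq_false_iff]
    intro h0
    rw [z4_iff] at h0
    apply hx1
    rw [← pow_one x]
    refine ha.ord 1 fun i => ?_
    obtain ⟨h0, h1, h2, h3⟩ := h0
    (revert i; simp only [h0, h1, h2, h3, _root_.Fin.forall_fin_succ, _root_.one_mul, Fin.isValue, _root_.dvd_zero, _root_.Fin.succ_zero_eq_one, _root_.Fin.succ_one_eq_two, Fin.reduceSucc, _root_.IsEmpty.forall_iff, _root_.and_self])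
  have hs := hζ.geom_sum_eq_zero (by norm_num)
  simp only [Finset.sum_range_succ, Finset.sum_range_zero, pow_zero, pow_one, zero_add] at hs
  have e0 := ha.evL 0
  have e1 := ha.evL 1
  have f0 := ha.evJ 0
  have f1 := ha.evJ 1
  have tL := ha.trL
  have tJ := ha.trJ
  simp only [Finset.sum_range_succ, Finset.sum_range_zero, pow_zero, pow_one, zero_add, mul_one] at tL tJ
  rw [pow_zero] at e0 f0
  rw [pow_one] at e1 f1
  rw [if_pos (by norm_num)] at e0
  rw [if_neg (by norm_num)] at e1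
  simp only [chk2, hz, Bool.false_or, Bool.or_eq_true, Bool.and_eq_true, Nat.beq_eq] at hc
  rcases hc with ⟨⟨⟨c1, c2⟩, c3⟩, c4⟩ | ⟨⟨⟨c1, c2⟩, c3⟩, c4⟩
  · left
    rw [c1] at f0
    rw [c2] at f1
    rw [c3] at e0
    rw [c4] at e1
    rw [tL, tJ, e0, e1, f0, f1]
    refine ⟨rfl, rfl, ?_, ?_⟩
    · push_cast; linear_combination (12 : K) * hs
    · push_cast; linear_combination (28 : K) * hs
  · right
    rw [c1] at f0
    rw [c2] at f1
    rw [c3] at e0
    rw [c4] at e1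
    rw [tL, tJ, e0, e1, f0, f1]
    refine ⟨rfl, rfl, ?_, ?_⟩
    · push_cast; linear_combination (16 : K) * hs
    · push_cast; linear_combination (16 : K) * hs

include hK hρ in
theorem three_closed (hp : p ≠ 3) (x : ↥(chevF4.group K)) (hx1 : x ≠ 1) (hx : x ^ 3 = 1) :
    (ev (JK ρ x) 1 = 15 ∧ ev (LK K x) 1 = 22 ∧ LinearMap.trace K _ (JK ρ x) = 9 ∧
      LinearMap.trace K _ (LK K x) = 7) ∨
    (ev (JK ρ x) 1 = 9 ∧ ev (LK K x) 1 = 22 ∧ LinearMap.trace K _ (JK ρ x) = 0 ∧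
      LinearMap.trace K _ (LK K x) = 7) ∨
    (ev (JK ρ x) 1 = 9 ∧ ev (LK K x) 1 = 16 ∧ LinearMap.trace K _ (JK ρ x) = 0 ∧
      LinearMap.trace K _ (LK K x) = -2) := by
  obtain ⟨ζ, hζ, h⟩ := exists_root p hK hρ (m := 3) (by norm_num) (coprime_of_ne p Nat.prime_three hp)
  obtain ⟨a, ha⟩ := h x hx
  have hc := all4_spec chk3_all (ha.lt 0) (ha.lt 1) (ha.lt 2) (ha.lt 3)
  have hz : z4 (a 0) (a 1) (a 2) (a 3) = false := by
    rw [Bool.eq_false_iff]
    intro h0
    rw [z4_iff] at h0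
    apply hx1
    rw [← pow_one x]
    refine ha.ord 1 fun i => ?_
    obtain ⟨h0, h1, h2, h3⟩ := h0
    (revert i; simp only [h0, h1, h2, h3, _root_.Fin.forall_fin_succ, _root_.one_mul, Fin.isValue, _root_.dvd_zero, _root_.Fin.succ_zero_eq_one, _root_.Fin.succ_one_eq_two, Fin.reduceSucc, _root_.IsEmpty.forall_iff, _root_.and_self])
  have hs := hζ.geom_sum_eq_zero (by norm_num)
  simp only [Finset.sum_range_succ, Finset.sum_range_zero, pow_zero, pow_one, zero_add] at hs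
  have e0 := ha.evL 0
  have e1 := ha.evL 1
  have e2 := ha.evL 2
  have f0 := ha.evJ 0
  have f1 := ha.evJ 1
  have f2 := ha.evJ 2
  have tL := ha.trL
  have tJ := ha.trJ
  simp only [Finset.sum_range_succ, Finset.sum_range_zero, pow_zero, pow_one, zero_add, mul_one] at tL tJ
  rw [pow_zero] at e0 f0
  rw [pow_one] at e1 f1
  rw [if_pos (by norm_num)] at e0
  rw [if_neg (by norm_num)] at e1 e2
  simp only [chk3, hz, Bool.false_or, Bool.or_eq_true, Bool.and_eq_true, Nat.beq_eq] at hc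
  rcases hc with (⟨⟨⟨⟨⟨c1, c2⟩, c3⟩, c4⟩, c5⟩, c6⟩ | ⟨⟨⟨⟨⟨c1, c2⟩, c3⟩, c4⟩, c5⟩, c6⟩) |
    ⟨⟨⟨⟨⟨c1, c2⟩, c3⟩, c4⟩, c5⟩, c6⟩
  · left
    rw [c1] at f0
    rw [c2] at f1
    rw [c3] at f2
    rw [c4] at e0
    rw [c5] at e1
    rw [c6] at e2
    rw [tL, tJ, e0, e1, e2, f0, f1, f2]
    refine ⟨rfl, rfl, ?_, ?_⟩
    · push_cast; linear_combination (6 : K) * hs
    · push_cast; linear_combination (15 : K) * hs
  · right; left
    rw [c1] at f0
    rw [c2] at f1
    rw [c3] at f2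
    rw [c4] at e0
    rw [c5] at e1
    rw [c6] at e2
    rw [tL, tJ, e0, e1, e2, f0, f1, f2]
    refine ⟨rfl, rfl, ?_, ?_⟩
    · push_cast; linear_combination (9 : K) * hs
    · push_cast; linear_combination (15 : K) * hs
  · right; right
    rw [c1] at f0
    rw [c2] at f1
    rw [c3] at f2
    rw [c4] at e0
    rw [c5] at e1
    rw [c6] at e2
    rw [tL, tJ, e0, e1, e2, f0, f1, f2]
    refine ⟨rfl, rfl, ?_, ?_⟩
    · push_cast; linear_combination (9 : K) * hs
    · push_cast; linear_combination (18 : K) * hs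

omit [IsAlgClosed K] in
theorem sq_eq_neg_one {ζ : K} (hζ : IsPrimitiveRoot ζ 4) : ζ ^ 2 = -1 := by
  have h3 : (ζ ^ 2) ^ 2 = 1 := by rw [← pow_mul]; exact hζ.pow_eq_one
  rcases sq_one_iff.1 h3 with h4 | h4
  · exact absurd h4 (hζ.pow_ne_one_of_pos_of_lt (by norm_num) (by norm_num))
  · exact h4

omit [IsAlgClosed K] [CharP K p] in
theorem coprime_four (hp : p ≠ 2) : Nat.Coprime 4 p := by
  have h := coprime_of_ne p Nat.prime_two hp
  exact Nat.Coprime.mul_left h h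

include hK hρ in
theorem four_closed (hp : p ≠ 2) (x : ↥(chevF4.group K)) (hx1 : x * x ≠ 1) (hx : x ^ 4 = 1) :
    (ev (JK ρ (x * x)) 1 = 11 ∧ ev (LK K (x * x)) 1 = 36 ∧ ev (JK ρ x) 1 = 5 ∧ ev (LK K x) 1 = 18 ∧
      LinearMap.trace K _ (JK ρ x) = -1 ∧ LinearMap.trace K _ (LK K x) = 0) ∨
    (ev (JK ρ (x * x)) 1 = 11 ∧ ev (LK K (x * x)) 1 = 36 ∧ ev (JK ρ x) 1 = 9 ∧ ev (LK K x) 1 = 22 ∧
      LinearMap.trace K _ (JK ρ x) = 7 ∧ LinearMap.trace K _ (LK K x) = 8) ∨
    (ev (JK ρ (x * x)) 1 = 15 ∧ ev (LK K (x * x)) 1 = 24 ∧ ev (JK ρ x) 1 = 7 ∧ ev (LK K x) 1 = 14 ∧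
      LinearMap.trace K _ (JK ρ x) = -1 ∧ LinearMap.trace K _ (LK K x) = 4) ∨
    (ev (JK ρ (x * x)) 1 = 15 ∧ ev (LK K (x * x)) 1 = 24 ∧ ev (JK ρ x) 1 = 9 ∧ ev (LK K x) 1 = 12 ∧
      LinearMap.trace K _ (JK ρ x) = 3 ∧ LinearMap.trace K _ (LK K x) = 0) ∨
    (ev (JK ρ (x * x)) 1 = 15 ∧ ev (LK K (x * x)) 1 = 24 ∧ ev (JK ρ x) 1 = 15 ∧ ev (LK K x) 1 = 22 ∧
      LinearMap.trace K _ (JK ρ x) = 15 ∧ LinearMap.trace K _ (LK K x) = 20) := by
  obtain ⟨ζ, hζ, h⟩ := exists_root p hK hρ (m := 4) (by norm_num) (coprime_four p hp)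
  obtain ⟨a, ha⟩ := h x hx
  have hc := all4_spec chk4_all (ha.lt 0) (ha.lt 1) (ha.lt 2) (ha.lt 3)
  have hz : z4 (Nat.mod (a 0) 2) (Nat.mod (a 1) 2) (Nat.mod (a 2) 2) (Nat.mod (a 3) 2) = false := by
    rw [Bool.eq_false_iff]
    intro h0
    rw [z4_iff] at h0
    apply hx1
    rw [← pow_two x]
    refine ha.ord 2 fun i => ?_
    obtain ⟨h0, h1, h2, h3⟩ := h0
    have hd : ∀ b : ℕ, Nat.mod b 2 = 0 → 4 ∣ 2 * b := by
      intro b hb
      have hb' : b % 2 = 0 := hb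
      omega
    fin_cases i
    · exact hd _ h0
    · exact hd _ h1
    · exact hd _ h2
    · exact hd _ h3
  have hs := sq_eq_neg_one hζ
  have e0 := ha.evL 0
  have e1 := ha.evL 1
  have e2 := ha.evL 2
  have e3 := ha.evL 3
  have f0 := ha.evJ 0
  have f1 := ha.evJ 1
  have f2 := ha.evJ 2
  have f3 := ha.evJ 3
  have tL := ha.trL
  have tJ := ha.trJ
  have sL := ha.sqL rfl
  have sJ := ha.sqJ rfl
  simp only [Finset.sum_range_succ, Finset.sum_range_zero, pow_zero, pow_one, zero_add, mul_one] at tL tJ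
  rw [pow_zero] at e0 f0
  rw [pow_one] at e1 f1
  rw [if_pos (by norm_num)] at e0
  rw [if_neg (by norm_num)] at e1 e2 e3
  simp only [chk4, hz, q4, Bool.false_or, Bool.or_eq_true, Bool.and_eq_true, Nat.beq_eq] at hc
  rcases hc with (((⟨⟨⟨⟨⟨⟨⟨c1, c2⟩, c3⟩, c4⟩, c5⟩, c6⟩, c7⟩, c8⟩ | ⟨⟨⟨⟨⟨⟨⟨c1, c2⟩, c3⟩, c4⟩, c5⟩, c6⟩, c7⟩, c8⟩) |
    ⟨⟨⟨⟨⟨⟨⟨c1, c2⟩, c3⟩, c4⟩, c5⟩, c6⟩, c7⟩, c8⟩) | ⟨⟨⟨⟨⟨⟨⟨c1, c2⟩, c3⟩, c4⟩, c5⟩, c6⟩, c7⟩, c8⟩) |
    ⟨⟨⟨⟨⟨⟨⟨c1, c2⟩, c3⟩, c4⟩, c5⟩, c6⟩, c7⟩, c8⟩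
  all_goals
    rw [c1] at f0
    rw [c2] at f1
    rw [c3] at f2
    rw [c4] at f3
    rw [c5] at e0
    rw [c6] at e1
    rw [c7] at e2
    rw [c8] at e3
    rw [e0, e2] at sL
    rw [f0, f2] at sJ
    rw [tL, tJ, sL, sJ, e0, e1, e2, e3, f0, f1, f2, f3]
  · right; right; right; left
    refine ⟨rfl, rfl, rfl, rfl, ?_, ?_⟩
    · push_cast; linear_combination (6 + 6 * ζ) * hs
    · push_cast; linear_combination (12 + 14 * ζ) * hs
  · right; right; left
    refine ⟨rfl, rfl, rfl, rfl, ?_, ?_⟩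
    · push_cast; linear_combination (8 + 6 * ζ) * hs
    · push_cast; linear_combination (10 + 14 * ζ) * hs
  · left
    refine ⟨rfl, rfl, rfl, rfl, ?_, ?_⟩
    · push_cast; linear_combination (6 + 8 * ζ) * hs
    · push_cast; linear_combination (18 + 8 * ζ) * hs
  · right; left
    refine ⟨rfl, rfl, rfl, rfl, ?_, ?_⟩
    · push_cast; linear_combination (2 + 8 * ζ) * hs
    · push_cast; linear_combination (14 + 8 * ζ) * hs
  · right; right; right; right
    refine ⟨rfl, rfl, rfl, rfl, ?_, ?_⟩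
    · push_cast; linear_combination (6 * ζ) * hs
    · push_cast; linear_combination (2 + 14 * ζ) * hs

include hK hρ in
theorem four_i_closed (hp : p ≠ 2) (x : ↥(chevF4.group K)) (hx : x ^ 4 = 1) (i : K) (hi : i * i = -1) :
    ev (JK ρ x) i = ev (JK ρ x) (-i) := by
  obtain ⟨ζ, hζ, h⟩ := exists_root p hK hρ (m := 4) (by norm_num) (coprime_four p hp)
  obtain ⟨a, ha⟩ := h x hx
  have hc := all4_spec chk4s_all (ha.lt 0) (ha.lt 1) (ha.lt 2) (ha.lt 3)
  have hs := sq_eq_neg_one hζ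
  simp only [chk4s, Nat.beq_eq] at hc
  have f1 := ha.evJ 1
  have f3 := ha.evJ 3
  rw [← hc, ← f1, pow_one] at f3
  have h3 : ζ ^ 3 = -ζ := by rw [pow_succ, hs]; ring
  rw [h3] at f3
  have h4 : (i - ζ) * (i + ζ) = 0 := by linear_combination hi - hs
  rcases mul_eq_zero.1 h4 with h5 | h5
  · rw [sub_eq_zero.1 h5, f3]
  · rw [eq_neg_of_add_eq_zero_left h5, neg_neg, f3]

include hK hρ in
theorem five_closed (hp : p ≠ 5) (x : ↥(chevF4.group K)) (hx1 : x ≠ 1) (hx : x ^ 5 = 1) :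
    (ev (JK ρ x) 1 = 5 ∧ ev (LK K x) 1 = 12) ∨ (ev (JK ρ x) 1 = 7 ∧ ev (LK K x) 1 = 12) ∨
    (ev (JK ρ x) 1 = 9 ∧ ev (LK K x) 1 = 12) ∨
    (ev (JK ρ x) 1 = 9 ∧ ev (LK K x) 1 = 22) ∨ (ev (JK ρ x) 1 = 15 ∧ ev (LK K x) 1 = 22) := by
  obtain ⟨ζ, hζ, h⟩ := exists_root p hK hρ (m := 5) (by norm_num) (coprime_of_ne p Nat.prime_five hp)
  obtain ⟨a, ha⟩ := h x hx
  have hc := all4_spec chk5_all (ha.lt 0) (ha.lt 1) (ha.lt 2) (ha.lt 3)
  have hz : z4 (a 0) (a 1) (a 2) (a 3) = false := by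
    rw [Bool.eq_false_iff]
    intro h0
    rw [z4_iff] at h0
    apply hx1
    rw [← pow_one x]
    refine ha.ord 1 fun i => ?_
    obtain ⟨h0, h1, h2, h3⟩ := h0
    (revert i; simp only [h0, h1, h2, h3, _root_.Fin.forall_fin_succ, _root_.one_mul, Fin.isValue, _root_.dvd_zero, _root_.Fin.succ_zero_eq_one, _root_.Fin.succ_one_eq_two, Fin.reduceSucc, _root_.IsEmpty.forall_iff, _root_.and_self])
  have e0 := ha.evL 0
  have f0 := ha.evJ 0
  rw [pow_zero] at e0 f0
  rw [if_pos (by norm_num)] at e0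
  simp only [chk5, hz, Bool.false_or, Bool.or_eq_true, Bool.and_eq_true, Nat.beq_eq] at hc
  (solve | lia | omega)

include hK hρ in
theorem five_rat_closed (hp : p ≠ 5) (x : ↥(chevF4.group K)) (hx1 : x ≠ 1) (hx : x ^ 5 = 1)
    (hg : ∃ g : ↥(chevF4.group K), g * x * g⁻¹ = x ^ 2) :
    ev (JK ρ x) 1 = 7 ∧ ev (LK K x) 1 = 12 ∧ LinearMap.trace K _ (JK ρ x) = 2 ∧
      LinearMap.trace K _ (LK K x) = 2 := by
  obtain ⟨ζ, hζ, h⟩ := exists_root p hK hρ (m := 5) (by norm_num) (coprime_of_ne p Nat.prime_five hp)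
  obtain ⟨a, ha⟩ := h x hx
  obtain ⟨g, hg⟩ := hg
  have hc := all4_spec chk5r_all (ha.lt 0) (ha.lt 1) (ha.lt 2) (ha.lt 3)
  have hz : z4 (a 0) (a 1) (a 2) (a 3) = false := by
    rw [Bool.eq_false_iff]
    intro h0
    rw [z4_iff] at h0
    apply hx1
    rw [← pow_one x]
    refine ha.ord 1 fun i => ?_
    obtain ⟨h0, h1, h2, h3⟩ := h0
    (revert i; simp only [h0, h1, h2, h3, _root_.Fin.forall_fin_succ, _root_.one_mul, Fin.isValue, _root_.dvd_zero, _root_.Fin.succ_zero_eq_one, _root_.Fin.succ_one_eq_two, Fin.reduceSucc, _root_.IsEmpty.forall_iff, _root_.and_self])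
  have hs := hζ.geom_sum_eq_zero (by norm_num)
  simp only [Finset.sum_range_succ, Finset.sum_range_zero, pow_zero, pow_one, zero_add] at hs
  have e0 := ha.evL 0
  have e1 := ha.evL 1
  have e2 := ha.evL 2
  have e3 := ha.evL 3
  have e4 := ha.evL 4
  have f0 := ha.evJ 0
  have f1 := ha.evJ 1
  have f2 := ha.evJ 2
  have f3 := ha.evJ 3
  have f4 := ha.evJ 4
  have h12 := ha.powJ 2 1 (by norm_num)
  rw [← hg, ev_conj, mul_one, f1, f2] at h12
  have hb : Nat.beq (nn rowsJ 5 1 (a 0) (a 1) (a 2) (a 3)) (nn rowsJ 5 2 (a 0) (a 1) (a 2) (a 3)) = true := by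
    rw [Nat.beq_eq]; exact h12.symm
  have tL := ha.trL
  have tJ := ha.trJ
  simp only [Finset.sum_range_succ, Finset.sum_range_zero, pow_zero, pow_one, zero_add, mul_one] at tL tJ
  rw [pow_zero] at e0 f0
  rw [pow_one] at e1 f1
  rw [if_pos (by norm_num)] at e0
  rw [if_neg (by norm_num)] at e1 e2 e3 e4
  simp only [chk5r, hz, hb, Bool.not_true, Bool.false_or, Bool.and_eq_true, Nat.beq_eq] at hc
  obtain ⟨⟨⟨⟨⟨⟨⟨⟨⟨c0, c1⟩, c2⟩, c3⟩, c4⟩, d0⟩, d1⟩, d2⟩, d3⟩, d4⟩ := hc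
  rw [c0] at f0
  rw [c1] at f1
  rw [c2] at f2
  rw [c3] at f3
  rw [c4] at f4
  rw [d0] at e0
  rw [d1] at e1
  rw [d2] at e2
  rw [d3] at e3
  rw [d4] at e4
  rw [tL, tJ, e0, e1, e2, e3, e4, f0, f1, f2, f3, f4]
  refine ⟨rfl, rfl, ?_, ?_⟩
  · push_cast; linear_combination (5 : K) * hs
  · push_cast; linear_combination (10 : K) * hs

include hK hρ in
theorem seven_rat_closed (hp : p ≠ 7) (x : ↥(chevF4.group K)) (hx1 : x ≠ 1) (hx : x ^ 7 = 1)
    (hg : ∃ g : ↥(chevF4.group K), g * x * g⁻¹ = x ^ 2) :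
    ev (LK K x) 1 = 10 ∧ LinearMap.trace K _ (LK K x) = 3 ∧
      ((ev (JK ρ x) 1 = 3 ∧ LinearMap.trace K _ (JK ρ x) = -1) ∨
        (ev (JK ρ x) 1 = 9 ∧ LinearMap.trace K _ (JK ρ x) = 6)) := by
  obtain ⟨ζ, hζ, h⟩ := exists_root p hK hρ (m := 7) (by norm_num) (coprime_of_ne p (by norm_num) hp)
  obtain ⟨a, ha⟩ := h x hx
  obtain ⟨g, hg⟩ := hg
  have hc := all4_spec chk7r_all (ha.lt 0) (ha.lt 1) (ha.lt 2) (ha.lt 3)
  have hz : z4 (a 0) (a 1) (a 2) (a 3) = false := by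
    rw [Bool.eq_false_iff]
    intro h0
    rw [z4_iff] at h0
    apply hx1
    rw [← pow_one x]
    refine ha.ord 1 fun i => ?_
    obtain ⟨h0, h1, h2, h3⟩ := h0
    (revert i; simp only [h0, h1, h2, h3, _root_.Fin.forall_fin_succ, _root_.one_mul, Fin.isValue, _root_.dvd_zero, _root_.Fin.succ_zero_eq_one, _root_.Fin.succ_one_eq_two, Fin.reduceSucc, _root_.IsEmpty.forall_iff, _root_.and_self])
  have hs := hζ.geom_sum_eq_zero (by norm_num)
  simp only [Finset.sum_range_succ, Finset.sum_range_zero, pow_zero, pow_one, zero_add] at hs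
  have e0 := ha.evL 0
  have e1 := ha.evL 1
  have e2 := ha.evL 2
  have e3 := ha.evL 3
  have e4 := ha.evL 4
  have e5 := ha.evL 5
  have e6 := ha.evL 6
  have f0 := ha.evJ 0
  have f1 := ha.evJ 1
  have f2 := ha.evJ 2
  have f3 := ha.evJ 3
  have f4 := ha.evJ 4
  have f5 := ha.evJ 5
  have f6 := ha.evJ 6
  rw [if_pos (by norm_num)] at e0
  rw [if_neg (by norm_num), zero_add] at e1 e2 e3 e4 e5 e6
  have h12 := ha.powL 2 1 (by norm_num)
  have h24 := ha.powL 2 2 (by norm_num)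
  rw [← hg, ev_conj, mul_one, e1, e2] at h12
  rw [← hg, ev_conj, show 2 * 2 = 4 by norm_num, e4, e2] at h24
  have hb : Nat.beq (nn rowsL 7 1 (a 0) (a 1) (a 2) (a 3)) (nn rowsL 7 2 (a 0) (a 1) (a 2) (a 3)) = true := by
    rw [Nat.beq_eq]; exact h12.symm
  have hb' : Nat.beq (nn rowsL 7 2 (a 0) (a 1) (a 2) (a 3)) (nn rowsL 7 4 (a 0) (a 1) (a 2) (a 3)) = true := by
    rw [Nat.beq_eq]; exact h24.symm
  have tL := ha.trL
  have tJ := ha.trJ
  simp only [Finset.sum_range_succ, Finset.sum_range_zero, pow_zero, pow_one, zero_add, mul_one] at tL tJ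
  rw [pow_zero] at e0 f0
  rw [pow_one] at e1 f1
  simp only [chk7r, hz, hb, hb', q7, Bool.not_true, Bool.false_or, Bool.or_eq_true, Bool.and_eq_true,
    Nat.beq_eq] at hc
  obtain ⟨⟨⟨⟨⟨⟨⟨d0, d1⟩, d2⟩, d3⟩, d4⟩, d5⟩, d6⟩, hc⟩ := hc
  rw [d0] at e0
  rw [d1] at e1
  rw [d2] at e2
  rw [d3] at e3
  rw [d4] at e4
  rw [d5] at e5
  rw [d6] at e6
  rw [tL, e0, e1, e2, e3, e4, e5, e6]
  refine ⟨rfl, ?_, ?_⟩
  · push_cast; linear_combination (7 : K) * hs
  · rcases hc with ⟨⟨⟨⟨⟨⟨c0, c1⟩, c2⟩, c3⟩, c4⟩, c5⟩, c6⟩ | ⟨⟨⟨⟨⟨⟨c0, c1⟩, c2⟩, c3⟩, c4⟩, c5⟩, c6⟩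
    · left
      rw [c0] at f0
      rw [c1] at f1
      rw [c2] at f2
      rw [c3] at f3
      rw [c4] at f4
      rw [c5] at f5
      rw [c6] at f6
      rw [tJ, f0, f1, f2, f3, f4, f5, f6]
      refine ⟨rfl, ?_⟩
      push_cast; linear_combination (4 : K) * hs
    · right
      rw [c0] at f0
      rw [c1] at f1
      rw [c2] at f2
      rw [c3] at f3
      rw [c4] at f4
      rw [c5] at f5
      rw [c6] at f6
      rw [tJ, f0, f1, f2, f3, f4, f5, f6]
      refine ⟨rfl, ?_⟩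
      push_cast; linear_combination (3 : K) * hs

/-- **The class tables over an algebraically closed field.** -/
theorem tab_closed (p : ℕ) [Fact p.Prime] {K : Type u} [Field K] [IsAlgClosed K] [CharP K p] (hK : HAlg p K)
    {ρ : ↥(chevF4.group K) →* GL I27 K} (hρ : IsJ ρ) : Tab p (LK K) (JK ρ) where
  two := two_closed p hK hρ
  three := three_closed p hK hρ
  four := four_closed p hK hρ
  four_i := four_i_closed p hK hρ
  five := five_closed p hK hρ
  five_rat := five_rat_closed p hK hρ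
  seven_rat := seven_rat_closed p hK hρ

end closed

end Cfsg.Agent.H952.F4.Tor

private theorem dce_49fc29175a26 : _root_.True := by
  try have : _root_.True := by simp only [_root_.Cfsg.Agent.H952.F4.TabNum.chk4.eq_1]
  try have : _root_.True := by simp only [_root_.Cfsg.Agent.H952.F4.TabNum.chk4s.eq_1]
  try have : _root_.True := by simp only [_root_.Cfsg.Agent.H952.F4.TabNum.chk7r.eq_1]
  try have : _root_.True := by simp only [_root_.Cfsg.Agent.H952.F4.TabNum.chk2.eq_1]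
  try have : _root_.True := by simp only [_root_.Cfsg.Agent.H952.F4.TabNum.q7.eq_1]
  try have : _root_.True := by simp only [_root_.Cfsg.Agent.H952.F4.TabNum.chk5r.eq_1]
  try have : _root_.True := by simp only [_root_.Cfsg.Agent.H952.F4.TabNum.chk5.eq_1]
  try have : _root_.True := by simp only [_root_.Cfsg.Agent.H952.F4.TabNum.q4.eq_1]
  try have : _root_.True := by simp only [_root_.Cfsg.Agent.H952.F4.TabNum.chk3.eq_1]
  exact _root_.True.intro
end
end
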