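import Cfsg.Agent.H952.F4.Scott_m3
import Cfsg.Agent.H858.Abs
import Cfsg.Agent.Prune
set_option linter.all false
prune_inst 0x7f00000000000000000000000000000000000000000000000000000000000000000000000000000000000000000000000000000000000000000000000000000000000000000000000000000000000000003fffffffffffffffffffffffffffbeffbdffffffff
open scoped Cfsg.Agent.FastGrp

/-!
# The group algebra of `A₅` over a field of characteristic 2 (helper825 for S5926)

`five_le_three`: `dim W^z - dim U^z ≤ dim W^t - dim U^t` for invariant subspaces `U ≤ W`, `z` of order 5, `t` of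
order 3.
-/

set_option autoImplicit false

namespace Cfsg.Agent.H952.F4.AFive

open Cfsg.Agent.H952.F4 Module

/-- `A₅` -/
abbrev AF : Type := ↥(alternatingGroup (Fin 5))

open Equiv in
/-- `0 → 1 → 2 → 3 → 4 → 0` -/
def z0 : AF := ⟨swap (0 : Fin 5) 1 * swap (1 : Fin 5) 2 * swap (2 : Fin 5) 3 * swap (3 : Fin 5) 4, by
  rw [Equiv.Perm.mem_alternatingGroup]; decide⟩
open Equiv in
/-- `2 → 3 → 4 → 2` -/
def t0 : AF := ⟨swap (2 : Fin 5) 3 * swap (3 : Fin 5) 4, by rw [Equiv.Perm.mem_alternatingGroup]; decide⟩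
open Equiv in
def g1 : AF := ⟨swap (1 : Fin 5) 4 * swap (4 : Fin 5) 2, by rw [Equiv.Perm.mem_alternatingGroup]; decide⟩
open Equiv in
def g2 : AF := ⟨swap (0 : Fin 5) 1 * swap (1 : Fin 5) 3 * swap (3 : Fin 5) 4 * swap (4 : Fin 5) 2, by
  rw [Equiv.Perm.mem_alternatingGroup]; decide⟩
open Equiv in
def g3 : AF := ⟨swap (0 : Fin 5) 2 * swap (3 : Fin 5) 4, by rw [Equiv.Perm.mem_alternatingGroup]; decide⟩
open Equiv in
def g4 : AF := ⟨swap (0 : Fin 5) 3 * swap (3 : Fin 5) 4 * swap (4 : Fin 5) 2 * swap (2 : Fin 5) 1, by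
  rw [Equiv.Perm.mem_alternatingGroup]; decide⟩

theorem r21 : g2 * t0 = t0 * z0 := by decide +kernel
theorem r40 : g4 = t0 * t0 * z0 ^ 4 := by decide +kernel
theorem r22 : g2 * (t0 * t0) = g1 * z0 ^ 2 := by decide +kernel
theorem r30 : g3 = g1 * t0 * z0 ^ 3 := by decide +kernel
theorem r20 : g2 = g1 * (t0 * t0) * z0 ^ 3 := by decide +kernel
theorem r32 : g3 * (t0 * t0) = g1 * (t0 * t0) * z0 ^ 2 := by decide +kernel
theorem r41 : g4 * t0 = g1 * (t0 * t0) * z0 ^ 4 := by decide +kernel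
theorem r42 : g4 * (t0 * t0) = g3 * t0 * z0 ^ 3 := by decide +kernel
theorem t0_cube : t0 * (t0 * t0) = 1 := by decide +kernel
theorem z0_pow : z0 ^ 5 = 1 := by decide +kernel
theorem z0_ne : z0 ≠ 1 := by decide +kernel
theorem t0_ne : t0 ≠ 1 := by decide +kernel

section

variable {K V : Type*} [Field K] [AddCommGroup V] [Module K V]

theorem mem_es {T : V →ₗ[K] V} {v : V} : v ∈ es T 1 ↔ T v = v := by
  unfold es
  rw [Module.End.mem_eigenspace_iff, one_smul]

theorem fix_pow (ρ : Representation K AF V) {z : AF} {v : V} (h : ρ z v = v) (k : ℕ) :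
    ρ (z ^ k) v = v := by
  induction k with
  | zero => rw [pow_zero, map_one]; rfl
  | succ k ih =>
    rw [pow_succ, map_mul]
    show ρ (z ^ k) (ρ z v) = v
    rw [h, ih]

theorem map_mul_apply (ρ : Representation K AF V) (a b : AF) (v : V) :
    ρ (a * b) v = ρ a (ρ b v) := by
  rw [map_mul]; rfl

/-- the norm of `t0` applied to a vector -/
def nt (ρ : Representation K AF V) (v : V) : V := v + ρ t0 v + ρ (t0 * t0) v

theorem key [CharP K 2] (ρ : Representation K AF V) {v : V} (hv : ρ z0 v = v) :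
    nt ρ v + ρ g1 (nt ρ v) + ρ g2 (nt ρ v) + ρ g3 (nt ρ v) + ρ g4 (nt ρ v) = v := by
  have h2 : ∀ x : V, x + x = 0 := fun x => by
    have h : (2 : K) = 0 := CharTwo.two_eq_zero
    rw [← two_smul K x, h, zero_smul]
  have hz : ∀ (a : AF) (k : ℕ), ρ (a * z0 ^ k) v = ρ a v := fun a k => by
    rw [map_mul_apply, fix_pow ρ hv]
  have he : ∀ g : AF, ρ g (nt ρ v) = ρ g v + ρ (g * t0) v + ρ (g * (t0 * t0)) v := fun g => by
    unfold nt
    rw [map_add, map_add, ← map_mul_apply, ← map_mul_apply]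
  have e21 : ρ (g2 * t0) v = ρ t0 v := by
    rw [r21]
    have := hz t0 1
    rwa [pow_one] at this
  have e40 : ρ g4 v = ρ (t0 * t0) v := by rw [r40, hz]
  have e22 : ρ (g2 * (t0 * t0)) v = ρ g1 v := by rw [r22, hz]
  have e30 : ρ g3 v = ρ (g1 * t0) v := by
    conv_lhs => rw [r30]
    rw [hz]
  have e20 : ρ g2 v = ρ (g1 * (t0 * t0)) v := by
    conv_lhs => rw [r20]
    rw [hz]
  have e32 : ρ (g3 * (t0 * t0)) v = ρ (g1 * (t0 * t0)) v := by rw [r32, hz]
  have e41 : ρ (g4 * t0) v = ρ (g1 * (t0 * t0)) v := by rw [r41, hz]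
  have e42 : ρ (g4 * (t0 * t0)) v = ρ (g3 * t0) v := by rw [r42, hz]
  rw [he g1, he g2, he g3, he g4, e21, e40, e22, e30, e20, e32, e41, e42]
  unfold nt
  generalize ρ t0 v = a
  generalize ρ (t0 * t0) v = b
  generalize ρ g1 v = c
  generalize ρ (g1 * t0) v = d
  generalize ρ (g1 * (t0 * t0)) v = e
  generalize ρ (g3 * t0) v = f
  calc _ = v + ((a + b + c + d + e + e + f) + (a + b + c + d + e + e + f)) := by abel
    _ = v := by rw [h2, add_zero]

theorem nt_mem (ρ : Representation K AF V) (v : V) : ρ t0 (nt ρ v) = nt ρ v := by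
  unfold nt
  rw [map_add, map_add, ← map_mul_apply, ← map_mul_apply, t0_cube, map_one]
  show _ + _ + v = _
  abel

/-- the inequality for `z0` and `t0` -/
theorem le_zero [CharP K 2] [FiniteDimensional K V] (ρ : Representation K AF V)
    (U W : Submodule K V) (hUW : U ≤ W) (hU : ∀ g, ∀ v ∈ U, ρ g v ∈ U)
    (hW : ∀ g, ∀ v ∈ W, ρ g v ∈ W) :
    finrank K ↥(es (ρ z0) 1 ⊓ W) + finrank K ↥(es (ρ t0) 1 ⊓ U) ≤
      finrank K ↥(es (ρ z0) 1 ⊓ U) + finrank K ↥(es (ρ t0) 1 ⊓ W) := by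
  set A := es (ρ z0) 1 ⊓ W with hA
  set B := es (ρ z0) 1 ⊓ U with hB
  set C := es (ρ t0) 1 ⊓ W with hC
  set D := es (ρ t0) 1 ⊓ U with hD
  let f : V →ₗ[K] V := LinearMap.id + ρ t0 + ρ (t0 * t0)
  have hf : ∀ v, f v = nt ρ v := fun v => rfl
  have hfC : ∀ v ∈ A, f v ∈ C := by
    intro v hv
    rw [hC, Submodule.mem_inf, mem_es, hf]
    have h1 := (Submodule.mem_inf.1 hv).2
    exact ⟨nt_mem ρ v, W.add_mem (W.add_mem h1 (hW _ _ h1)) (hW _ _ h1)⟩
  let D' : Submodule K C := D.comap C.subtype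
  let g : A →ₗ[K] C ⧸ D' := D'.mkQ.comp (f.restrict hfC)
  have h1 := LinearMap.finrank_range_add_finrank_ker g
  have h2 : finrank K (LinearMap.range g) ≤ finrank K (C ⧸ D') := Submodule.finrank_le _
  have h3 := Submodule.finrank_quotient_add_finrank D'
  have hDC : D ≤ C := inf_le_inf_left _ hUW
  have h4 : finrank K D' = finrank K D := (Submodule.comapSubtypeEquivOfLe hDC).finrank_eq
  have h5 : finrank K (LinearMap.ker g) ≤ finrank K B := by
    have hmem : ∀ v : LinearMap.ker g, ((v : A) : V) ∈ B := by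
      rintro ⟨v, hv⟩
      have h6 : f v ∈ D := by
        have h7 : g v = 0 := hv
        have h8 : (f.restrict hfC) v ∈ D' := (Submodule.Quotient.mk_eq_zero _).1 h7
        exact h8
      have h7 := (Submodule.mem_inf.1 v.2).1
      rw [mem_es] at h7
      have h8 := (Submodule.mem_inf.1 h6).2
      rw [hf] at h8
      rw [hB, Submodule.mem_inf, mem_es]
      refine ⟨h7, ?_⟩
      show (v : V) ∈ U
      rw [← key ρ h7]
      exact U.add_mem (U.add_mem (U.add_mem (U.add_mem h8 (hU _ _ h8)) (hU _ _ h8)) (hU _ _ h8))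
        (hU _ _ h8)
    let i : LinearMap.ker g →ₗ[K] B :=
      { toFun := fun v => ⟨v, hmem v⟩
        map_add' := fun _ _ => rfl
        map_smul' := fun _ _ => rfl }
    exact LinearMap.finrank_le_finrank_of_injective (f := i) fun x y hxy =>
      Subtype.ext (Subtype.ext (congrArg (fun z : B => (z : V)) hxy))
  omega

/-- conjugate subgroups have fixed spaces of equal dimension -/
theorem finrank_le [FiniteDimensional K V] (ρ : Representation K AF V) {x y : AF}
    (h : ∃ g : AF, (Subgroup.zpowers x).map (MulAut.conj g).toMonoidHom = Subgroup.zpowers y)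
    (W : Submodule K V) (hW : ∀ g, ∀ v ∈ W, ρ g v ∈ W) :
    finrank K ↥(es (ρ x) 1 ⊓ W) ≤ finrank K ↥(es (ρ y) 1 ⊓ W) := by
  obtain ⟨g, hg⟩ := h
  have hmem : ∀ v ∈ es (ρ x) 1 ⊓ W, ρ g v ∈ es (ρ y) 1 ⊓ W := by
    intro v hv
    obtain ⟨h1, h2⟩ := Submodule.mem_inf.1 hv
    rw [mem_es] at h1
    rw [Submodule.mem_inf, mem_es]
    refine ⟨?_, hW _ _ h2⟩
    have h3 : y ∈ (Subgroup.zpowers x).map (MulAut.conj g).toMonoidHom := by
      rw [hg]; exact Subgroup.mem_zpowers y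
    obtain ⟨w, hw, hwy⟩ := h3
    have h4 : g * w * g⁻¹ = y := hwy
    obtain ⟨k, hk⟩ := (mem_powers_iff_mem_zpowers (x := x)).2 hw
    have h5 : ρ w v = v := by
      have h6 : x ^ k = w := hk
      rw [← h6]
      exact fix_pow ρ h1 k
    rw [← h4, ← map_mul_apply, inv_mul_cancel_right, map_mul_apply, h5]
  let i : ↥(es (ρ x) 1 ⊓ W) →ₗ[K] ↥(es (ρ y) 1 ⊓ W) := (ρ g).restrict hmem
  refine LinearMap.finrank_le_finrank_of_injective (f := i) ?_
  intro v w hvw
  apply Subtype.ext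
  have h1 : ρ g (v : V) = ρ g (w : V) := congrArg Subtype.val hvw
  have h2 : ρ g⁻¹ (ρ g (v : V)) = ρ g⁻¹ (ρ g (w : V)) := by rw [h1]
  rw [← map_mul_apply, ← map_mul_apply, inv_mul_cancel, map_one] at h2
  exact h2

theorem card_AF : Nat.card AF = 60 := by
  have h := nat_card_alternatingGroup (α := Fin 5)
  rw [Nat.card_fin] at h
  exact h.trans (by decide)

theorem exists_conj {p : ℕ} (hp : p.Prime) {x y : AF} (hx : orderOf x = p) (hy : orderOf y = p)
    (h : ¬ p * p ∣ 60) :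
    ∃ g : AF, (Subgroup.zpowers x).map (MulAut.conj g).toMonoidHom = Subgroup.zpowers y := by
  have : Fact p.Prime := ⟨hp⟩
  exact Cfsg.Agent.H858.Abs.exists_conj_prime (p := p) (by rw [Nat.card_zpowers, hx])
    (by rw [Nat.card_zpowers, hy]) (by rw [card_AF]; exact h)

theorem finrank_eq [FiniteDimensional K V] (ρ : Representation K AF V) {p : ℕ} (hp : p.Prime)
    {x y : AF} (hx : orderOf x = p) (hy : orderOf y = p) (h : ¬ p * p ∣ 60) (W : Submodule K V)
    (hW : ∀ g, ∀ v ∈ W, ρ g v ∈ W) :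
    finrank K ↥(es (ρ x) 1 ⊓ W) = finrank K ↥(es (ρ y) 1 ⊓ W) :=
  le_antisymm (finrank_le ρ (exists_conj hp hx hy h) W hW)
    (finrank_le ρ (exists_conj hp hy hx h) W hW)

end

theorem orderOf_z0 : orderOf z0 = 5 := by
  have : Fact (Nat.Prime 5) := ⟨by norm_num⟩
  exact orderOf_eq_prime z0_pow z0_ne

theorem orderOf_t0 : orderOf t0 = 3 := by
  have : Fact (Nat.Prime 3) := ⟨by norm_num⟩
  refine orderOf_eq_prime ?_ t0_ne
  rw [pow_succ, pow_two, mul_assoc]
  exact t0_cube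

/-- `U` an invariant subspace of the invariant subspace `W`; an element `z` of order 5 and an element `t` of order 3 of
`A₅`: `dim W^z - dim U^z ≤ dim W^t - dim U^t`. -/
theorem five_le_three {K V : Type*} [Field K] [CharP K 2] [AddCommGroup V] [Module K V] [FiniteDimensional K V]
    (ρ : Representation K ↥(alternatingGroup (Fin 5)) V) {z t : ↥(alternatingGroup (Fin 5))}
    (hz : orderOf z = 5) (ht : orderOf t = 3) (U W : Submodule K V) (hUW : U ≤ W)
    (hU : ∀ g, ∀ v ∈ U, ρ g v ∈ U) (hW : ∀ g, ∀ v ∈ W, ρ g v ∈ W) :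
    finrank K ↥(es (ρ z) 1 ⊓ W) + finrank K ↥(es (ρ t) 1 ⊓ U) ≤
      finrank K ↥(es (ρ z) 1 ⊓ U) + finrank K ↥(es (ρ t) 1 ⊓ W) := by
  rw [finrank_eq ρ (by norm_num) hz orderOf_z0 (by norm_num) W hW,
    finrank_eq ρ (by norm_num) hz orderOf_z0 (by norm_num) U hU,
    finrank_eq ρ (by norm_num) ht orderOf_t0 (by norm_num) W hW,
    finrank_eq ρ (by norm_num) ht orderOf_t0 (by norm_num) U hU]
  exact le_zero ρ U W hUW hU hW

end Cfsg.Agent.H952.F4.AFive
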