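import Mathlib
import Cfsg.Agent.H952.F4.Scott_m3
import Cfsg.Agent.ChevalleyStructure.CorootGcd
import Cfsg.Agent.H952.F4.Jord
import Cfsg.Agent.H952.F4.TabClosed
import Cfsg.Agent.H65.E6Ext_m3
import Cfsg.Agent.H952.F4.TorDiag_m3
import Cfsg.Agent.Prune
set_option linter.all false

section
prune_inst 0x7f00000000000000000000000000000000000000000000000000000000000000000000000000000000000000000000000000000000000000000000000000000000000000000000000000000000000000003fffffffffffffffffffffffffffbeffbdffffffff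

-- part: H952/F4/FixV
section
set_option linter.all false
open scoped Cfsg.Agent.FastGrp

-- part: H952/F4/FixEv
section
/-!
# S5926, task F-F1: fixed spaces of elements of order prime to the characteristic (helper803)
-/

set_option autoImplicit false

namespace Cfsg.Agent.H952.F4.FixEv

open Module

variable {F V : Type*} [Field F] [AddCommGroup V] [Module F V]

theorem mem_es1 (T : Module.End F V) (v : V) : v ∈ T.eigenspace 1 ↔ T v = v := by
  rw [Module.End.mem_eigenspace_iff, one_smul]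

/-- the average of the powers of `T` -/
noncomputable def av (T : Module.End F V) (n : ℕ) (v : V) : V := (n : F)⁻¹ • ∑ i ∈ Finset.range n, (T ^ i) v

theorem av_fixed {T : Module.End F V} {n : ℕ} (hT : T ^ n = 1) (v : V) : T (av T n v) = av T n v := by
  unfold av
  rw [map_smul, map_sum]
  congr 1
  have h1 : ∑ i ∈ Finset.range n, T ((T ^ i) v) = ∑ i ∈ Finset.range n, (T ^ (i + 1)) v :=
    Finset.sum_congr rfl fun i _ => by rw [pow_succ', Module.End.mul_apply]
  rw [h1]
  have h2 := Finset.sum_range_succ (fun i => (T ^ i) v) n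
  have h3 := Finset.sum_range_succ' (fun i => (T ^ i) v) n
  rw [h2] at h3
  rw [hT, pow_zero] at h3
  exact (add_right_cancel h3).symm

theorem av_eq {W : Type*} [AddCommGroup W] [Module F W] {T : Module.End F V} {n : ℕ} (hn : (n : F) ≠ 0)
    (f : V →ₗ[F] W) {S : Module.End F W} (hf : ∀ v, f (T v) = S (f v)) {v : V} (hv : S (f v) = f v) :
    f (av T n v) = f v := by
  have h1 : ∀ i : ℕ, f ((T ^ i) v) = f v := by
    intro i
    induction i with
    | zero => rw [pow_zero, Module.End.one_apply]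
    | succ i ih => rw [pow_succ', Module.End.mul_apply, hf, ih, hv]
  unfold av
  rw [map_smul, map_sum, Finset.sum_congr rfl fun i _ => h1 i, Finset.sum_const, Finset.card_range,
    ← Nat.cast_smul_eq_nsmul F, smul_smul, inv_mul_cancel₀ hn, one_smul]

variable [FiniteDimensional F V]

omit [FiniteDimensional F V] in
theorem finrank_es_restrict {T : Module.End F V} {W : Submodule F V} (hW : W ≤ W.comap T) :
    ev (T.restrict hW) 1 = finrank F ↥(T.eigenspace 1 ⊓ W) := by
  unfold ev
  rw [← Submodule.finrank_map_subtype_eq W]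
  have : Submodule.map W.subtype (Module.End.eigenspace (T.restrict hW) 1) = T.eigenspace 1 ⊓ W := by
    ext v
    rw [Submodule.mem_map, Submodule.mem_inf, mem_es1]
    constructor
    · rintro ⟨w, hw, rfl⟩
      exact ⟨congrArg Subtype.val ((mem_es1 _ _).1 hw), w.2⟩
    · rintro ⟨h1, h2⟩
      exact ⟨⟨v, h2⟩, (mem_es1 _ _).2 (Subtype.ext h1), rfl⟩
  rw [this]

/-- exactness of the fixed spaces -/
theorem ev_map {W : Type*} [AddCommGroup W] [Module F W] [FiniteDimensional F W] {T : Module.End F V} {n : ℕ}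
    (hn : (n : F) ≠ 0) (hT : T ^ n = 1) (f : V →ₗ[F] W) (hfs : Function.Surjective f) {S : Module.End F W}
    (hf : ∀ v, f (T v) = S (f v)) :
    ev T 1 = ev S 1 + finrank F ↥(T.eigenspace 1 ⊓ LinearMap.ker f) := by
  have hmap : ∀ v ∈ T.eigenspace 1, f v ∈ S.eigenspace 1 := by
    intro v hv
    rw [mem_es1] at hv ⊢
    rw [← hf, hv]
  let φ : ↥(T.eigenspace 1) →ₗ[F] ↥(S.eigenspace 1) := f.restrict hmap
  have h1 : LinearMap.range φ = ⊤ := by
    rw [LinearMap.range_eq_top]
    rintro ⟨w, hw⟩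
    obtain ⟨v, rfl⟩ := hfs w
    rw [mem_es1] at hw
    exact ⟨⟨av T n v, (mem_es1 T _).2 (av_fixed hT v)⟩, Subtype.ext (av_eq hn f hf hw)⟩
  have h2 := LinearMap.finrank_range_add_finrank_ker φ
  rw [h1, finrank_top] at h2
  have h3 : finrank F ↥(LinearMap.ker φ) = finrank F ↥(T.eigenspace 1 ⊓ LinearMap.ker f) := by
    rw [← Submodule.finrank_map_subtype_eq (T.eigenspace 1)]
    have : Submodule.map (T.eigenspace 1).subtype (LinearMap.ker φ) = T.eigenspace 1 ⊓ LinearMap.ker f := by
      ext v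
      rw [Submodule.mem_map, Submodule.mem_inf]
      constructor
      · rintro ⟨w, hw, rfl⟩
        exact ⟨w.2, congrArg Subtype.val (LinearMap.mem_ker.1 hw)⟩
      · rintro ⟨h1, h2⟩
        exact ⟨⟨v, h1⟩, Subtype.ext h2, rfl⟩
    rw [this]
  unfold ev
  rw [← h2, h3]

/-- the kernel of an invariant linear form -/
theorem ev_ker {T : Module.End F V} {n : ℕ} (hn : (n : F) ≠ 0) (hT : T ^ n = 1) (f : V →ₗ[F] F) (hf0 : f ≠ 0)
    (hf : ∀ v, f (T v) = f v) (hW : LinearMap.ker f ≤ (LinearMap.ker f).comap T) :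
    ev T 1 = ev (T.restrict hW) 1 + 1 := by
  have hs : Function.Surjective f := LinearMap.surjective hf0
  have h := ev_map hn hT f hs (S := (1 : Module.End F F)) (fun v => by rw [hf, Module.End.one_apply])
  rw [h, finrank_es_restrict hW, add_comm]
  congr 1
  have : (1 : Module.End F F).eigenspace 1 = ⊤ := by
    rw [eq_top_iff]
    intro x _
    rw [mem_es1, Module.End.one_apply]
  unfold ev
  rw [this, finrank_top, finrank_self]

/-- the quotient by a fixed line -/
theorem ev_quot {T : Module.End F V} {n : ℕ} (hn : (n : F) ≠ 0) (hT : T ^ n = 1) {u : V} (hu : u ≠ 0) (hTu : T u = u)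
    (hW : Submodule.span F {u} ≤ (Submodule.span F {u}).comap T) :
    ev T 1 = ev (Submodule.mapQ (Submodule.span F {u}) (Submodule.span F {u}) T hW) 1 + 1 := by
  have h := ev_map hn hT (Submodule.span F {u}).mkQ (Submodule.mkQ_surjective _)
    (S := Submodule.mapQ (Submodule.span F {u}) (Submodule.span F {u}) T hW) (fun v => rfl)
  rw [h, Submodule.ker_mkQ]
  congr 1
  have : T.eigenspace 1 ⊓ Submodule.span F {u} = Submodule.span F {u} := by
    rw [inf_eq_right, Submodule.span_singleton_le_iff_mem, mem_es1]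
    exact hTu
  rw [this, finrank_span_singleton hu]

end Cfsg.Agent.H952.F4.FixEv
end

-- part: H952/F4/FixL
section
/-!
# S5926, task F-F1: the invariants of the adjoint module of `F₄` and of its dual (helper803)
-/

set_option autoImplicit false

namespace Cfsg.Agent.H952.F4.FixL

open Cfsg Cfsg.Lie Module
open Cfsg.Agent.ChevalleyStructure Cfsg.Agent.ChevalleyStructure.Elts
open scoped Matrix

universe u

variable {K : Type u} [Field K]

theorem LK_apply (g : ↥(chevF4.group K)) (v : chevF4.Idx → K) :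
    LK K g v = (((g : GL chevF4.Idx K) : Matrix chevF4.Idx chevF4.Idx K)) *ᵥ v := rfl

/-- the root element `x_r(t)` as an element of the group -/
noncomputable def xg (r : Fin chevF4.nroots) (t : K) : ↥(chevF4.group K) :=
  ⟨xG hF4 r.val t, Subgroup.subset_closure ⟨r, t, by rw [coe_xG, x_of_lt r.isLt]⟩⟩

theorem coe_xg (r : Fin chevF4.nroots) (t : K) :
    (((xg r t : ↥(chevF4.group K)) : GL chevF4.Idx K) : Matrix chevF4.Idx chevF4.Idx K) = chevF4.xMat K r t := by
  show ((xG hF4 r.val t : GL chevF4.Idx K) : Matrix chevF4.Idx chevF4.Idx K) = _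
  rw [coe_xG, x_of_lt r.isLt]

/-- the index of the negative -/
def ng (r : Fin chevF4.nroots) : Fin chevF4.nroots := ⟨chevF4.nroots - 1 - r.val, by
  have : 0 < chevF4.nroots := by decide
  omega⟩

theorem ng_val (r : Fin chevF4.nroots) : (ng r).val = chevF4.negIdx.getD r.val 0 :=
  (CorootGcd.neg_eq hF4 r.isLt).symm

theorem ng_ng (r : Fin chevF4.nroots) : ng (ng r) = r := by
  apply Fin.ext
  show chevF4.nroots - 1 - (chevF4.nroots - 1 - r.val) = r.val
  have := r.isLt
  omega

theorem ng_ne (r : Fin chevF4.nroots) : ng r ≠ r := by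
  revert r
  decide

/-- the coefficient `c_i(r)` of the coroot -/
def co (r : Fin chevF4.nroots) (i : Fin chevF4.rank) : ℤ := (chevF4.coroot.getD r.val #[]).getD i.val 0

/-- the Cartan integer `A_{i,r}` -/
def ca (i : Fin chevF4.rank) (r : Fin chevF4.nroots) : ℤ := (chevF4.cartanSR.getD i.val #[]).getD r.val 0

theorem xMat_ll (r : Fin chevF4.nroots) (t : K) (i' i : Fin chevF4.rank) :
    chevF4.xMat K r t (Sum.inl i') (Sum.inl i) = if i' = i then 1 else 0 := rfl

theorem xMat_rl (r : Fin chevF4.nroots) (t : K) (s : Fin chevF4.nroots) (i : Fin chevF4.rank) :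
    chevF4.xMat K r t (Sum.inr s) (Sum.inl i) = if s = r then -((ca i r : ℤ) : K) * t else 0 := rfl

theorem xMat_lr (r : Fin chevF4.nroots) (t : K) (i : Fin chevF4.rank) (s : Fin chevF4.nroots) :
    chevF4.xMat K r t (Sum.inl i) (Sum.inr s) = if s = ng r then ((co r i : ℤ) : K) * t else 0 := by
  show (if s = r then (0 : K) else if s.val = chevF4.negIdx.getD r.val 0 then ((co r i : ℤ) : K) * t else 0) = _
  rw [← ng_val]
  by_cases h1 : s = r
  · rw [if_pos h1, if_neg fun h => ng_ne r (h.symm.trans h1)]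
  · rw [if_neg h1]
    by_cases h2 : s = ng r
    · rw [if_pos h2, if_pos (by rw [h2])]
    · rw [if_neg h2, if_neg fun h => h2 (Fin.ext h)]

theorem exists_co (r : Fin chevF4.nroots) : ∃ i : Fin chevF4.rank, ((co r i : ℤ) : K) ≠ 0 :=
  CorootGcd.exists_coroot_ne_zero hF4 r.isLt

/-- the simple roots -/
def sim (j : Fin 4) : Fin chevF4.nroots :=
  ⟨![33, 27, 25, 24] j, by revert j; show ∀ j, ![33, 27, 25, 24] j < 48; decide⟩

theorem ca_sim : ∀ (i j : Fin 4), ca (show Fin chevF4.rank from i) (sim j) =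
    ![![2, -1, 0, 0], ![-1, 2, -2, 0], ![0, -1, 2, -1], ![0, 0, -1, 2]] i j := by
  decide +kernel

theorem co_sim : ∀ (i j : Fin 4), co (sim j) (show Fin chevF4.rank from i) = if i = j then 1 else 0 := by
  decide

/-- no vector of the adjoint module is fixed by all root elements -/
theorem eq_zero_of_fixed (v : chevF4.Idx → K) (hv : ∀ r : Fin chevF4.nroots, chevF4.xMat K r 1 *ᵥ v = v) : v = 0 := by
  have h1 : ∀ s : Fin chevF4.nroots, v (Sum.inr s) = 0 := by
    intro s
    obtain ⟨i, hi⟩ := exists_co (K := K) (ng s)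
    have h := congrFun (hv (ng s)) (Sum.inl i)
    simp only [Matrix.mulVec, dotProduct, Fintype.sum_sum_type, xMat_ll, xMat_lr, ite_mul, one_mul, zero_mul,
      Finset.sum_ite_eq, Finset.sum_ite_eq', Finset.mem_univ, if_true, ng_ng, mul_one] at h
    have h2 : ((co (ng s) i : ℤ) : K) * v (Sum.inr s) = 0 := by
      linear_combination h
    exact (mul_eq_zero.1 h2).resolve_left hi
  have h2 : ∀ r : Fin chevF4.nroots, ∑ i : Fin chevF4.rank, ((ca i r : ℤ) : K) * v (Sum.inl i) = 0 := by
    intro r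
    have h := congrFun (hv r) (Sum.inr r)
    simp only [Matrix.mulVec, dotProduct, Fintype.sum_sum_type, xMat_rl, if_true, h1, mul_zero,
      Finset.sum_const_zero, add_zero, mul_one, neg_mul, Finset.sum_neg_distrib, neg_eq_zero] at h
    exact h
  have h3 : ∀ i : Fin 4, v (Sum.inl (show Fin chevF4.rank from i)) = 0 := by
    have e : ∀ j : Fin 4, ∑ i : Fin 4, ((ca (show Fin chevF4.rank from i) (sim j) : ℤ) : K) *
        v (Sum.inl (show Fin chevF4.rank from i)) = 0 := fun j => h2 (sim j)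
    simp only [ca_sim] at e
    have e0 := e 0
    have e1 := e 1
    have e2 := e 2
    have e3 := e 3
    simp only [Fin.sum_univ_four, _root_.Nat.succ_eq_add_one, _root_.Nat.reduceAdd, _root_.Int.reduceNeg, _root_.Fin.isValue, _root_.Matrix.cons_val', _root_.Matrix.cons_val_zero, _root_.Matrix.cons_val_fin_one, _root_.Int.cast_ofNat, _root_.Matrix.cons_val_one, _root_.Int.cast_neg, _root_.Int.cast_one, _root_.neg_mul, _root_.one_mul, _root_.Matrix.cons_val, _root_.Int.cast_zero, _root_.MulZeroClass.zero_mul, _root_.add_zero, _root_.zero_add] at e0 e1 e2 e3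
    intro i
    fin_cases i
    · show v (Sum.inl (show Fin chevF4.rank from (0 : Fin 4))) = 0
      linear_combination 2 * e0 + 3 * e1 + 2 * e2 + e3
    · show v (Sum.inl (show Fin chevF4.rank from (1 : Fin 4))) = 0
      linear_combination 3 * e0 + 6 * e1 + 4 * e2 + 2 * e3
    · show v (Sum.inl (show Fin chevF4.rank from (2 : Fin 4))) = 0
      linear_combination 4 * e0 + 8 * e1 + 6 * e2 + 3 * e3
    · show v (Sum.inl (show Fin chevF4.rank from (3 : Fin 4))) = 0
      linear_combination 2 * e0 + 4 * e1 + 3 * e2 + 2 * e3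
  funext x
  rcases x with i | s
  · exact h3 i
  · exact h1 s

/-- the invariants of the adjoint module -/
theorem inv_L (K : Type u) [Field K] : (LK K).invariants = ⊥ := by
  rw [eq_bot_iff]
  intro v hv
  rw [Submodule.mem_bot]
  refine eq_zero_of_fixed v fun r => ?_
  have h := (Representation.mem_invariants _ v).1 hv (xg r 1)
  rw [LK_apply, coe_xg] at h
  exact h

theorem exists_ca (r : Fin chevF4.nroots) : ∃ i : Fin chevF4.rank, ((ca i r : ℤ) : K) ≠ 0 := by
  have key : ∀ r : Fin chevF4.nroots, ∃ i : Fin chevF4.rank, ca i r = 1 ∨ ca i r = -1 := by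
    decide +kernel
  obtain ⟨i, h | h⟩ := key r
  · exact ⟨i, by rw [h, Int.cast_one]; exact one_ne_zero⟩
  · exact ⟨i, by rw [h, Int.cast_neg, Int.cast_one]; exact neg_ne_zero.2 one_ne_zero⟩

/-- no linear form on the adjoint module is fixed by all root elements -/
theorem eq_zero_of_dual_fixed (f : (chevF4.Idx → K) →ₗ[K] K)
    (hf : ∀ (r : Fin chevF4.nroots) (v : chevF4.Idx → K), f (chevF4.xMat K r 1 *ᵥ v) = f v) : f = 0 := by
  set w : chevF4.Idx → K := fun j => f (Pi.single j 1) with hw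
  have hfw : ∀ v : chevF4.Idx → K, f v = ∑ j, v j * w j := by
    intro v
    conv_lhs => rw [pi_eq_sum_univ' v]
    rw [map_sum]
    refine Finset.sum_congr rfl fun j _ => ?_
    rw [map_smul, smul_eq_mul]
  have hcol : ∀ (r : Fin chevF4.nroots) (j : chevF4.Idx), ∑ i, chevF4.xMat K r 1 i j * w i = w j := by
    intro r j
    have h := hf r (Pi.single j 1)
    rw [hfw (_ *ᵥ _)] at h
    refine Eq.trans (Finset.sum_congr rfl fun i _ => ?_) h
    rw [Matrix.mulVec_single_one]
    rfl
  have h1 : ∀ s : Fin chevF4.nroots, w (Sum.inr s) = 0 := by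
    intro s
    obtain ⟨i, hi⟩ := exists_ca (K := K) s
    have h := hcol s (Sum.inl i)
    simp only [Fintype.sum_sum_type, xMat_ll, xMat_rl, ite_mul, one_mul, zero_mul,
      Finset.sum_ite_eq', Finset.mem_univ, if_true, mul_one] at h
    have h2 : ((ca i s : ℤ) : K) * w (Sum.inr s) = 0 := by
      linear_combination -h
    exact (mul_eq_zero.1 h2).resolve_left hi
  have h2 : ∀ r : Fin chevF4.nroots, ∑ i : Fin chevF4.rank, ((co r i : ℤ) : K) * w (Sum.inl i) = 0 := by
    intro r
    have h := hcol r (Sum.inr (ng r))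
    simp only [Fintype.sum_sum_type, xMat_lr, if_true, h1, mul_zero,
      Finset.sum_const_zero, add_zero, mul_one] at h
    exact h
  have h3 : ∀ i : Fin 4, w (Sum.inl (show Fin chevF4.rank from i)) = 0 := by
    have e : ∀ j : Fin 4, ∑ i : Fin 4, ((co (sim j) (show Fin chevF4.rank from i) : ℤ) : K) *
        w (Sum.inl (show Fin chevF4.rank from i)) = 0 := fun j => h2 (sim j)
    simp only [co_sim] at e
    intro j
    have := e j
    simpa using this
  ext j
  show f (Pi.single j 1) = 0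
  rcases j with i | s
  · exact h3 i
  · exact h1 s

/-- the invariants of the dual of the adjoint module -/
theorem inv_L_dual (K : Type u) [Field K] : (LK K).dual.invariants = ⊥ := by
  rw [eq_bot_iff]
  intro f hf
  rw [Submodule.mem_bot]
  refine eq_zero_of_dual_fixed f fun r v => ?_
  have h := (Representation.mem_invariants _ f).1 hf (xg r 1)⁻¹
  have h' := LinearMap.congr_fun h v
  rw [Representation.dual_apply, inv_inv] at h'
  rw [← coe_xg, ← LK_apply]
  exact h'

end Cfsg.Agent.H952.F4.FixL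

namespace Cfsg.Agent.H952.F4.Fix

universe u

/-- the invariants of the adjoint module -/
theorem L_invariants (K : Type u) [Field K] : (LK K).invariants = ⊥ := FixL.inv_L K

/-- the invariants of the dual of the adjoint module -/
theorem L_dual_invariants (K : Type u) [Field K] : (LK K).dual.invariants = ⊥ := FixL.inv_L_dual K

end Cfsg.Agent.H952.F4.Fix
end

-- part: H952/F4/FixV
section
/-!
# S5926, task F-F1: the modules `V₂₆` (`p ≥ 5`) and `V₂₅` (`p = 3`) of `F₄` (helper803)
-/

set_option autoImplicit false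

namespace Cfsg.Agent.H952.F4.FixV

open Cfsg Cfsg.Lie Module
open Cfsg.Agent.ChevalleyStructure Cfsg.Agent.ChevalleyStructure.Elts
open Cfsg.Agent.ChevalleyStructure.E6Min.Tables Cfsg.Agent.ChevalleyStructure.E6Min.Basic
open scoped Matrix

universe u

/-! ### fixed vectors -/

/-- for every code of a non-zero weight: a long root of `F₄` and a row -/
def tb : List (ℕ × ℕ) :=
  [(0, 0), (2, 15), (0, 25), (4, 15), (0, 0), (0, 24), (30, 25), (25, 24), (0, 0), (15, 7), (1, 7), (0, 7), (15, 6),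
   (1, 6), (0, 6), (41, 16), (6, 15), (5, 15), (4, 7), (2, 6), (0, 16), (21, 7), (16, 6), (0, 15), (22, 7), (17, 6),
   (1, 15)]

/-- is this the code of a zero weight? -/
def zw (c : ℕ) : Bool := c == 0 || c == 4 || c == 8

/-- the check of `tb` -/
def chk (c : ℕ) : Bool :=
  match dat.getD (tb.getD c (0, 0)).1 [] with
  | [(a, e)] => (e == 1 || e == -1) && decide ((tb.getD c (0, 0)).1 < 48) && decide ((tb.getD c (0, 0)).2 < 27) &&
      ! zw (tb.getD c (0, 0)).2 && (sgN a (tb.getD c (0, 0)).2 == 1 || sgN a (tb.getD c (0, 0)).2 == -1) &&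
      srN a (tb.getD c (0, 0)).2 == c
  | _ => false

theorem chk_all : ∀ c : Fin 27, zw c.val = true ∨ chk c.val = true := by decide +kernel

theorem not_diag : ∀ j : I27, zw (code j) = false → ¬ (j.1 = 0 ∧ j.2.1 = j.2.2) := by decide

variable {F : Type u} [Field F]

theorem yM_single {r a : ℕ} {e : ℤ} (h : dat.getD r [] = [(a, e)]) (t : F) : yM r t = zM a ((e : F) * t) := by
  unfold yM
  rw [h]
  simp

theorem yM_pair {r a b : ℕ} {e f : ℤ} (h : dat.getD r [] = [(a, e), (b, f)]) (t : F) :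
    yM r t = zM a ((e : F) * t) * zM b ((f : F) * t) := by
  unfold yM
  rw [h]
  simp

/-- a vector whose coordinates of non-zero weight are fixed by all root elements is a multiple of the unit -/
theorem eq_smul_u0 (x : I27 → F) (h : ∀ r < 48, ∀ j : I27, zw (code j) = false → (yM r (1 : F) *ᵥ x) j = x j) :
    x = x (0, 0, 0) • u0 F := by
  have h1 : ∀ j : I27, zw (code j) = false → x j = 0 := by
    intro m hm
    rcases chk_all ⟨code m, code_lt m⟩ with h2 | h2
    · exact absurd h2 (by simp only [hm]; decide)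
    · unfold chk at h2
      simp only at h2
      split at h2
      · rename_i a e he
        simp only [Bool.and_eq_true, Bool.or_eq_true, beq_iff_eq, decide_eq_true_eq, Bool.not_eq_true'] at h2
        obtain ⟨⟨⟨⟨⟨h3, h4⟩, h5⟩, h6⟩, h7⟩, h8⟩ := h2
        have h9 := h _ h4 (dec (tb.getD (code m) (0, 0)).2) (by rw [code_dec h5]; exact h6)
        rw [yM_single he, zM_mulVec] at h9
        have h10 : sr a (dec (tb.getD (code m) (0, 0)).2) = m := by
          unfold sr
          rw [code_dec h5, h8, dec_code]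
        have h11 : sg a (dec (tb.getD (code m) (0, 0)).2) = 1 ∨ sg a (dec (tb.getD (code m) (0, 0)).2) = -1 := by
          unfold sg
          rw [code_dec h5]
          exact h7
        rw [h10] at h9
        have h12 : ((e : F) * 1) * (((sg a (dec (tb.getD (code m) (0, 0)).2) : ℤ) : F) * x m) = 0 := by
          linear_combination h9
        rcases h3 with h3 | h3 <;> rcases h11 with h11 | h11 <;> rw [h3, h11] at h12 <;> simpa using h12
      · exact absurd h2 (by decide)
  have h2 : x (0, 0, 0) = x (0, 1, 1) := by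
    have h3 := h 3 (by decide) (1, 2, 0) (by decide)
    rw [yM_pair (r := 3) (a := 54) (b := 64) (e := 1) (f := 1) rfl, ← Matrix.mulVec_mulVec, zM_mulVec, zM_mulVec,
      zM_mulVec, (by decide +kernel : sg 54 (1, 2, 0) = 1), (by decide +kernel : sr 54 (1, 2, 0) = (0, 0, 0)),
      (by decide +kernel : sg 64 (1, 2, 0) = -1), (by decide +kernel : sr 64 (1, 2, 0) = (0, 1, 1)),
      (by decide +kernel : sr 64 (0, 0, 0) = (2, 0, 2)), h1 (2, 0, 2) (by decide)] at h3
    push_cast at h3
    linear_combination h3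
  have h3 : x (0, 0, 0) = x (0, 2, 2) := by
    have h3 := h 7 (by decide) (0, 2, 0) (by decide)
    rw [yM_pair (r := 7) (a := 14) (b := 33) (e := -1) (f := 1) rfl, ← Matrix.mulVec_mulVec, zM_mulVec, zM_mulVec,
      zM_mulVec, (by decide +kernel : sg 14 (0, 2, 0) = -1), (by decide +kernel : sr 14 (0, 2, 0) = (0, 0, 0)),
      (by decide +kernel : sg 33 (0, 2, 0) = -1), (by decide +kernel : sr 33 (0, 2, 0) = (0, 2, 2)),
      (by decide +kernel : sr 33 (0, 0, 0) = (0, 0, 2)), h1 (0, 0, 2) (by decide)] at h3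
    push_cast at h3
    linear_combination h3
  funext j
  by_cases hj : zw (code j) = true
  · have : j = (0, 0, 0) ∨ j = (0, 1, 1) ∨ j = (0, 2, 2) := by
      revert hj
      revert j
      decide
    rcases this with rfl | rfl | rfl
    · simp [u0]
    · simp [u0, h2]
    · simp [u0, h3]
  · rw [Bool.not_eq_true] at hj
    rw [h1 j hj]
    have := not_diag j hj
    simp [u0, this]

/-! ### the linear form and the bilinear form -/

open Cfsg.Agent.H952.F4.Jord

theorem neg_eq_smul (x : I27 → F) : -x = (-1 : F) • x := (neg_one_smul F x).symm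

theorem tr1_sub (x y : I27 → F) : tr1 (x - y) = tr1 x - tr1 y := by
  rw [sub_eq_add_neg, tr1_add, neg_eq_smul, tr1_smul]
  ring

theorem tf_sub_left (x x' y : I27 → F) : tf (x - x') y = tf x y - tf x' y := by
  rw [sub_eq_add_neg, tf_add_left, neg_eq_smul, tf_smul_left]
  ring

theorem tf_sub_right (x y y' : I27 → F) : tf x (y - y') = tf x y - tf x y' := by
  rw [tf_comm, tf_sub_left, tf_comm y, tf_comm y']

/-- the trace as a linear map -/
def trL (F : Type u) [Field F] : (I27 → F) →ₗ[F] F where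
  toFun := tr1
  map_add' := tr1_add
  map_smul' c x := by rw [tr1_smul, RingHom.id_apply, smul_eq_mul]

theorem trL_apply (x : I27 → F) : trL F x = tr1 x := rfl

theorem tr1_eq (x : I27 → F) : tr1 x = x (0, 0, 0) + x (0, 1, 1) + x (0, 2, 2) := by
  simp [tr1, mat3, Matrix.trace, Fin.sum_univ_three]

theorem exists_tr1_one : ∃ y : I27 → F, tr1 y = 1 := by
  refine ⟨Pi.single (0, 0, 0) 1, ?_⟩
  rw [tr1_eq]
  simp

theorem trL_ne_zero : trL F ≠ 0 := by
  obtain ⟨y, hy⟩ := exists_tr1_one (F := F)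
  intro h
  have := LinearMap.congr_fun h y
  rw [trL_apply, hy] at this
  exact one_ne_zero this

theorem u0_ne_zero : u0 F ≠ 0 := by
  intro h
  have := congrFun h (0, 0, 0)
  simp [u0] at this

/-- the trace form as a bilinear map -/
def tfL (F : Type u) [Field F] : (I27 → F) →ₗ[F] (I27 → F) →ₗ[F] F :=
  LinearMap.mk₂ F tf tf_add_left (fun c x y => by rw [tf_smul_left, smul_eq_mul])
    (fun x y y' => by rw [tf_comm, tf_add_left, tf_comm y, tf_comm y'])
    (fun c x y => by rw [tf_comm, tf_smul_left, tf_comm y, smul_eq_mul])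

theorem tfL_apply (x y : I27 → F) : tfL F x y = tf x y := rfl

/-- the vectors of trace zero -/
abbrev W0 (F : Type u) [Field F] : Submodule F (I27 → F) := LinearMap.ker (trL F)

theorem mem_W0 (x : I27 → F) : x ∈ W0 F ↔ tr1 x = 0 := LinearMap.mem_ker

theorem finrank_W0 : finrank F ↥(W0 F) = 26 := by
  have h := LinearMap.finrank_range_add_finrank_ker (trL F)
  rw [LinearMap.range_eq_top.2 (LinearMap.surjective trL_ne_zero), finrank_top, finrank_self,
    Module.finrank_fintype_fun_eq_card] at h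
  have h27 : Fintype.card I27 = 27 := by decide
  rw [h27] at h
  change 1 + finrank F ↥(W0 F) = 27 at h
  omega

theorem natCast_ne_zero {p : ℕ} [Fact p.Prime] [CharP F p] {n : ℕ} (h : n.Coprime p) : (n : F) ≠ 0 := by
  intro h0
  rw [CharP.cast_eq_zero_iff F p] at h0
  exact (Fact.out : p.Prime).one_lt.ne' (Nat.eq_one_of_dvd_coprimes h h0 dvd_rfl)

section rep

variable {ρ : ↥(chevF4.group F) →* GL I27 F}

theorem JK_apply (ρ : ↥(chevF4.group F) →* GL I27 F) (g : ↥(chevF4.group F)) (x : I27 → F) :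
    JK ρ g x = ((ρ g : GL I27 F) : Matrix I27 I27 F) *ᵥ x := rfl

theorem JK_xg (hρ : IsJ ρ) (r : Fin chevF4.nroots) (t : F) (x : I27 → F) :
    JK ρ (FixL.xg r t) x = yM r.val t *ᵥ x := by
  rw [JK_apply, hρ r t _ (FixL.coe_xg r t)]

theorem JK_pow (g : ↥(chevF4.group F)) : (JK ρ g) ^ orderOf g = 1 := by
  rw [← map_pow, pow_orderOf_eq_one, map_one]

variable (htr : ∀ g x, tr1 (JK ρ g x) = tr1 x)
include htr

theorem W0_le (g : ↥(chevF4.group F)) : W0 F ≤ (W0 F).comap (JK ρ g) := by
  intro x hx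
  rw [Submodule.mem_comap, mem_W0, htr]
  exact (mem_W0 x).1 hx

/-- `V₂₆` -/
theorem exists_V26 (p : ℕ) [Fact p.Prime] [CharP F p] (h3 : (3 : F) ≠ 0) (hρ : IsJ ρ)
    (hu : ∀ g, JK ρ g (u0 F) = u0 F) (htf : ∀ g x y, tf (JK ρ g x) (JK ρ g y) = tf x y) :
    ∃ (V : Type u) (_ : AddCommGroup V) (_ : Module F V) (σ : Representation F ↥(chevF4.group F) V),
      Mod p 26 1 (JK ρ) σ ∧ ∀ X : Set ↥(chevF4.group F), (∀ v : V, (∀ g ∈ X, σ g v = v) → v = 0) →
        ∀ x : I27 → F, (∀ g ∈ X, JK ρ g x = x) → ∃ c : F, x = c • u0 F := by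
  refine ⟨↥(W0 F), inferInstance, inferInstance, (JK ρ).subrepresentation (W0 F) (W0_le htr), ?_, ?_⟩
  · refine ⟨inferInstance, finrank_W0, ⟨(tfL F).compl₁₂ (W0 F).subtype (W0 F).subtype, ?_, ?_⟩, ?_, ?_⟩
    · rintro ⟨v, hv⟩ h
      refine Subtype.ext ?_
      refine tf_nondeg fun y => ?_
      rw [mem_W0] at hv
      have h1 : tr1 (y - (tr1 y / 3) • u0 F) = 0 := by
        rw [tr1_sub, tr1_smul, tr1_u0]
        field_simp
        ring
      have h2 : tf v (y - (tr1 y / 3) • u0 F) = 0 := h ⟨_, (mem_W0 _).2 h1⟩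
      rw [tf_sub_right, tf_smul_right, tf_comm v (u0 F), tf_u0, hv, mul_zero, sub_zero] at h2
      exact h2
    · rintro g ⟨v, hv⟩ ⟨w, hw⟩
      exact htf g v w
    · rw [eq_bot_iff]
      rintro ⟨v, hv⟩ hinv
      rw [Submodule.mem_bot]
      refine Subtype.ext ?_
      show v = 0
      have h1 := eq_smul_u0 v fun r hr j _ => by
        have h2 := (Representation.mem_invariants _ _).1 hinv (FixL.xg ⟨r, hr⟩ 1)
        have h3 : JK ρ (FixL.xg ⟨r, hr⟩ 1) v = v := congrArg Subtype.val h2
        rw [JK_xg hρ] at h3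
        rw [h3]
      rw [mem_W0, h1, tr1_smul, tr1_u0] at hv
      rw [h1, (mul_eq_zero.1 hv).resolve_right h3, zero_smul]
    · intro g hg
      exact FixEv.ev_ker (natCast_ne_zero hg) (JK_pow g) (trL F) trL_ne_zero (fun v => htr g v) (W0_le htr g)
  · intro X hX x hx
    have h1 : tr1 (x - (tr1 x / 3) • u0 F) = 0 := by
      rw [tr1_sub, tr1_smul, tr1_u0]
      field_simp
      ring
    have h2 := hX ⟨_, (mem_W0 _).2 h1⟩ fun g hg => by
      refine Subtype.ext ?_
      show JK ρ g (x - (tr1 x / 3) • u0 F) = _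
      rw [map_sub, map_smul, hx g hg, hu]
    exact ⟨tr1 x / 3, sub_eq_zero.1 (congrArg Subtype.val h2)⟩

/-- `V₂₅`, characteristic 3 -/
theorem exists_V25 [CharP F 3] (hρ : IsJ ρ)
    (hu : ∀ g, JK ρ g (u0 F) = u0 F) (htf : ∀ g x y, tf (JK ρ g x) (JK ρ g y) = tf x y) :
    ∃ (V : Type u) (_ : AddCommGroup V) (_ : Module F V) (σ : Representation F ↥(chevF4.group F) V),
      Mod 3 25 2 (JK ρ) σ ∧ ∀ X : Set ↥(chevF4.group F), (∀ v : V, (∀ g ∈ X, σ g v = v) → v = 0) →
        ∀ x : I27 → F, tr1 x = 0 → (∀ g ∈ X, JK ρ g x = x) → ∃ c : F, x = c • u0 F := by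
  have h30 : (3 : F) = 0 := by
    have := CharP.cast_eq_zero F 3
    exact_mod_cast this
  have : Fact (Nat.Prime 3) := ⟨Nat.prime_three⟩
  have huW : u0 F ∈ W0 F := by rw [mem_W0, tr1_u0, h30]
  let uW : ↥(W0 F) := ⟨u0 F, huW⟩
  have huW0 : uW ≠ 0 := fun h => u0_ne_zero (congrArg Subtype.val h)
  let U : Submodule F ↥(W0 F) := Submodule.span F {uW}
  let τ : Representation F ↥(chevF4.group F) ↥(W0 F) := (JK ρ).subrepresentation (W0 F) (W0_le htr)
  have hτ : ∀ g (w : ↥(W0 F)), ((τ g w : ↥(W0 F)) : I27 → F) = JK ρ g w := fun g w => rfl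
  have hτu : ∀ g, τ g uW = uW := fun g => Subtype.ext (hu g)
  have hU : ∀ g, U ≤ U.comap (τ g) := by
    intro g
    rw [Submodule.span_singleton_le_iff_mem, Submodule.mem_comap, hτu]
    exact Submodule.mem_span_singleton_self _
  have memU : ∀ w : ↥(W0 F), w ∈ U ↔ ∃ c : F, (w : I27 → F) = c • u0 F := by
    intro w
    rw [Submodule.mem_span_singleton]
    constructor
    · rintro ⟨c, rfl⟩
      exact ⟨c, rfl⟩
    · rintro ⟨c, hc⟩
      exact ⟨c, Subtype.ext hc.symm⟩
  let B0 : ↥(W0 F) →ₗ[F] ↥(W0 F) →ₗ[F] F := (tfL F).compl₁₂ (W0 F).subtype (W0 F).subtype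
  have hB0 : ∀ v w : ↥(W0 F), B0 v w = tf (v : I27 → F) w := fun v w => rfl
  have hB0u : U ≤ LinearMap.ker B0 := by
    rw [Submodule.span_singleton_le_iff_mem, LinearMap.mem_ker]
    refine LinearMap.ext fun w => ?_
    rw [hB0]
    show tf (u0 F) (w : I27 → F) = 0
    rw [tf_u0]
    exact (mem_W0 _).1 w.2
  let C : (↥(W0 F) ⧸ U) →ₗ[F] ↥(W0 F) →ₗ[F] F := U.liftQ B0 hB0u
  have hCu : U ≤ LinearMap.ker C.flip := by
    rw [Submodule.span_singleton_le_iff_mem, LinearMap.mem_ker]
    refine LinearMap.ext fun q => ?_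
    obtain ⟨w, rfl⟩ := Submodule.mkQ_surjective _ q
    show tf (w : I27 → F) (u0 F) = 0
    rw [tf_comm, tf_u0]
    exact (mem_W0 _).1 w.2
  let D : (↥(W0 F) ⧸ U) →ₗ[F] (↥(W0 F) ⧸ U) →ₗ[F] F := U.liftQ C.flip hCu
  have hD : ∀ v w : ↥(W0 F), D (U.mkQ v) (U.mkQ w) = tf (w : I27 → F) v := fun v w => rfl
  refine ⟨↥(W0 F) ⧸ U, inferInstance, inferInstance, τ.quotient U hU, ?_, ?_⟩
  · refine ⟨inferInstance, ?_, ⟨D, ?_, ?_⟩, ?_, ?_⟩
    · have h := Submodule.finrank_quotient_add_finrank U
      rw [finrank_span_singleton huW0, finrank_W0] at h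
      omega
    · intro q h
      obtain ⟨v, rfl⟩ := Submodule.mkQ_surjective _ q
      obtain ⟨y0, hy0⟩ := exists_tr1_one (F := F)
      have h1 : ∀ w : I27 → F, tr1 w = 0 → tf (v : I27 → F) w = 0 := by
        intro w hw
        rw [tf_comm]
        exact h (U.mkQ ⟨w, (mem_W0 w).2 hw⟩)
      have h2 : (v : I27 → F) = tf (v : I27 → F) y0 • u0 F := by
        rw [← sub_eq_zero]
        refine tf_nondeg fun y => ?_
        have h3 := h1 (y - tr1 y • y0) (by rw [tr1_sub, tr1_smul, hy0, mul_one, sub_self])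
        rw [tf_sub_right, tf_smul_right] at h3
        rw [tf_sub_left, tf_smul_left, tf_u0]
        linear_combination h3
      show Submodule.Quotient.mk v = 0
      rw [Submodule.Quotient.mk_eq_zero]
      exact (memU v).2 ⟨_, h2⟩
    · intro g v w
      obtain ⟨v, rfl⟩ := Submodule.mkQ_surjective _ v
      obtain ⟨w, rfl⟩ := Submodule.mkQ_surjective _ w
      exact htf g w v
    · rw [eq_bot_iff]
      intro q hinv
      rw [Submodule.mem_bot]
      obtain ⟨v, rfl⟩ := Submodule.mkQ_surjective _ q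
      show Submodule.Quotient.mk v = 0
      rw [Submodule.Quotient.mk_eq_zero, memU]
      refine ⟨_, eq_smul_u0 (v : I27 → F) fun r hr j hj => ?_⟩
      have h2 := (Representation.mem_invariants _ _).1 hinv (FixL.xg ⟨r, hr⟩ 1)
      have h3 : (Submodule.Quotient.mk (τ (FixL.xg ⟨r, hr⟩ 1) v) : ↥(W0 F) ⧸ U) = Submodule.Quotient.mk v := h2
      rw [Submodule.Quotient.eq, memU] at h3
      obtain ⟨c, hc⟩ := h3
      have h4 := congrFun hc j
      have h5 := not_diag j hj
      have h6 : JK ρ (FixL.xg ⟨r, hr⟩ 1) (v : I27 → F) j - (v : I27 → F) j = c * u0 F j := h4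
      rw [JK_xg hρ] at h6
      have h7 : u0 F j = 0 := by simp [u0, h5]
      rw [h7, mul_zero, sub_eq_zero] at h6
      exact h6
    · intro g hg
      rw [FixEv.ev_ker (natCast_ne_zero hg) (JK_pow g) (trL F) trL_ne_zero (fun v => htr g v) (W0_le htr g)]
      have h1 : τ g ^ orderOf g = 1 := by rw [← map_pow, pow_orderOf_eq_one, map_one]
      have h2 := FixEv.ev_quot (natCast_ne_zero hg) h1 huW0 (hτu g) (hU g)
      show ev (τ g) 1 + 1 = ev ((τ.quotient U hU) g) 1 + 2
      rw [h2]
      rfl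
  · intro X hX x hx0 hx
    have h1 := hX (U.mkQ ⟨x, (mem_W0 x).2 hx0⟩) fun g hg => by
      show U.mkQ (τ g ⟨x, (mem_W0 x).2 hx0⟩) = _
      congr 1
      exact Subtype.ext (hx g hg)
    have h2 : (Submodule.Quotient.mk ⟨x, (mem_W0 x).2 hx0⟩ : ↥(W0 F) ⧸ U) = 0 := h1
    rw [Submodule.Quotient.mk_eq_zero, memU] at h2
    exact h2

end rep

end Cfsg.Agent.H952.F4.FixV
end

private theorem dce_f07748c3ed12 : _root_.True := by
  try have : _root_.True := by simp only [_root_.Cfsg.Agent.H952.F4.FixV.chk._sparseCasesOn_1.else_eq]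
  try have : _root_.True := by simp only [_root_.Cfsg.Agent.H952.F4.FixV.chk._sparseCasesOn_2.else_eq]
  exact _root_.True.intro
end

-- part: H952/F4/Tab
section
set_option linter.all false
open scoped Cfsg.Agent.FastGrp

/-!
# S5926: class tables of the elements of order 2, 3, 4, 5, 7 of `F₄` (helper755)

`Tor.tab_closed` (over an algebraically closed field, `TabClosed.lean`), `Tor.tab_finite` (over a finite field).
-/

set_option autoImplicit false

namespace Cfsg.Agent.H952.F4.Tor

open Cfsg Cfsg.Lie Module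
open Cfsg.Agent.ChevalleyStructure Cfsg.Agent.ChevalleyStructure.Elts Cfsg.Agent.ChevalleyStructure.RootVecTab
open Cfsg.Agent.ChevalleyStructure.E6Min.Tables Cfsg.Agent.ChevalleyStructure.E6Min.Basic
open Cfsg.Agent.GpExc.Field (emb)
open Cfsg.Agent.BpExc.TorAll Cfsg.Agent.BpExc.TorChev

universe u

/-- **The class tables over a finite field.** -/
theorem tab_finite (p : ℕ) [Fact p.Prime] {F : Type u} [Field F] [Finite F] [CharP F p]
    {ρ : ↥(chevF4.group F) →* GL I27 F} (hρ : IsJ ρ) : Tab p (LK F) (JK ρ) := by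
  set K := AlgebraicClosure F with hKdef
  have hch : CharP K p := charP_of_injective_algebraMap (algebraMap F K).injective p
  have hK : HAlg p K := Cfsg.Agent.H944.RootVals.hAlg_closure p F
  set f : F →+* K := algebraMap F K with hf
  obtain ⟨ρ', hρ'⟩ := JMod.exists_isJ K
  have T := tab_closed p hK hρ'
  have hfi : Function.Injective f := f.injective
  have inj : Function.Injective (emb hF4 f) := Cfsg.Agent.GpExc.Field.emb_injective hF4 f
  have eL : ∀ x μ, ev (LK K (emb hF4 f x)) (f μ) = ev (LK F x) μ := fun x μ => Chg.ev_L f x μ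
  have eJ : ∀ x μ, ev (JK ρ' (emb hF4 f x)) (f μ) = ev (JK ρ x) μ := fun x μ => Chg.ev_J f hρ hρ' x μ
  have eL1 : ∀ x, ev (LK K (emb hF4 f x)) 1 = ev (LK F x) 1 := fun x => by rw [← eL, map_one]
  have eJ1 : ∀ x, ev (JK ρ' (emb hF4 f x)) 1 = ev (JK ρ x) 1 := fun x => by rw [← eJ, map_one]
  have tL : ∀ x, LinearMap.trace K _ (LK K (emb hF4 f x)) = f (LinearMap.trace F _ (LK F x)) :=
    fun x => Chg.trace_L f x
  have tJ : ∀ x, LinearMap.trace K _ (JK ρ' (emb hF4 f x)) = f (LinearMap.trace F _ (JK ρ x)) :=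
    fun x => Chg.trace_J f hρ hρ' x
  have ne : ∀ {x : ↥(chevF4.group F)}, x ≠ 1 → emb hF4 f x ≠ 1 := fun h h' => h (inj (by rw [h', map_one]))
  have po : ∀ {x : ↥(chevF4.group F)} {k : ℕ}, x ^ k = 1 → (emb hF4 f x) ^ k = 1 := fun h => by
    rw [← map_pow, h, map_one]
  have ct : ∀ {a : F} (n : ℤ), f a = (n : K) → a = n := fun {a} n h => hfi (by rw [h, map_intCast])
  refine ⟨?_, ?_, ?_, ?_, ?_, ?_, ?_⟩
  · intro hp x hx1 hx
    have h := T.two hp (emb hF4 f x) (ne hx1) (by rw [← map_mul, hx, map_one])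
    rw [eL1, eJ1, tL, tJ] at h
    rcases h with ⟨h1, h2, h3, h4⟩ | ⟨h1, h2, h3, h4⟩
    · left
      refine ⟨h1, h2, ?_, ?_⟩
      · exact_mod_cast ct 3 (by exact_mod_cast h3)
      · exact_mod_cast ct (-4) (by exact_mod_cast h4)
    · right
      refine ⟨h1, h2, ?_, ?_⟩
      · exact_mod_cast ct (-5) (by exact_mod_cast h3)
      · exact_mod_cast ct 20 (by exact_mod_cast h4)
  · intro hp x hx1 hx
    have h := T.three hp (emb hF4 f x) (ne hx1) (po hx)
    rw [eL1, eJ1, tL, tJ] at h
    rcases h with ⟨h1, h2, h3, h4⟩ | ⟨h1, h2, h3, h4⟩ | ⟨h1, h2, h3, h4⟩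
    · left
      refine ⟨h1, h2, ?_, ?_⟩
      · exact_mod_cast ct 9 (by exact_mod_cast h3)
      · exact_mod_cast ct 7 (by exact_mod_cast h4)
    · right; left
      refine ⟨h1, h2, ?_, ?_⟩
      · exact_mod_cast ct 0 (by exact_mod_cast h3)
      · exact_mod_cast ct 7 (by exact_mod_cast h4)
    · right; right
      refine ⟨h1, h2, ?_, ?_⟩
      · exact_mod_cast ct 0 (by exact_mod_cast h3)
      · exact_mod_cast ct (-2) (by exact_mod_cast h4)
  · intro hp x hx1 hx
    have h := T.four hp (emb hF4 f x) (by rw [← map_mul]; exact ne hx1) (po hx)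
    rw [← map_mul, eL1, eJ1, eL1, eJ1, tL, tJ] at h
    rcases h with ⟨g1, g2, h1, h2, h3, h4⟩ | ⟨g1, g2, h1, h2, h3, h4⟩ | ⟨g1, g2, h1, h2, h3, h4⟩ |
      ⟨g1, g2, h1, h2, h3, h4⟩ | ⟨g1, g2, h1, h2, h3, h4⟩
    · left
      refine ⟨g1, g2, h1, h2, ?_, ?_⟩
      · exact_mod_cast ct (-1) (by exact_mod_cast h3)
      · exact_mod_cast ct 0 (by exact_mod_cast h4)
    · right; left
      refine ⟨g1, g2, h1, h2, ?_, ?_⟩
      · exact_mod_cast ct 7 (by exact_mod_cast h3)
      · exact_mod_cast ct 8 (by exact_mod_cast h4)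
    · right; right; left
      refine ⟨g1, g2, h1, h2, ?_, ?_⟩
      · exact_mod_cast ct (-1) (by exact_mod_cast h3)
      · exact_mod_cast ct 4 (by exact_mod_cast h4)
    · right; right; right; left
      refine ⟨g1, g2, h1, h2, ?_, ?_⟩
      · exact_mod_cast ct 3 (by exact_mod_cast h3)
      · exact_mod_cast ct 0 (by exact_mod_cast h4)
    · right; right; right; right
      refine ⟨g1, g2, h1, h2, ?_, ?_⟩
      · exact_mod_cast ct 15 (by exact_mod_cast h3)
      · exact_mod_cast ct 20 (by exact_mod_cast h4)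
  · intro hp x hx i hi
    have h := T.four_i hp (emb hF4 f x) (po hx) (f i) (by rw [← map_mul, hi, map_neg, map_one])
    rw [← map_neg, eJ, eJ] at h
    exact h
  · intro hp x hx1 hx
    have h := T.five hp (emb hF4 f x) (ne hx1) (po hx)
    rw [eL1, eJ1] at h
    exact h
  · rintro hp x hx1 hx ⟨g, hg⟩
    have h := T.five_rat hp (emb hF4 f x) (ne hx1) (po hx) ⟨emb hF4 f g, by
      rw [← map_inv, ← map_mul, ← map_mul, hg, map_pow]⟩
    rw [eL1, eJ1, tL, tJ] at h
    obtain ⟨h1, h2, h3, h4⟩ := h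
    refine ⟨h1, h2, ?_, ?_⟩
    · exact_mod_cast ct 2 (by exact_mod_cast h3)
    · exact_mod_cast ct 2 (by exact_mod_cast h4)
  · rintro hp x hx1 hx ⟨g, hg⟩
    have h := T.seven_rat hp (emb hF4 f x) (ne hx1) (po hx) ⟨emb hF4 f g, by
      rw [← map_inv, ← map_mul, ← map_mul, hg, map_pow]⟩
    rw [eL1, eJ1, tL, tJ] at h
    obtain ⟨h1, h2, ⟨h3, h4⟩ | ⟨h3, h4⟩⟩ := h
    · refine ⟨h1, ?_, Or.inl ⟨h3, ?_⟩⟩
      · exact_mod_cast ct 3 (by exact_mod_cast h2)
      · exact_mod_cast ct (-1) (by exact_mod_cast h4)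
    · refine ⟨h1, ?_, Or.inr ⟨h3, ?_⟩⟩
      · exact_mod_cast ct 3 (by exact_mod_cast h2)
      · exact_mod_cast ct 6 (by exact_mod_cast h4)

end Cfsg.Agent.H952.F4.Tor
end
end
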