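import Mathlib
import Cfsg.Agent.H952.F4.Scott_m3
import Cfsg.Agent.Lib.FastPerm
import Cfsg.Agent.H952.F4.FixV_m3
import Cfsg.Agent.H952.F4.TorDiag_m3
import Cfsg.Agent.H952.F4.Jord
import Cfsg.Agent.H65.E6Ext_m3
import Cfsg.Agent.S1054
import Cfsg.Agent.S1062
import Cfsg.Agent.FastGrp
import Cfsg.Agent.Prune
set_option linter.all false

section
prune_inst 0x7fbfeff9fbbce9dfdfff7e7fafdedffdffbb3fffe6dff9cbffe0ebff0b9f4b82c9e56b8d0fea10fe0ef7e21410f87b53ffffffffeb6fdc7ffffd5ff41ffbffcfedf7b50851de88b40f3c0fff03f0778e7f3fffffffffffffffffffffffffffbeffffffffffff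

-- part: H952/F4/KillBase
section
prune_inst 0x10060440122020000000502120020044800010200400000c0000e04034082600900280014a00510800a0c100008000000000100022000000a000c0000000000008010020140000802000e000080000000000000000000000000000000000000000000000
set_option linter.all false
open scoped Cfsg.Agent.FastGrp

/-!
# S5926, task F-B1: trace identities for `A₇` (helper328)

`exists_tr`, `exists_tr_seven`; `rel_sgn_zero_aux`, `rel_73_aux`: the relations from the vanishing of the intersections of eigenspaces.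
-/

set_option autoImplicit false
set_option linter.unusedSectionVars false

namespace Cfsg.Agent.H952.F4.Kill

open Cfsg Cfsg.Lie Module Finset

section Gen

variable {K V G : Type*} [Field K] [AddCommGroup V] [Module K V] [Group G]

/-- the geometric sum of an operator with `T ^ k = 1` maps to the eigenspace. -/
theorem geom_mem (T : V →ₗ[K] V) {k : ℕ} (hT : T ^ k = 1) {μ : K} (hμ : μ ^ k = 1) (hk : 0 < k) (v : V) :
    (∑ j ∈ range k, (μ⁻¹) ^ j • (T ^ j) v) ∈ es T μ := by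
  have hμ0 : μ ≠ 0 := by
    rintro rfl
    rw [zero_pow hk.ne'] at hμ
    exact zero_ne_one hμ
  have h1 : T (∑ j ∈ range k, (μ⁻¹) ^ j • (T ^ j) v) =
      μ • ∑ j ∈ range k, (μ⁻¹) ^ (j + 1) • (T ^ (j + 1)) v := by
    rw [map_sum, smul_sum]
    refine sum_congr rfl fun j _ => ?_
    rw [map_smul, pow_succ' T, smul_smul, pow_succ, mul_comm _ (μ⁻¹), ← mul_assoc, mul_inv_cancel₀ hμ0, one_mul]
    rfl
  have h2 : ∑ j ∈ range k, (μ⁻¹) ^ (j + 1) • (T ^ (j + 1)) v = ∑ j ∈ range k, (μ⁻¹) ^ j • (T ^ j) v := by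
    have h3 := sum_range_succ (fun j => (μ⁻¹) ^ j • (T ^ j) v) k
    have h4 := sum_range_succ' (fun j => (μ⁻¹) ^ j • (T ^ j) v) k
    rw [h3] at h4
    have h5 : (μ⁻¹) ^ k • (T ^ k) v = (μ⁻¹) ^ 0 • (T ^ 0) v := by
      rw [hT, inv_pow, hμ, pow_zero, pow_zero, inv_one]
    rw [h5] at h4
    exact (add_right_cancel h4).symm
  rw [es, Module.End.mem_eigenspace_iff, h1, h2]

/-- if a linear character of the metacyclic group `⟨z, c⟩` does not occur in `V`, then the corresponding idempotent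
is zero. -/
theorem sum_trace_zero (ρ : Representation K G V) {z c : G} {m k b : ℕ} (hz : z ^ m = 1) (hc : c ^ k = 1)
    (hm : 0 < m) (hk : 0 < k) (hzc : z * c = c * z ^ b) {μ : K} (hμ : μ ^ k = 1) (h0 : es (ρ z) 1 ⊓ es (ρ c) μ = ⊥)
    (g : G) : ∑ j ∈ range k, ∑ i ∈ range m, (μ⁻¹) ^ j * LinearMap.trace K V (ρ (c ^ j * z ^ i * g)) = 0 := by
  have hmem : ∀ w : V, w ∈ es (ρ z) 1 → ∀ j : ℕ, ρ (c ^ j) w ∈ es (ρ z) 1 := by
    intro w hw j
    have hstep : ∀ w : V, w ∈ es (ρ z) 1 → ρ c w ∈ es (ρ z) 1 := by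
      intro w hw
      rw [es, Module.End.mem_eigenspace_iff, one_smul] at hw ⊢
      have hb : ρ (z ^ b) w = w := by
        rw [map_pow]
        clear hzc
        induction b with
        | zero => simp
        | succ b ih => rw [pow_succ, Module.End.mul_apply, hw, ih]
      rw [← Module.End.mul_apply, ← map_mul, hzc, map_mul, Module.End.mul_apply, hb]
    induction j with
    | zero => simpa using hw
    | succ j ih =>
      rw [pow_succ', map_mul, Module.End.mul_apply]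
      exact hstep _ ih
  have hop : ∑ j ∈ range k, ∑ i ∈ range m, (μ⁻¹) ^ j • (ρ (c ^ j * z ^ i * g) : V →ₗ[K] V) = 0 := by
    refine LinearMap.ext fun v => ?_
    have hT : (ρ z) ^ m = 1 := by rw [← map_pow, hz, map_one]
    have hC : (ρ c) ^ k = 1 := by rw [← map_pow, hc, map_one]
    have hw := geom_mem (K := K) (ρ z) hT (one_pow m) hm (ρ g v)
    have hu := geom_mem (K := K) (ρ c) hC hμ hk (∑ i ∈ range m, ((1 : K)⁻¹) ^ i • ((ρ z) ^ i) (ρ g v))
    have hu' : (∑ j ∈ range k, (μ⁻¹) ^ j • ((ρ c) ^ j) (∑ i ∈ range m, ((1 : K)⁻¹) ^ i • ((ρ z) ^ i) (ρ g v))) ∈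
        es (ρ z) 1 := by
      refine Submodule.sum_mem _ fun j _ => Submodule.smul_mem _ _ ?_
      rw [← map_pow]
      exact hmem _ hw j
    have h3 := Submodule.mem_inf.2 ⟨hu', hu⟩
    rw [h0, Submodule.mem_bot] at h3
    rw [LinearMap.zero_apply, LinearMap.sum_apply]
    refine Eq.trans (sum_congr rfl fun j _ => ?_) h3
    rw [LinearMap.sum_apply, map_sum, smul_sum]
    refine sum_congr rfl fun i _ => ?_
    rw [LinearMap.smul_apply, inv_one, one_pow, one_smul, map_mul, map_mul, map_pow, map_pow]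
    rfl
  have h := congrArg (LinearMap.trace K V) hop
  rw [map_zero, map_sum] at h
  rw [← h]
  refine sum_congr rfl fun j _ => ?_
  rw [map_sum]
  refine sum_congr rfl fun i _ => ?_
  rw [map_smul, smul_eq_mul]

end Gen

/-- the 5-cycle `(0 1 2 3 4)` -/
def zz : ↥(alternatingGroup (Fin 7)) :=
  ⟨⟨![1, 2, 3, 4, 0, 5, 6], ![4, 0, 1, 2, 3, 5, 6], by decide, by decide⟩, by
    rw [Equiv.Perm.mem_alternatingGroup]; decide⟩

/-- the element `(1 2 4 3)(5 6)` -/
def cc : ↥(alternatingGroup (Fin 7)) :=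
  ⟨⟨![0, 2, 4, 1, 3, 6, 5], ![0, 3, 1, 4, 2, 6, 5], by decide, by decide⟩, by
    rw [Equiv.Perm.mem_alternatingGroup]; decide⟩

/-- the element `(3 5)(4 6)` -/
def g1 : ↥(alternatingGroup (Fin 7)) :=
  ⟨⟨![0, 1, 2, 5, 6, 3, 4], ![0, 1, 2, 5, 6, 3, 4], by decide, by decide⟩, by
    rw [Equiv.Perm.mem_alternatingGroup]; decide⟩

/-- the element `(2 3 5 4 6)` -/
def g2 : ↥(alternatingGroup (Fin 7)) :=
  ⟨⟨![0, 1, 3, 5, 6, 4, 2], ![0, 1, 6, 2, 5, 3, 4], by decide, by decide⟩, by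
    rw [Equiv.Perm.mem_alternatingGroup]; decide⟩

/-- the element `(0 1 2)` -/
def r3 : ↥(alternatingGroup (Fin 7)) :=
  ⟨⟨![1, 2, 0, 3, 4, 5, 6], ![2, 0, 1, 3, 4, 5, 6], by decide, by decide⟩, by
    rw [Equiv.Perm.mem_alternatingGroup]; decide⟩

/-- the 7-cycle -/
def z7 : ↥(alternatingGroup (Fin 7)) :=
  ⟨⟨![1, 2, 3, 4, 5, 6, 0], ![6, 0, 1, 2, 3, 4, 5], by decide, by decide⟩, by
    rw [Equiv.Perm.mem_alternatingGroup]; decide⟩

/-- the element of order 3 normalizing `z7` -/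
def y7 : ↥(alternatingGroup (Fin 7)) :=
  ⟨⟨![0, 2, 4, 6, 1, 3, 5], ![0, 4, 1, 5, 2, 6, 3], by decide, by decide⟩, by
    rw [Equiv.Perm.mem_alternatingGroup]; decide⟩

theorem zz_pow : zz ^ 5 = 1 := by decide +kernel
theorem cc_pow : cc ^ 4 = 1 := by decide +kernel
theorem zz_cc : zz * cc = cc * zz ^ 3 := by decide +kernel
theorem cc_zz : cc * zz * cc⁻¹ = zz ^ 2 := by decide +kernel
theorem z7_pow : z7 ^ 7 = 1 := by decide +kernel
theorem y7_pow : y7 ^ 3 = 1 := by decide +kernel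
theorem z7_y7 : z7 * y7 = y7 * z7 ^ 4 := by decide +kernel
theorem y7_z7 : y7 * z7 * y7⁻¹ = z7 ^ 2 := by decide +kernel
theorem zz_type : (zz : Equiv.Perm (Fin 7)).cycleType = {5} := by decide +kernel
theorem cc_type : (cc : Equiv.Perm (Fin 7)).cycleType = {4, 2} := by decide +kernel
theorem z7_type : (z7 : Equiv.Perm (Fin 7)).cycleType = {7} := by decide +kernel
theorem y7_type : (y7 : Equiv.Perm (Fin 7)).cycleType = {3, 3} := by decide +kernel

theorem ord5 : orderOf (((2 : ℕ)) : ZMod 5) = 4 := by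
  rw [orderOf_eq_iff (by norm_num)]
  decide

theorem ord7 : orderOf (((2 : ℕ)) : ZMod 7) = 3 := by
  rw [orderOf_eq_iff (by norm_num)]
  decide

variable {K V : Type*} [Field K] [AddCommGroup V] [Module K V] (ρ : Representation K ↥(alternatingGroup (Fin 7)) V)

/-- the sign character of `5:4` does not occur -/
theorem rel_sgn_zero_aux {t1 t2 t3 t33 t4 t6 t5 t7 : K} (ht : Tr ρ t1 t2 t3 t33 t4 t6 t5 t7)
    (h0 : es (ρ zz) 1 ⊓ es (ρ cc) (-1) = ⊥) : t2 + 2 * t6 - 3 * t4 = 0 ∧ t6 - t33 - t4 + t5 = 0 := by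
  have hμ : (-1 : K) ^ 4 = 1 := by norm_num
  have e1 := sum_trace_zero ρ zz_pow cc_pow (by norm_num) (by norm_num) zz_cc hμ h0 g1
  have e2 := sum_trace_zero ρ zz_pow cc_pow (by norm_num) (by norm_num) zz_cc hμ h0 g2
  simp only [sum_range_succ, sum_range_zero, zero_add] at e1 e2
  rw [ht.two (cc ^ (0:ℕ) * zz ^ (0:ℕ) * g1) (by decide +kernel),
      ht.seven (cc ^ (0:ℕ) * zz ^ (1:ℕ) * g1) (by decide +kernel),
      ht.seven (cc ^ (0:ℕ) * zz ^ (2:ℕ) * g1) (by decide +kernel),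
      ht.seven (cc ^ (0:ℕ) * zz ^ (3:ℕ) * g1) (by decide +kernel),
      ht.seven (cc ^ (0:ℕ) * zz ^ (4:ℕ) * g1) (by decide +kernel),
      ht.four (cc ^ (1:ℕ) * zz ^ (0:ℕ) * g1) (by decide +kernel),
      ht.seven (cc ^ (1:ℕ) * zz ^ (1:ℕ) * g1) (by decide +kernel),
      ht.threeb (cc ^ (1:ℕ) * zz ^ (2:ℕ) * g1) (by decide +kernel),
      ht.seven (cc ^ (1:ℕ) * zz ^ (3:ℕ) * g1) (by decide +kernel),
      ht.four (cc ^ (1:ℕ) * zz ^ (4:ℕ) * g1) (by decide +kernel),
      ht.threeb (cc ^ (2:ℕ) * zz ^ (0:ℕ) * g1) (by decide +kernel),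
      ht.threeb (cc ^ (2:ℕ) * zz ^ (1:ℕ) * g1) (by decide +kernel),
      ht.six (cc ^ (2:ℕ) * zz ^ (2:ℕ) * g1) (by decide +kernel),
      ht.four (cc ^ (2:ℕ) * zz ^ (3:ℕ) * g1) (by decide +kernel),
      ht.six (cc ^ (2:ℕ) * zz ^ (4:ℕ) * g1) (by decide +kernel),
      ht.four (cc ^ (3:ℕ) * zz ^ (0:ℕ) * g1) (by decide +kernel),
      ht.threeb (cc ^ (3:ℕ) * zz ^ (1:ℕ) * g1) (by decide +kernel),
      ht.four (cc ^ (3:ℕ) * zz ^ (2:ℕ) * g1) (by decide +kernel),
      ht.seven (cc ^ (3:ℕ) * zz ^ (3:ℕ) * g1) (by decide +kernel),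
      ht.seven (cc ^ (3:ℕ) * zz ^ (4:ℕ) * g1) (by decide +kernel)] at e1
  rw [ht.five (cc ^ (0:ℕ) * zz ^ (0:ℕ) * g2) (by decide +kernel),
      ht.seven (cc ^ (0:ℕ) * zz ^ (1:ℕ) * g2) (by decide +kernel),
      ht.six (cc ^ (0:ℕ) * zz ^ (2:ℕ) * g2) (by decide +kernel),
      ht.seven (cc ^ (0:ℕ) * zz ^ (3:ℕ) * g2) (by decide +kernel),
      ht.four (cc ^ (0:ℕ) * zz ^ (4:ℕ) * g2) (by decide +kernel),
      ht.four (cc ^ (1:ℕ) * zz ^ (0:ℕ) * g2) (by decide +kernel),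
      ht.seven (cc ^ (1:ℕ) * zz ^ (1:ℕ) * g2) (by decide +kernel),
      ht.four (cc ^ (1:ℕ) * zz ^ (2:ℕ) * g2) (by decide +kernel),
      ht.four (cc ^ (1:ℕ) * zz ^ (3:ℕ) * g2) (by decide +kernel),
      ht.seven (cc ^ (1:ℕ) * zz ^ (4:ℕ) * g2) (by decide +kernel),
      ht.five (cc ^ (2:ℕ) * zz ^ (0:ℕ) * g2) (by decide +kernel),
      ht.seven (cc ^ (2:ℕ) * zz ^ (1:ℕ) * g2) (by decide +kernel),
      ht.seven (cc ^ (2:ℕ) * zz ^ (2:ℕ) * g2) (by decide +kernel),
      ht.four (cc ^ (2:ℕ) * zz ^ (3:ℕ) * g2) (by decide +kernel),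
      ht.six (cc ^ (2:ℕ) * zz ^ (4:ℕ) * g2) (by decide +kernel),
      ht.threeb (cc ^ (3:ℕ) * zz ^ (0:ℕ) * g2) (by decide +kernel),
      ht.five (cc ^ (3:ℕ) * zz ^ (1:ℕ) * g2) (by decide +kernel),
      ht.seven (cc ^ (3:ℕ) * zz ^ (2:ℕ) * g2) (by decide +kernel),
      ht.seven (cc ^ (3:ℕ) * zz ^ (3:ℕ) * g2) (by decide +kernel),
      ht.six (cc ^ (3:ℕ) * zz ^ (4:ℕ) * g2) (by decide +kernel)] at e2
  constructor
  · linear_combination e1
  · linear_combination e2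

/-- a group `7:3` without fixed points -/
theorem rel_73_aux {t1 t2 t3 t33 t4 t6 t5 t7 : K} (ht : Tr ρ t1 t2 t3 t33 t4 t6 t5 t7) (h3 : (3 : K) ≠ 0)
    (h0 : es (ρ z7) 1 ⊓ es (ρ y7) 1 = ⊥) : t2 + 2 * t5 + 4 * t7 = 0 := by
  have e1 := sum_trace_zero ρ z7_pow y7_pow (by norm_num) (by norm_num) z7_y7 (one_pow 3) h0 g1
  simp only [sum_range_succ, sum_range_zero, zero_add] at e1
  rw [ht.two (y7 ^ (0:ℕ) * z7 ^ (0:ℕ) * g1) (by decide +kernel),
      ht.seven (y7 ^ (0:ℕ) * z7 ^ (1:ℕ) * g1) (by decide +kernel),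
      ht.five (y7 ^ (0:ℕ) * z7 ^ (2:ℕ) * g1) (by decide +kernel),
      ht.seven (y7 ^ (0:ℕ) * z7 ^ (3:ℕ) * g1) (by decide +kernel),
      ht.seven (y7 ^ (0:ℕ) * z7 ^ (4:ℕ) * g1) (by decide +kernel),
      ht.five (y7 ^ (0:ℕ) * z7 ^ (5:ℕ) * g1) (by decide +kernel),
      ht.seven (y7 ^ (0:ℕ) * z7 ^ (6:ℕ) * g1) (by decide +kernel),
      ht.five (y7 ^ (1:ℕ) * z7 ^ (0:ℕ) * g1) (by decide +kernel),
      ht.seven (y7 ^ (1:ℕ) * z7 ^ (1:ℕ) * g1) (by decide +kernel),
      ht.seven (y7 ^ (1:ℕ) * z7 ^ (2:ℕ) * g1) (by decide +kernel),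
      ht.two (y7 ^ (1:ℕ) * z7 ^ (3:ℕ) * g1) (by decide +kernel),
      ht.seven (y7 ^ (1:ℕ) * z7 ^ (4:ℕ) * g1) (by decide +kernel),
      ht.seven (y7 ^ (1:ℕ) * z7 ^ (5:ℕ) * g1) (by decide +kernel),
      ht.five (y7 ^ (1:ℕ) * z7 ^ (6:ℕ) * g1) (by decide +kernel),
      ht.five (y7 ^ (2:ℕ) * z7 ^ (0:ℕ) * g1) (by decide +kernel),
      ht.two (y7 ^ (2:ℕ) * z7 ^ (1:ℕ) * g1) (by decide +kernel),
      ht.five (y7 ^ (2:ℕ) * z7 ^ (2:ℕ) * g1) (by decide +kernel),
      ht.seven (y7 ^ (2:ℕ) * z7 ^ (3:ℕ) * g1) (by decide +kernel),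
      ht.seven (y7 ^ (2:ℕ) * z7 ^ (4:ℕ) * g1) (by decide +kernel),
      ht.seven (y7 ^ (2:ℕ) * z7 ^ (5:ℕ) * g1) (by decide +kernel),
      ht.seven (y7 ^ (2:ℕ) * z7 ^ (6:ℕ) * g1) (by decide +kernel)] at e1
  have h4 : (3 : K) * (t2 + 2 * t5 + 4 * t7) = 0 := by
    linear_combination e1
  exact (mul_eq_zero.1 h4).resolve_left h3

end Cfsg.Agent.H952.F4.Kill

private theorem dce_25606167ce0c : _root_.True := by
  try have : _root_.True := by simp only [_root_.Cfsg.Agent.H952.F4.es.eq_1]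
  exact _root_.True.intro
end

-- part: H834/F4/Sh
section
prune_inst 0x4010040403162020008000500120020040c00019200200000f0400f460347d320804229005e901c10008ebe005808000000000040022000000a00380000030120800e42001340a30c2e0009809087180c00000000000000000000000000041000000000000
set_option linter.all false
open scoped Cfsg.Agent.FastGrp

/-!
# S5926, F-E4 (helper834): the adjoint `x ↦ x^#` in coordinates

`T` : for every coordinate the five monomials (sign, code, code) of `x^#`.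
-/

set_option autoImplicit false

namespace Cfsg.Agent.H834.F4

open Cfsg.Lie Cfsg.Agent.H952.F4
open Cfsg.Agent.ChevalleyStructure.E6Min.Tables Cfsg.Agent.ChevalleyStructure.E6Min.Basic

/-- monomials of the adjoint -/
def T : List (List (ℤ × ℕ × ℕ)) :=
[[(1, 4, 8), (-1, 5, 7), (-1, 9, 18), (-1, 10, 21), (-1, 11, 24)],
  [(-1, 1, 8), (1, 2, 7), (-1, 9, 19), (-1, 10, 22), (-1, 11, 25)],
  [(1, 1, 5), (-1, 2, 4), (-1, 9, 20), (-1, 10, 23), (-1, 11, 26)],
  [(-1, 3, 8), (1, 5, 6), (-1, 12, 18), (-1, 13, 21), (-1, 14, 24)],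
  [(1, 0, 8), (-1, 2, 6), (-1, 12, 19), (-1, 13, 22), (-1, 14, 25)],
  [(-1, 0, 5), (1, 2, 3), (-1, 12, 20), (-1, 13, 23), (-1, 14, 26)],
  [(1, 3, 7), (-1, 4, 6), (-1, 15, 18), (-1, 16, 21), (-1, 17, 24)],
  [(-1, 0, 7), (1, 1, 6), (-1, 15, 19), (-1, 16, 22), (-1, 17, 25)],
  [(1, 0, 4), (-1, 1, 3), (-1, 15, 20), (-1, 16, 23), (-1, 17, 26)],
  [(1, 22, 26), (-1, 23, 25), (-1, 0, 9), (-1, 1, 12), (-1, 2, 15)],
  [(-1, 19, 26), (1, 20, 25), (-1, 0, 10), (-1, 1, 13), (-1, 2, 16)],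
  [(1, 19, 23), (-1, 20, 22), (-1, 0, 11), (-1, 1, 14), (-1, 2, 17)],
  [(-1, 21, 26), (1, 23, 24), (-1, 3, 9), (-1, 4, 12), (-1, 5, 15)],
  [(1, 18, 26), (-1, 20, 24), (-1, 3, 10), (-1, 4, 13), (-1, 5, 16)],
  [(-1, 18, 23), (1, 20, 21), (-1, 3, 11), (-1, 4, 14), (-1, 5, 17)],
  [(1, 21, 25), (-1, 22, 24), (-1, 6, 9), (-1, 7, 12), (-1, 8, 15)],
  [(-1, 18, 25), (1, 19, 24), (-1, 6, 10), (-1, 7, 13), (-1, 8, 16)],
  [(1, 18, 22), (-1, 19, 21), (-1, 6, 11), (-1, 7, 14), (-1, 8, 17)],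
  [(1, 13, 17), (-1, 14, 16), (-1, 18, 0), (-1, 19, 3), (-1, 20, 6)],
  [(-1, 10, 17), (1, 11, 16), (-1, 18, 1), (-1, 19, 4), (-1, 20, 7)],
  [(1, 10, 14), (-1, 11, 13), (-1, 18, 2), (-1, 19, 5), (-1, 20, 8)],
  [(-1, 12, 17), (1, 14, 15), (-1, 21, 0), (-1, 22, 3), (-1, 23, 6)],
  [(1, 9, 17), (-1, 11, 15), (-1, 21, 1), (-1, 22, 4), (-1, 23, 7)],
  [(-1, 9, 14), (1, 11, 12), (-1, 21, 2), (-1, 22, 5), (-1, 23, 8)],
  [(1, 12, 16), (-1, 13, 15), (-1, 24, 0), (-1, 25, 3), (-1, 26, 6)],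
  [(-1, 9, 16), (1, 10, 15), (-1, 24, 1), (-1, 25, 4), (-1, 26, 7)],
  [(1, 9, 13), (-1, 10, 12), (-1, 24, 2), (-1, 25, 5), (-1, 26, 8)]]

/-- the entries of `T` -/
def Tm (m : ℕ) : List (ℤ × ℕ × ℕ) := T.getD m []

theorem sh_apply {R : Type*} [CommRing R] (x : I27 → R) {m : ℕ} (hm : m < 27) :
    sh x (dec m) = ((Tm m).map fun e => (e.1 : R) * (x (dec e.2.1) * x (dec e.2.2))).sum := by
  interval_cases m <;>
    simp only [Tm, T, sh, ofM, dec, mat3, Matrix.adjugate_fin_three, Matrix.mul_apply, Fin.sum_univ_three, Fin.ofNat, _root_.Nat.zero_div, _root_.Nat.zero_mod, _root_.Fin.zero_eta, _root_.Fin.isValue, ↓ _root_.reduceIte, _root_.Matrix.of_apply, _root_.Matrix.sub_apply, _root_.Matrix.cons_val', _root_.Matrix.cons_val_zero, _root_.Matrix.cons_val_fin_one, _root_.Int.reduceNeg, _root_.List.getD_eq_getElem?_getD, _root_.List.length_cons, _root_.List.length_nil, _root_.zero_add, _root_.Nat.reduceAdd, _root_.Nat.ofNat_pos, _root_.getElem?_pos,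 _root_.List.getElem_cons_zero, _root_.Option.getD_some, _root_.List.map_cons, _root_.Int.cast_one, _root_.Nat.reduceDiv, _root_.Nat.one_mod, _root_.Fin.mk_one, _root_.Nat.reduceMod, _root_.Nat.mod_succ, _root_.Fin.reduceFinMk, _root_.one_mul, _root_.Int.cast_neg, _root_.neg_mul, _root_.Nat.div_self, _root_.Nat.mod_self, _root_.List.map_nil, _root_.List.sum_cons, _root_.List.sum_nil, _root_.add_zero, _root_.Matrix.cons_val_one, _root_.Nat.one_lt_ofNat, _root_.List.getElem_cons_succ, _root_.Matrix.cons_val, _root_.Nat.reduceLT, _root_.one_ne_zero, _root_.Fin.reduceEq, _root_.Nat.lt_add_one] <;>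
    ring

theorem list_aux {R : Type*} [CommRing R] (a b : ℕ → R) (l : List (ℤ × ℕ × ℕ)) :
    (l.map fun e => (e.1 : R) * ((a e.2.1 + b e.2.1) * (a e.2.2 + b e.2.2))).sum -
      (l.map fun e => (e.1 : R) * (a e.2.1 * a e.2.2)).sum - (l.map fun e => (e.1 : R) * (b e.2.1 * b e.2.2)).sum =
      (l.map fun e => (e.1 : R) * (a e.2.1 * b e.2.2 + b e.2.1 * a e.2.2)).sum := by
  induction l with
  | nil => simp
  | cons t l ih =>
    simp only [List.map_cons, List.sum_cons] at ih ⊢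
    linear_combination ih

theorem cr_apply {R : Type*} [CommRing R] (x y : I27 → R) {m : ℕ} (hm : m < 27) :
    cr x y (dec m) = ((Tm m).map fun e => (e.1 : R) * (x (dec e.2.1) * y (dec e.2.2) +
      y (dec e.2.1) * x (dec e.2.2))).sum := by
  rw [← list_aux (fun i => x (dec i)) (fun i => y (dec i))]
  unfold cr
  rw [Pi.sub_apply, Pi.sub_apply, sh_apply _ hm, sh_apply _ hm, sh_apply _ hm]
  rfl

theorem ext27 {R : Type*} {x y : I27 → R} (h : ∀ m < 27, x (dec m) = y (dec m)) : x = y := by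
  funext p
  rw [← dec_code p]
  exact h _ (code_lt p)

theorem sh_map {R S : Type*} [CommRing R] [CommRing S] (f : R →+* S) (x : I27 → R) :
    sh (fun p => f (x p)) = fun p => f (sh x p) := by
  apply ext27
  intro m hm
  rw [sh_apply _ hm]
  rw [sh_apply _ hm, map_list_sum, List.map_map]
  congr 1
  apply List.map_congr_left
  intro e _
  simp

theorem cr_map {R S : Type*} [CommRing R] [CommRing S] (f : R →+* S) (x y : I27 → R) :
    cr (fun p => f (x p)) (fun p => f (y p)) = fun p => f (cr x y p) := by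
  apply ext27
  intro m hm
  rw [cr_apply _ _ hm]
  rw [cr_apply _ _ hm, map_list_sum, List.map_map]
  congr 1
  apply List.map_congr_left
  intro e _
  simp only [_root_.Function.comp_apply, _root_.map_mul, _root_.map_intCast, _root_.map_add]

/-- the indices of a row -/
def ixs (l : List (ℤ × ℕ × ℕ)) : List ℕ := l.flatMap fun t => [t.2.1, t.2.2]

theorem rows_ok : ∀ m : Fin 27, (ixs (Tm m.val)).Nodup ∧ (∀ t ∈ Tm m.val, (t.1 = 1 ∨ t.1 = -1) ∧ t.2.1 < 27 ∧ t.2.2 < 27) := by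
  decide +kernel

theorem sum_zero {R : Type*} [CommRing R] (c d : ℕ → R) (l : List (ℤ × ℕ × ℕ)) (h : ∀ i ∈ ixs l, d i = 0) :
    (l.map fun e => (e.1 : R) * (c e.2.1 * d e.2.2 + d e.2.1 * c e.2.2)).sum = 0 := by
  apply List.sum_eq_zero
  intro z hz
  obtain ⟨t, ht, rfl⟩ := List.mem_map.1 hz
  have h1 : d t.2.1 = 0 := h _ (List.mem_flatMap.2 ⟨t, ht, by simp⟩)
  have h2 : d t.2.2 = 0 := h _ (List.mem_flatMap.2 ⟨t, ht, by simp⟩)
  rw [h1, h2]
  ring

theorem sum_single {R : Type*} [CommRing R] (c d : ℕ → R) (l : List (ℤ × ℕ × ℕ)) (hn : (ixs l).Nodup)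
    {t : ℤ × ℕ × ℕ} (ht : t ∈ l) {y γ : ℕ} (h : (t.2.1 = y ∧ t.2.2 = γ) ∨ (t.2.1 = γ ∧ t.2.2 = y)) (hγ : d γ = 1)
    (hd : ∀ i ∈ ixs l, i ≠ γ → d i = 0) :
    (l.map fun e => (e.1 : R) * (c e.2.1 * d e.2.2 + d e.2.1 * c e.2.2)).sum = (t.1 : R) * c y := by
  induction l with
  | nil => simp at ht
  | cons e l ih =>
    have hix : ixs (e :: l) = e.2.1 :: e.2.2 :: ixs l := by simp [ixs]
    rw [hix] at hn hd
    rw [List.map_cons, List.sum_cons]
    rw [List.nodup_cons, List.nodup_cons] at hn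
    rcases List.mem_cons.1 ht with rfl | ht'
    · have hrest : ∀ i ∈ ixs l, d i = 0 := by
        intro i hi
        apply hd i (by simp [hi])
        rintro rfl
        rcases h with ⟨h1, h2⟩ | ⟨h1, h2⟩
        · exact hn.2.1 (h2 ▸ hi)
        · exact hn.1 (List.mem_cons_of_mem _ (h1 ▸ hi))
      rw [sum_zero c d l hrest, add_zero]
      rcases h with ⟨h1, h2⟩ | ⟨h1, h2⟩
      · have h3 : t.2.1 ≠ γ := by
          intro h4
          apply hn.1
          rw [h4, ← h2]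
          exact List.mem_cons_self ..
        have h4 : d t.2.1 = 0 := hd _ (by simp) h3
        rw [h4, h2, hγ, h1]
        ring
      · have h3 : t.2.2 ≠ γ := by
          intro h4
          apply hn.1
          rw [h1, ← h4]
          exact List.mem_cons_self ..
        have h4 : d t.2.2 = 0 := hd _ (by simp) h3
        rw [h4, h1, hγ, h2]
        ring
    · have hmem : γ ∈ ixs l := by
        rcases h with ⟨h1, h2⟩ | ⟨h1, h2⟩
        · exact List.mem_flatMap.2 ⟨t, ht', by simp [h2]⟩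
        · exact List.mem_flatMap.2 ⟨t, ht', by simp [h1]⟩
      have h1 : d e.2.1 = 0 := by
        apply hd _ (by simp)
        rintro h5
        exact hn.1 (List.mem_cons_of_mem _ (h5 ▸ hmem))
      have h2 : d e.2.2 = 0 := by
        apply hd _ (by simp)
        rintro h5
        exact hn.2.1 (h5 ▸ hmem)
      rw [h1, h2, ih hn.2.2 ht' (fun i hi hne => hd i (by simp [hi]) hne)]
      ring

/-- a coordinate of `c × e_γ` -/
theorem cr_single {R : Type*} [CommRing R] (c : I27 → R) {m : ℕ} (hm : m < 27) {t : ℤ × ℕ × ℕ} (ht : t ∈ Tm m)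
    {y γ : ℕ} (h : (t.2.1 = y ∧ t.2.2 = γ) ∨ (t.2.1 = γ ∧ t.2.2 = y)) :
    cr c (Pi.single (dec γ) 1) (dec m) = (t.1 : R) * c (dec y) := by
  obtain ⟨hn, hr⟩ := rows_ok ⟨m, hm⟩
  have hγ27 : γ < 27 := by
    rcases h with ⟨h1, h2⟩ | ⟨h1, h2⟩
    · rw [← h2]; exact (hr t ht).2.2
    · rw [← h1]; exact (hr t ht).2.1
  rw [cr_apply _ _ hm]
  refine sum_single (fun i => c (dec i)) (fun i => (Pi.single (dec γ) 1 : I27 → R) (dec i)) (Tm m) hn ht h
    (by simp) ?_
  intro i hi hne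
  obtain ⟨t', ht', hi'⟩ := List.mem_flatMap.1 hi
  have hi27 : i < 27 := by
    have := hr t' ht'
    simp only [List.mem_cons, List.not_mem_nil, or_false] at hi'
    rcases hi' with rfl | rfl
    · exact this.2.1
    · exact this.2.2
  rw [Pi.single_eq_of_ne]
  intro h5
  exact hne ((dec_eq_iff hi27 hγ27).1 h5)

end Cfsg.Agent.H834.F4

private theorem dce_34f21617c9c5 : _root_.True := by
  try have : _root_.True := by simp only [_root_.Cfsg.Agent.H834.F4.Tm.eq_1]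
  try have : _root_.True := by simp only [_root_.Cfsg.Agent.ChevalleyStructure.E6Min.Tables.dec.eq_1]
  try have : _root_.True := by simp only [_root_.Cfsg.Lie.mat3.eq_1]
  try have : _root_.True := by simp only [_root_.Cfsg.Agent.H952.F4.sh.eq_1]
  try have : _root_.True := by simp only [_root_.Cfsg.Agent.H834.F4.ixs.eq_1]
  try have : _root_.True := by simp only [_root_.Cfsg.Agent.H834.F4.T.eq_1]
  try have : _root_.True := by simp only [_root_.Cfsg.Agent.H952.F4.ofM.eq_1]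
  exact _root_.True.intro
end

-- part: H952/F4/Axes_mg
section
prune_inst 0x400002044010000000000000000000004480001020040000000400f0202408220090228000ca00410000200002000000000000000020000000a000000000101000000100211000108000000000080000000000000000000000000000000000000000000000
set_option linter.all false
open scoped Cfsg.Agent.FastGrp

-- part: H952/F4/Axes
section
/-!
# S5926, M1 and M3: the six axes (helper183)

`A₅` acting on a module in which the sign character of the dihedral group `⟨z5, v0⟩` has multiplicity one.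
-/

set_option autoImplicit false
set_option linter.unusedVariables false

namespace Cfsg.Agent.H952.F4.Spec

open Module

universe u

section

variable {F V : Type*} [Field F] [AddCommGroup V] [Module F V]
  {ρ : Representation F ↥(alternatingGroup (Fin 5)) V}

theorem mem_es {T : V →ₗ[F] V} {μ : F} {v : V} : v ∈ es T μ ↔ T v = μ • v := Module.End.mem_eigenspace_iff

theorem mul_act (g h : ↥(alternatingGroup (Fin 5))) (x : V) : ρ (g * h) x = ρ g (ρ h x) := by
  rw [map_mul]; rfl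

theorem act_inj {g : ↥(alternatingGroup (Fin 5))} {x y : V} (h : ρ g x = ρ g y) : x = y := by
  have h1 := congrArg (ρ g⁻¹) h
  rwa [← mul_act, ← mul_act, inv_mul_cancel, map_one] at h1

/-- The relations between the axes. -/
structure Ax (ρ : Representation F ↥(alternatingGroup (Fin 5)) V) (a b c d e f : V) : Prop where
  za : ρ z5 a = a
  zb : ρ z5 b = -d
  zc : ρ z5 c = -b
  zd : ρ z5 d = -f
  ze : ρ z5 e = c
  zf : ρ z5 f = -e
  pa : ρ v0 a = -a
  pb : ρ v0 b = -b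
  pc : ρ v0 c = -d
  pd : ρ v0 d = -c
  pe : ρ v0 e = f
  pf : ρ v0 f = e
  qa : ρ v1 a = b
  qb : ρ v1 b = a
  qc : ρ v1 c = -c
  qd : ρ v1 d = -d
  qe : ρ v1 e = -f
  qf : ρ v1 f = -e
  ca : ρ c3 a = c
  cb : ρ c3 b = d
  cc : ρ c3 c = e
  cd : ρ c3 d = f
  ce : ρ c3 e = a
  cf : ρ c3 f = b

theorem ax {x : V} (hz : ρ z5 x = x) (hv : ρ v0 x = -x) :
    Ax ρ x (ρ v1 x) (ρ c3 x) (ρ c3 (ρ v1 x)) (ρ c3 (ρ c3 x)) (ρ c3 (ρ c3 (ρ v1 x))) := by
  have hz2 : ρ (z5 * z5) x = x := by rw [mul_act, hz, hz]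
  have hz3 : ρ (z5 * (z5 * z5)) x = x := by rw [mul_act, hz2, hz]
  have hz4 : ρ (z5 * (z5 * (z5 * z5))) x = x := by rw [mul_act, hz3, hz]
  have e1 : z5 * c3 = v1 * (z5 * (z5 * z5) * v0) := by decide +kernel
  have e2 : z5 * v1 = c3 * v1 * (z5 * z5 * v0) := by decide +kernel
  have e3 : z5 * c3 * v1 = c3 * (c3 * v1) * (z5 * v0) := by decide +kernel
  have e4 : z5 * c3 * c3 * v1 = c3 * c3 * (z5 * (z5 * z5) * v0) := by decide +kernel
  have e5 : z5 * c3 * c3 = c3 * (z5 * (z5 * (z5 * z5))) := by decide +kernel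
  have f1 : v0 * v1 = v1 * v0 := by decide +kernel
  have f2 : v0 * c3 = c3 * (v1 * v0) := by decide +kernel
  have f3 : v0 * c3 * v1 = c3 * v0 := by decide +kernel
  have f4 : v0 * c3 * c3 = c3 * (c3 * v1) := by decide +kernel
  have f5 : v0 * c3 * c3 * v1 = c3 * c3 := by decide +kernel
  have g1 : v1 * v1 = 1 := by decide +kernel
  have g2 : v1 * c3 = c3 * v0 := by decide +kernel
  have g3 : v1 * c3 * v1 = c3 * (v1 * v0) := by decide +kernel
  have g4 : v1 * c3 * c3 = c3 * (c3 * (v1 * v0)) := by decide +kernel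
  have g5 : v1 * c3 * c3 * v1 = c3 * (c3 * v0) := by decide +kernel
  have k1 : c3 * c3 * c3 = 1 := by decide +kernel
  refine ⟨hz, ?_, ?_, ?_, ?_, ?_, hv, ?_, ?_, ?_, ?_, ?_, rfl, ?_, ?_, ?_, ?_, ?_, rfl, rfl, rfl, rfl, ?_, ?_⟩
  · rw [← mul_act, e2, mul_act, mul_act, mul_act, hv, map_neg, hz2, map_neg, map_neg]
  · rw [← mul_act, e1, mul_act, mul_act, hv, map_neg, hz3, map_neg]
  · rw [← mul_act, ← mul_act, e3, mul_act, mul_act, mul_act, mul_act, hv, map_neg, hz, map_neg, map_neg, map_neg]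
  · rw [← mul_act, ← mul_act, e5, mul_act, hz4]
  · rw [← mul_act, ← mul_act, ← mul_act, e4, mul_act, mul_act, mul_act, hv, map_neg, hz3, map_neg, map_neg]
  · rw [← mul_act, f1, mul_act, hv, map_neg]
  · rw [← mul_act, f2, mul_act, mul_act, hv, map_neg, map_neg]
  · rw [← mul_act, ← mul_act, f3, mul_act, hv, map_neg]
  · rw [← mul_act, ← mul_act, f4, mul_act, mul_act]
  · rw [← mul_act, ← mul_act, ← mul_act, f5, mul_act]
  · rw [← mul_act, g1, map_one]; rfl
  · rw [← mul_act, g2, mul_act, hv, map_neg]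
  · rw [← mul_act, ← mul_act, g3, mul_act, mul_act, hv, map_neg, map_neg]
  · rw [← mul_act, ← mul_act, g4, mul_act, mul_act, mul_act, hv, map_neg, map_neg, map_neg]
  · rw [← mul_act, ← mul_act, ← mul_act, g5, mul_act, mul_act, hv, map_neg, map_neg]
  · rw [← mul_act, ← mul_act, k1, map_one]; rfl
  · rw [← mul_act, ← mul_act, k1, map_one]; rfl

/-- M1 -/
theorem axes {F V : Type*} [Field F] [AddCommGroup V] [Module F V] [FiniteDimensional F V] (h2 : (2 : F) ≠ 0)
    (h5 : (5 : F) ≠ 0) (ρ : Representation F ↥(alternatingGroup (Fin 5)) V)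
    (h1 : finrank F ↥(es (ρ z5) 1 ⊓ es (ρ v0) (-1)) = 1) :
    ∃ (t : F) (X : Fin 3 → V), t * t = t + 1 ∧ (∀ i, X i ≠ 0) ∧
      (ρ v0 (X 0) = X 0 ∧ ρ v0 (X 1) = -X 1 ∧ ρ v0 (X 2) = -X 2) ∧
      (ρ v1 (X 0) = -X 0 ∧ ρ v1 (X 1) = X 1 ∧ ρ v1 (X 2) = -X 2) ∧
      (ρ c3 (X 0) = X 1 ∧ ρ c3 (X 1) = X 2 ∧ ρ c3 (X 2) = X 0) ∧
      (2 : F) • ρ z5 (X 0) = (t - 1) • X 0 - t • X 1 + X 2 ∧
      (2 : F) • ρ z5 (X 1) = t • X 0 + X 1 + (t - 1) • X 2 ∧
      (2 : F) • ρ z5 (X 2) = -X 0 + (t - 1) • X 1 + t • X 2 := by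
  obtain ⟨⟨x, hxm⟩, hx0, hxs⟩ := finrank_eq_one_iff'.1 h1
  have hx0' : x ≠ 0 := fun h => hx0 (Subtype.ext h)
  have hz : ρ z5 x = x := by
    have h := mem_es.1 hxm.1
    rwa [one_smul] at h
  have hv : ρ v0 x = -x := by
    have h := mem_es.1 hxm.2
    rwa [neg_smul, one_smul] at h
  have A := ax hz hv
  generalize ρ v1 x = b at A
  generalize ρ c3 x = c at A
  generalize ρ c3 b = d at A
  generalize ρ c3 c = e at A
  generalize ρ c3 d = f at A
  -- the sum of the five other axes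
  obtain ⟨lam, hlam⟩ : ∃ lam : F, c - b + d - f + e = lam • x := by
    have hS : c - b + d - f + e ∈ es (ρ z5) 1 ⊓ es (ρ v0) (-1) := by
      refine ⟨mem_es.2 ?_, mem_es.2 ?_⟩
      · rw [map_add, map_sub, map_add, map_sub, A.zc, A.zb, A.zd, A.zf, A.ze, one_smul]
        abel
      · rw [map_add, map_sub, map_add, map_sub, A.pc, A.pb, A.pd, A.pf, A.pe, neg_smul, one_smul]
        abel
    obtain ⟨l, hl⟩ := hxs ⟨_, hS⟩
    exact ⟨l, (congrArg Subtype.val hl).symm⟩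
  have hlam' : -c - x - d + e - f = lam • b := by
    have h := congrArg (ρ v1) hlam
    rw [map_add, map_sub, map_add, map_sub, A.qc, A.qb, A.qd, A.qf, A.qe, map_smul, A.qa] at h
    rw [← h]
    abel
  set t : F := (lam + 1) / 2 with ht
  have hlt : lam = 2 * t - 1 := by rw [ht]; field_simp; ring
  have R1 : e - f = t • (x + b) := by
    have h : (2 : F) • (e - f) = (2 : F) • (t • (x + b)) := by
      rw [smul_smul, show (2 : F) * t = lam + 1 by rw [hlt]; ring, add_smul, one_smul, smul_add, ← hlam, ← hlam']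
      rw [two_smul]
      abel
    exact smul_right_injective V h2 h
  have R2 : c + d = (t - 1) • (x - b) := by
    have h : (2 : F) • (c + d) = (2 : F) • ((t - 1) • (x - b)) := by
      rw [smul_smul, show (2 : F) * (t - 1) = lam - 1 by rw [hlt]; ring, sub_smul, one_smul, smul_sub, ← hlam, ← hlam']
      rw [two_smul]
      abel
    exact smul_right_injective V h2 h
  have R3 : x - b = t • (c + d) := by
    have h := congrArg (ρ c3) R1
    rwa [map_sub, map_smul, map_add, A.ce, A.cf, A.ca, A.cb] at h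
  have R4 : c - d = t • (e + f) := by
    have h := congrArg (ρ c3) R3
    rwa [map_sub, map_smul, map_add, A.ca, A.cb, A.cc, A.cd] at h
  have hadd : x + b ≠ 0 := by
    intro h
    rw [h, smul_zero, sub_eq_zero] at R1
    have h3 := congrArg (ρ c3) R1
    rw [A.ce, A.cf] at h3
    rw [← h3, ← two_smul F] at h
    exact hx0' ((smul_eq_zero.1 h).resolve_left h2)
  have hsub : x - b ≠ 0 := by
    intro h
    rw [h, smul_zero] at R2
    have h3 : ρ c3 (x + b) = ρ c3 0 := by rw [map_add, A.ca, A.cb, R2, map_zero]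
    exact hadd (act_inj h3)
  have htt : t * t = t + 1 := by
    have h : (t * (t - 1) - 1) • (x - b) = 0 := by
      rw [sub_smul, one_smul, mul_smul, ← R2, ← R3, sub_self]
    have h3 := (smul_eq_zero.1 h).resolve_right hsub
    linear_combination h3
  have h22 : (2 : F) * (1 / 2) = 1 := by field_simp
  -- the vectors
  refine ⟨t, ![(1 / 2 : F) • (e + f), (1 / 2 : F) • (x + b), (1 / 2 : F) • (c + d)], htt, ?_, ?_, ?_, ?_, ?_, ?_, ?_⟩
  · have hh : (1 / 2 : F) ≠ 0 := by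
      intro h
      rw [h, mul_zero] at h22
      exact zero_ne_one h22
    have hc : ρ c3 (x + b) = c + d := by rw [map_add, A.ca, A.cb]
    have he : ρ c3 (c + d) = e + f := by rw [map_add, A.cc, A.cd]
    have hcd : c + d ≠ 0 := by
      intro h
      rw [h] at hc
      exact hadd (act_inj (hc.trans (map_zero (ρ c3)).symm))
    have hef : e + f ≠ 0 := by
      intro h
      rw [h] at he
      exact hcd (act_inj (he.trans (map_zero (ρ c3)).symm))
    intro i
    fin_cases i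
    · exact smul_ne_zero hh hef
    · exact smul_ne_zero hh hadd
    · exact smul_ne_zero hh hcd
  · simp only [Matrix.cons_val_zero, Matrix.cons_val_one, Matrix.cons_val]
    rw [map_smul, map_smul, map_smul, map_add, map_add, map_add, A.pe, A.pf, A.pa, A.pb, A.pc, A.pd]
    refine ⟨by rw [add_comm], by rw [← smul_neg, neg_add], by rw [← smul_neg, neg_add, add_comm]⟩
  · simp only [Matrix.cons_val_zero, Matrix.cons_val_one, Matrix.cons_val]
    rw [map_smul, map_smul, map_smul, map_add, map_add, map_add, A.qe, A.qf, A.qa, A.qb, A.qc, A.qd]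
    refine ⟨by rw [← smul_neg, neg_add, add_comm], by rw [add_comm], by rw [← smul_neg, neg_add]⟩
  · simp only [Matrix.cons_val_zero, Matrix.cons_val_one, Matrix.cons_val]
    rw [map_smul, map_smul, map_smul, map_add, map_add, map_add, A.ce, A.cf, A.ca, A.cb, A.cc, A.cd]
    exact ⟨rfl, rfl, rfl⟩
  all_goals
    have H0 : e + f = (2 : F) • ((1 / 2 : F) • (e + f)) := by rw [smul_smul, h22, one_smul]
    have H1 : x + b = (2 : F) • ((1 / 2 : F) • (x + b)) := by rw [smul_smul, h22, one_smul]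
    have H2 : c + d = (2 : F) • ((1 / 2 : F) • (c + d)) := by rw [smul_smul, h22, one_smul]
    simp only [Matrix.cons_val_zero, Matrix.cons_val_one, Matrix.cons_val]
    generalize (1 / 2 : F) • (e + f) = X0 at H0 ⊢
    generalize (1 / 2 : F) • (x + b) = X1 at H1 ⊢
    generalize (1 / 2 : F) • (c + d) = X2 at H2 ⊢
    rw [H1] at R1
    rw [H2] at R3
    rw [H0] at R4
    apply smul_right_injective V h2
    show (2 : F) • _ = (2 : F) • _
    rw [← map_smul]
  · rw [← H0, map_add, A.ze, A.zf]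
    linear_combination (norm := module) R4 + H2 - R1 - H0
  · rw [← H1, map_add, A.za, A.zb]
    linear_combination (norm := module) R3 + H1 + R4 - H2
  · rw [← H2, map_add, A.zc, A.zd]
    linear_combination (norm := module) R3 - H1 + R1 - H0

/-- the trace of a linear map with image in a line -/
theorem trace_of_line {F V : Type*} [Field F] [AddCommGroup V] [Module F V] [FiniteDimensional F V] {x : V}
    (hx : x ≠ 0) (T : V →ₗ[F] V) (hT : ∀ v, ∃ c : F, T v = c • x) {μ : F} (hμ : T x = μ • x) :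
    LinearMap.trace F V T = μ := by
  have hmem : ∀ v, T v ∈ Submodule.span F {x} := fun v => by
    obtain ⟨c, hc⟩ := hT v
    rw [hc]
    exact Submodule.smul_mem _ _ (Submodule.mem_span_singleton_self x)
  let φ : V →ₗ[F] F := (LinearEquiv.toSpanNonzeroSingleton F V x hx).symm.toLinearMap ∘ₗ
    T.codRestrict (Submodule.span F {x}) hmem
  have hφ : ∀ v, φ v • x = T v := by
    intro v
    have h := (LinearEquiv.toSpanNonzeroSingleton F V x hx).apply_symm_apply
      (T.codRestrict (Submodule.span F {x}) hmem v)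
    exact congrArg Subtype.val h
  have hTφ : T = φ.smulRight x := by
    ext v
    exact (hφ v).symm
  rw [hTφ, LinearMap.trace_smulRight]
  have h := hφ x
  rw [hμ] at h
  exact smul_left_injective F hx h

/-- ten times the projection on the sign component of the dihedral group -/
def pr (ρ : Representation F ↥(alternatingGroup (Fin 5)) V) (v : V) : V :=
  ∑ k : Fin 5, (ρ (z5 ^ (k : ℕ)) v - ρ (z5 ^ (k : ℕ) * v0) v)

theorem pow_z5 : ∀ k : Fin 5, z5 * z5 ^ (k : ℕ) = z5 ^ ((k + 1 : Fin 5) : ℕ) := by decide +kernel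

theorem v0_pow : ∀ k : Fin 5, v0 * z5 ^ (k : ℕ) = z5 ^ ((-k : Fin 5) : ℕ) * v0 := by decide +kernel

theorem v0_sq : v0 * v0 = 1 := by decide +kernel

theorem z5_pr (v : V) : ρ z5 (pr ρ v) = pr ρ v := by
  rw [pr, map_sum]
  refine Fintype.sum_equiv (Equiv.addRight 1) _ _ fun k => ?_
  rw [map_sub, ← mul_act, ← mul_act, ← mul_assoc, pow_z5]
  rfl

theorem v0_pr (v : V) : ρ v0 (pr ρ v) = -pr ρ v := by
  rw [pr, map_sum, ← Finset.sum_neg_distrib]
  refine Fintype.sum_equiv (Equiv.neg (Fin 5)) _ _ fun k => ?_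
  rw [map_sub, ← mul_act, ← mul_act, ← mul_assoc, v0_pow, mul_assoc, v0_sq, mul_one, neg_sub]
  rfl

theorem trace_conj (ρ : Representation F ↥(alternatingGroup (Fin 5)) V) {g g' : ↥(alternatingGroup (Fin 5))}
    (h : ∃ k, k * g * k⁻¹ = g') : LinearMap.trace F V (ρ g') = LinearMap.trace F V (ρ g) := by
  obtain ⟨k, rfl⟩ := h
  rw [map_mul ρ, map_mul ρ, LinearMap.trace_mul_comm, ← mul_assoc, ← map_mul ρ, inv_mul_cancel, map_one ρ, one_mul]

/-- M3: the difference of the traces of the two classes of elements of order 5 -/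
theorem trace_diff {F V : Type u} [Field F] [AddCommGroup V] [Module F V] [FiniteDimensional F V] (h2 : (2 : F) ≠ 0)
    (h5 : (5 : F) ≠ 0) (ρ : Representation F ↥(alternatingGroup (Fin 5)) V)
    (h1 : finrank F ↥(es (ρ z5) 1 ⊓ es (ρ v0) (-1)) = 1) {t : F} {X : Fin 3 → V} (ht : t * t = t + 1)
    (hX : ∀ i, X i ≠ 0)
    (h0 : ρ v0 (X 0) = X 0 ∧ ρ v0 (X 1) = -X 1 ∧ ρ v0 (X 2) = -X 2)
    (h1' : ρ v1 (X 0) = -X 0 ∧ ρ v1 (X 1) = X 1 ∧ ρ v1 (X 2) = -X 2)
    (hc : ρ c3 (X 0) = X 1 ∧ ρ c3 (X 1) = X 2 ∧ ρ c3 (X 2) = X 0)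
    (hz0 : (2 : F) • ρ z5 (X 0) = (t - 1) • X 0 - t • X 1 + X 2)
    (hz1 : (2 : F) • ρ z5 (X 1) = t • X 0 + X 1 + (t - 1) • X 2)
    (hz2 : (2 : F) • ρ z5 (X 2) = -X 0 + (t - 1) • X 1 + t • X 2) :
    LinearMap.trace F V (ρ z5) - LinearMap.trace F V (ρ (z5 * z5)) = 2 * t - 1 := by
  obtain ⟨h00, h01, h02⟩ := h0
  obtain ⟨h10, h11, h12⟩ := h1'
  obtain ⟨hc0, hc1, hc2⟩ := hc
  set x := X 1 + t • X 2 with hxdef
  have hzx : ρ z5 x = x := by
    apply smul_right_injective V h2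
    show (2 : F) • _ = (2 : F) • _
    rw [hxdef, map_add, map_smul, smul_add, smul_comm, hz1, hz2]
    have ht' : t * t - t - 1 = 0 := by linear_combination ht
    have e1 : (t * t - t - 1) • X 1 = 0 := by rw [ht', zero_smul]
    have e2 : (t * t - t - 1) • X 2 = 0 := by rw [ht', zero_smul]
    linear_combination (norm := module) e1 + e2
  have hvx : ρ v0 x = -x := by
    rw [hxdef, map_add, map_smul, h01, h02]
    module
  have hb : ρ v1 x = X 1 - t • X 2 := by
    rw [hxdef, map_add, map_smul, h11, h12]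
    module
  have hx0 : x ≠ 0 := by
    intro h
    have h3 : X 1 - t • X 2 = 0 := by rw [← hb, h, map_zero]
    have h4 : (2 : F) • X 1 = 0 := by
      linear_combination (norm := module) h + h3
    exact hX 1 ((smul_eq_zero.1 h4).resolve_left h2)
  have A := ax hzx hvx
  -- the sum of the axes
  have hS : ρ c3 x - ρ v1 x + ρ c3 (ρ v1 x) - ρ c3 (ρ c3 (ρ v1 x)) + ρ c3 (ρ c3 x) = (2 * t - 1) • x := by
    rw [hb, hxdef]
    simp only [map_add, map_sub, map_smul, hc0, hc1, hc2]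
    have ht' : t * t - t - 1 = 0 := by linear_combination ht
    have e2 : (t * t - t - 1) • X 2 = 0 := by rw [ht', zero_smul]
    linear_combination (norm := module) (-2 : F) • e2
  generalize ρ v1 x = b at A hS
  generalize ρ c3 x = c at A hS
  generalize ρ c3 b = d at A hS
  generalize ρ c3 c = e at A hS
  generalize ρ c3 d = f at A hS
  have hline : ∀ v, ∃ l : F, pr ρ v = l • x := by
    intro v
    obtain ⟨⟨w, hwm⟩, hw0, hws⟩ := finrank_eq_one_iff'.1 h1
    obtain ⟨l, hl⟩ := hws ⟨pr ρ v, mem_es.2 (by rw [z5_pr, one_smul]), mem_es.2 (by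
      rw [v0_pr, neg_smul, one_smul])⟩
    obtain ⟨m, hm⟩ := hws ⟨x, mem_es.2 (by rw [hzx, one_smul]), mem_es.2 (by rw [hvx, neg_smul, one_smul])⟩
    have hl' : l • w = pr ρ v := congrArg Subtype.val hl
    have hm' : m • w = x := congrArg Subtype.val hm
    have hm0 : m ≠ 0 := by
      rintro rfl
      rw [zero_smul] at hm'
      exact hx0 hm'.symm
    refine ⟨l / m, ?_⟩
    rw [← hl', ← hm', smul_smul, div_mul_cancel₀ _ hm0]
  let T : V →ₗ[F] V := ∑ k : Fin 5, (ρ (z5 ^ (k : ℕ) * v1) - ρ (z5 ^ (k : ℕ) * v0 * v1))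
  have hT : ∀ v, T v = pr ρ (ρ v1 v) := by
    intro v
    rw [pr]
    show (∑ k : Fin 5, (ρ (z5 ^ (k : ℕ) * v1) - ρ (z5 ^ (k : ℕ) * v0 * v1))) v = _
    rw [LinearMap.sum_apply]
    refine Finset.sum_congr rfl fun k _ => ?_
    rw [LinearMap.sub_apply, mul_act, mul_act]
  have hTx : T x = (-2 * (2 * t - 1)) • x := by
    rw [hT, A.qa, pr, Fin.sum_univ_five]
    have p1 : ρ (z5 ^ 1) b = -d := by rw [pow_one, A.zb]
    have p2 : ρ (z5 ^ 2) b = f := by rw [pow_succ, mul_act, A.zb, map_neg, pow_one, A.zd, neg_neg]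
    have p3 : ρ (z5 ^ 3) b = -e := by
      rw [pow_succ, pow_succ, mul_act, mul_act, A.zb, map_neg, A.zd, neg_neg, pow_one, A.zf]
    have p4 : ρ (z5 ^ 4) b = -c := by
      rw [pow_succ, pow_succ, pow_succ, mul_act, mul_act, mul_act, A.zb, map_neg, A.zd, neg_neg, A.zf, pow_one,
        map_neg, A.ze]
    have p0 : ρ (z5 ^ 0) b = b := by rw [pow_zero, map_one]; rfl
    show (ρ (z5 ^ 0) b - ρ (z5 ^ 0 * v0) b) + (ρ (z5 ^ 1) b - ρ (z5 ^ 1 * v0) b) +
      (ρ (z5 ^ 2) b - ρ (z5 ^ 2 * v0) b) + (ρ (z5 ^ 3) b - ρ (z5 ^ 3 * v0) b) +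
      (ρ (z5 ^ 4) b - ρ (z5 ^ 4 * v0) b) = _
    simp only [mul_act, A.pb, map_neg, p0, p1, p2, p3, p4]
    linear_combination (norm := module) (-2 : F) • hS
  have hμ := trace_of_line hx0 T (fun v => by rw [hT]; exact hline _) hTx
  have hsum : LinearMap.trace F V T = 2 * LinearMap.trace F V (ρ (z5 * z5)) - 2 * LinearMap.trace F V (ρ z5) := by
    show LinearMap.trace F V (∑ k : Fin 5, (ρ (z5 ^ (k : ℕ) * v1) - ρ (z5 ^ (k : ℕ) * v0 * v1))) = _
    rw [map_sum, Fin.sum_univ_five]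
    simp only [map_sub]
    have t0 : LinearMap.trace F V (ρ (z5 ^ 0 * v0 * v1)) = LinearMap.trace F V (ρ (z5 ^ 0 * v1)) :=
      trace_conj ρ (by decide +kernel)
    have t1 : LinearMap.trace F V (ρ (z5 ^ 1 * v1)) = LinearMap.trace F V (ρ (z5 * z5)) :=
      trace_conj ρ (by decide +kernel)
    have t4 : LinearMap.trace F V (ρ (z5 ^ 4 * v1)) = LinearMap.trace F V (ρ (z5 * z5)) :=
      trace_conj ρ (by decide +kernel)
    have s2 : LinearMap.trace F V (ρ (z5 ^ 2 * v0 * v1)) = LinearMap.trace F V (ρ z5) :=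
      trace_conj ρ (by decide +kernel)
    have s3 : LinearMap.trace F V (ρ (z5 ^ 3 * v0 * v1)) = LinearMap.trace F V (ρ z5) :=
      trace_conj ρ (by decide +kernel)
    have t2 : LinearMap.trace F V (ρ (z5 ^ 2 * v1)) = LinearMap.trace F V (ρ c3) :=
      trace_conj ρ (by (set_option synthInstance.maxSize 9000 in open scoped Cfsg.Agent.Lib.FastPerm in decide +kernel))
    have t3 : LinearMap.trace F V (ρ (z5 ^ 3 * v1)) = LinearMap.trace F V (ρ c3) :=
      trace_conj ρ (by (set_option synthInstance.maxSize 9000 in open scoped Cfsg.Agent.Lib.FastPerm in decide +kernel))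
    have s1 : LinearMap.trace F V (ρ (z5 ^ 1 * v0 * v1)) = LinearMap.trace F V (ρ c3) :=
      trace_conj ρ (by (set_option synthInstance.maxSize 9000 in open scoped Cfsg.Agent.Lib.FastPerm in decide +kernel))
    have s4 : LinearMap.trace F V (ρ (z5 ^ 4 * v0 * v1)) = LinearMap.trace F V (ρ c3) :=
      trace_conj ρ (by (set_option synthInstance.maxSize 9000 in open scoped Cfsg.Agent.Lib.FastPerm in decide +kernel))
    show (LinearMap.trace F V (ρ (z5 ^ 0 * v1)) - LinearMap.trace F V (ρ (z5 ^ 0 * v0 * v1))) +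
      (LinearMap.trace F V (ρ (z5 ^ 1 * v1)) - LinearMap.trace F V (ρ (z5 ^ 1 * v0 * v1))) +
      (LinearMap.trace F V (ρ (z5 ^ 2 * v1)) - LinearMap.trace F V (ρ (z5 ^ 2 * v0 * v1))) +
      (LinearMap.trace F V (ρ (z5 ^ 3 * v1)) - LinearMap.trace F V (ρ (z5 ^ 3 * v0 * v1))) +
      (LinearMap.trace F V (ρ (z5 ^ 4 * v1)) - LinearMap.trace F V (ρ (z5 ^ 4 * v0 * v1))) = _
    rw [t0, t1, t2, t3, t4, s1, s2, s3, s4]
    ring
  rw [hsum] at hμ
  have h3 : (2 : F) * (LinearMap.trace F V (ρ z5) - LinearMap.trace F V (ρ (z5 * z5))) = 2 * (2 * t - 1) := by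
    linear_combination -hμ
  exact mul_left_cancel₀ h2 h3

end

end Cfsg.Agent.H952.F4.Spec
end

-- part: H87/F4/Aux5
section
/-!
# S5926, case `n = 5`: elementary facts about `A₅`, eigenspaces and numbers
-/

set_option autoImplicit false

namespace Cfsg.Agent.H952.F4.Cases.Five

open Cfsg Cfsg.Lie Module

/-! ### `A₅` -/

set_option maxRecDepth 100000 in
theorem conj2 : ∀ g : ↥(alternatingGroup (Fin 5)), g * g = 1 → g ≠ 1 → ∃ h, h * v0 * h⁻¹ = g := by
  (set_option synthInstance.maxSize 9000 in open scoped Cfsg.Agent.Lib.FastPerm in decide +kernel)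

set_option maxRecDepth 100000 in
theorem conj3 : ∀ g : ↥(alternatingGroup (Fin 5)), g * g * g = 1 → g ≠ 1 → ∃ h, h * c3 * h⁻¹ = g := by
  (set_option synthInstance.maxSize 9000 in open scoped Cfsg.Agent.Lib.FastPerm in decide +kernel)

set_option maxRecDepth 100000 in
theorem conj5 : ∀ g : ↥(alternatingGroup (Fin 5)), g * g * g * g * g = 1 → g ≠ 1 →
    ∃ h, h * z5 * h⁻¹ = g ∨ h * (z5 * z5) * h⁻¹ = g := by
  (set_option synthInstance.maxSize 9000 in open scoped Cfsg.Agent.Lib.FastPerm in decide +kernel)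

theorem inv5 : v0 * z5 * v0⁻¹ = z5⁻¹ := by decide +kernel
theorem inv3 : ∃ s : ↥(alternatingGroup (Fin 5)), s * s = 1 ∧ s ≠ 1 ∧ s * c3 * s⁻¹ = c3⁻¹ := by (set_option synthInstance.maxSize 9000 in open scoped Cfsg.Agent.Lib.FastPerm in decide +kernel)
theorem v0_sq : v0 * v0 = 1 := by decide +kernel
theorem v0_ne : v0 ≠ 1 := by decide +kernel
theorem c3_cube : c3 ^ 3 = 1 := by decide +kernel
theorem c3_ne : c3 ≠ 1 := by decide +kernel
theorem z5_five : z5 ^ 5 = 1 := by decide +kernel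
theorem z5_ne : z5 ≠ 1 := by decide +kernel

/-! ### eigenspaces -/

section Ev

variable {K V G : Type*} [Field K] [AddCommGroup V] [Module K V] [FiniteDimensional K V] [Group G]

theorem ev_conj_le (ρ : Representation K G V) (g h : G) : ev (ρ h) 1 ≤ ev (ρ (g * h * g⁻¹)) 1 := by
  unfold ev
  have hinj : Function.Injective (ρ g) := by
    intro a b hab
    have := congrArg (ρ g⁻¹) hab
    rwa [← Module.End.mul_apply, ← Module.End.mul_apply, ← map_mul, inv_mul_cancel, map_one] at this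
  rw [(Submodule.equivMapOfInjective (ρ g) hinj (Module.End.eigenspace (ρ h) 1)).finrank_eq]
  apply Submodule.finrank_mono
  rintro _ ⟨v, hv, rfl⟩
  rw [SetLike.mem_coe, Module.End.mem_eigenspace_iff] at hv
  rw [Module.End.mem_eigenspace_iff, one_smul, ← Module.End.mul_apply, ← map_mul, inv_mul_cancel_right, map_mul,
    Module.End.mul_apply, hv, one_smul]

theorem ev_conj (ρ : Representation K G V) (g h : G) : ev (ρ (g * h * g⁻¹)) 1 = ev (ρ h) 1 := by
  apply le_antisymm _ (ev_conj_le ρ g h)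
  have := ev_conj_le ρ g⁻¹ (g * h * g⁻¹)
  rwa [show g⁻¹ * (g * h * g⁻¹) * g⁻¹⁻¹ = h by group] at this

theorem ev_pow_le (ρ : Representation K G V) (g : G) (k : ℕ) : ev (ρ g) 1 ≤ ev (ρ (g ^ k)) 1 := by
  unfold ev
  apply Submodule.finrank_mono
  intro v hv
  rw [Module.End.mem_eigenspace_iff, one_smul] at hv ⊢
  induction k with
  | zero => simp
  | succ k ih => rw [pow_succ, map_mul, Module.End.mul_apply, hv, ih]

theorem ev_five_sq (ρ : Representation K G V) {z : G} (hz : z ^ 5 = 1) : ev (ρ (z * z)) 1 = ev (ρ z) 1 := by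
  apply le_antisymm
  · have := ev_pow_le ρ (z * z) 3
    rwa [show (z * z) ^ 3 = z by
      rw [← pow_two, ← pow_mul, show 2 * 3 = 5 + 1 by norm_num, pow_succ, hz, one_mul]] at this
  · have := ev_pow_le ρ z 2
    rwa [pow_two] at this

theorem ev_two {ρ : Representation K ↥(alternatingGroup (Fin 5)) V} {g : ↥(alternatingGroup (Fin 5))}
    (h1 : g * g = 1) (h2 : g ≠ 1) : ev (ρ g) 1 = ev (ρ v0) 1 := by
  obtain ⟨h, rfl⟩ := conj2 g h1 h2
  exact ev_conj ρ h v0

theorem ev_three {ρ : Representation K ↥(alternatingGroup (Fin 5)) V} {g : ↥(alternatingGroup (Fin 5))}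
    (h1 : g ^ 3 = 1) (h2 : g ≠ 1) : ev (ρ g) 1 = ev (ρ c3) 1 := by
  obtain ⟨h, rfl⟩ := conj3 g (by rw [← h1]; simp only [pow_succ, pow_zero, one_mul]) h2
  exact ev_conj ρ h c3

theorem ev_five {ρ : Representation K ↥(alternatingGroup (Fin 5)) V} {g : ↥(alternatingGroup (Fin 5))}
    (h1 : g ^ 5 = 1) (h2 : g ≠ 1) : ev (ρ g) 1 = ev (ρ z5) 1 := by
  obtain ⟨h, rfl | rfl⟩ := conj5 g (by rw [← h1]; simp only [pow_succ, pow_zero, one_mul]) h2
  · exact ev_conj ρ h z5
  · rw [ev_conj ρ h (z5 * z5), ev_five_sq ρ z5_five]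

end Ev

/-! ### generation -/

theorem orders {x : ↥(alternatingGroup (Fin 5))} {m : ℕ} {s : Multiset ℕ}
    (h : (x : Equiv.Perm (Fin 5)).cycleType = s) (hs : s.lcm = m) : orderOf x = m := by
  rw [← Subgroup.orderOf_coe, ← Equiv.Perm.lcm_cycleType, h, hs]

/-- generating pair of type `(2,3,5)` -/
theorem gen235 (h : GenT 5 {2, 2} {3} {5}) : ∃ x y : ↥(alternatingGroup (Fin 5)), Subgroup.closure {x, y} = ⊤ ∧
    orderOf x = 2 ∧ orderOf y = 3 ∧ orderOf (x * y) = 5 := by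
  obtain ⟨x, y, h1, h2, h3, h4⟩ := h
  exact ⟨x, y, h1, orders h2 (by decide), orders h3 (by decide), orders h4 (by decide)⟩

/-- generating pair of type `(2,5,5)` -/
theorem gen255 (h : GenT 5 {2, 2} {3} {5}) : ∃ x y : ↥(alternatingGroup (Fin 5)), Subgroup.closure {x, y} = ⊤ ∧
    orderOf x = 2 ∧ orderOf y = 5 ∧ orderOf (x * y) = 5 := by
  obtain ⟨x, y, h1, h2, h3, h4⟩ := gen235 h
  have hx : x * x = 1 := by
    have := pow_orderOf_eq_one x
    rwa [h2, pow_two] at this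
  have hy : y * y * y = 1 := by
    have := pow_orderOf_eq_one y
    rw [h3] at this
    simpa only [pow_succ, pow_zero, one_mul] using this
  have hz : (x * y) ^ 5 = 1 := by
    have := pow_orderOf_eq_one (x * y)
    rwa [h4] at this
  have o2 : orderOf ((x * y) ^ 2) = 5 := by
    rw [orderOf_pow' _ (by norm_num), h4]
    norm_num
  have e1 : (x * y) ^ 2 = x * y * (x * y) := pow_two _
  refine ⟨x, (x * y) ^ 2, ?_, h2, o2, ?_⟩
  · rw [eq_top_iff, ← h1, Subgroup.closure_le]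
    have hx' : x ∈ Subgroup.closure {x, (x * y) ^ 2} := Subgroup.subset_closure (by simp)
    have hz' : (x * y) ^ 2 ∈ Subgroup.closure {x, (x * y) ^ 2} := Subgroup.subset_closure (by simp)
    rintro g (rfl | hg)
    · exact hx'
    · rw [Set.mem_singleton_iff] at hg
      subst hg
      have h5 : x * g ∈ Subgroup.closure {x, (x * g) ^ 2} := by
        have := Subgroup.pow_mem _ hz' 3
        have e0 : ((x * g) ^ 2) ^ 3 = x * g := by
          rw [← pow_mul, show 2 * 3 = 5 + 1 by norm_num, pow_succ (x * g) 5, hz, one_mul]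
        rwa [e0] at this
      have h6 := Subgroup.mul_mem _ hx' h5
      rwa [← mul_assoc, hx, one_mul] at h6
  · have e2 : x * (x * y) ^ 2 = y⁻¹ * (x * y)⁻¹ * y⁻¹⁻¹ := by
      rw [e1]
      have hy' : y⁻¹ = y * y := by rw [inv_eq_iff_mul_eq_one, ← mul_assoc, hy]
      have hx' : x⁻¹ = x := by rw [inv_eq_iff_mul_eq_one, hx]
      have h7 : y * y * (y * y) = y := by rw [← mul_assoc, hy, one_mul]
      calc x * (x * y * (x * y)) = x * x * y * x * y := by group
        _ = y * x * y := by rw [hx, one_mul]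
        _ = y * y * (y * y) * x * y := by rw [h7]
        _ = y⁻¹ * (y⁻¹ * x⁻¹) * y := by rw [hy', hx']; group
        _ = y⁻¹ * (x * y)⁻¹ * y⁻¹⁻¹ := by rw [mul_inv_rev, inv_inv]
    have e3 : ∀ a b : ↥(alternatingGroup (Fin 5)), orderOf (a * b * a⁻¹) = orderOf b := by
      intro a b
      have := MulEquiv.orderOf_eq (MulAut.conj a) b
      rwa [MulAut.conj_apply] at this
    rw [e2, e3, orderOf_inv, h4]

theorem powo {G : Type*} [Group G] {x : G} {m : ℕ} (h : orderOf x = m) : x ^ m = 1 := by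
  subst h
  exact pow_orderOf_eq_one x

theorem ne_one_of_order {G : Type*} [Group G] {x : G} {m : ℕ} (h : orderOf x = m) (hm : m ≠ 1) : x ≠ 1 := by
  rintro rfl
  rw [orderOf_one] at h
  exact hm h.symm

/-! ### numbers -/

/-- the order of `F₄(q)` -/
def NF (q : ℕ) : ℕ := q ^ 24 * (q ^ 2 - 1) * (q ^ 6 - 1) * (q ^ 8 - 1) * (q ^ 12 - 1)

theorem NF_ge {q : ℕ} (hq : 2 ≤ q) : q ^ 52 ≤ 2 * NF q := by
  have h2 : 2 ^ 2 ≤ q ^ 2 := Nat.pow_le_pow_left hq 2
  have h6 : 2 ^ 6 ≤ q ^ 6 := Nat.pow_le_pow_left hq 6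
  have h8 : 2 ^ 8 ≤ q ^ 8 := Nat.pow_le_pow_left hq 8
  have h12 : 2 ^ 12 ≤ q ^ 12 := Nat.pow_le_pow_left hq 12
  have a2 : 3 * q ^ 2 ≤ 4 * (q ^ 2 - 1) := by omega
  have a6 : 63 * q ^ 6 ≤ 64 * (q ^ 6 - 1) := by omega
  have a8 : 255 * q ^ 8 ≤ 256 * (q ^ 8 - 1) := by omega
  have a12 : 4095 * q ^ 12 ≤ 4096 * (q ^ 12 - 1) := by omega
  have h := Nat.mul_le_mul (Nat.mul_le_mul (Nat.mul_le_mul a2 a6) a8) a12
  have h' := Nat.mul_le_mul_left (q ^ 24) h
  have e1 : q ^ 24 * (3 * q ^ 2 * (63 * q ^ 6) * (255 * q ^ 8) * (4095 * q ^ 12)) = 197358525 * q ^ 52 := by ring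
  have e2 : q ^ 24 * (4 * (q ^ 2 - 1) * (64 * (q ^ 6 - 1)) * (256 * (q ^ 8 - 1)) * (4096 * (q ^ 12 - 1))) =
      268435456 * NF q := by
    unfold NF
    ring
  rw [e1, e2] at h'
  omega

/-- the final inequality -/
theorem num_false {q k l h c : ℕ} (hq : 2 ≤ q) (hk : c ≤ k ∨ c ≤ l) (hh : h ≤ 120) (hc : 241 < q ^ c)
    (h1 : ((q ^ k - 1) + (q ^ l - 1)) * NF q ≤ h * (q ^ 52 - 1)) : False := by
  have h2 : q ^ c - 1 ≤ (q ^ k - 1) + (q ^ l - 1) := by
    rcases hk with hk | hk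
    · have := Nat.pow_le_pow_right (n := q) (by omega) hk
      omega
    · have := Nat.pow_le_pow_right (n := q) (by omega) hk
      omega
  have h3 : 241 * NF q ≤ ((q ^ k - 1) + (q ^ l - 1)) * NF q := Nat.mul_le_mul_right _ (by omega)
  have h4 : h * (q ^ 52 - 1) ≤ 120 * (q ^ 52 - 1) := Nat.mul_le_mul_right _ hh
  have h5 := NF_ge hq
  have h6 : 0 < q ^ 52 := by positivity
  omega

end Cfsg.Agent.H952.F4.Cases.Five
end

private theorem dce_0ed30a5228de : _root_.True := by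
  try have : _root_.True := by simp only [_root_.Cfsg.Agent.H952.F4.Spec.pr.eq_1]
  exact _root_.True.intro
end

-- part: H952/F4/CasesSixFive
section
prune_inst 0x4010060040122020000000500120000000000000000000000c0400004090140400902080000200100000080000000000000000000000000000000000000010120800112021040a004060009800000000000000000000000000000000000000000000000000
set_option linter.all false
open scoped Cfsg.Agent.FastGrp

-- part: H952/F4/Fix
section
/-!
# S5926, task F-F1 (helper803): `L_invariants`, `L_dual_invariants` (in `FixL`), `exists_V26`, `exists_V25`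
-/

set_option autoImplicit false

namespace Cfsg.Agent.H952.F4.Fix

open Cfsg Cfsg.Lie Module
open Cfsg.Agent.ChevalleyStructure.E6Min.Tables Cfsg.Agent.ChevalleyStructure.E6Min.Basic

universe u

/-- F1: `p ≥ 5`: the trace zero vectors -/
theorem exists_V26 (p : ℕ) [Fact p.Prime] {F : Type u} [Field F] [Finite F] [CharP F p] (hp2 : p ≠ 2) (hp3 : p ≠ 3)
    {ρ : ↥(chevF4.group F) →* GL I27 F} (hρ : IsJ ρ) :
    ∃ (V : Type u) (_ : AddCommGroup V) (_ : Module F V) (σ : Representation F ↥(chevF4.group F) V),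
      Mod p 26 1 (JK ρ) σ ∧ ∀ X : Set ↥(chevF4.group F), (∀ v : V, (∀ g ∈ X, σ g v = v) → v = 0) →
        ∀ x : I27 → F, (∀ g ∈ X, JK ρ g x = x) → ∃ c : F, x = c • u0 F := by
  have h2 : (2 : F) ≠ 0 := by
    intro h
    have h' : ((2 : ℕ) : F) = 0 := by exact_mod_cast h
    rw [CharP.cast_eq_zero_iff F p, Nat.prime_dvd_prime_iff_eq Fact.out Nat.prime_two] at h'
    exact hp2 h'
  have h3 : (3 : F) ≠ 0 := by
    intro h
    have h' : ((3 : ℕ) : F) = 0 := by exact_mod_cast h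
    rw [CharP.cast_eq_zero_iff F p, Nat.prime_dvd_prime_iff_eq Fact.out Nat.prime_three] at h'
    exact hp3 h'
  exact FixV.exists_V26 (fun g x => Inv.tr1_inv hρ h2 g x) p h3 hρ (fun g => Inv.u0_inv hρ g)
    (fun g x y => Inv.tf_inv hρ h2 g x y)

/-- F2: `p = 3`: the trace zero vectors modulo the unit -/
theorem exists_V25 {F : Type u} [Field F] [Finite F] [CharP F 3] {ρ : ↥(chevF4.group F) →* GL I27 F} (hρ : IsJ ρ) :
    ∃ (V : Type u) (_ : AddCommGroup V) (_ : Module F V) (σ : Representation F ↥(chevF4.group F) V),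
      Mod 3 25 2 (JK ρ) σ ∧ ∀ X : Set ↥(chevF4.group F), (∀ v : V, (∀ g ∈ X, σ g v = v) → v = 0) →
        ∀ x : I27 → F, tr1 x = 0 → (∀ g ∈ X, JK ρ g x = x) → ∃ c : F, x = c • u0 F := by
  have h2 : (2 : F) ≠ 0 := by
    intro h
    have h' : ((2 : ℕ) : F) = 0 := by exact_mod_cast h
    rw [CharP.cast_eq_zero_iff F 3] at h'
    omega
  exact FixV.exists_V25 (fun g x => Inv.tr1_inv hρ h2 g x) hρ (fun g => Inv.u0_inv hρ g)
    (fun g x y => Inv.tf_inv hρ h2 g x y)

end Cfsg.Agent.H952.F4.Fix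
end

-- part: H952/F4/CasesSixFive
section
/-!
# S5926: `A₆` in characteristic 5 (helper801)

* `SixFive.conj_of`, `SixFive.exists_perm` : conjugacy and transitivity in `A₆`
* `SixFive.core` : the calculation in the Jordan algebra
* `Cases.six_five`
-/

set_option autoImplicit false
set_option linter.unusedSectionVars false

namespace Cfsg.Agent.H952.F4.SixFive

open Cfsg Cfsg.Lie Module Equiv
open Cfsg.Agent.ChevalleyStructure.E6Min.Tables Cfsg.Agent.ChevalleyStructure.E6Min.Basic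

universe u

/-- the alternating group of degree 6 -/
abbrev A6 := ↥(alternatingGroup (Fin 6))

def ea : A6 := ⟨swap (0 : Fin 6) 1 * swap (2 : Fin 6) 3, by rw [Equiv.Perm.mem_alternatingGroup]; decide⟩
def eb : A6 := ⟨swap (0 : Fin 6) 2 * swap (1 : Fin 6) 3, by rw [Equiv.Perm.mem_alternatingGroup]; decide⟩
/-- `1 → 2 → 3 → 1` -/
def et : A6 := ⟨swap (1 : Fin 6) 2 * swap (2 : Fin 6) 3, by rw [Equiv.Perm.mem_alternatingGroup]; decide⟩
def eb' : A6 := ⟨swap (0 : Fin 6) 1 * swap (4 : Fin 6) 5, by rw [Equiv.Perm.mem_alternatingGroup]; decide⟩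
/-- `0 → 4 → 2 → 0`, `1 → 5 → 3 → 1` -/
def et' : A6 := ⟨swap (0 : Fin 6) 4 * swap (4 : Fin 6) 2 * (swap (1 : Fin 6) 5 * swap (5 : Fin 6) 3), by rw [Equiv.Perm.mem_alternatingGroup]; decide⟩
def ez : A6 := ⟨swap (0 : Fin 6) 1 * swap (1 : Fin 6) 2, by rw [Equiv.Perm.mem_alternatingGroup]; decide⟩
def ew : A6 := ⟨swap (3 : Fin 6) 4 * swap (4 : Fin 6) 5, by rw [Equiv.Perm.mem_alternatingGroup]; decide⟩
def eS : A6 := ⟨swap (0 : Fin 6) 1 * swap (3 : Fin 6) 4, by rw [Equiv.Perm.mem_alternatingGroup]; decide⟩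

theorem ea_sq : ea * ea = 1 := by apply Subtype.ext; decide
theorem eb_sq : eb * eb = 1 := by apply Subtype.ext; decide
theorem ea_eb : ea * eb = eb * ea := by apply Subtype.ext; decide
theorem et_cube : et ^ 3 = 1 := by apply Subtype.ext; decide
theorem et_ea : et * ea * et⁻¹ = eb := by apply Subtype.ext; decide
theorem et_eb : et * eb * et⁻¹ = ea * eb := by apply Subtype.ext; decide
theorem eb'_sq : eb' * eb' = 1 := by apply Subtype.ext; decide
theorem ea_eb' : ea * eb' = eb' * ea := by apply Subtype.ext; decide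
theorem et'_cube : et' ^ 3 = 1 := by apply Subtype.ext; decide
theorem et'_ea : et' * ea * et'⁻¹ = eb' := by apply Subtype.ext; decide
theorem et'_eb : et' * eb' * et'⁻¹ = ea * eb' := by apply Subtype.ext; decide
theorem ez_cube : ez ^ 3 = 1 := by apply Subtype.ext; decide
theorem ew_cube : ew ^ 3 = 1 := by apply Subtype.ext; decide
theorem ez_ew : ez * ew = ew * ez := by apply Subtype.ext; decide
theorem eS_sq : eS * eS = 1 := by apply Subtype.ext; decide
theorem eS_ez : eS * ez * eS⁻¹ = ez⁻¹ := by apply Subtype.ext; decide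
theorem eS_ew : eS * ew * eS⁻¹ = ew⁻¹ := by apply Subtype.ext; decide

/-- Conjugacy in the alternating group. -/
theorem conj_of {n : ℕ} (g0 g : ↥(alternatingGroup (Fin n))) (c : Perm (Fin n)) (hc : Perm.sign c = -1)
    (hcg : c * g0 = g0 * c) (h : (g : Perm (Fin n)).cycleType = (g0 : Perm (Fin n)).cycleType) :
    ∃ k : ↥(alternatingGroup (Fin n)), k * g0 * k⁻¹ = g := by
  obtain ⟨k, hk⟩ := isConj_iff.1 (Perm.isConj_iff_cycleType_eq.2 h.symm)
  rcases Int.units_eq_one_or (Perm.sign k) with h1 | h1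
  · exact ⟨⟨k, Perm.mem_alternatingGroup.2 h1⟩, Subtype.ext hk⟩
  · refine ⟨⟨k * c, Perm.mem_alternatingGroup.2 (by rw [Perm.sign_mul, h1, hc]; decide)⟩, Subtype.ext ?_⟩
    change k * c * (g0 : Perm (Fin n)) * (k * c)⁻¹ = g
    rw [← hk]
    calc k * c * (g0 : Perm (Fin n)) * (k * c)⁻¹ = k * (c * g0) * c⁻¹ * k⁻¹ := by group
      _ = k * g0 * k⁻¹ := by rw [hcg]; group

/-- 2-transitivity of `A₆`. -/
theorem exists_perm (i j : Fin 6) (hij : i ≠ j) : ∃ g : A6, (g : Perm (Fin 6)) 4 = i ∧ (g : Perm (Fin 6)) 5 = j := by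
  have h0 : ∀ i j : Fin 6, i ≠ j → (swap 4 i * swap 5 (swap 4 i j) : Perm (Fin 6)) 4 = i ∧
      (swap 4 i * swap 5 (swap 4 i j) : Perm (Fin 6)) 5 = j := by decide
  obtain ⟨h1, h2⟩ := h0 i j hij
  set σ : Perm (Fin 6) := swap 4 i * swap 5 (swap 4 i j) with hσ
  rcases Int.units_eq_one_or (Perm.sign σ) with h3 | h3
  · exact ⟨⟨σ, Perm.mem_alternatingGroup.2 h3⟩, h1, h2⟩
  · refine ⟨⟨σ * swap (0 : Fin 6) 1, Perm.mem_alternatingGroup.2 ?_⟩, ?_, ?_⟩
    · rw [Perm.sign_mul, h3]; decide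
    · change σ (swap (0 : Fin 6) 1 4) = i
      rw [show (swap (0 : Fin 6) 1 : Perm (Fin 6)) 4 = 4 by decide]; exact h1
    · change σ (swap (0 : Fin 6) 1 5) = j
      rw [show (swap (0 : Fin 6) 1 : Perm (Fin 6)) 5 = 5 by decide]; exact h2

theorem exists_perm' (i j i' j' : Fin 6) (h : i ≠ j) (h' : i' ≠ j') :
    ∃ g : A6, (g : Perm (Fin 6)) i = i' ∧ (g : Perm (Fin 6)) j = j' := by
  obtain ⟨g, h1, h2⟩ := exists_perm i j h
  obtain ⟨g', h1', h2'⟩ := exists_perm i' j' h'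
  refine ⟨g' * g⁻¹, ?_, ?_⟩
  · change (g' : Perm (Fin 6)) ((g : Perm (Fin 6))⁻¹ i) = i'
    rw [Perm.inv_eq_iff_eq.2 h1.symm, h1']
  · change (g' : Perm (Fin 6)) ((g : Perm (Fin 6))⁻¹ j) = j'
    rw [Perm.inv_eq_iff_eq.2 h2.symm, h2']

section Ev

variable {K V G : Type*} [Field K] [AddCommGroup V] [Module K V] [Group G]

theorem mem_es {T : V →ₗ[K] V} {μ : K} {v : V} : v ∈ es T μ ↔ T v = μ • v := Module.End.mem_eigenspace_iff

theorem mem_es_one {T : V →ₗ[K] V} {v : V} : v ∈ es T 1 ↔ T v = v := by rw [mem_es, one_smul]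

theorem rep_inv_apply (ρ : Representation K G V) (g : G) (v : V) : ρ g⁻¹ (ρ g v) = v := by
  rw [← Module.End.mul_apply, ← map_mul, inv_mul_cancel, map_one, Module.End.one_apply]

theorem rep_apply_inv (ρ : Representation K G V) (g : G) (v : V) : ρ g (ρ g⁻¹ v) = v := by
  rw [← Module.End.mul_apply, ← map_mul, mul_inv_cancel, map_one, Module.End.one_apply]

theorem rep_mul (ρ : Representation K G V) (g h : G) (v : V) : ρ (g * h) v = ρ g (ρ h v) := by
  rw [map_mul, Module.End.mul_apply]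

/-- `ev` is a class function. -/
theorem ev_conj (ρ : Representation K G V) (k g : G) (μ : K) : ev (ρ (k * g * k⁻¹)) μ = ev (ρ g) μ := by
  let e : V ≃ₗ[K] V := LinearEquiv.ofLinearMap (ρ k) (ρ k⁻¹) (by ext v; exact rep_apply_inv ρ k v)
    (by ext v; exact rep_inv_apply ρ k v)
  have h1 : (Module.End.eigenspace (ρ g) μ).map (e : V →ₗ[K] V) = Module.End.eigenspace (ρ (k * g * k⁻¹)) μ := by
    ext v
    rw [Submodule.mem_map]
    constructor
    · rintro ⟨x, hx, rfl⟩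
      rw [Module.End.mem_eigenspace_iff] at hx ⊢
      change ρ (k * g * k⁻¹) (ρ k x) = μ • ρ k x
      rw [rep_mul, rep_inv_apply, rep_mul, hx, map_smul]
    · intro hv
      rw [Module.End.mem_eigenspace_iff] at hv
      refine ⟨ρ k⁻¹ v, ?_, rep_apply_inv ρ k v⟩
      rw [Module.End.mem_eigenspace_iff, ← map_smul, ← hv, rep_mul, rep_mul, rep_inv_apply]
  unfold ev
  rw [← h1]
  exact LinearEquiv.finrank_map_eq e _

end Ev

section Core

variable {F : Type u} [Field F] [CharP F 5]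

theorem n2 : (2 : F) ≠ 0 := by
  have h := CharP.cast_eq_zero_iff F 5 2
  intro h1
  have h2 := h.1 (by exact_mod_cast h1)
  exact absurd h2 (by decide)

theorem n3 : (3 : F) ≠ 0 := by
  have h := CharP.cast_eq_zero_iff F 5 3
  intro h1
  have h2 := h.1 (by exact_mod_cast h1)
  exact absurd h2 (by decide)

theorem e5 : (5 : F) = 0 := by
  have h := (CharP.cast_eq_zero_iff F 5 5).2 (dvd_refl 5)
  exact_mod_cast h

theorem tf_zero_left (y : I27 → F) : tf 0 y = 0 := by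
  have h := Jord.tf_smul_left (0 : F) 0 y
  rwa [zero_smul, zero_mul] at h

theorem cr_zero_left (y : I27 → F) : cr 0 y = 0 := by
  have h := Jord.cr_smul_left (0 : F) 0 y
  rwa [zero_smul, zero_smul] at h

/-- **The calculation in the Jordan algebra.** -/
theorem core (ρ : Representation F A6 (I27 → F))
    (hu : ∀ g, ρ g (u0 F) = u0 F) (htf : ∀ g x y, tf (ρ g x) (ρ g y) = tf x y)
    (htr : ∀ g x, tr1 (ρ g x) = tr1 x)
    (hsh : ∀ g x, sh (ρ g x) = ρ g (sh x)) (hcr : ∀ g x y, cr (ρ g x) (ρ g y) = ρ g (cr x y))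
    (hfix : ∀ x, (∀ g, ρ g x = x) → ∃ c : F, x = c • u0 F)
    (h4 : finrank F ↥(es (ρ ea) 1 ⊓ es (ρ eb) 1 ⊓ es (ρ et) 1) = 3)
    (w : I27 → F) (hw : ∀ g : A6, (g : Perm (Fin 6)) 5 = 5 → ρ g w = w) (hw1 : tr1 w = 0) (hw0 : w ≠ 0) :
    False := by
  -- the conjugates
  have hex : ∀ i : Fin 6, ∃ g : A6, (g : Perm (Fin 6)) 5 = i := by
    intro i
    obtain ⟨j, hj⟩ : ∃ j : Fin 6, j ≠ i := ⟨i + 1, by revert i; decide⟩
    obtain ⟨g, -, hg⟩ := exists_perm j i hj
    exact ⟨g, hg⟩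
  choose k hk using hex
  obtain ⟨W, hWd⟩ : ∃ W : Fin 6 → I27 → F, W = fun i => ρ (k i) w := ⟨_, rfl⟩
  have hW : ∀ (g : A6) (i : Fin 6), ρ g (W i) = W ((g : Perm (Fin 6)) i) := by
    intro g i
    have h1 : ((((k ((g : Perm (Fin 6)) i))⁻¹ * (g * k i) : A6) : Perm (Fin 6))) 5 = 5 := by
      change ((k ((g : Perm (Fin 6)) i) : A6) : Perm (Fin 6))⁻¹ ((g : Perm (Fin 6)) ((k i : Perm (Fin 6)) 5)) = 5
      rw [hk i, Perm.inv_eq_iff_eq, hk]
    have h2 := hw _ h1
    rw [rep_mul] at h2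
    have h3 := congrArg (ρ (k ((g : Perm (Fin 6)) i))) h2
    rw [rep_apply_inv, rep_mul] at h3
    rw [hWd]
    exact h3
  have hW5 : W 5 = w := by
    rw [hWd]
    exact hw _ (hk 5)
  have htrW : ∀ i, tr1 (W i) = 0 := by
    intro i
    rw [hWd]
    change tr1 (ρ (k i) w) = 0
    rw [htr, hw1]
  have hu1 : tr1 (u0 F) = (3 : F) := Jord.tr1_u0
  have tr_add : ∀ x y : I27 → F, tr1 (x + y) = tr1 x + tr1 y := by
    intro x y
    rw [← Jord.tf_u0, ← Jord.tf_u0, ← Jord.tf_u0, Jord.tf_comm, Jord.tf_add_left, Jord.tf_comm x, Jord.tf_comm y]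
  have tr_smul : ∀ (c : F) (x : I27 → F), tr1 (c • x) = c * tr1 x := by
    intro c x
    rw [← Jord.tf_u0, ← Jord.tf_u0, Jord.tf_comm, Jord.tf_smul_left, Jord.tf_comm x]
  have hu00 : u0 F ≠ 0 := by
    intro h
    have h1 := hu1
    rw [h, ← zero_smul F (u0 F), tr_smul, zero_mul] at h1
    exact n3 h1.symm
  have hne : ∀ i, W i ≠ 0 := by
    intro i h
    obtain ⟨g, hg⟩ : ∃ g : A6, (g : Perm (Fin 6)) i = 5 := by
      refine ⟨(k i)⁻¹, ?_⟩
      change ((k i : A6) : Perm (Fin 6))⁻¹ i = 5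
      rw [Perm.inv_eq_iff_eq, hk]
    have h1 := hW g i
    rw [hg, hW5, h, map_zero] at h1
    exact hw0 h1.symm
  -- the sum
  have hsum : ∑ i, W i = 0 := by
    obtain ⟨c, hc⟩ := hfix (∑ i, W i) (by
      intro g
      rw [map_sum]
      calc ∑ i, ρ g (W i) = ∑ i, W ((g : Perm (Fin 6)) i) := Finset.sum_congr rfl fun i _ => hW g i
        _ = ∑ i, W i := Equiv.sum_comp (g : Perm (Fin 6)) W)
    have h1 : tr1 (∑ i, W i) = 0 := by
      simp only [Fin.sum_univ_succ, Finset.univ_eq_empty, Finset.sum_empty, tr_add, htrW, add_zero]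
    rw [hc, tr_smul, hu1] at h1
    have h2 : c = 0 := (mul_eq_zero.1 h1).resolve_right n3
    rw [hc, h2, zero_smul]
  -- the conjugates are different
  have hdist : ∀ i j, i ≠ j → W i ≠ W j := by
    intro i j hij h
    have h1 : ∀ l, W l = W 5 := by
      intro l
      by_cases hl : l = 5
      · rw [hl]
      · obtain ⟨g, hg1, hg2⟩ := exists_perm' i j l 5 hij hl
        rw [← hg1, ← hg2, ← hW, ← hW, h]
    have h2 : ∑ i, W i = (6 : F) • W 5 := by
      rw [Finset.sum_congr rfl (fun l _ => h1 l), Finset.sum_const, Finset.card_univ, Fintype.card_fin,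
        ← Nat.cast_smul_eq_nsmul F]
      norm_num
    rw [hsum] at h2
    have h3 : (6 : F) = 1 := by linear_combination (e5 : (5 : F) = 0)
    rw [h3, one_smul] at h2
    exact hne 5 h2.symm
  have hind : ∀ a b c : F, a • u0 F + b • W 4 + c • W 5 = 0 → a = 0 ∧ b = 0 ∧ c = 0 := by
    intro a b c h
    have h1 := congrArg tr1 h
    rw [tr_add, tr_add, tr_smul, tr_smul, tr_smul, htrW, htrW, hu1, ← zero_smul F (u0 F), tr_smul] at h1
    have ha : a = 0 := by
      have h2 : a * 3 = 0 := by linear_combination h1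
      exact (mul_eq_zero.1 h2).resolve_right n3
    rw [ha, zero_smul, zero_add] at h
    obtain ⟨g, hg1, hg2⟩ := exists_perm' 4 5 3 5 (by decide) (by decide)
    have h2 := congrArg (ρ g) h
    rw [map_add, map_smul, map_smul, hW, hW, hg1, hg2, map_zero] at h2
    have h3 : b • (W 4 - W 3) = 0 := by
      rw [smul_sub, sub_eq_zero]
      exact add_right_cancel (h.trans h2.symm)
    have hb : b = 0 := (smul_eq_zero.1 h3).resolve_right (sub_ne_zero.2 (hdist 4 3 (by decide)))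
    rw [hb, zero_smul, zero_add] at h
    exact ⟨ha, hb, (smul_eq_zero.1 h).resolve_right (hne 5)⟩
  -- the fixed vectors of `A₄`
  have hA4 : ∀ x, ρ ea x = x → ρ eb x = x → ρ et x = x → ∃ a b c : F, x = a • u0 F + b • W 4 + c • W 5 := by
    intro x h1 h2 h3
    have hx : x ∈ es (ρ ea) 1 ⊓ es (ρ eb) 1 ⊓ es (ρ et) 1 := ⟨⟨mem_es_one.2 h1, mem_es_one.2 h2⟩, mem_es_one.2 h3⟩
    have hli : LinearIndependent F ![u0 F, W 4, W 5] := by
      rw [Fintype.linearIndependent_iff]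
      intro g hg
      rw [Fin.sum_univ_three] at hg
      obtain ⟨h4, h5, h6⟩ := hind _ _ _ hg
      intro i
      fin_cases i
      · exact h4
      · exact h5
      · exact h6
    have hr := finrank_span_eq_card hli
    have hmem : ∀ v, v = u0 F ∨ v = W 4 ∨ v = W 5 → v ∈ es (ρ ea) 1 ⊓ es (ρ eb) 1 ⊓ es (ρ et) 1 := by
      rintro v (rfl | rfl | rfl)
      · exact ⟨⟨mem_es_one.2 (hu _), mem_es_one.2 (hu _)⟩, mem_es_one.2 (hu _)⟩
      · exact ⟨⟨mem_es_one.2 (hW _ _), mem_es_one.2 (hW _ _)⟩, mem_es_one.2 (hW _ _)⟩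
      · exact ⟨⟨mem_es_one.2 (hW _ _), mem_es_one.2 (hW _ _)⟩, mem_es_one.2 (hW _ _)⟩
    have hle : Submodule.span F (Set.range ![u0 F, W 4, W 5]) ≤ es (ρ ea) 1 ⊓ es (ρ eb) 1 ⊓ es (ρ et) 1 := by
      rw [Submodule.span_le]
      rintro _ ⟨i, rfl⟩
      fin_cases i
      · exact hmem _ (Or.inl rfl)
      · exact hmem _ (Or.inr (Or.inl rfl))
      · exact hmem _ (Or.inr (Or.inr rfl))
    have heq := Submodule.eq_of_le_of_finrank_eq hle (by rw [hr, h4, Fintype.card_fin])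
    rw [← heq] at hx
    obtain ⟨c, hc⟩ := (Submodule.mem_span_range_iff_exists_fun F).1 hx
    rw [Fin.sum_univ_three] at hc
    exact ⟨c 0, c 1, c 2, hc.symm⟩
  -- the fixed vectors of `A₅`
  have hA5 : ∀ x, (∀ g : A6, (g : Perm (Fin 6)) 5 = 5 → ρ g x = x) → ∃ a c : F, x = a • u0 F + c • W 5 := by
    intro x hx
    obtain ⟨a, b, c, h⟩ := hA4 x (hx _ (by decide)) (hx _ (by decide)) (hx _ (by decide))
    obtain ⟨g, hg1, hg2⟩ := exists_perm' 4 5 3 5 (by decide) (by decide)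
    have h2 := hx g hg2
    rw [h, map_add, map_add, map_smul, map_smul, map_smul, hu, hW, hW, hg1, hg2] at h2
    have h3 : b • (W 3 - W 4) = 0 := by
      rw [smul_sub, sub_eq_zero]
      exact add_left_cancel (add_right_cancel h2)
    have hb : b = 0 := (smul_eq_zero.1 h3).resolve_right (sub_ne_zero.2 (hdist 3 4 (by decide)))
    exact ⟨a, c, by rw [h, hb, zero_smul, add_zero]⟩
  -- `tf (W i) (W i) = 0`
  have htf_sym : ∀ i j, i ≠ j → tf (W i) (W j) = tf (W 4) (W 5) := by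
    intro i j hij
    obtain ⟨g, hg1, hg2⟩ := exists_perm' 4 5 i j (by decide) hij
    rw [← hg1, ← hg2, ← hW, ← hW, htf]
  have htf5 : tf (W 5) (W 5) = 0 := by
    have h1 : tf (W 5) (∑ i, W i) = 0 := by
      rw [hsum, ← zero_smul F (W 5), Jord.tf_comm, Jord.tf_smul_left, zero_mul]
    have tf_add_right : ∀ x y y' : I27 → F, tf x (y + y') = tf x y + tf x y' := by
      intro x y y'
      rw [Jord.tf_comm, Jord.tf_add_left, Jord.tf_comm y, Jord.tf_comm y']
    rw [Fin.sum_univ_six, tf_add_right, tf_add_right, tf_add_right, tf_add_right, tf_add_right,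
      htf_sym 5 0 (by decide), htf_sym 5 1 (by decide), htf_sym 5 2 (by decide), htf_sym 5 3 (by decide),
      htf_sym 5 4 (by decide)] at h1
    linear_combination h1 - (e5 : (5 : F) = 0) * tf (W 4) (W 5)
  -- `(W 5)^# = 0`
  have hsh5 : sh (W 5) = 0 := by
    obtain ⟨α, β, h⟩ := hA5 (sh (W 5)) (by
      intro g hg
      rw [← hsh, hW, hg])
    have h1 := Jord.tr1_sh (W 5)
    rw [htf5, htrW, h, tr_add, tr_smul, tr_smul, htrW, hu1] at h1
    have hα : α = 0 := by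
      have h2 : α * (2 * 3) = 0 := by linear_combination h1
      exact (mul_eq_zero.1 h2).resolve_right (mul_ne_zero n2 n3)
    rw [hα, zero_smul, zero_add] at h
    have h2 := Jord.tf_sh_self (W 5)
    rw [h, Jord.tf_smul_left, htf5, mul_zero] at h2
    have hN : cubicT (W 5) = 0 := (mul_eq_zero.1 h2.symm).resolve_left n3
    have h3 := Jord.sh_sh (W 5)
    rw [hN, zero_smul, h, Jord.sh_smul, h, smul_smul] at h3
    have h4 : β ^ 2 * β = 0 := (smul_eq_zero.1 h3).resolve_right (hne 5)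
    have hβ : β = 0 := by
      have : β ^ 3 = 0 := by linear_combination h4
      exact pow_eq_zero_iff (by norm_num) |>.1 this
    rw [h, hβ, zero_smul]
  have hsh4 : sh (W 4) = 0 := by
    obtain ⟨g, -, hg2⟩ := exists_perm' 4 5 5 4 (by decide) (by decide)
    rw [← hg2, ← hW, hsh, hsh5, map_zero]
  -- `W 4 × W 5`
  obtain ⟨α, β, γ, hq⟩ := hA4 (cr (W 4) (W 5)) (by rw [← hcr, hW, hW]; rfl) (by rw [← hcr, hW, hW]; rfl)
    (by rw [← hcr, hW, hW]; rfl)
  have hβγ : β = γ := by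
    obtain ⟨g, hg1, hg2⟩ := exists_perm' 4 5 5 4 (by decide) (by decide)
    have h1 : ρ g (cr (W 4) (W 5)) = cr (W 4) (W 5) := by
      rw [← hcr, hW, hW, hg1, hg2, Jord.cr_comm]
    rw [hq, map_add, map_add, map_smul, map_smul, map_smul, hu, hW, hW, hg1, hg2] at h1
    have h2 : (β - γ) • (W 5 - W 4) = 0 := by
      have h3 : α • u0 F + β • W 5 + γ • W 4 - (α • u0 F + β • W 4 + γ • W 5) = 0 := sub_eq_zero.2 h1
      rw [← h3]; module
    exact sub_eq_zero.1 ((smul_eq_zero.1 h2).resolve_right (sub_ne_zero.2 (hdist 5 4 (by decide))))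
  have hα : α = 0 := by
    have h1 := Jord.sh_cr (W 4) (W 5)
    have h0 : cr (sh (W 4)) (sh (W 5)) = 0 := by rw [hsh4, cr_zero_left]
    have h0' : tf (sh (W 4)) (W 5) = 0 := by rw [hsh4, tf_zero_left]
    have h0'' : tf (W 4) (sh (W 5)) = 0 := by rw [hsh5, Jord.tf_comm, tf_zero_left]
    rw [h0, h0', h0'', zero_smul, zero_smul, add_zero, add_zero] at h1
    have e1 : cr (W 4) (W 5) = α • u0 F + β • (W 4 + W 5) := by rw [hq, ← hβγ]; module
    have e2 : sh (cr (W 4) (W 5)) = (α ^ 2 + α * β ^ 2) • u0 F + (β ^ 3 - α * β) • W 4 + (β ^ 3 - α * β) • W 5 := by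
      conv_lhs => rw [e1]
      rw [Jord.sh_add, Jord.sh_smul, Jord.sh_smul, Jord.sh_u0, Jord.sh_add, hsh4, hsh5, Jord.cr_smul_left,
        Jord.cr_u0, tr_smul, tr_add, htrW, htrW, e1]
      module
    rw [h1] at e2
    obtain ⟨h2, h3, -⟩ := hind _ _ _ e2.symm
    by_contra hα0
    have h4 : α + β ^ 2 = 0 := by
      have : α * (α + β ^ 2) = 0 := by linear_combination h2
      exact (mul_eq_zero.1 this).resolve_left hα0
    have h5 : β ^ 3 = 0 := by
      have : 2 * β ^ 3 = 0 := by linear_combination h3 + β * h4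
      exact (mul_eq_zero.1 this).resolve_left n2
    have h6 : β = 0 := pow_eq_zero_iff (by norm_num) |>.1 h5
    apply hα0
    rw [h6] at h4
    linear_combination h4
  have htf45 : tf (W 4) (W 5) = 0 := by
    have h1 := Jord.tr1_cr (W 4) (W 5)
    rw [hq, hα, tr_add, tr_add, tr_smul, tr_smul, tr_smul, htrW, htrW] at h1
    linear_combination h1
  -- averaging
  apply hne 5
  apply Jord.tf_nondeg
  intro y
  obtain ⟨y1, hy1⟩ : ∃ y1, y1 = y + ρ et y + ρ et (ρ et y) := ⟨_, rfl⟩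
  obtain ⟨y2, hy2⟩ : ∃ y2, y2 = y1 + ρ eb y1 := ⟨_, rfl⟩
  obtain ⟨y3, hy3⟩ : ∃ y3, y3 = y2 + ρ ea y2 := ⟨_, rfl⟩
  have tf_add_right : ∀ x y y' : I27 → F, tf x (y + y') = tf x y + tf x y' := by
    intro x y y'
    rw [Jord.tf_comm, Jord.tf_add_left, Jord.tf_comm y, Jord.tf_comm y']
  have hinv : ∀ (g : A6) (x : I27 → F), (g : Perm (Fin 6)) 5 = 5 → tf (W 5) (ρ g x) = tf (W 5) x := by
    intro g x hg
    calc tf (W 5) (ρ g x) = tf (ρ g (W 5)) (ρ g x) := by rw [hW, hg]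
      _ = tf (W 5) x := htf _ _ _
  have t1 : tf (W 5) y1 = 3 * tf (W 5) y := by
    rw [hy1, tf_add_right, tf_add_right, hinv et _ (by decide), hinv et _ (by decide), hinv et _ (by decide)]; ring
  have t2 : tf (W 5) y2 = 2 * tf (W 5) y1 := by
    rw [hy2, tf_add_right, hinv eb _ (by decide)]; ring
  have t3 : tf (W 5) y3 = 2 * tf (W 5) y2 := by
    rw [hy3, tf_add_right, hinv ea _ (by decide)]; ring
  have f1 : ρ et y1 = y1 := by
    have : ρ et (ρ et (ρ et y)) = y := by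
      rw [← rep_mul, ← rep_mul, show et * et * et = 1 from (pow_three' et).symm.trans et_cube, map_one, Module.End.one_apply]
    rw [hy1, map_add, map_add, this]; abel
  have f2 : ∀ x : I27 → F, ρ eb (ρ eb x) = x := fun x => by
    rw [← rep_mul, eb_sq, map_one, Module.End.one_apply]
  have f3 : ∀ x : I27 → F, ρ ea (ρ ea x) = x := fun x => by
    rw [← rep_mul, ea_sq, map_one, Module.End.one_apply]
  have f4 : ∀ x : I27 → F, ρ ea (ρ eb x) = ρ eb (ρ ea x) := fun x => by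
    rw [← rep_mul, ea_eb, rep_mul]
  have f5 : ∀ x : I27 → F, ρ et (ρ ea x) = ρ eb (ρ et x) := fun x => by
    rw [← rep_mul, ← rep_mul, ← et_ea, inv_mul_cancel_right]
  have f6 : ∀ x : I27 → F, ρ et (ρ eb x) = ρ ea (ρ eb (ρ et x)) := fun x => by
    rw [← rep_mul, ← rep_mul, ← rep_mul, ← et_eb, inv_mul_cancel_right]
  obtain ⟨a, b, c, h⟩ := hA4 y3 (by rw [hy3, map_add, f3]; abel)
    (by rw [hy3, map_add, ← f4, hy2, map_add, f2]; simp only [map_add]; abel)
    (by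
      rw [hy3, hy2]
      simp only [map_add, f5, f6, f1, f2, f4]
      abel)
  have h7 : tf (W 5) y3 = 0 := by
    rw [h, tf_add_right, tf_add_right, Jord.tf_comm, Jord.tf_smul_left, Jord.tf_u0, htrW, Jord.tf_comm,
      Jord.tf_smul_left, htf45, Jord.tf_comm, Jord.tf_smul_left, htf5]
    ring
  rw [t3, t2, t1] at h7
  have h8 : (2 * 2 * 3) * tf (W 5) y = 0 := by linear_combination h7
  exact (mul_eq_zero.1 h8).resolve_left (mul_ne_zero (mul_ne_zero n2 n2) n3)

end Core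

/-! ### Dimensions of fixed spaces -/

theorem ct_ea : (ea : Perm (Fin 6)).cycleType = {2, 2} := by
  have h : Perm.Disjoint (swap (0 : Fin 6) 1) (swap (2 : Fin 6) 3) := by
    rw [Perm.disjoint_iff_disjoint_support]; decide
  change (swap (0 : Fin 6) 1 * swap (2 : Fin 6) 3).cycleType = _
  rw [h.cycleType_mul, (Perm.swap_isSwap_iff.2 (by decide) : (swap (0 : Fin 6) 1).IsSwap).isCycle.cycleType,
    (Perm.swap_isSwap_iff.2 (by decide) : (swap (2 : Fin 6) 3).IsSwap).isCycle.cycleType]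
  decide

theorem ct_three {a b c : Fin 6} (hab : a ≠ b) (hac : a ≠ c) (hbc : b ≠ c) :
    (swap a b * swap b c).cycleType = {3} := by
  have h : (swap b a * swap b c).IsThreeCycle := Perm.isThreeCycle_swap_mul_swap_same hab.symm hbc hac
  rw [swap_comm b a] at h
  exact h

theorem ct_et : (et : Perm (Fin 6)).cycleType = {3} := ct_three (by decide) (by decide) (by decide)

theorem ct_et' : (et' : Perm (Fin 6)).cycleType = {3, 3} := by
  have h : Perm.Disjoint (swap (0 : Fin 6) 4 * swap (4 : Fin 6) 2) (swap (1 : Fin 6) 5 * swap (5 : Fin 6) 3) := by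
    rw [Perm.disjoint_iff_disjoint_support]; decide
  change (swap (0 : Fin 6) 4 * swap (4 : Fin 6) 2 * (swap (1 : Fin 6) 5 * swap (5 : Fin 6) 3)).cycleType = _
  rw [h.cycleType_mul, ct_three (by decide) (by decide) (by decide), ct_three (by decide) (by decide) (by decide)]
  rfl

theorem conj_two (g : A6) (h : (g : Perm (Fin 6)).cycleType = {2, 2}) : ∃ k, k * ea * k⁻¹ = g :=
  conj_of ea g (swap (4 : Fin 6) 5) (by decide) (by decide) (by rw [h, ct_ea])

theorem conj_three (g : A6) (h : (g : Perm (Fin 6)).cycleType = {3}) : ∃ k, k * et * k⁻¹ = g :=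
  conj_of et g (swap (4 : Fin 6) 5) (by decide) (by decide) (by rw [h, ct_et])

theorem conj_three' (g : A6) (h : (g : Perm (Fin 6)).cycleType = {3, 3}) : ∃ k, k * et' * k⁻¹ = g :=
  conj_of et' g (swap (0 : Fin 6) 1 * (swap (4 : Fin 6) 5 * swap (2 : Fin 6) 3)) (by decide) (by decide) (by rw [h, ct_et'])

def k1 : A6 := ⟨swap (2 : Fin 6) 3 * swap (3 : Fin 6) 4, by rw [Equiv.Perm.mem_alternatingGroup]; decide⟩
def k2 : A6 := ⟨swap (0 : Fin 6) 3 * swap (3 : Fin 6) 2 * swap (2 : Fin 6) 5 * swap (5 : Fin 6) 1, by rw [Equiv.Perm.mem_alternatingGroup]; decide⟩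
def k3 : A6 := ⟨swap (1 : Fin 6) 3 * swap (3 : Fin 6) 4, by rw [Equiv.Perm.mem_alternatingGroup]; decide⟩

theorem k1_ea : k1 * ea * k1⁻¹ = eS := by apply Subtype.ext; decide
theorem k2_et' : k2 * et' * k2⁻¹ = ez * ew := by apply Subtype.ext; decide
theorem k3_et' : k3 * et' * k3⁻¹ = ez * ew⁻¹ := by apply Subtype.ext; decide

theorem ne_one_of {g : A6} {i : Fin 6} (h : (g : Perm (Fin 6)) i ≠ i) : g ≠ 1 := by
  rintro rfl
  exact h rfl

section Dim

variable {K V : Type*} [Field K] [AddCommGroup V] [Module K V] [FiniteDimensional K V]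

/-- Involutions have fixed spaces of dimension 15. -/
theorem two_ne_eleven [IsAlgClosed K] (h2 : (2 : K) ≠ 0) (h3 : (3 : K) ≠ 0) (ρ : Representation K A6 V)
    (hd : finrank K V = 27) (ht : ∀ g : A6, g ≠ 1 → g ^ 3 = 1 → ev (ρ g) 1 = 15 ∨ ev (ρ g) 1 = 9) :
    ev (ρ ea) 1 ≠ 11 := by
  intro h
  have e2 : ev (ρ eb) 1 = 11 := by rw [← et_ea, ev_conj, h]
  have e3 : ev (ρ (ea * eb)) 1 = 11 := by rw [← et_eb, ev_conj, e2]
  have e2' : ev (ρ eb') 1 = 11 := by rw [← et'_ea, ev_conj, h]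
  have e3' : ev (ρ (ea * eb')) 1 = 11 := by rw [← et'_eb, ev_conj, e2']
  have f1 := Eig.four h2 ρ ea_sq eb_sq ea_eb
  have f1' := Eig.four h2 ρ ea_sq eb'_sq ea_eb'
  have f2 := Eig.a4 h2 ρ ea_sq eb_sq ea_eb et_cube et_ea et_eb
  have f2' := Eig.a4 h2 ρ ea_sq eb'_sq ea_eb' et'_cube et'_ea et'_eb
  have g1 : finrank K ↥(es (ρ ea) 1 ⊓ es (ρ eb) 1 ⊓ es (ρ et) 1) ≤ finrank K ↥(es (ρ ea) 1 ⊓ es (ρ eb) 1) :=
    Submodule.finrank_mono inf_le_left
  have g1' : finrank K ↥(es (ρ ea) 1 ⊓ es (ρ eb') 1 ⊓ es (ρ et') 1) ≤ finrank K ↥(es (ρ ea) 1 ⊓ es (ρ eb') 1) :=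
    Submodule.finrank_mono inf_le_left
  rw [hd, h, e2, e3] at f1
  rw [hd, h, e2', e3'] at f1'
  rw [hd] at f2 f2'
  have t1 : ev (ρ et) 1 = 9 := by
    rcases ht et (ne_one_of (i := 1) (by decide)) et_cube with h1 | h1
    · omega
    · exact h1
  have t1' : ev (ρ et') 1 = 9 := by
    rcases ht et' (ne_one_of (i := 1) (by decide)) et'_cube with h1 | h1
    · omega
    · exact h1
  obtain ⟨k, hk⟩ := conj_three ez (ct_three (by decide) (by decide) (by decide))
  obtain ⟨k', hk'⟩ := conj_three ew (ct_three (by decide) (by decide) (by decide))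
  have n1 := Eig.nine h3 ρ ez_cube ew_cube ez_ew eS_sq eS_ez eS_ew
  have s1 : ev (ρ ez) 1 = 9 := by rw [← hk, ev_conj, t1]
  have s2 : ev (ρ ew) 1 = 9 := by rw [← hk', ev_conj, t1]
  have s3 : ev (ρ (ez * ew)) 1 = 9 := by rw [← k2_et', ev_conj, t1']
  have s4 : ev (ρ (ez * ew⁻¹)) 1 = 9 := by rw [← k3_et', ev_conj, t1']
  have s5 : ev (ρ eS) 1 = 11 := by rw [← k1_ea, ev_conj, h]
  rw [hd, s1, s2, s3, s4, s5] at n1
  omega

/-- The fixed space of `A₄`. -/
theorem dim_a4 (h2 : (2 : K) ≠ 0) (ρ : Representation K A6 V) (hd : finrank K V = 27) (h : ev (ρ ea) 1 = 15)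
    (ht : ev (ρ et) 1 = 9) : finrank K ↥(es (ρ ea) 1 ⊓ es (ρ eb) 1 ⊓ es (ρ et) 1) = 3 := by
  have e2 : ev (ρ eb) 1 = 15 := by rw [← et_ea, ev_conj, h]
  have e3 : ev (ρ (ea * eb)) 1 = 15 := by rw [← et_eb, ev_conj, e2]
  have f1 := Eig.four h2 ρ ea_sq eb_sq ea_eb
  have f2 := Eig.a4 h2 ρ ea_sq eb_sq ea_eb et_cube et_ea et_eb
  rw [hd, h, e2, e3] at f1
  rw [hd, ht] at f2
  omega

end Dim

/-! ### The natural `A₅` -/

/-- The embedding `A₅ → A₆`. -/
noncomputable def io : ↥(alternatingGroup (Fin 5)) →* A6 :=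
  ((Perm.extendDomainHom (finSuccAboveEquiv (5 : Fin 6))).comp (alternatingGroup (Fin 5)).subtype).codRestrict
    (alternatingGroup (Fin 6)) fun g => by
      rw [Perm.mem_alternatingGroup]
      exact (Perm.sign_extendDomain _ _).trans (Perm.mem_alternatingGroup.1 g.2)

theorem ct_io (g : ↥(alternatingGroup (Fin 5))) :
    ((io g : A6) : Perm (Fin 6)).cycleType = (g : Perm (Fin 5)).cycleType := Perm.cycleType_extendDomain _

theorem exists_io (g : A6) (hg : (g : Perm (Fin 6)) 5 = 5) : ∃ g', io g' = g := by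
  have hp : ∀ x : Fin 6, (g : Perm (Fin 6)) x ≠ 5 ↔ x ≠ 5 := by
    intro x
    rw [not_iff_not]
    constructor
    · intro h
      exact (g : Perm (Fin 6)).injective (h.trans hg.symm)
    · rintro rfl
      exact hg
  set f : Fin 5 ≃ {x : Fin 6 // x ≠ 5} := (finSuccAboveEquiv (5 : Fin 6)) with hf
  set e : Perm (Fin 5) := (f.trans ((g : Perm (Fin 6)).subtypePerm hp)).trans f.symm with he
  have h1 : e.extendDomain f = g := by
    ext x
    by_cases hx : x ≠ 5
    · rw [Perm.extendDomain_apply_subtype e f hx, he]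
      simp
    · push Not at hx
      subst hx
      rw [Perm.extendDomain_apply_not_subtype e f (by simp), hg]
  refine ⟨⟨e, ?_⟩, Subtype.ext h1⟩
  rw [Perm.mem_alternatingGroup, ← Perm.sign_extendDomain e f, h1]
  exact Perm.mem_alternatingGroup.1 g.2

theorem pow_of_ct {n : ℕ} {k : ℕ} (g : ↥(alternatingGroup (Fin n))) (h : (g : Perm (Fin n)).cycleType = {k}) :
    g ^ k = 1 := by
  apply Subtype.ext
  have h1 := Perm.lcm_cycleType (g : Perm (Fin n))
  rw [h] at h1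
  have h2 : k = orderOf (g : Perm (Fin n)) := by rw [← h1]; simp
  change (g : Perm (Fin n)) ^ k = 1
  rw [h2]
  exact pow_orderOf_eq_one _

/-! ### Assembly -/

section Final

variable {F : Type u} [Field F] [CharP F 5]

theorem finrank_J : finrank F (I27 → F) = 27 := by
  rw [Module.finrank_fintype_fun_eq_card]; rfl

/-- The trace form as a bilinear map. -/
noncomputable def tfB (F : Type u) [Field F] : (I27 → F) →ₗ[F] (I27 → F) →ₗ[F] F :=
  LinearMap.mk₂ F tf (fun x x' y => Jord.tf_add_left x x' y) (fun c x y => Jord.tf_smul_left c x y)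
    (fun x y y' => by rw [Jord.tf_comm, Jord.tf_add_left, Jord.tf_comm y, Jord.tf_comm y'])
    (fun c x y => by rw [Jord.tf_comm, Jord.tf_smul_left, Jord.tf_comm y, smul_eq_mul])

theorem tfB_apply (x y : I27 → F) : tfB F x y = tf x y := rfl

/-- Scott's lemma for the 27-dimensional module and an element of order 5. -/
theorem scott5 {G : Type*} [Group G] (ρ : Representation F G (I27 → F))
    (htf : ∀ g x y, tf (ρ g x) (ρ g y) = tf x y) {x y : G} (hgen : Subgroup.closure {x, y} = ⊤)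
    (h5 : (x * y) ^ 5 = 1) : ev (ρ x) 1 + ev (ρ y) 1 + 6 ≤ 27 + 2 * finrank F ρ.invariants := by
  have : Fact (Nat.Prime 5) := ⟨by norm_num⟩
  have h1 := Scott.scott_form ρ hgen (tfB F) (fun v hv => Jord.tf_nondeg fun y => hv y) htf
  have h2 : (ρ (x * y)) ^ 5 = 1 := by rw [← map_pow, h5, map_one]
  have h3 := Eig.le_mul_ev 5 h2
  rw [finrank_J] at h1 h3
  omega

/-- **The case** of a homomorphism with few fixed vectors. -/
theorem final (ρ : Representation F A6 (I27 → F))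
    (hu : ∀ g, ρ g (u0 F) = u0 F) (htf : ∀ g x y, tf (ρ g x) (ρ g y) = tf x y)
    (htr : ∀ g x, tr1 (ρ g x) = tr1 x)
    (hsh : ∀ g x, sh (ρ g x) = ρ g (sh x)) (hcr : ∀ g x y, cr (ρ g x) (ρ g y) = ρ g (cr x y))
    (hfix : ∀ x, (∀ g, ρ g x = x) → ∃ c : F, x = c • u0 F)
    (ht : ∀ g : A6, g ≠ 1 → g ^ 3 = 1 → ev (ρ g) 1 = 15 ∨ ev (ρ g) 1 = 9) (h15 : ev (ρ ea) 1 = 15) : False := by
  -- 3-elements
  have hinv : finrank F ρ.invariants ≤ 1 := by
    have h1 : ρ.invariants ≤ Submodule.span F {u0 F} := by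
      intro x hx
      obtain ⟨c, hc⟩ := hfix x ((Representation.mem_invariants ρ x).1 hx)
      exact Submodule.mem_span_singleton.2 ⟨c, hc.symm⟩
    refine (Submodule.finrank_mono h1).trans ?_
    refine (finrank_span_le_card _).trans ?_
    simp
  obtain ⟨x, y, hxy, cx, cy, cxy⟩ := Gen.gen6b
  have hs := scott5 ρ htf hxy (pow_of_ct _ cxy)
  obtain ⟨k, hk⟩ := conj_three x cx
  obtain ⟨k', hk'⟩ := conj_three' y cy
  rw [← hk, ← hk', ev_conj, ev_conj] at hs
  have t1 : ev (ρ et) 1 = 9 := by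
    rcases ht et (ne_one_of (i := 1) (by decide)) et_cube with h1 | h1
    · rcases ht et' (ne_one_of (i := 1) (by decide)) et'_cube with h2 | h2 <;> omega
    · exact h1
  -- the natural `A₅`
  obtain ⟨a, b, hab, ca, cb, cab⟩ := Gen.gen5
  let ρ5 : Representation F ↥(alternatingGroup (Fin 5)) (I27 → F) := MonoidHom.comp ρ io
  have hs5 := scott5 ρ5 (fun g x y => htf (io g) x y) hab (pow_of_ct _ cab)
  obtain ⟨l, hl⟩ := conj_two (io a) (by rw [ct_io, ca])
  obtain ⟨l', hl'⟩ := conj_three (io b) (by rw [ct_io, cb])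
  have e1 : ev (ρ5 a) 1 = 15 := by
    change ev (ρ (io a)) 1 = 15
    rw [← hl, ev_conj, h15]
  have e2 : ev (ρ5 b) 1 = 9 := by
    change ev (ρ (io b)) 1 = 9
    rw [← hl', ev_conj, t1]
  rw [e1, e2] at hs5
  -- a fixed vector of trace zero
  obtain ⟨w, hw, hw1, hw0⟩ : ∃ w ∈ ρ5.invariants, tr1 w = 0 ∧ w ≠ 0 := by
    by_contra hcon
    push Not at hcon
    have h1 : Function.Injective ((tfB F (u0 F)).comp ρ5.invariants.subtype) := by
      rw [← LinearMap.ker_eq_bot, LinearMap.ker_eq_bot']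
      rintro ⟨v, hv⟩ h
      have h2 : tf (u0 F) v = 0 := h
      rw [Jord.tf_u0] at h2
      exact Subtype.ext (hcon v hv h2)
    have h2 := LinearMap.finrank_le_finrank_of_injective h1
    rw [Module.finrank_self] at h2
    omega
  refine core ρ hu htf htr hsh hcr hfix (dim_a4 n2 ρ finrank_J h15 t1) w ?_ hw1 hw0
  intro g hg
  obtain ⟨g', rfl⟩ := exists_io g hg
  exact (Representation.mem_invariants ρ5 w).1 hw g'

end Final

end Cfsg.Agent.H952.F4.SixFive

namespace Cfsg.Agent.H952.F4.Cases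

open Cfsg Cfsg.Lie Module
open Cfsg.Agent.ChevalleyStructure Cfsg.Agent.ChevalleyStructure.Elts
open Cfsg.Agent.ChevalleyStructure.E6Min.Tables Cfsg.Agent.ChevalleyStructure.E6Min.Basic
open Cfsg.Agent.GpExc.Field (emb)
open MaxA SixFive

universe u

variable {F : Type u} [Field F] [Finite F] {H : Subgroup ↥(chevF4.group F)}

/-- The order of `F₄(q)` is large. -/
theorem card_bound_six {q m : ℕ} (hq : 5 ≤ q) (hm : m ≤ 1440) :
    m * q ^ 26 < q ^ 24 * (q ^ 2 - 1) * (q ^ 6 - 1) * (q ^ 8 - 1) * (q ^ 12 - 1) * (q - 1) := by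
  have h0 : 1 ≤ q := by omega
  have hp : ∀ k, q ^ k ≤ q ^ (k + 1) - 1 := by
    intro k
    have h1 : 1 ≤ q ^ k := Nat.one_le_pow _ _ h0
    have h2 : q ^ (k + 1) = q ^ k * q := pow_succ q k
    have h3 : q ^ k * 5 ≤ q ^ k * q := Nat.mul_le_mul_left _ hq
    omega
  have h1 : q ^ 24 * q ^ 1 * q ^ 5 * q ^ 7 * q ^ 11 * 1 ≤
      q ^ 24 * (q ^ 2 - 1) * (q ^ 6 - 1) * (q ^ 8 - 1) * (q ^ 12 - 1) * (q - 1) := by
    have := hp 1
    have := hp 5
    have := hp 7
    have := hp 11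
    gcongr
    omega
  have h2 : m * q ^ 26 < q ^ 24 * q ^ 1 * q ^ 5 * q ^ 7 * q ^ 11 * 1 := by
    have h3 : q ^ 24 * q ^ 1 * q ^ 5 * q ^ 7 * q ^ 11 * 1 = q ^ 22 * q ^ 26 := by ring
    rw [h3]
    have h4 : 5 ^ 22 ≤ q ^ 22 := Nat.pow_le_pow_left hq 22
    have h5 : 0 < q ^ 26 := Nat.pow_pos (by omega)
    refine Nat.mul_lt_mul_of_pos_right ?_ h5
    refine lt_of_lt_of_le ?_ h4
    refine lt_of_le_of_lt hm ?_
    norm_num
  exact lt_of_lt_of_le h2 h1

/-- **`A₆` in characteristic 5.** -/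
theorem six_five [CharP F 5] {φ : ↥(alternatingGroup (Fin 6)) →* ↥(chevF4.group F)} (hM : MaxAlt H 6 φ) : False := by
  have : Fact (Nat.Prime 5) := ⟨by norm_num⟩
  have := Fintype.ofFinite F
  have hs : IsSimpleGroup ↥(chevF4.group F) := (Cfsg.Agent.S1054.result chevF4 (by simp)).1
  obtain ⟨ρ, hρ⟩ := JMod.exists_isJ F
  obtain ⟨V, iV, mV, σ, hV, hX⟩ := Fix.exists_V26 5 (by decide) (by decide) hρ
  have := hV.fin
  have hq : 5 ≤ Nat.card F := by
    rw [Nat.card_eq_fintype_card]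
    obtain ⟨n, hn1, hn2⟩ := FiniteField.card F 5
    rw [hn2]
    exact Nat.le_self_pow (PNat.ne_zero n) 5
  have hA : Representation.invariants (MonoidHom.comp σ φ) = ⊥ := by
    refine MaxA.no_fixed σ hV.inv hM (by decide) ?_
    rw [hV.dim, Cfsg.Agent.S1062.result (F := F) rfl, ← Nat.card_eq_fintype_card]
    exact card_bound_six hq hM.card
  have tab := Tor.tab_finite 5 hρ
  have h2 := n2 (F := F)
  let ρ6 : Representation F A6 (I27 → F) := MonoidHom.comp (JK ρ) φ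
  have hfix : ∀ x, (∀ g, ρ6 g x = x) → ∃ c : F, x = c • u0 F := by
    intro x hx
    refine hX (Set.range φ) ?_ x ?_
    · intro v hv
      have h3 : v ∈ Representation.invariants (MonoidHom.comp σ φ) := fun g => hv (φ g) ⟨g, rfl⟩
      rw [hA] at h3
      exact h3
    · rintro _ ⟨g, rfl⟩
      exact hx g
  have ht : ∀ g : A6, g ≠ 1 → g ^ 3 = 1 → ev (ρ6 g) 1 = 15 ∨ ev (ρ6 g) 1 = 9 := by
    intro g hg hg3
    rcases tab.three (by decide) (φ g) (fun h => hg (hM.inj (by rw [h, map_one]))) (by rw [← map_pow, hg3, map_one])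
      with h | h | h
    · exact Or.inl h.1
    · exact Or.inr h.1
    · exact Or.inr h.1
  refine final ρ6 (fun g => Inv.u0_inv hρ _) (fun g => Inv.tf_inv hρ h2 _) (fun g => Inv.tr1_inv hρ h2 _)
    (fun g => Inv.sh_inv hρ h2 _) (fun g => Inv.cr_inv hρ h2 _) hfix ht ?_
  rcases tab.two (by decide) (φ ea) (fun h => ne_one_of (g := ea) (i := 0) (by decide) (hM.inj (by rw [h, map_one])))
    (by rw [← map_mul, ea_sq, map_one]) with h | h
  · exact h.1
  exfalso
  -- over the algebraic closure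
  obtain ⟨ρ', hρ'⟩ := JMod.exists_isJ (AlgebraicClosure F)
  let f := algebraMap F (AlgebraicClosure F)
  let ρ6' : Representation (AlgebraicClosure F) A6 (I27 → AlgebraicClosure F) :=
    MonoidHom.comp (JK ρ') ((emb hF4 f).comp φ)
  have key : ∀ g : A6, ev (ρ6' g) 1 = ev (ρ6 g) 1 := by
    intro g
    have h3 := Chg.ev_J f hρ hρ' (φ g) 1
    rw [map_one] at h3
    exact h3
  have c5 : CharP (AlgebraicClosure F) 5 := charP_of_injective_algebraMap f.injective 5
  refine two_ne_eleven n2 n3 ρ6' finrank_J (fun g hg hg3 => ?_) ?_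
  · rw [key]
    exact ht g hg hg3
  · rw [key]
    exact h.1

end Cfsg.Agent.H952.F4.Cases
end
end

-- part: H177/F4/BigTools
section
prune_inst 0x10060440062020000180502120020004800009200430000c1400a040a01c0610900260114a00310000290404008000000000000021000000a00060040010120808312021150a00426000f800884000000000000000000000000000000000000000000000
set_option linter.all false
open scoped Cfsg.Agent.FastGrp

-- part: H177/F4/Emb
section
/-!
# Embeddings of alternating groups and some explicit elements (for S5926)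
-/

set_option autoImplicit false

namespace Cfsg.Agent.H177.F4

open Equiv

/-- the first `m` points -/
def fst {m n : ℕ} (h : m ≤ n) : Fin m ≃ {i : Fin n // (i : ℕ) < m} where
  toFun i := ⟨Fin.castLE h i, i.2⟩
  invFun i := ⟨i.1, i.2⟩
  left_inv i := by ext; rfl
  right_inv i := by ext; rfl

/-- Every element of `A_n` with the cycle type of an element `g₀` of `A_m` (or of `S_m`) is the image of `g₀` under an
embedding preserving the cycle types. -/
theorem exists_perm_emb {m n : ℕ} (hmn : m ≤ n) (g₀ : Perm (Fin m)) (x : Perm (Fin n))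
    (h : x.cycleType = g₀.cycleType) : ∃ ι : Perm (Fin m) →* Perm (Fin n),
      Function.Injective ι ∧ ι g₀ = x ∧ ∀ g, (ι g).cycleType = g.cycleType ∧ Perm.sign (ι g) = Perm.sign g := by
  have h1 : IsConj (Perm.extendDomainHom (fst hmn) g₀) x := by
    rw [Perm.isConj_iff_cycleType_eq, Perm.extendDomainHom_apply, Perm.cycleType_extendDomain, h]
  obtain ⟨τ, hτ⟩ := isConj_iff.1 h1
  refine ⟨(MulAut.conj τ).toMonoidHom.comp (Perm.extendDomainHom (fst hmn)), ?_, ?_, ?_⟩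
  · exact (MulAut.conj τ).injective.comp (Perm.extendDomainHom_injective _)
  · show τ * _ * τ⁻¹ = x
    rw [hτ]
  · intro g
    constructor
    · show (τ * _ * τ⁻¹).cycleType = _
      rw [Perm.cycleType_conj, Perm.extendDomainHom_apply, Perm.cycleType_extendDomain]
    · show Perm.sign (τ * _ * τ⁻¹) = _
      rw [Perm.sign_mul, Perm.sign_mul, Perm.sign_inv, mul_right_comm, Int.units_mul_self, one_mul,
        Perm.extendDomainHom_apply, Perm.sign_extendDomain]

theorem exists_emb {m n : ℕ} (hmn : m ≤ n) (g₀ : ↥(alternatingGroup (Fin m))) (x : ↥(alternatingGroup (Fin n)))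
    (h : (x : Perm (Fin n)).cycleType = (g₀ : Perm (Fin m)).cycleType) :
    ∃ ι : ↥(alternatingGroup (Fin m)) →* ↥(alternatingGroup (Fin n)), Function.Injective ι ∧ ι g₀ = x := by
  obtain ⟨ι, hι, hx, hs⟩ := exists_perm_emb hmn (g₀ : Perm (Fin m)) (x : Perm (Fin n)) h
  have hmem : ∀ g : ↥(alternatingGroup (Fin m)), ι g ∈ alternatingGroup (Fin n) := by
    intro g
    rw [Perm.mem_alternatingGroup, (hs g).2]
    exact Perm.mem_alternatingGroup.1 g.2
  refine ⟨(ι.comp (alternatingGroup (Fin m)).subtype).codRestrict _ hmem, ?_, ?_⟩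
  · intro a b hab
    have h1 : ι a = ι b := congrArg Subtype.val hab
    exact Subtype.ext (hι h1)
  · exact Subtype.ext hx

/-- Two elements of order 7 (7-cycles) of `A_n`: one is conjugate to the other or to its third power. -/
theorem seven_conj {n : ℕ} (hn : 7 ≤ n) {x y : ↥(alternatingGroup (Fin n))}
    (hx : (x : Perm (Fin n)).cycleType = {7}) (hy : (y : Perm (Fin n)).cycleType = {7}) :
    ∃ g : ↥(alternatingGroup (Fin n)), g * x * g⁻¹ = y ∨ g * x * g⁻¹ = y ^ 3 := by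
  have h1 : IsConj (x : Perm (Fin n)) (y : Perm (Fin n)) := by
    rw [Perm.isConj_iff_cycleType_eq, hx, hy]
  obtain ⟨τ, hτ⟩ := isConj_iff.1 h1
  rcases Int.units_eq_one_or (Perm.sign τ) with hs | hs
  · exact ⟨⟨τ, Perm.mem_alternatingGroup.2 hs⟩, Or.inl (Subtype.ext hτ)⟩
  · have hc : (y : Perm (Fin n)).cycleType = (finRotate 7).cycleType := by
      rw [hy, cycleType_finRotate]
    obtain ⟨ι, -, hι, hg⟩ := exists_perm_emb hn (finRotate 7) (y : Perm (Fin n)) hc
    let π : Perm (Fin 7) := ⟨![0, 3, 6, 2, 5, 1, 4], ![0, 5, 3, 1, 6, 4, 2], by decide, by decide⟩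
    have h2 : π * finRotate 7 * π⁻¹ = finRotate 7 ^ 3 := by decide
    have h3 : Perm.sign π = -1 := by decide
    refine ⟨⟨ι π * τ, Perm.mem_alternatingGroup.2 ?_⟩, Or.inr (Subtype.ext ?_)⟩
    · rw [Perm.sign_mul, (hg π).2, h3, hs]
      rfl
    · show ι π * τ * (x : Perm (Fin n)) * (ι π * τ)⁻¹ = (y : Perm (Fin n)) ^ 3
      have e : ι π * τ * (x : Perm (Fin n)) * (ι π * τ)⁻¹ = ι π * (τ * x * τ⁻¹) * (ι π)⁻¹ := by group
      rw [e, hτ, ← hι, ← map_inv, ← map_mul, ← map_mul, h2, map_pow]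

end Cfsg.Agent.H177.F4
end

-- part: H177/F4/BigTools
section
/-!
# S5926, part Z5: tools (Scott's lemma for `A_n`, `7 ≤ n ≤ 10`, on 26-dimensional modules, explicit elements)
-/

set_option autoImplicit false
set_option maxRecDepth 10000

namespace Cfsg.Agent.H177.F4

open Cfsg Cfsg.Lie Module Equiv
open Cfsg.Agent.ChevalleyStructure Cfsg.Agent.ChevalleyStructure.Elts
open Cfsg.Agent.ChevalleyStructure.E6Min.Tables Cfsg.Agent.ChevalleyStructure.E6Min.Basic
open Cfsg.Agent.H952.F4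

universe u

section ev
variable {K V G : Type*} [Field K] [AddCommGroup V] [Module K V] [Group G]

theorem ev_conj (ρ : Representation K G V) (g x : G) (μ : K) : ev (ρ (g * x * g⁻¹)) μ = ev (ρ x) μ := by
  let e : V ≃ₗ[K] V := LinearEquiv.ofLinearMap (ρ g) (ρ g⁻¹)
    (by rw [← Module.End.mul_eq_comp, ← map_mul, mul_inv_cancel, map_one]; rfl)
    (by rw [← Module.End.mul_eq_comp, ← map_mul, inv_mul_cancel, map_one]; rfl)
  have h : Module.End.eigenspace (ρ (g * x * g⁻¹)) μ =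
      (Module.End.eigenspace (ρ x) μ).map e.toLinearMap := by
    ext v
    rw [Submodule.mem_map, Module.End.mem_eigenspace_iff]
    constructor
    · intro hv
      refine ⟨ρ g⁻¹ v, ?_, ?_⟩
      · rw [Module.End.mem_eigenspace_iff]
        have h1 := congrArg (ρ g⁻¹) hv
        rw [map_smul, ← Module.End.mul_apply, ← map_mul] at h1
        rw [← Module.End.mul_apply, ← map_mul]
        have h2 : g⁻¹ * (g * x * g⁻¹) = x * g⁻¹ := by group
        rwa [h2] at h1
      · show ρ g (ρ g⁻¹ v) = v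
        rw [← Module.End.mul_apply, ← map_mul, mul_inv_cancel, map_one]
        rfl
    · rintro ⟨w, hw, rfl⟩
      rw [Module.End.mem_eigenspace_iff] at hw
      show ρ (g * x * g⁻¹) (ρ g w) = μ • ρ g w
      rw [← Module.End.mul_apply, ← map_mul]
      have h2 : g * x * g⁻¹ * g = g * x := by group
      rw [h2, map_mul, Module.End.mul_apply, hw, map_smul]
  unfold ev
  rw [h]
  exact LinearEquiv.finrank_map_eq e _

theorem ev_pow (ρ : Representation K G V) {x : G} {k l : ℕ} (h : (x ^ k) ^ l = x) :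
    ev (ρ (x ^ k)) 1 = ev (ρ x) 1 := by
  have key : ∀ (y : G) (k : ℕ) (v : V), ρ y v = v → ρ (y ^ k) v = v := by
    intro y k v hv
    induction k with
    | zero => rw [pow_zero, map_one]; rfl
    | succ k ih => rw [pow_succ, map_mul, Module.End.mul_apply, hv, ih]
  have h2 : Module.End.eigenspace (ρ (x ^ k)) 1 = Module.End.eigenspace (ρ x) 1 := by
    ext v
    rw [Module.End.mem_eigenspace_iff, Module.End.mem_eigenspace_iff, one_smul]
    constructor
    · intro hv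
      have := key (x ^ k) l v hv
      rwa [h] at this
    · exact key x k v
  unfold ev
  rw [h2]

theorem ev_map {A : Type*} [Group A] (φ : A →* G) (ρ : Representation K G V) (g x : A) (μ : K) :
    ev (ρ (φ (g * x * g⁻¹))) μ = ev (ρ (φ x)) μ := by
  have : φ (g * x * g⁻¹) = φ g * φ x * (φ g)⁻¹ := by rw [map_mul, map_mul, map_inv]
  rw [this, ev_conj]

end ev

/-- the numerical condition -/
theorem card_bound {F : Type u} [Field F] [Finite F] {H : Subgroup ↥(chevF4.group F)} {n : ℕ}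
    {φ : ↥(alternatingGroup (Fin n)) →* ↥(chevF4.group F)} (hM : MaxAlt H n φ) (hn : 7 ≤ n) (hn' : n ≤ 10) {d : ℕ}
    (hd : d = 26) :
    Nat.card ↥H * Nat.card F ^ d < Nat.card ↥(chevF4.group F) * (Nat.card F - 1) := by
  have : Fintype F := Fintype.ofFinite F
  have hq : 2 ≤ Nat.card F := by
    rw [Nat.card_eq_fintype_card]
    exact Fintype.one_lt_card
  have h1 := Cfsg.Agent.S1062.result (F := F) (q := Nat.card F) (by rw [Nat.card_eq_fintype_card])
  have h2 : Nat.card ↥H ≤ 3628800 := by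
    refine hM.card.trans ?_
    rw [if_neg (by omega)]
    exact (Nat.factorial_le hn').trans (by decide)
  generalize Nat.card F = q at h1 hq ⊢
  generalize Nat.card ↥H = c at h2 ⊢
  have hk : ∀ k, q ^ k ≤ q ^ (k + 1) - 1 := by
    intro k
    have e1 : q ^ k * 2 ≤ q ^ (k + 1) := by
      rw [pow_succ]
      exact Nat.mul_le_mul_left _ hq
    have e2 : 1 ≤ q ^ k := Nat.one_le_pow _ _ (by omega)
    omega
  have h3 : q ^ 48 ≤ Nat.card ↥(chevF4.group F) := by
    rw [h1]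
    calc q ^ 48 = q ^ 24 * q ^ 1 * q ^ 5 * q ^ 7 * q ^ 11 := by ring
      _ ≤ _ := by
        refine Nat.mul_le_mul (Nat.mul_le_mul (Nat.mul_le_mul (Nat.mul_le_mul le_rfl ?_) ?_) ?_) ?_
        · exact hk 1
        · exact hk 5
        · exact hk 7
        · exact hk 11
  rw [hd]
  have h4 : 4194304 ≤ q ^ 22 := by
    calc 4194304 = 2 ^ 22 := by norm_num
      _ ≤ q ^ 22 := Nat.pow_le_pow_left hq 22
  calc c * q ^ 26 ≤ 3628800 * q ^ 26 := Nat.mul_le_mul_right _ h2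
    _ < q ^ 22 * q ^ 26 := Nat.mul_lt_mul_of_pos_right (by omega) (pow_pos (by omega) _)
    _ = q ^ 48 := by ring
    _ ≤ Nat.card ↥(chevF4.group F) := h3
    _ ≤ Nat.card ↥(chevF4.group F) * (q - 1) := Nat.le_mul_of_pos_right _ (by omega)

/-- Scott's lemma for `A_n` on a module of dimension 26 -/
theorem scott_le {F V : Type u} [Field F] [Finite F] [AddCommGroup V] [Module F V]
    {H : Subgroup ↥(chevF4.group F)} {n : ℕ}
    {φ : ↥(alternatingGroup (Fin n)) →* ↥(chevF4.group F)} (hM : MaxAlt H n φ) (hn : 7 ≤ n) (hn' : n ≤ 10)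
    (ρ : Representation F ↥(chevF4.group F) V) (hf : FiniteDimensional F V) (hd : finrank F V = 26)
    (hform : ∃ B : V →ₗ[F] V →ₗ[F] F, (∀ v, (∀ w, B v w = 0) → v = 0) ∧ (∀ g v w, B (ρ g v) (ρ g w) = B v w))
    (hinv : ρ.invariants = ⊥) {x y : ↥(alternatingGroup (Fin n))} (hgen : Subgroup.closure {x, y} = ⊤) :
    ev (ρ (φ x)) 1 + ev (ρ (φ y)) 1 + ev (ρ (φ (x * y))) 1 ≤ 26 := by
  have : Fintype F := Fintype.ofFinite F
  have hs : IsSimpleGroup ↥(chevF4.group F) := (Cfsg.Agent.S1054.result chevF4 (by simp)).1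
  have h1 := MaxA.no_fixed ρ hinv hM (by omega) (card_bound hM hn hn' hd)
  obtain ⟨B, hB, hB'⟩ := hform
  have h2 := Scott.scott_form (MonoidHom.comp ρ φ : Representation F ↥(alternatingGroup (Fin n)) V) hgen B hB
    (fun g v w => hB' (φ g) v w)
  rw [h1, finrank_bot, hd] at h2
  exact h2

theorem ev_seven {K V G : Type*} [Field K] [AddCommGroup V] [Module K V] [Group G] {n : ℕ} (hn : 7 ≤ n)
    (φ : ↥(alternatingGroup (Fin n)) →* G) (ρ : Representation K G V) {x y : ↥(alternatingGroup (Fin n))}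
    (hx : (x : Perm (Fin n)).cycleType = {7}) (hy : (y : Perm (Fin n)).cycleType = {7}) :
    ev (ρ (φ x)) 1 = ev (ρ (φ y)) 1 := by
  obtain ⟨g, hg | hg⟩ := seven_conj hn hx hy
  · rw [← hg, ev_map]
  · have h7 : y ^ 7 = 1 := by
      have h1 : orderOf (y : Perm (Fin n)) = 7 := by
        rw [← Perm.lcm_cycleType, hy, Multiset.lcm_singleton, normalize_eq]
      have h2 := pow_orderOf_eq_one (y : Perm (Fin n))
      rw [h1] at h2
      exact Subtype.ext h2
    have h3 : (φ y ^ 3) ^ 5 = φ y := by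
      rw [← pow_mul, ← map_pow]
      have : y ^ (3 * 5) = y := by
        calc y ^ (3 * 5) = (y ^ 7) ^ 2 * y := by rw [← pow_mul, ← pow_succ]
          _ = y := by rw [h7, one_pow, one_mul]
      rw [this]
    rw [← ev_pow ρ h3, ← map_pow φ, ← hg, ev_map]

/-- the order of an element -/
theorem pow_of_type {n k : ℕ} {x : ↥(alternatingGroup (Fin n))} {c : Multiset ℕ}
    (hx : (x : Perm (Fin n)).cycleType = c) (hc : c.lcm ∣ k) : x ^ k = 1 := by
  have h1 : orderOf (x : Perm (Fin n)) ∣ k := by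
    rw [← Perm.lcm_cycleType, hx]
    exact hc
  exact Subtype.ext (orderOf_dvd_iff_pow_eq_one.1 h1)

theorem ne_one_of_type {n : ℕ} {x : ↥(alternatingGroup (Fin n))} {c : Multiset ℕ}
    (hx : (x : Perm (Fin n)).cycleType = c) (hc : c ≠ 0) : x ≠ 1 := by
  rintro rfl
  apply hc
  rw [← hx]
  exact Perm.cycleType_one

/-- rationality of elements of order 5 and 7 -/
theorem rational {m n : ℕ} (hmn : m ≤ n) (g₀ π : ↥(alternatingGroup (Fin m))) (h : π * g₀ * π⁻¹ = g₀ ^ 2)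
    {x : ↥(alternatingGroup (Fin n))} (hx : (x : Perm (Fin n)).cycleType = (g₀ : Perm (Fin m)).cycleType) :
    ∃ g, g * x * g⁻¹ = x ^ 2 := by
  obtain ⟨ι, -, hι⟩ := exists_emb hmn g₀ x hx
  exact ⟨ι π, by rw [← hι, ← map_inv, ← map_mul, ← map_mul, h, map_pow]⟩

/-- a 5-cycle of `A₇` -/
def g5 : Perm (Fin 7) := ⟨![1, 2, 3, 4, 0, 5, 6], ![4, 0, 1, 2, 3, 5, 6], by decide, by decide⟩
def p5 : Perm (Fin 7) := ⟨![0, 2, 4, 1, 3, 6, 5], ![0, 3, 1, 4, 2, 6, 5], by decide, by decide⟩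
/-- a 7-cycle of `A₇` -/
def g7 : Perm (Fin 7) := ⟨![1, 2, 3, 4, 5, 6, 0], ![6, 0, 1, 2, 3, 4, 5], by decide, by decide⟩
def p7 : Perm (Fin 7) := ⟨![0, 2, 4, 6, 1, 3, 5], ![0, 4, 1, 5, 2, 6, 3], by decide, by decide⟩
/-- an element of type `5²` of `A₁₀` -/
def g55 : Perm (Fin 10) := ⟨![1, 2, 3, 4, 0, 6, 7, 8, 9, 5], ![4, 0, 1, 2, 3, 9, 5, 6, 7, 8], by decide, by decide⟩
def p55 : Perm (Fin 10) := ⟨![0, 2, 4, 1, 3, 5, 7, 9, 6, 8], ![0, 3, 1, 4, 2, 5, 8, 6, 9, 7], by decide, by decide⟩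

theorem g5_mem : g5 ∈ alternatingGroup (Fin 7) := by rw [Perm.mem_alternatingGroup]; decide +kernel
theorem p5_mem : p5 ∈ alternatingGroup (Fin 7) := by rw [Perm.mem_alternatingGroup]; decide +kernel
theorem g7_mem : g7 ∈ alternatingGroup (Fin 7) := by rw [Perm.mem_alternatingGroup]; decide +kernel
theorem p7_mem : p7 ∈ alternatingGroup (Fin 7) := by rw [Perm.mem_alternatingGroup]; decide +kernel
theorem g55_mem : g55 ∈ alternatingGroup (Fin 10) := by rw [Perm.mem_alternatingGroup]; decide +kernel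
theorem p55_mem : p55 ∈ alternatingGroup (Fin 10) := by rw [Perm.mem_alternatingGroup]; decide +kernel

theorem rat_five {n : ℕ} (hn : 7 ≤ n) {x : ↥(alternatingGroup (Fin n))}
    (hx : (x : Perm (Fin n)).cycleType = {5}) : ∃ g, g * x * g⁻¹ = x ^ 2 :=
  rational hn ⟨g5, g5_mem⟩ ⟨p5, p5_mem⟩ (Subtype.ext (by decide +kernel : p5 * g5 * p5⁻¹ = g5 ^ 2))
    (hx.trans (by decide +kernel : ({5} : Multiset ℕ) = g5.cycleType))

theorem rat_seven {n : ℕ} (hn : 7 ≤ n) {x : ↥(alternatingGroup (Fin n))}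
    (hx : (x : Perm (Fin n)).cycleType = {7}) : ∃ g, g * x * g⁻¹ = x ^ 2 :=
  rational hn ⟨g7, g7_mem⟩ ⟨p7, p7_mem⟩ (Subtype.ext (by decide +kernel : p7 * g7 * p7⁻¹ = g7 ^ 2))
    (hx.trans (by decide +kernel : ({7} : Multiset ℕ) = g7.cycleType))

theorem rat_55 {n : ℕ} (hn : 10 ≤ n) {x : ↥(alternatingGroup (Fin n))}
    (hx : (x : Perm (Fin n)).cycleType = {5, 5}) : ∃ g, g * x * g⁻¹ = x ^ 2 :=
  rational hn ⟨g55, g55_mem⟩ ⟨p55, p55_mem⟩ (Subtype.ext (by decide +kernel : p55 * g55 * p55⁻¹ = g55 ^ 2))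
    (hx.trans (by decide +kernel : ({5, 5} : Multiset ℕ) = g55.cycleType))

/-- there are elements of order 7 -/
theorem exists_seven {n : ℕ} (hn : 7 ≤ n) :
    ∃ x : ↥(alternatingGroup (Fin n)), (x : Perm (Fin n)).cycleType = {7} := by
  let y : Perm (Fin n) := Perm.extendDomainHom (fst hn) g7
  have hy : y.cycleType = {7} := by
    show (Perm.extendDomainHom (fst hn) g7).cycleType = {7}
    rw [Perm.extendDomainHom_apply, Perm.cycleType_extendDomain]
    decide +kernel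
  refine ⟨⟨y, Perm.mem_alternatingGroup.2 ?_⟩, hy⟩
  show Perm.sign (Perm.extendDomainHom (fst hn) g7) = 1
  rw [Perm.extendDomainHom_apply, Perm.sign_extendDomain]
  exact Perm.mem_alternatingGroup.1 g7_mem

/-! ### Characteristic 5 -/

section A7

/-- elements of `A₇` -/
def qa : ↥(alternatingGroup (Fin 7)) := ⟨swap (0 : Fin 7) 1 * swap (2 : Fin 7) 3, by rw [Perm.mem_alternatingGroup]; decide +kernel⟩
def qb : ↥(alternatingGroup (Fin 7)) := ⟨swap (0 : Fin 7) 2 * swap (1 : Fin 7) 3, by rw [Perm.mem_alternatingGroup]; decide +kernel⟩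
def qt : ↥(alternatingGroup (Fin 7)) := ⟨swap (1 : Fin 7) 2 * swap (2 : Fin 7) 3, by rw [Perm.mem_alternatingGroup]; decide +kernel⟩
def qb' : ↥(alternatingGroup (Fin 7)) := ⟨swap (2 : Fin 7) 3 * swap (4 : Fin 7) 5, by rw [Perm.mem_alternatingGroup]; decide +kernel⟩
def qz : ↥(alternatingGroup (Fin 7)) := ⟨swap (0 : Fin 7) 2 * swap (2 : Fin 7) 4, by rw [Perm.mem_alternatingGroup]; decide +kernel⟩
def qw : ↥(alternatingGroup (Fin 7)) := ⟨swap (1 : Fin 7) 3 * swap (3 : Fin 7) 5, by rw [Perm.mem_alternatingGroup]; decide +kernel⟩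
def qs : ↥(alternatingGroup (Fin 7)) := ⟨swap (2 : Fin 7) 4 * swap (3 : Fin 7) 5, by rw [Perm.mem_alternatingGroup]; decide +kernel⟩
def qg : ↥(alternatingGroup (Fin 7)) :=
  ⟨swap (3 : Fin 7) 5 * (swap (0 : Fin 7) 1 * swap (2 : Fin 7) 3 * swap (4 : Fin 7) 5), by rw [Perm.mem_alternatingGroup]; decide +kernel⟩
def qr : ↥(alternatingGroup (Fin 7)) := ⟨swap (0 : Fin 7) 1 * swap (3 : Fin 7) 4, by rw [Perm.mem_alternatingGroup]; decide +kernel⟩
def qr' : ↥(alternatingGroup (Fin 7)) := ⟨swap (2 : Fin 7) 3 * swap (3 : Fin 7) 5, by rw [Perm.mem_alternatingGroup]; decide +kernel⟩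
def qm : ↥(alternatingGroup (Fin 7)) :=
  ⟨⟨![2, 4, 3, 5, 1, 0, 6], ![5, 4, 0, 2, 1, 3, 6], by decide, by decide⟩,
    by rw [Perm.mem_alternatingGroup]; decide +kernel⟩

theorem rel7 : (qa * qa = 1 ∧ qb * qb = 1 ∧ qb' * qb' = 1 ∧ qa * qb = qb * qa ∧ qa * qb' = qb' * qa) ∧
    (qt ^ 3 = 1 ∧ qt ≠ 1 ∧ qt * qa * qt⁻¹ = qb ∧ qt * qb * qt⁻¹ = qa * qb) ∧
    ((qz * qw) ^ 3 = 1 ∧ qz * qw ≠ 1 ∧ (qz * qw) * qa * (qz * qw)⁻¹ = qb' ∧
      (qz * qw) * qb' * (qz * qw)⁻¹ = qa * qb') ∧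
    (qz ^ 3 = 1 ∧ qw ^ 3 = 1 ∧ qz * qw = qw * qz ∧ qs * qs = 1 ∧ qs * qz * qs⁻¹ = qz⁻¹ ∧ qs * qw * qs⁻¹ = qw⁻¹) ∧
    (qg * (qz * qw) * qg⁻¹ = qz * qw⁻¹ ∧ qr * qt * qr⁻¹ = qz ∧ qr' * qt * qr'⁻¹ = qw ∧ qm * qa * qm⁻¹ = qs) ∧
    qa ≠ 1 := by
  refine ⟨⟨?_, ?_, ?_, ?_, ?_⟩, ⟨?_, ?_, ?_, ?_⟩, ⟨?_, ?_, ?_, ?_⟩, ⟨?_, ?_, ?_, ?_, ?_, ?_⟩, ⟨?_, ?_, ?_, ?_⟩, ?_⟩ <;>
    decide +kernel

theorem qa_type : (qa : Perm (Fin 7)).cycleType = {2, 2} := by decide +kernel

/-- elements of `A₈` -/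
def ta : ↥(alternatingGroup (Fin 8)) :=
  ⟨swap (0 : Fin 8) 1 * swap (2 : Fin 8) 3 * swap (4 : Fin 8) 5 * swap (6 : Fin 8) 7, by rw [Perm.mem_alternatingGroup]; decide +kernel⟩
def tb : ↥(alternatingGroup (Fin 8)) :=
  ⟨swap (0 : Fin 8) 2 * swap (1 : Fin 8) 3 * swap (4 : Fin 8) 6 * swap (5 : Fin 8) 7, by rw [Perm.mem_alternatingGroup]; decide +kernel⟩
def tc : ↥(alternatingGroup (Fin 8)) :=
  ⟨swap (0 : Fin 8) 4 * swap (1 : Fin 8) 5 * swap (2 : Fin 8) 6 * swap (3 : Fin 8) 7, by rw [Perm.mem_alternatingGroup]; decide +kernel⟩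
def tu : ↥(alternatingGroup (Fin 8)) :=
  ⟨⟨![0, 2, 4, 6, 3, 1, 7, 5], ![0, 5, 1, 4, 2, 7, 3, 6], by decide, by decide⟩,
    by rw [Perm.mem_alternatingGroup]; decide +kernel⟩

theorem rel8 : (ta * ta = 1 ∧ tb * tb = 1 ∧ tc * tc = 1 ∧ ta * tb = tb * ta ∧ ta * tc = tc * ta ∧ tb * tc = tc * tb) ∧
    (tu * ta * tu⁻¹ = tb ∧ tu * tb * tu⁻¹ = tc ∧ tu * tc * tu⁻¹ = ta * tb ∧ tu * (ta * tb) * tu⁻¹ = tb * tc ∧
      tu * (tb * tc) * tu⁻¹ = ta * tb * tc ∧ tu * (ta * tb * tc) * tu⁻¹ = ta * tc) ∧ ta ≠ 1 := by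
  decide +kernel

theorem ta_type : (ta : Perm (Fin 8)).cycleType = {2, 2, 2, 2} := by decide +kernel

end A7

theorem finrank_J (K : Type*) [Field K] : finrank K (I27 → K) = 27 := by
  rw [finrank_fintype_fun_eq_card]
  rfl

end Cfsg.Agent.H177.F4
end
end
end
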