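import Cfsg.Agent.H952.F4.Scott_m3
import Mathlib
import Cfsg.Agent.H952.F4.KillBase_m3
import Cfsg.Agent.H952.F4.FixV_m3
import Cfsg.Agent.H952.F4.Jord
import Cfsg.Agent.H65.E6Ext_m3
import Cfsg.Agent.H952.F4.TorDiag_m3
import Cfsg.Agent.GpExc.Field
import Cfsg.Agent.BpExc.AsmN_m3
import Cfsg.Agent.Lib.ListFast
import Cfsg.Agent.Nodes.RGDChev
import Cfsg.Agent.H927.F4Two
import Cfsg.Agent.S1062
import Cfsg.Agent.FastGrp
import Cfsg.Agent.Prune
set_option linter.all false

section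
prune_inst 0x7fffa9f8bbbcebdfdfff7e7ff69aeffc3b939fffa6dff943ffe061ff0bdf338009c56b8d0de010fe0ed6e01410b87843fb7eefffea6bd87ffffd1ff45ffbee5fe5f7bd0851dc88b40fb80ff603f0778e7f3fffffffffffffffffffffffffffbeffbfffffffff

-- part: H952/F4/NoSeven
section
prune_inst 0x4205000010002000000000040001c42820004000008800000a00a0004802c0209020820b00000001022040400390048100000000000000000000000000001800000000000000000420088000000000000000000000000000000000000000000000000000
set_option linter.all false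
open scoped Cfsg.Agent.FastGrp

-- part: H450/F4/Elts
section
/-!
# S5926, task F-K1: elements of `A₇` and representations

* elements `ez` (5), `ec` (4,2), `e3`, `e33`, `e6`, `e7`, `ey`;
* conjugacy in `A₇`;
* `ev` and traces under conjugation, inverses; the kernel of an invariant functional;
* `Tab.comp`.
-/

set_option autoImplicit false

namespace Cfsg.Agent.H450.F4

open Cfsg Module
open Cfsg.Agent.H952.F4
open Equiv (swap)
open Equiv.Perm (sign)

abbrev A7 : Type := ↥(alternatingGroup (Fin 7))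

/-- `0 → 1 → 2 → 3 → 4 → 0` -/
def ez : A7 := ⟨swap (0 : Fin 7) 1 * swap (1 : Fin 7) 2 * swap (2 : Fin 7) 3 * swap (3 : Fin 7) 4, by
  rw [Equiv.Perm.mem_alternatingGroup]; decide⟩
/-- `(1 2 4 3)(5 6)` -/
def ec : A7 := ⟨swap (1 : Fin 7) 2 * swap (2 : Fin 7) 4 * swap (4 : Fin 7) 3 * swap (5 : Fin 7) 6, by
  rw [Equiv.Perm.mem_alternatingGroup]; decide⟩
/-- `(0 1 2)` -/
def e3 : A7 := ⟨swap (0 : Fin 7) 1 * swap (1 : Fin 7) 2, by rw [Equiv.Perm.mem_alternatingGroup]; decide⟩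
/-- `(1 2 4)(3 6 5)` -/
def ey : A7 := ⟨swap (1 : Fin 7) 2 * swap (2 : Fin 7) 4 * (swap (3 : Fin 7) 6 * swap (6 : Fin 7) 5), by
  rw [Equiv.Perm.mem_alternatingGroup]; decide⟩
/-- `(0 1 2)(3 4)(5 6)` -/
def e6 : A7 := ⟨swap (0 : Fin 7) 1 * swap (1 : Fin 7) 2 * (swap (3 : Fin 7) 4 * swap (5 : Fin 7) 6), by
  rw [Equiv.Perm.mem_alternatingGroup]; decide⟩
/-- `i → i + 1` -/
def e7 : A7 := ⟨finRotate 7, by rw [Equiv.Perm.mem_alternatingGroup]; decide⟩

theorem ct_z : (ez : Equiv.Perm (Fin 7)).cycleType = {5} := by decide +kernel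
theorem ct_c : (ec : Equiv.Perm (Fin 7)).cycleType = {4, 2} := by decide +kernel
theorem ct_c2 : ((ec * ec : A7) : Equiv.Perm (Fin 7)).cycleType = {2, 2} := by decide +kernel
theorem ct_3 : (e3 : Equiv.Perm (Fin 7)).cycleType = {3} := by decide +kernel
theorem ct_y : (ey : Equiv.Perm (Fin 7)).cycleType = {3, 3} := by decide +kernel
theorem ct_6 : (e6 : Equiv.Perm (Fin 7)).cycleType = {3, 2, 2} := by decide +kernel
theorem ct_63 : ((e6 ^ 3 : A7) : Equiv.Perm (Fin 7)).cycleType = {2, 2} := by decide +kernel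
theorem ct_7 : (e7 : Equiv.Perm (Fin 7)).cycleType = {7} := by decide +kernel

theorem cz : ec * ez * ec⁻¹ = ez ^ 2 := by decide +kernel
theorem y7 : ey * e7 * ey⁻¹ = e7 ^ 2 := by decide +kernel
theorem z_pow : ez ^ 5 = 1 := by decide +kernel
theorem c_pow : ec ^ 4 = 1 := by decide +kernel
theorem c_sq : ec * ec ≠ 1 := by decide +kernel
theorem y_pow : ey ^ 3 = 1 := by decide +kernel
theorem e3_pow : e3 ^ 3 = 1 := by decide +kernel
theorem e7_pow : e7 ^ 7 = 1 := by decide +kernel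

/-- conjugacy in `A₇` for the classes which do not split -/
theorem conj_of {r : A7} {o : Equiv.Perm (Fin 7)} (ho : sign o = -1)
    (hor : o * (r : Equiv.Perm (Fin 7)) = (r : Equiv.Perm (Fin 7)) * o) {g : A7}
    (hg : (g : Equiv.Perm (Fin 7)).cycleType = (r : Equiv.Perm (Fin 7)).cycleType) :
    ∃ x : A7, x * r * x⁻¹ = g := by
  obtain ⟨s, hs⟩ := isConj_iff.1 (Equiv.Perm.isConj_iff_cycleType_eq.2 hg.symm)
  rcases Int.units_eq_one_or (sign s) with h1 | h1
  · exact ⟨⟨s, Equiv.Perm.mem_alternatingGroup.2 h1⟩, Subtype.ext hs⟩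
  · refine ⟨⟨s * o, Equiv.Perm.mem_alternatingGroup.2 (by rw [map_mul, h1, ho]; decide)⟩,
      Subtype.ext ?_⟩
    change s * o * (r : Equiv.Perm (Fin 7)) * (s * o)⁻¹ = g
    rw [mul_assoc s, hor, mul_inv_rev, ← hs]
    group

theorem conj_z {g : A7} (hg : (g : Equiv.Perm (Fin 7)).cycleType = {5}) :
    ∃ x : A7, x * ez * x⁻¹ = g :=
  conj_of (o := swap (5 : Fin 7) 6) (by decide) (by decide) (hg.trans ct_z.symm)

theorem conj_c {g : A7} (hg : (g : Equiv.Perm (Fin 7)).cycleType = {4, 2}) :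
    ∃ x : A7, x * ec * x⁻¹ = g :=
  conj_of (o := swap (5 : Fin 7) 6) (by decide) (by decide) (hg.trans ct_c.symm)

theorem conj_y {g : A7} (hg : (g : Equiv.Perm (Fin 7)).cycleType = {3, 3}) :
    ∃ x : A7, x * ey * x⁻¹ = g :=
  conj_of (o := swap (1 : Fin 7) 3 * swap (2 : Fin 7) 6 * swap (4 : Fin 7) 5) (by decide) (by decide) (hg.trans ct_y.symm)

/-- elements of order 5 are rational -/
theorem rat_five {g : A7} (hg : (g : Equiv.Perm (Fin 7)).cycleType = {5}) :
    g ≠ 1 ∧ g ^ 5 = 1 ∧ ∃ h : A7, h * g * h⁻¹ = g ^ 2 := by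
  obtain ⟨x, rfl⟩ := conj_z hg
  refine ⟨?_, ?_, x * ec * x⁻¹, ?_⟩
  · intro h
    have h1 : ((x * ez * x⁻¹ : A7) : Equiv.Perm (Fin 7)) = 1 := congrArg Subtype.val h
    rw [h1, Equiv.Perm.cycleType_one] at hg
    exact absurd hg (by decide)
  · rw [conj_pow, z_pow]; group
  · rw [conj_pow, ← cz]; group

/-- 7-cycles -/
theorem conj_seven {g : A7} (hg : (g : Equiv.Perm (Fin 7)).cycleType = {7}) :
    ∃ x : A7, x * e7 * x⁻¹ = g ∨ x * e7⁻¹ * x⁻¹ = g := by
  obtain ⟨s, hs⟩ := isConj_iff.1 (Equiv.Perm.isConj_iff_cycleType_eq.2 (ct_7.trans hg.symm))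
  rcases Int.units_eq_one_or (sign s) with h1 | h1
  · exact ⟨⟨s, Equiv.Perm.mem_alternatingGroup.2 h1⟩, Or.inl (Subtype.ext hs)⟩
  · refine ⟨⟨s * (swap (1 : Fin 7) 6 * swap (2 : Fin 7) 5 * swap (3 : Fin 7) 4), Equiv.Perm.mem_alternatingGroup.2 (by
      rw [map_mul, h1]; decide)⟩, Or.inr (Subtype.ext ?_)⟩
    change s * (swap (1 : Fin 7) 6 * swap (2 : Fin 7) 5 * swap (3 : Fin 7) 4) * ((e7⁻¹ : A7) : Equiv.Perm (Fin 7)) *
      (s * (swap (1 : Fin 7) 6 * swap (2 : Fin 7) 5 * swap (3 : Fin 7) 4))⁻¹ = (g : Equiv.Perm (Fin 7))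
    have h2 : (swap (1 : Fin 7) 6 * swap (2 : Fin 7) 5 * swap (3 : Fin 7) 4) * ((e7⁻¹ : A7) : Equiv.Perm (Fin 7)) =
      (e7 : Equiv.Perm (Fin 7)) * (swap (1 : Fin 7) 6 * swap (2 : Fin 7) 5 * swap (3 : Fin 7) 4) := by decide +kernel
    rw [mul_assoc s, h2, mul_inv_rev, ← hs]
    group

/-- elements of order 7 -/
theorem rat_seven {g : A7} (hg : (g : Equiv.Perm (Fin 7)).cycleType = {7}) :
    g ≠ 1 ∧ g ^ 7 = 1 ∧ ∃ h : A7, h * g * h⁻¹ = g ^ 2 := by
  have key := conj_seven hg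
  refine ⟨?_, ?_, ?_⟩
  · rintro rfl
    change (1 : Equiv.Perm (Fin 7)).cycleType = {7} at hg
    rw [Equiv.Perm.cycleType_one] at hg
    exact absurd hg (by decide)
  · obtain ⟨x, rfl | rfl⟩ := key
    · rw [conj_pow, e7_pow]; group
    · rw [conj_pow, inv_pow, e7_pow]; group
  · obtain ⟨x, rfl | rfl⟩ := key
    · exact ⟨x * ey * x⁻¹, by rw [conj_pow, ← y7]; group⟩
    · exact ⟨x * ey * x⁻¹, by rw [conj_pow, inv_pow, ← y7]; group⟩

theorem ct_of_order {g : A7} (hg : orderOf g = 7) : (g : Equiv.Perm (Fin 7)).cycleType = {7} := by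
  have h1 : orderOf (g : Equiv.Perm (Fin 7)) = 7 := by
    rw [Subgroup.orderOf_coe]; exact hg
  obtain ⟨n, hn⟩ := Equiv.Perm.cycleType_prime_order (σ := (g : Equiv.Perm (Fin 7))) (by
    rw [h1]; norm_num)
  have h2 := Equiv.Perm.sum_cycleType_le (g : Equiv.Perm (Fin 7))
  rw [hn, h1, Multiset.sum_replicate, Fintype.card_fin] at h2
  have h3 : n = 0 := by
    simp only [smul_eq_mul] at h2
    omega
  rw [hn, h3, h1]
  rfl

/-! ### representations -/

section rep

variable {K V G : Type*} [Field K] [AddCommGroup V] [Module K V] [Group G]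

theorem mem_es {T : V →ₗ[K] V} {μ : K} {v : V} : v ∈ es T μ ↔ T v = μ • v :=
  Module.End.mem_eigenspace_iff

theorem ev_conj (ρ : Representation K G V) (x g : G) (μ : K) :
    ev (ρ (x * g * x⁻¹)) μ = ev (ρ g) μ := by
  let e : V ≃ₗ[K] V := LinearEquiv.ofLinearMap (ρ x) (ρ x⁻¹)
    (by rw [← Module.End.mul_eq_comp, ← map_mul, mul_inv_cancel, map_one]; rfl)
    (by rw [← Module.End.mul_eq_comp, ← map_mul, inv_mul_cancel, map_one]; rfl)
  have h1 : (Module.End.eigenspace (ρ g) μ).map (e : V →ₗ[K] V) =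
      Module.End.eigenspace (ρ (x * g * x⁻¹)) μ := by
    ext v
    rw [Submodule.mem_map, Module.End.mem_eigenspace_iff]
    constructor
    · rintro ⟨w, hw, rfl⟩
      rw [Module.End.mem_eigenspace_iff] at hw
      change ρ (x * g * x⁻¹) (ρ x w) = μ • ρ x w
      rw [← Module.End.mul_apply, ← map_mul, inv_mul_cancel_right, map_mul, Module.End.mul_apply,
        hw, map_smul]
    · intro hv
      refine ⟨ρ x⁻¹ v, ?_, ?_⟩
      · rw [Module.End.mem_eigenspace_iff, ← Module.End.mul_apply, ← map_mul,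
          show g * x⁻¹ = x⁻¹ * (x * g * x⁻¹) by group, map_mul, Module.End.mul_apply, hv, map_smul]
      · change ρ x (ρ x⁻¹ v) = v
        rw [← Module.End.mul_apply, ← map_mul, mul_inv_cancel, map_one]
        rfl
  unfold ev
  rw [← h1]
  exact LinearEquiv.finrank_map_eq e _

theorem ev_inv (ρ : Representation K G V) (g : G) : ev (ρ g⁻¹) 1 = ev (ρ g) 1 := by
  have h1 : Module.End.eigenspace (ρ g⁻¹) 1 = Module.End.eigenspace (ρ g) 1 := by
    ext v
    rw [Module.End.mem_eigenspace_iff, Module.End.mem_eigenspace_iff, one_smul]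
    constructor
    · intro h
      conv_lhs => rw [← h]
      rw [← Module.End.mul_apply, ← map_mul, mul_inv_cancel, map_one]
      rfl
    · intro h
      conv_lhs => rw [← h]
      rw [← Module.End.mul_apply, ← map_mul, inv_mul_cancel, map_one]
      rfl
  unfold ev
  rw [h1]

/-- class tables pass to injective homomorphisms -/
theorem tab_comp {p : ℕ} {VL VJ H : Type*} [AddCommGroup VL] [Module K VL] [AddCommGroup VJ]
    [Module K VJ] [Group H] {L : Representation K G VL} {J : Representation K G VJ}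
    (h : Tab p L J) (φ : H →* G) (hφ : Function.Injective φ) :
    Tab p (MonoidHom.comp L φ : Representation K H VL)
      (MonoidHom.comp J φ : Representation K H VJ) := by
  have h1 : ∀ x : H, x ≠ 1 → φ x ≠ 1 := fun x hx h2 => hx (hφ (h2.trans (map_one φ).symm))
  refine ⟨fun hp x hx hx2 => ?_, fun hp x hx hx3 => ?_, fun hp x hx hx4 => ?_,
    fun hp x hx4 i hi => ?_, fun hp x hx hx5 => ?_, fun hp x hx hx5 hr => ?_,
    fun hp x hx hx7 hr => ?_⟩
  · exact h.two hp (φ x) (h1 x hx) (by rw [← map_mul, hx2, map_one])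
  · exact h.three hp (φ x) (h1 x hx) (by rw [← map_pow, hx3, map_one])
  · have h2 := h.four hp (φ x) (by rw [← map_mul]; exact h1 _ hx) (by rw [← map_pow, hx4, map_one])
    rw [← map_mul φ x x] at h2
    exact h2
  · exact h.four_i hp (φ x) (by rw [← map_pow, hx4, map_one]) i hi
  · exact h.five hp (φ x) (h1 x hx) (by rw [← map_pow, hx5, map_one])
  · obtain ⟨g, hg⟩ := hr
    exact h.five_rat hp (φ x) (h1 x hx) (by rw [← map_pow, hx5, map_one])
      ⟨φ g, by rw [← map_inv, ← map_mul, ← map_mul, ← map_pow, hg]⟩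
  · obtain ⟨g, hg⟩ := hr
    exact h.seven_rat hp (φ x) (h1 x hx) (by rw [← map_pow, hx7, map_one])
      ⟨φ g, by rw [← map_inv, ← map_mul, ← map_mul, ← map_pow, hg]⟩

end rep

/-! ### the kernel of an invariant functional -/

section ker

variable {K V : Type*} [Field K] [AddCommGroup V] [Module K V]

theorem mapsTo_ker {T : V →ₗ[K] V} {τ : V →ₗ[K] K} (hτ : ∀ x, τ (T x) = τ x) :
    ∀ x ∈ LinearMap.ker τ, T x ∈ LinearMap.ker τ := by
  intro x hx
  rw [LinearMap.mem_ker] at hx ⊢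
  rw [hτ, hx]

theorem trace_ker [FiniteDimensional K V] {T : V →ₗ[K] V} {τ : V →ₗ[K] K}
    (hτ : ∀ x, τ (T x) = τ x) {u : V} (hu : τ u = 1) (hTu : T u = u) :
    LinearMap.trace K V T =
      LinearMap.trace K (LinearMap.ker τ) (T.restrict (mapsTo_ker hτ)) + 1 := by
  let e : V ≃ₗ[K] (LinearMap.ker τ) × K :=
    { toFun := fun x => (⟨x - τ x • u, by
        rw [LinearMap.mem_ker, map_sub, map_smul, hu, smul_eq_mul, mul_one, sub_self]⟩, τ x)
      map_add' := fun x y => by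
        refine Prod.ext (Subtype.ext ?_) (map_add τ x y)
        change x + y - τ (x + y) • u = (x - τ x • u) + (y - τ y • u)
        rw [map_add, add_smul]; abel
      map_smul' := fun a x => by
        refine Prod.ext (Subtype.ext ?_) (map_smul τ a x)
        change a • x - τ (a • x) • u = a • (x - τ x • u)
        rw [map_smul, smul_sub, smul_smul, smul_eq_mul]
      invFun := fun y => y.1 + y.2 • u
      left_inv := fun x => by
        change x - τ x • u + τ x • u = x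
        rw [sub_add_cancel]
      right_inv := fun y => by
        have h1 : τ ((y.1 : V) + y.2 • u) = y.2 := by
          rw [map_add, map_smul, hu, LinearMap.mem_ker.1 y.1.2, zero_add, smul_eq_mul, mul_one]
        refine Prod.ext (Subtype.ext ?_) h1
        change (y.1 : V) + y.2 • u - τ ((y.1 : V) + y.2 • u) • u = y.1
        rw [h1, add_sub_cancel_right] }
  have h1 : e.conj T = LinearMap.prodMap (T.restrict (mapsTo_ker hτ)) LinearMap.id := by
    refine LinearMap.ext fun y => ?_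
    rw [LinearEquiv.conj_apply_apply]
    have h2 : T (e.symm y) = T y.1 + y.2 • u := by
      change T ((y.1 : V) + y.2 • u) = _
      rw [map_add, map_smul, hTu]
    have h3 : τ (T (e.symm y)) = y.2 := by
      rw [hτ]
      change τ ((y.1 : V) + y.2 • u) = y.2
      rw [map_add, map_smul, hu, LinearMap.mem_ker.1 y.1.2, zero_add, smul_eq_mul, mul_one]
    refine Prod.ext (Subtype.ext ?_) h3
    change T (e.symm y) - τ (T (e.symm y)) • u = T y.1
    rw [h3, h2, add_sub_cancel_right]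
  rw [← LinearMap.trace_conj' T e, h1, LinearMap.trace_prodMap', LinearMap.trace_id,
    Module.finrank_self, Nat.cast_one]

theorem ev_ker [FiniteDimensional K V] {T : V →ₗ[K] V} {τ : V →ₗ[K] K}
    (hτ : ∀ x, τ (T x) = τ x) {u : V} (hu : τ u = 1) (hTu : T u = u) :
    ev T 1 = ev (T.restrict (mapsTo_ker hτ)) 1 + 1 := by
  let E := Module.End.eigenspace T (1 : K)
  let f : E →ₗ[K] K := τ.comp E.subtype
  have h1 := f.finrank_range_add_finrank_ker
  have h2 : LinearMap.range f = ⊤ := by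
    rw [LinearMap.range_eq_top]
    intro a
    refine ⟨⟨a • u, ?_⟩, ?_⟩
    · rw [Module.End.mem_eigenspace_iff, map_smul, hTu, one_smul]
    · change τ (a • u) = a
      rw [map_smul, hu, smul_eq_mul, mul_one]
  rw [h2, finrank_top, Module.finrank_self] at h1
  have h3 : finrank K (LinearMap.ker f) =
      finrank K (Module.End.eigenspace (T.restrict (mapsTo_ker hτ)) (1 : K)) := by
    refine LinearEquiv.finrank_eq
      { toFun := fun x => ⟨⟨x.1.1, x.2⟩, ?_⟩
        map_add' := fun _ _ => rfl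
        map_smul' := fun _ _ => rfl
        invFun := fun y => ⟨⟨y.1.1, ?_⟩, y.1.2⟩
        left_inv := fun _ => rfl
        right_inv := fun _ => rfl }
    · rw [Module.End.mem_eigenspace_iff]
      have := Module.End.mem_eigenspace_iff.1 x.1.2
      exact Subtype.ext this
    · have := Module.End.mem_eigenspace_iff.1 y.2
      rw [Module.End.mem_eigenspace_iff]
      exact congrArg Subtype.val this
  change finrank K E = _
  rw [← h1, h3, add_comm]
  rfl

end ker

end Cfsg.Agent.H450.F4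
end

-- part: H450/F4/ExTr
section
/-!
# S5926: the traces of a representation of `A₇` (7-cycles: `tr g⁻¹ = tr g`)
-/

set_option autoImplicit false

namespace Cfsg.Agent.H450.F4

open Cfsg Module
open Cfsg.Agent.H952.F4
open Equiv (swap)

variable {K V : Type*} [Field K] [AddCommGroup V] [Module K V]

theorem trace_conj_rep (ρ : Representation K A7 V) (x g : A7) :
    LinearMap.trace K V (ρ (x * g * x⁻¹)) = LinearMap.trace K V (ρ g) := by
  rw [map_mul, LinearMap.trace_mul_comm, ← map_mul, inv_mul_cancel_left]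

/-- the class `{2,2}` -/
theorem conj_two {g : A7} (hg : (g : Equiv.Perm (Fin 7)).cycleType = {2, 2}) :
    ∃ x : A7, x * (ec * ec) * x⁻¹ = g :=
  conj_of (o := swap (5 : Fin 7) 6) (by decide) (by decide) (hg.trans ct_c2.symm)

theorem conj_three {g : A7} (hg : (g : Equiv.Perm (Fin 7)).cycleType = {3}) :
    ∃ x : A7, x * e3 * x⁻¹ = g :=
  conj_of (o := swap (5 : Fin 7) 6) (by decide) (by decide) (hg.trans ct_3.symm)

theorem conj_six {g : A7} (hg : (g : Equiv.Perm (Fin 7)).cycleType = {3, 2, 2}) :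
    ∃ x : A7, x * e6 * x⁻¹ = g :=
  conj_of (o := swap (5 : Fin 7) 6) (by decide) (by decide) (hg.trans ct_6.symm)

/-- the traces exist as soon as `tr g⁻¹ = tr g` for 7-cycles -/
theorem exists_tr_seven (ρ : Representation K A7 V)
    (h : ∀ g : A7, (g : Equiv.Perm (Fin 7)).cycleType = {7} →
      LinearMap.trace K V (ρ g⁻¹) = LinearMap.trace K V (ρ g)) :
    ∃ t1 t2 t3 t33 t4 t6 t5 t7 : K, Tr ρ t1 t2 t3 t33 t4 t6 t5 t7 := by
  refine ⟨LinearMap.trace K V (ρ 1), LinearMap.trace K V (ρ (ec * ec)),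
    LinearMap.trace K V (ρ e3), LinearMap.trace K V (ρ ey), LinearMap.trace K V (ρ ec),
    LinearMap.trace K V (ρ e6), LinearMap.trace K V (ρ ez), LinearMap.trace K V (ρ e7),
    rfl, ?_, ?_, ?_, ?_, ?_, ?_, ?_⟩
  · intro g hg
    obtain ⟨x, rfl⟩ := conj_two hg
    exact trace_conj_rep ρ x _
  · intro g hg
    obtain ⟨x, rfl⟩ := conj_three hg
    exact trace_conj_rep ρ x _
  · intro g hg
    obtain ⟨x, rfl⟩ := conj_y hg
    exact trace_conj_rep ρ x _
  · intro g hg
    obtain ⟨x, rfl⟩ := conj_c hg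
    exact trace_conj_rep ρ x _
  · intro g hg
    obtain ⟨x, rfl⟩ := conj_six hg
    exact trace_conj_rep ρ x _
  · intro g hg
    obtain ⟨x, rfl⟩ := conj_z hg
    exact trace_conj_rep ρ x _
  · intro g hg
    obtain ⟨x, rfl | rfl⟩ := conj_seven hg
    · exact trace_conj_rep ρ x _
    · rw [trace_conj_rep]
      exact h e7 ct_7

end Cfsg.Agent.H450.F4
end

-- part: H952/F4/KillA
section
/-!
# S5926, task F-B1: trace identities for `A₇`, final form (helper328)

`rel_sgn_zero`, `rel_73` (`exists_tr` is in `KillBase`).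
-/

set_option autoImplicit false
set_option linter.unusedSectionVars false

namespace Cfsg.Agent.H952.F4.Kill

open Cfsg Cfsg.Lie Module Finset

variable {K V : Type*} [Field K] [IsAlgClosed K] [AddCommGroup V] [Module K V] [FiniteDimensional K V]
  (ρ : Representation K ↥(alternatingGroup (Fin 7)) V)

/-- B1: the sign character of `5:4` does not occur -/
theorem rel_sgn_zero {t1 t2 t3 t33 t4 t6 t5 t7 : K} (ht : Tr ρ t1 t2 t3 t33 t4 t6 t5 t7) (h2 : (2 : K) ≠ 0)
    (h5 : (5 : K) ≠ 0)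
    (hz : ∀ g : ↥(alternatingGroup (Fin 7)), (g : Equiv.Perm (Fin 7)).cycleType = {5} → ev (ρ g) 1 = 12)
    (hc : ∀ g : ↥(alternatingGroup (Fin 7)), (g : Equiv.Perm (Fin 7)).cycleType = {4, 2} → ev (ρ g) (-1) = 10)
    (hd : finrank K V = 52) : t2 + 2 * t6 - 3 * t4 = 0 ∧ t6 - t33 - t4 + t5 = 0 := by
  have _ := h2
  have hμ : (-1 : K) ^ 4 = 1 := by norm_num
  have hf := Eig.frob ρ (m := 5) (by norm_num) (by exact_mod_cast h5) zz_pow cc_zz (k := 4) ord5
    (by norm_num) cc_pow hμ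
  rw [hz zz zz_type, hc cc cc_type, hd] at hf
  exact rel_sgn_zero_aux ρ ht (Submodule.finrank_eq_zero.1 (by omega))

/-- B3: a group `7:3` without fixed points -/
theorem rel_73 {t1 t2 t3 t33 t4 t6 t5 t7 : K} (ht : Tr ρ t1 t2 t3 t33 t4 t6 t5 t7) (h3 : (3 : K) ≠ 0)
    (h7 : (7 : K) ≠ 0)
    (hz : ∀ g : ↥(alternatingGroup (Fin 7)), (g : Equiv.Perm (Fin 7)).cycleType = {7} → ev (ρ g) 1 = 2)
    (hc : ∀ g : ↥(alternatingGroup (Fin 7)), (g : Equiv.Perm (Fin 7)).cycleType = {3, 3} → ev (ρ g) 1 = 8)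
    (hd : finrank K V = 26) : t2 + 2 * t5 + 4 * t7 = 0 := by
  have hf := Eig.frob ρ (m := 7) (by norm_num) (by exact_mod_cast h7) z7_pow y7_z7 (k := 3) ord7
    (by norm_num) y7_pow (one_pow 3)
  rw [hz z7 z7_type, hc y7 y7_type, hd] at hf
  exact rel_73_aux ρ ht h3 (Submodule.finrank_eq_zero.1 (by omega))

end Cfsg.Agent.H952.F4.Kill
end

-- part: H450/F4/CoreA
section
/-!
# S5926, task F-K1: the 7-elements in characteristic 5 (abstract form)
-/

set_option autoImplicit false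

namespace Cfsg.Agent.H450.F4

open Cfsg Module
open Cfsg.Agent.H952.F4

section core

variable {p : ℕ} [Fact p.Prime] {K : Type*} [Field K] [IsAlgClosed K] [CharP K p]

omit [Fact p.Prime] [IsAlgClosed K] in
theorem natCast_ne {n : ℕ} (h : ¬ p ∣ n) : (n : K) ≠ 0 := by
  rw [Ne, CharP.cast_eq_zero_iff K p]
  exact h

omit [IsAlgClosed K] in
theorem ne_zero_of {q : ℕ} (hq : q.Prime) (h : p ≠ q) : (q : K) ≠ 0 :=
  natCast_ne (p := p) fun h1 => h ((Nat.prime_dvd_prime_iff_eq Fact.out hq).1 h1)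

variable {VL VJ : Type*} [AddCommGroup VL] [Module K VL] [FiniteDimensional K VL]
  [AddCommGroup VJ] [Module K VJ] [FiniteDimensional K VJ]

omit [IsAlgClosed K] in
theorem trace_inv_pow {W : Type*} [AddCommGroup W] [Module K W] [FiniteDimensional K W]
    (ρ : Representation K A7 W) {g : A7} (h7 : g ^ p = 1) :
    LinearMap.trace K W (ρ g⁻¹) = LinearMap.trace K W (ρ g) := by
  have e1 := Eig.trace_pow_char p (ρ g)
  have e2 := Eig.trace_pow_char p (ρ g⁻¹)
  rw [← map_pow, h7] at e1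
  rw [← map_pow, inv_pow, h7, inv_one] at e2
  exact frobenius_inj K p (e2.symm.trans e1)

omit [IsAlgClosed K] in
/-- traces of 7-cycles -/
theorem trace_inv_J {L : Representation K A7 VL} {J : Representation K A7 VJ} (T : Tab p L J)
    {g : A7} (hg : (g : Equiv.Perm (Fin 7)).cycleType = {7}) :
    LinearMap.trace K VJ (J g⁻¹) = LinearMap.trace K VJ (J g) ∧
      LinearMap.trace K VL (L g⁻¹) = LinearMap.trace K VL (L g) := by
  obtain ⟨h1, h7, h, hh⟩ := rat_seven hg
  by_cases hp : p = 7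
  · subst hp
    exact ⟨trace_inv_pow J h7, trace_inv_pow L h7⟩
  · obtain ⟨-, hL, hJ⟩ := T.seven_rat hp g h1 h7 ⟨h, hh⟩
    have h1' : g⁻¹ ≠ 1 := by
      intro h2
      exact h1 (inv_eq_one.1 h2)
    have h7' : g⁻¹ ^ 7 = 1 := by rw [inv_pow, h7, inv_one]
    obtain ⟨-, hL', hJ'⟩ := T.seven_rat hp g⁻¹ h1' h7' ⟨h, by
      rw [inv_pow, ← hh]; group⟩
    refine ⟨?_, hL'.trans hL.symm⟩
    rw [ev_inv] at hJ'
    rcases hJ with ⟨a1, a2⟩ | ⟨a1, a2⟩ <;> rcases hJ' with ⟨b1, b2⟩ | ⟨b1, b2⟩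
    · exact b2.trans a2.symm
    · omega
    · omega
    · exact b2.trans a2.symm

end core

section five

variable {K : Type*} [Field K]

/-- three eigenspaces -/
theorem ev_add_le {V : Type*} [AddCommGroup V] [Module K V] [FiniteDimensional K V]
    (T : Module.End K V) {a b c : K} (hab : a ≠ b) (hac : a ≠ c) (hbc : b ≠ c) :
    ev T a + ev T b + ev T c ≤ finrank K V := by
  have h0 := Module.End.eigenspaces_iSupIndep T
  have h1 : Disjoint (T.eigenspace a) (T.eigenspace b) := h0.pairwiseDisjoint hab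
  have h2 : Disjoint (T.eigenspace a ⊔ T.eigenspace b) (T.eigenspace c) := by
    refine ((h0 c).mono_right ?_).symm
    refine sup_le ?_ ?_
    · exact le_iSup₂_of_le a hac le_rfl
    · exact le_iSup₂_of_le b hbc le_rfl
  have e1 := Submodule.finrank_sup_add_finrank_inf_eq (T.eigenspace a) (T.eigenspace b)
  have e2 := Submodule.finrank_sup_add_finrank_inf_eq (T.eigenspace a ⊔ T.eigenspace b)
    (T.eigenspace c)
  rw [h1.eq_bot, finrank_bot] at e1
  rw [h2.eq_bot, finrank_bot] at e2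
  have e3 := Submodule.finrank_le (T.eigenspace a ⊔ T.eigenspace b ⊔ T.eigenspace c)
  unfold ev
  omega

variable {VL VJ : Type*} [AddCommGroup VL] [Module K VL] [FiniteDimensional K VL]
  [AddCommGroup VJ] [Module K VJ] [FiniteDimensional K VJ]

/-- the representation on the kernel of an invariant functional -/
def kerRep {J : Representation K A7 VJ} {τ : VJ →ₗ[K] K} (hτ : ∀ g x, τ (J g x) = τ x) :
    Representation K A7 (LinearMap.ker τ) where
  toFun g := (J g).restrict (mapsTo_ker (hτ g))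
  map_one' := by
    refine LinearMap.ext fun x => Subtype.ext ?_
    change J 1 (x : VJ) = x
    rw [map_one]
    rfl
  map_mul' g h := by
    refine LinearMap.ext fun x => Subtype.ext ?_
    change J (g * h) (x : VJ) = J g (J h x)
    rw [map_mul]
    rfl

variable [IsAlgClosed K] [CharP K 5]

/-- **The 7-elements in characteristic 5.** -/
theorem core_five {L : Representation K A7 VL} {J : Representation K A7 VJ} (T : Tab 5 L J)
    (hJ : finrank K VJ = 27) {τ : VJ →ₗ[K] K} (hτ : ∀ g x, τ (J g x) = τ x) {u : VJ}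
    (hu : τ u = 1) (hfix : ∀ g, J g u = u) {g : A7}
    (hg : (g : Equiv.Perm (Fin 7)).cycleType = {7}) : ev (J g) 1 = 9 := by
  have hF5 : Fact (Nat.Prime 5) := ⟨Nat.prime_five⟩
  have h50 : (5 : K) = 0 := by
    have := CharP.cast_eq_zero K 5
    exact_mod_cast this
  have h2 : (2 : K) ≠ 0 := by
    have := ne_zero_of (K := K) (p := 5) Nat.prime_two (by norm_num)
    exact_mod_cast this
  have h3 : (3 : K) ≠ 0 := by
    have := ne_zero_of (K := K) (p := 5) Nat.prime_three (by norm_num)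
    exact_mod_cast this
  have h7 : (7 : K) ≠ 0 := by
    have := ne_zero_of (K := K) (p := 5) (q := 7) (by norm_num) (by norm_num)
    exact_mod_cast this
  have hev7 : ∀ g : A7, (g : Equiv.Perm (Fin 7)).cycleType = {7} →
      ev (J g) 1 = ev (J e7) 1 := by
    intro g hg
    obtain ⟨x, rfl | rfl⟩ := conj_seven hg
    · rw [ev_conj]
    · rw [ev_conj, ev_inv]
  rw [hev7 g hg]
  obtain ⟨h1, h77, h, hh⟩ := rat_seven ct_7
  obtain ⟨-, -, hcase⟩ := T.seven_rat (by norm_num) e7 h1 h77 ⟨h, hh⟩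
  rcases hcase with ⟨a1, a2⟩ | ⟨a1, a2⟩
  swap
  · exact a1
  exfalso
  -- the kernel of `τ`
  have hdim : finrank K (LinearMap.ker τ) = 26 := by
    have e1 := τ.finrank_range_add_finrank_ker
    have e2 : LinearMap.range τ = ⊤ := by
      rw [LinearMap.range_eq_top]
      intro a
      exact ⟨a • u, by rw [map_smul, hu, smul_eq_mul, mul_one]⟩
    rw [e2, finrank_top, Module.finrank_self, hJ] at e1
    omega
  have hevk : ∀ g, ev (J g) 1 = ev (kerRep hτ g) 1 + 1 := fun g => ev_ker (hτ g) hu (hfix g)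
  have htrk : ∀ g, LinearMap.trace K VJ (J g) =
      LinearMap.trace K (LinearMap.ker τ) (kerRep hτ g) + 1 :=
    fun g => trace_ker (hτ g) hu (hfix g)
  -- elements of order 3
  have hy9 : ev (J ey) 1 = 9 := by
    have hy1 : ey ≠ 1 := by decide +kernel
    rcases T.three (by norm_num) ey hy1 y_pow with ⟨b, -⟩ | ⟨b, -⟩ | ⟨b, -⟩
    · exfalso
      obtain ⟨w, hw⟩ := IsAlgClosed.exists_pow_nat_eq (-3 : K) (n := 2) (by norm_num)
      have hw0 : w ≠ 0 := by
        rintro rfl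
        apply h3
        linear_combination hw
      obtain ⟨i2, hi2⟩ : ∃ i2 : K, 2 * i2 = 1 := ⟨2⁻¹, mul_inv_cancel₀ h2⟩
      set ω := (w - 1) * i2 with hω
      set ω' := (-w - 1) * i2 with hω'
      have e1 : ω ^ 2 + ω + 1 = 0 := by
        have : (2 : K) ^ 2 * (ω ^ 2 + ω + 1) = 0 := by
          rw [hω]
          linear_combination (((w - 1) ^ 2) * (2 * i2 + 1) + 2 * (w - 1)) * hi2 + hw
        exact (mul_eq_zero.1 this).resolve_left (pow_ne_zero _ h2)
      have e2 : ω' ^ 2 + ω' + 1 = 0 := by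
        have : (2 : K) ^ 2 * (ω' ^ 2 + ω' + 1) = 0 := by
          rw [hω']
          linear_combination (((-w - 1) ^ 2) * (2 * i2 + 1) + 2 * (-w - 1)) * hi2 + hw
        exact (mul_eq_zero.1 this).resolve_left (pow_ne_zero _ h2)
      have c1 : ω ^ 3 = 1 := by linear_combination (ω - 1) * e1
      have c2 : ω' ^ 3 = 1 := by linear_combination (ω' - 1) * e2
      have n1 : (1 : K) ≠ ω := by
        intro h4
        rw [← h4] at e1
        apply h3
        linear_combination e1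
      have n2 : (1 : K) ≠ ω' := by
        intro h4
        rw [← h4] at e2
        apply h3
        linear_combination e2
      have n3 : ω ≠ ω' := by
        intro h4
        have : w * (2 * i2) = 0 := by
          rw [hω, hω'] at h4
          linear_combination h4
        rw [hi2, mul_one] at this
        exact hw0 this
      have hord : orderOf ((2 : ℕ) : ZMod 7) = 3 := by
        rw [orderOf_eq_iff (by norm_num)]
        decide
      have f1 := Eig.frob J (by norm_num : Nat.Prime 7) (by exact_mod_cast h7) e7_pow y7 hord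
        (by norm_num) y_pow c1
      have f2 := Eig.frob J (by norm_num : Nat.Prime 7) (by exact_mod_cast h7) e7_pow y7 hord
        (by norm_num) y_pow c2
      have f3 := ev_add_le (J ey) n1 n2 n3
      omega
    · exact b
    · exact b
  have hzσ : ∀ g : A7, (g : Equiv.Perm (Fin 7)).cycleType = {7} → ev (kerRep hτ g) 1 = 2 := by
    intro g hg
    have := hevk g
    rw [hev7 g hg] at this
    omega
  have hcσ : ∀ g : A7, (g : Equiv.Perm (Fin 7)).cycleType = {3, 3} → ev (kerRep hτ g) 1 = 8 := by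
    intro g hg
    obtain ⟨x, rfl⟩ := conj_y hg
    rw [ev_conj]
    have := hevk ey
    omega
  obtain ⟨t1, t2, t3, t33, t4, t6, t5, t7, TS⟩ := exists_tr_seven (kerRep hτ) fun g hg => by
    have e1 := htrk g
    have e2 := htrk g⁻¹
    rw [(trace_inv_J T hg).1] at e2
    linear_combination e1 - e2
  have hrel := Kill.rel_73 (kerRep hτ) TS h3 h7 hzσ hcσ hdim
  have ht7 : t7 = -2 := by
    rw [← TS.seven e7 ct_7]
    have := htrk e7
    linear_combination a2 - this
  have ht5 : t5 = 1 := by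
    have e1 := Eig.trace_pow_char 5 (kerRep hτ ez)
    rw [← map_pow, z_pow, map_one, LinearMap.trace_one, hdim, TS.five ez ct_z] at e1
    have e2 : t5 ^ 5 = 1 ^ 5 := by
      rw [← e1]
      push_cast
      linear_combination 5 * h50
    exact frobenius_inj K 5 e2
  have ht2 : t2 = 2 ∨ t2 = -6 := by
    rw [← TS.two (ec * ec) ct_c2]
    have e1 := htrk (ec * ec)
    rcases T.two (by norm_num) (ec * ec) c_sq (by decide +kernel) with
      ⟨-, -, b, -⟩ | ⟨-, -, b, -⟩
    · left; linear_combination b - e1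
    · right; linear_combination b - e1
  rw [ht5, ht7] at hrel
  rcases ht2 with ht2 | ht2
  · rw [ht2] at hrel
    exact pow_ne_zero 2 h2 (by linear_combination -hrel)
  · rw [ht2] at hrel
    exact h2 (by linear_combination -hrel - 2 * h50)

end five

end Cfsg.Agent.H450.F4
end

-- part: H4/F4KillBase
section
/-!
# S5926, trace identities for `A₇`: computing cycle types (helper4)

* `code σ` : the list of the values of a permutation of seven points, `comp` the product of codes;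
* `cl p` : the number of the class (`1, 2², 3, 3², 42, 32², 5, 7`) of an even permutation with code `p`;
* `tr_code` : `trace (ρ g) = t (cl (code g))`;
* `val`, `tab`, `val_eq` : weighted sums of traces, computed from the table of multiplicities;
* `rank_one` : `trace (E A) trace (E A') = trace (E A E A')` if the rank of `E` is at most one.
-/

set_option autoImplicit false

namespace Cfsg.Agent.H4.F4Kill

open Cfsg.Agent.H952.F4 Module Equiv

/-- The alternating group of degree 7. -/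
abbrev A7 := ↥(alternatingGroup (Fin 7))

/-- Product of codes: first `q`, then `p`. -/
def comp (p q : List ℕ) : List ℕ := q.map fun i => p.getD i 0

/-- The code of a permutation. -/
def code (σ : Perm (Fin 7)) : List ℕ := (List.finRange 7).map fun i => ((σ i : Fin 7) : ℕ)

theorem code_getD (σ : Perm (Fin 7)) (i : Fin 7) : (code σ).getD (i : ℕ) 0 = ((σ i : Fin 7) : ℕ) := by
  unfold code
  rw [List.getD_eq_getElem _ _ (by simp)]
  simp

theorem code_mul (σ τ : Perm (Fin 7)) : code (σ * τ) = comp (code σ) (code τ) := by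
  unfold comp
  conv_lhs => unfold code
  conv_rhs => enter [2]; unfold code
  rw [List.map_map]
  apply List.map_congr_left
  intro i _
  simp only [Function.comp_apply, Perm.mul_apply, code_getD]

theorem code_inj {σ τ : Perm (Fin 7)} (h : code σ = code τ) : σ = τ := by
  ext i
  rw [← code_getD, ← code_getD, h]

theorem code_one : code 1 = [0, 1, 2, 3, 4, 5, 6] := by decide

/-- The number of fixed points. -/
def fx (p : List ℕ) : ℕ := (List.range 7).countP fun i => p.getD i 0 == i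

theorem fx_code (σ : Perm (Fin 7)) : fx (code σ) + σ.cycleType.sum = 7 := by
  rw [Perm.sum_cycleType]
  have h1 : fx (code σ) = (σ.supportᶜ).card := by
    unfold fx
    have h2 : List.range 7 = (List.finRange 7).map (fun i : Fin 7 => (i : ℕ)) := by decide
    rw [h2, List.countP_map]
    have h3 : ((fun i : ℕ => (code σ).getD i 0 == i) ∘ fun i : Fin 7 => (i : ℕ)) =
        fun i : Fin 7 => decide (σ i = i) := by
      funext i
      simp only [Function.comp_apply, code_getD]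
      rw [Bool.eq_iff_iff]
      simp [Fin.ext_iff]
    rw [h3, List.countP_eq_length_filter]
    have h4 : σ.supportᶜ = Finset.univ.filter (fun i => σ i = i) := by
      ext i
      simp
    rw [h4]
    rfl
  rw [h1, Finset.card_compl]
  have := Finset.card_le_univ σ.support
  simp only [Fintype.card_fin] at this ⊢
  omega

/-- The number of the class. -/
def cl (p : List ℕ) : ℕ :=
  match fx p with
  | 0 => if comp p (comp p (comp p (comp p (comp p (comp p p))))) = [0, 1, 2, 3, 4, 5, 6] then 7 else 5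
  | 1 => if comp p (comp p p) = [0, 1, 2, 3, 4, 5, 6] then 3 else 4
  | 2 => 6
  | 3 => 1
  | 4 => 2
  | _ => 0

theorem enum (m : Multiset ℕ) (h2 : ∀ n ∈ m, 2 ≤ n) (hs : m.sum ≤ 7) (he : Even (m.sum + Multiset.card m)) :
    m = 0 ∨ m = {3} ∨ m = {2, 2} ∨ m = {5} ∨ m = {4, 2} ∨ m = {3, 3} ∨ m = {7} ∨ m = {3, 2, 2} := by
  have hc : Multiset.card m * 2 ≤ m.sum := by
    have := Multiset.card_nsmul_le_sum (a := 2) h2
    simpa using this
  have hc3 : Multiset.card m ≤ 3 := by omega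
  rw [Nat.even_iff] at he
  interval_cases hm : Multiset.card m
  · left
    exact Multiset.card_eq_zero.mp hm
  · obtain ⟨a, rfl⟩ := Multiset.card_eq_one.mp hm
    simp only [Multiset.sum_singleton] at hs he hc
    have ha := h2 a (by simp)
    interval_cases a <;> simp_all
  · obtain ⟨a, b, rfl⟩ := Multiset.card_eq_two.mp hm
    have ha := h2 a (by simp)
    have hb := h2 b (by simp)
    simp only [Multiset.insert_eq_cons, Multiset.sum_cons, Multiset.sum_singleton] at hs he hc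
    have ha7 : a ≤ 5 := by omega
    have hb7 : b ≤ 5 := by omega
    interval_cases a <;> interval_cases b <;> first | omega | (revert hm; decide) | skip
  · obtain ⟨a, b, c, rfl⟩ := Multiset.card_eq_three.mp hm
    have ha := h2 a (by simp)
    have hb := h2 b (by simp)
    have hb := h2 c (by simp)
    simp only [Multiset.insert_eq_cons, Multiset.sum_cons, Multiset.sum_singleton] at hs he hc
    have ha7 : a ≤ 3 := by omega
    have hb7 : b ≤ 3 := by omega
    have hc7 : c ≤ 3 := by omega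
    interval_cases a <;> interval_cases b <;> interval_cases c <;> first | omega | (revert hm; decide) | skip

theorem pow3_iff (σ : Perm (Fin 7)) :
    comp (code σ) (comp (code σ) (code σ)) = [0, 1, 2, 3, 4, 5, 6] ↔ σ.cycleType.lcm ∣ 3 := by
  rw [Perm.lcm_cycleType, orderOf_dvd_iff_pow_eq_one, ← code_one, ← code_mul, ← code_mul]
  constructor
  · intro h
    rw [pow_succ', pow_succ', pow_one]
    exact code_inj h
  · intro h
    rw [pow_succ', pow_succ', pow_one] at h
    rw [h]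

theorem pow7_iff (σ : Perm (Fin 7)) :
    comp (code σ) (comp (code σ) (comp (code σ) (comp (code σ) (comp (code σ) (comp (code σ) (code σ)))))) =
      [0, 1, 2, 3, 4, 5, 6] ↔ σ.cycleType.lcm ∣ 7 := by
  rw [Perm.lcm_cycleType, orderOf_dvd_iff_pow_eq_one, ← code_one]
  simp only [← code_mul]
  constructor
  · intro h
    simp only [pow_succ', pow_zero, mul_one]
    exact code_inj h
  · intro h
    simp only [pow_succ', pow_zero, mul_one] at h
    rw [h]

section Trace

variable {K V : Type*} [Field K] [AddCommGroup V] [Module K V]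
  (ρ : Representation K A7 V)

/-- The trace of `ρ g` from the code of `g`. -/
theorem tr_code {t : ℕ → K} (ht : Tr ρ (t 0) (t 1) (t 2) (t 3) (t 4) (t 5) (t 6) (t 7)) (g : A7) :
    LinearMap.trace K V (ρ g) = t (cl (code (g : Perm (Fin 7)))) := by
  have hsgn : Perm.sign (g : Perm (Fin 7)) = 1 := Perm.mem_alternatingGroup.mp g.2
  have hfx := fx_code (g : Perm (Fin 7))
  have hev : Even ((g : Perm (Fin 7)).cycleType.sum + Multiset.card (g : Perm (Fin 7)).cycleType) := by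
    rw [Perm.sign_of_cycleType] at hsgn
    by_contra hodd
    rw [Nat.not_even_iff_odd] at hodd
    rw [hodd.neg_one_pow] at hsgn
    exact absurd hsgn (by decide)
  have h3 := pow3_iff (g : Perm (Fin 7))
  have h7 := pow7_iff (g : Perm (Fin 7))
  rcases enum _ (fun n hn => Perm.two_le_of_mem_cycleType hn) (by omega) hev with h | h | h | h | h | h | h | h
  · have hg : g = 1 := by
      have := Perm.cycleType_eq_zero.mp h
      exact Subtype.ext this
    rw [h] at hfx
    simp only [Multiset.sum_zero, add_zero] at hfx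
    unfold cl
    rw [hfx, hg]
    exact ht.one
  · rw [h] at hfx
    simp only [Multiset.sum_singleton] at hfx
    unfold cl
    rw [show fx (code (g : Perm (Fin 7))) = 4 by omega]
    exact ht.three g h
  · rw [h] at hfx
    simp only [Multiset.insert_eq_cons, Multiset.sum_cons, Multiset.sum_singleton] at hfx
    unfold cl
    rw [show fx (code (g : Perm (Fin 7))) = 3 by omega]
    exact ht.two g h
  · rw [h] at hfx
    simp only [Multiset.sum_singleton] at hfx
    unfold cl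
    rw [show fx (code (g : Perm (Fin 7))) = 2 by omega]
    exact ht.five g h
  · rw [h] at hfx h3
    simp only [Multiset.insert_eq_cons, Multiset.sum_cons, Multiset.sum_singleton] at hfx
    unfold cl
    rw [show fx (code (g : Perm (Fin 7))) = 1 by omega]
    have h4 : ¬ (({4, 2} : Multiset ℕ).lcm ∣ 3) := by decide
    simp only [h3, h4, if_false]
    exact ht.four g h
  · rw [h] at hfx h3
    simp only [Multiset.insert_eq_cons, Multiset.sum_cons, Multiset.sum_singleton] at hfx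
    unfold cl
    rw [show fx (code (g : Perm (Fin 7))) = 1 by omega]
    have h4 : (({3, 3} : Multiset ℕ).lcm ∣ 3) := by decide
    simp only [h3, h4, if_true]
    exact ht.threeb g h
  · rw [h] at hfx h7
    simp only [Multiset.sum_singleton] at hfx
    unfold cl
    rw [show fx (code (g : Perm (Fin 7))) = 0 by omega]
    have h4 : (({7} : Multiset ℕ).lcm ∣ 7) := by decide
    simp only [h7, h4, if_true]
    exact ht.seven g h
  · rw [h] at hfx h7
    simp only [Multiset.insert_eq_cons, Multiset.sum_cons, Multiset.sum_singleton] at hfx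
    unfold cl
    rw [show fx (code (g : Perm (Fin 7))) = 0 by omega]
    have h4 : ¬ (({3, 2, 2} : Multiset ℕ).lcm ∣ 7) := by decide
    simp only [h7, h4, if_false]
    exact ht.six g h

end Trace

section Val

variable {K : Type*} [CommRing K]

/-- Weighted sum. -/
def val (μ : K) (t : ℕ → K) (L : List (ℕ × ℕ)) : K := (L.map fun x => μ ^ x.1 * t x.2).sum

/-- Multiplicity. -/
def cnt (L : List (ℕ × ℕ)) (x : ℕ × ℕ) : ℕ := @List.count (ℕ × ℕ) instBEqOfDecidableEq x L

/-- The table of multiplicities. -/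
def tab (L : List (ℕ × ℕ)) : List (List ℕ) :=
  (List.range 4).map fun j => (List.range 8).map fun k => cnt L (j, k)

theorem tab_getD (L : List (ℕ × ℕ)) {j k : ℕ} (hj : j < 4) (hk : k < 8) :
    ((tab L).getD j []).getD k 0 = cnt L (j, k) := by
  have h1 : (tab L).getD j [] = (List.range 8).map fun k => cnt L (j, k) := by
    unfold tab
    rw [List.getD_eq_getElem _ _ (by simpa using hj)]
    simp
  rw [h1, List.getD_eq_getElem _ _ (by simpa using hk)]
  simp

/-- Evaluation of a weighted sum from the table. -/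
theorem val_eq (μ : K) (t : ℕ → K) {L : List (ℕ × ℕ)} {T : List (List ℕ)} (hT : tab L = T)
    (hL : L.all (fun x => decide (x.1 < 4) && decide (x.2 < 8)) = true) :
    val μ t L = ∑ j ∈ Finset.range 4, ∑ k ∈ Finset.range 8, (((T.getD j []).getD k 0 : ℕ) : K) * (μ ^ j * t k) := by
  subst hT
  unfold val
  rw [Finset.sum_list_map_count]
  rw [← Finset.sum_product']
  rw [Finset.sum_subset (s₂ := Finset.range 4 ×ˢ Finset.range 8)]
  · apply Finset.sum_congr rfl
    intro x hx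
    rw [Finset.mem_product, Finset.mem_range, Finset.mem_range] at hx
    rw [tab_getD L hx.1 hx.2, nsmul_eq_mul]
    rfl
  · intro x hx
    rw [List.mem_toFinset] at hx
    rw [List.all_eq_true] at hL
    have := hL x hx
    simp only [Bool.and_eq_true, decide_eq_true_eq] at this
    rw [Finset.mem_product, Finset.mem_range, Finset.mem_range]
    exact this
  · intro x _ hx
    rw [List.mem_toFinset] at hx
    rw [@List.count_eq_zero_of_not_mem _ instBEqOfDecidableEq _ _ _ hx, zero_smul]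

end Val

section RankOne

variable {K V : Type*} [Field K] [AddCommGroup V] [Module K V] [FiniteDimensional K V]

/-- Operators with image in a line. -/
theorem rank_one {E : Module.End K V} {W : Submodule K V} (hE : ∀ x, E x ∈ W) (hW : finrank K W = 1)
    (A B : Module.End K V) :
    LinearMap.trace K V (E * A) * LinearMap.trace K V (E * B) = LinearMap.trace K V (E * A * (E * B)) := by
  let L : W ≃ₗ[K] K := LinearEquiv.ofFinrankEq W K (by simp [hW])
  let φ : V →ₗ[K] K := L.toLinearMap ∘ₗ E.codRestrict W hE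
  let v : V := ((L.symm 1 : W) : V)
  have hEφ : ∀ x, E x = φ x • v := by
    intro x
    have h1 : (E.codRestrict W hE x : W) = L.symm (φ x) := by
      rw [LinearEquiv.eq_symm_apply]; rfl
    have h2 : (L.symm (φ x) : W) = φ x • L.symm 1 := by
      rw [← map_smul, smul_eq_mul, mul_one]
    have h3 := congrArg (fun w : W => (w : V)) (h1.trans h2)
    exact h3
  have h1 : ∀ C : Module.End K V, LinearMap.trace K V (E * C) = φ (C v) := by
    intro C
    have : E * C = (φ ∘ₗ C).smulRight v := by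
      ext x
      exact hEφ (C x)
    rw [this, LinearMap.trace_smulRight]
    rfl
  have h2 : LinearMap.trace K V (E * A * (E * B)) = φ (A v) * φ (B v) := by
    have : E * A * (E * B) = E * (A * E * B) := by simp only [mul_assoc]
    rw [this, h1]
    have : (A * E * B) v = φ (B v) • A v := by
      change A (E (B v)) = _
      rw [hEφ, map_smul]
    rw [this, map_smul, smul_eq_mul, mul_comm]
  rw [h2, h1, h1]

/-- The trace of an operator with image in a line on which it is a scalar. -/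
theorem rank_one_trace {E : Module.End K V} {W : Submodule K V} (hE : ∀ x, E x ∈ W) (hW : finrank K W = 1)
    {n : K} (hn : ∀ x ∈ W, E x = n • x) : LinearMap.trace K V E = n := by
  let L : W ≃ₗ[K] K := LinearEquiv.ofFinrankEq W K (by simp [hW])
  let φ : V →ₗ[K] K := L.toLinearMap ∘ₗ E.codRestrict W hE
  let v : V := ((L.symm 1 : W) : V)
  have hEφ : ∀ x, E x = φ x • v := by
    intro x
    have h1 : (E.codRestrict W hE x : W) = L.symm (φ x) := by
      rw [LinearEquiv.eq_symm_apply]; rfl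
    have h2 : (L.symm (φ x) : W) = φ x • L.symm 1 := by
      rw [← map_smul, smul_eq_mul, mul_one]
    have h3 := congrArg (fun w : W => (w : V)) (h1.trans h2)
    exact h3
  have hv : v ≠ 0 := by
    intro h0
    have : (L.symm 1 : W) = 0 := Subtype.ext h0
    rw [LinearEquiv.map_eq_zero_iff] at this
    exact one_ne_zero this
  have h1 : LinearMap.trace K V E = φ v := by
    have : E = φ.smulRight v := by
      ext x
      exact hEφ x
    rw [this, LinearMap.trace_smulRight]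
  rw [h1]
  have h2 := hEφ v
  rw [hn v (L.symm 1).2] at h2
  exact (smul_left_injective K hv h2).symm

end RankOne

end Cfsg.Agent.H4.F4Kill
end

-- part: H4/F4KillTab
section
/-!
# S5926, trace identities for `A₇`: the group `5:4` (helper4)
-/

set_option autoImplicit false

namespace Cfsg.Agent.H4.F4Kill

open Cfsg.Agent.H952.F4 Module Equiv

/-- [1, 2, 3, 4, 0, 5, 6] -/
def pz : Perm (Fin 7) := ⟨![1, 2, 3, 4, 0, 5, 6], ![4, 0, 1, 2, 3, 5, 6], by decide, by decide⟩

/-- [1, 2, 3, 4, 0, 5, 6] -/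
def z : A7 := ⟨pz, by rw [Perm.mem_alternatingGroup]; decide +kernel⟩

/-- [1, 3, 0, 2, 4, 6, 5] -/
def pc : Perm (Fin 7) := ⟨![1, 3, 0, 2, 4, 6, 5], ![2, 0, 3, 1, 4, 6, 5], by decide, by decide⟩

/-- [1, 3, 0, 2, 4, 6, 5] -/
def c : A7 := ⟨pc, by rw [Perm.mem_alternatingGroup]; decide +kernel⟩

/-- [3, 1, 2, 0, 6, 5, 4] -/
def pg0 : Perm (Fin 7) := ⟨![3, 1, 2, 0, 6, 5, 4], ![3, 1, 2, 0, 6, 5, 4], by decide, by decide⟩

/-- [3, 1, 2, 0, 6, 5, 4] -/
def g0 : A7 := ⟨pg0, by rw [Perm.mem_alternatingGroup]; decide +kernel⟩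

/-- [3, 0, 1, 4, 5, 6, 2] -/
def pg2 : Perm (Fin 7) := ⟨![3, 0, 1, 4, 5, 6, 2], ![1, 2, 6, 0, 3, 4, 5], by decide, by decide⟩

/-- [3, 0, 1, 4, 5, 6, 2] -/
def g2 : A7 := ⟨pg2, by rw [Perm.mem_alternatingGroup]; decide +kernel⟩

/-- [1, 0, 3, 2, 4, 5, 6] -/
def pg7 : Perm (Fin 7) := ⟨![1, 0, 3, 2, 4, 5, 6], ![1, 0, 3, 2, 4, 5, 6], by decide, by decide⟩

/-- [1, 0, 3, 2, 4, 5, 6] -/
def g7 : A7 := ⟨pg7, by rw [Perm.mem_alternatingGroup]; decide +kernel⟩

/-- [6, 0, 4, 3, 5, 2, 1] -/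
def pg3 : Perm (Fin 7) := ⟨![6, 0, 4, 3, 5, 2, 1], ![1, 6, 5, 3, 2, 4, 0], by decide, by decide⟩

/-- [6, 0, 4, 3, 5, 2, 1] -/
def g3 : A7 := ⟨pg3, by rw [Perm.mem_alternatingGroup]; decide +kernel⟩

theorem z5 : z ^ 5 = 1 := by decide +kernel

theorem c4 : c ^ 4 = 1 := by decide +kernel

theorem cz : c * z = z ^ 2 * c := by decide +kernel

/-- The elements of `5:4`. -/
def BL : List (ℕ × A7) := (List.range 4).flatMap fun b => (List.range 5).map fun a => (b, z ^ a * c ^ b)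

/-- The codes of the elements of `5:4`. -/
def BC : List (ℕ × List ℕ) :=
  [(0, [0, 1, 2, 3, 4, 5, 6]),
   (0, [1, 2, 3, 4, 0, 5, 6]),
   (0, [2, 3, 4, 0, 1, 5, 6]),
   (0, [3, 4, 0, 1, 2, 5, 6]),
   (0, [4, 0, 1, 2, 3, 5, 6]),
   (1, [1, 3, 0, 2, 4, 6, 5]),
   (1, [2, 4, 1, 3, 0, 6, 5]),
   (1, [3, 0, 2, 4, 1, 6, 5]),
   (1, [4, 1, 3, 0, 2, 6, 5]),
   (1, [0, 2, 4, 1, 3, 6, 5]),
   (2, [3, 2, 1, 0, 4, 5, 6]),
   (2, [4, 3, 2, 1, 0, 5, 6]),
   (2, [0, 4, 3, 2, 1, 5, 6]),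
   (2, [1, 0, 4, 3, 2, 5, 6]),
   (2, [2, 1, 0, 4, 3, 5, 6]),
   (3, [2, 0, 3, 1, 4, 6, 5]),
   (3, [3, 1, 4, 2, 0, 6, 5]),
   (3, [4, 2, 0, 3, 1, 6, 5]),
   (3, [0, 3, 1, 4, 2, 6, 5]),
   (3, [1, 4, 2, 0, 3, 6, 5])]

theorem BC_eq : BL.map (fun x => (x.1, code (x.2 : Perm (Fin 7)))) = BC := by decide +kernel

/-- Classes in `B q`. -/
def S1 (q : List ℕ) : List (ℕ × ℕ) := BC.map fun x => (x.1, cl (comp x.2 q))

/-- Classes in `B q B r`. -/
def S2 (q r : List ℕ) : List (ℕ × ℕ) :=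
  BC.flatMap fun x => BC.map fun y => ((x.1 + y.1) % 4, cl (comp (comp x.2 q) (comp y.2 r)))

private noncomputable def nth (d : ℕ) (l : List ℕ) : ℕ → ℕ :=
  List.rec (fun _ => d) (fun x _ ih i => Nat.rec x (fun j _ => ih j) i) l

private theorem nth_eq (d : ℕ) : ∀ (l : List ℕ) (i : ℕ), l.getD i d = nth d l i
  | [], _ => rfl
  | _ :: _, 0 => rfl
  | _ :: l, i + 1 => nth_eq d l i

private theorem getD_eq : @List.getD ℕ = fun l i d => nth d l i :=
  funext fun l => funext fun i => funext fun d => nth_eq d l i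

private noncomputable def cnF (L : List (ℕ × ℕ)) (x : ℕ × ℕ) : ℕ :=
  List.rec 0 (fun a _ ih => Bool.rec ih (Bool.rec ih (Nat.succ ih) (Nat.beq a.2 x.2)) (Nat.beq a.1 x.1)) L

private theorem cnt_eq : cnt = cnF := by
  funext L x
  delta cnt
  induction L with
  | nil => rfl
  | cons a L ih =>
    rw [@List.count_cons _ instBEqOfDecidableEq, ih]
    show _ = @Bool.rec (fun _ => ℕ) (cnF L x)
      (@Bool.rec (fun _ => ℕ) (cnF L x) (Nat.succ (cnF L x)) (Nat.beq a.2 x.2)) (Nat.beq a.1 x.1)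
    cases h1 : Nat.beq a.1 x.1
    · exact congrArg _ (if_neg fun h => Nat.ne_of_beq_eq_false h1 (congrArg Prod.fst (of_decide_eq_true h)))
    · cases h2 : Nat.beq a.2 x.2
      · exact congrArg _ (if_neg fun h => Nat.ne_of_beq_eq_false h2 (congrArg Prod.snd (of_decide_eq_true h)))
      · exact congrArg _ (if_pos (decide_eq_true (Prod.ext (Nat.eq_of_beq_eq_true h1) (Nat.eq_of_beq_eq_true h2))))

private theorem cl_lt (p : List ℕ) : cl p < 8 := by
  delta cl
  split <;> first | (split_ifs <;> decide) | decide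

private theorem S2_lt (q r : List ℕ) : (S2 q r).all (fun x => decide (x.1 < 4) && decide (x.2 < 8)) = true := by
  refine List.all_eq_true.2 fun z hz => ?_
  obtain ⟨x, -, hx⟩ := List.mem_flatMap.1 hz
  obtain ⟨y, -, rfl⟩ := List.mem_map.1 hx
  rw [decide_eq_true (Nat.mod_lt _ (by decide)), decide_eq_true (cl_lt _)]
  rfl

theorem tab1_1 : tab (S1 [0, 1, 2, 3, 4, 5, 6]) =
    [[1, 0, 0, 0, 0, 0, 4, 0], [0, 0, 0, 0, 5, 0, 0, 0], [0, 5, 0, 0, 0, 0, 0, 0], [0, 0, 0, 0, 5, 0, 0, 0]] := by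
  delta tab S1 cl fx comp
  rewrite [cnt_eq, getD_eq]
  decide +kernel

theorem tab1_g0 : tab (S1 [3, 1, 2, 0, 6, 5, 4]) =
    [[0, 1, 0, 2, 0, 0, 2, 0], [0, 0, 0, 0, 0, 1, 2, 2], [0, 1, 0, 2, 0, 0, 2, 0], [0, 0, 0, 0, 0, 1, 2, 2]] := by
  delta tab S1 cl fx comp
  rewrite [cnt_eq, getD_eq]
  decide +kernel

theorem tab1_g7 : tab (S1 [1, 0, 3, 2, 4, 5, 6]) =
    [[0, 1, 2, 0, 0, 0, 2, 0], [0, 1, 0, 0, 2, 2, 0, 0], [0, 1, 2, 0, 0, 0, 2, 0], [0, 1, 0, 0, 2, 2, 0, 0]] := by
  delta tab S1 cl fx comp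
  rewrite [cnt_eq, getD_eq]
  decide +kernel

theorem tab1_g3 : tab (S1 [6, 0, 4, 3, 5, 2, 1]) =
    [[0, 0, 0, 2, 1, 2, 0, 0], [0, 0, 0, 1, 2, 0, 0, 2], [0, 1, 0, 0, 0, 0, 0, 4], [0, 0, 0, 1, 2, 0, 0, 2]] := by
  delta tab S1 cl fx comp
  rewrite [cnt_eq, getD_eq]
  decide +kernel

theorem tab2_g0g0 : tab (S2 [3, 1, 2, 0, 6, 5, 4] [3, 1, 2, 0, 6, 5, 4]) =
    [[2, 8, 0, 16, 32, 2, 24, 16], [0, 0, 0, 0, 20, 16, 32, 32], [0, 18, 2, 24, 0, 8, 24, 24], [0, 0, 0, 0, 20, 16, 32, 32]] := by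
  delta tab S2 cl fx comp
  rewrite [cnt_eq, getD_eq]
  (refine of_decide_eq_true ?_; (try (rewrite [Cfsg.Agent.LsF.nadd_pat, Cfsg.Agent.LsF.nmod_pat, Cfsg.Agent.LsF.nbeq_pat, Cfsg.Agent.LsF.instDecEq_eq, Cfsg.Agent.LsF.map_eq, Cfsg.Agent.LsF.flatMap_eq, Cfsg.Agent.LsF.range_eq, Cfsg.Agent.LsF.countP_eq, Cfsg.Agent.LsF.dListEq_eq, Cfsg.Agent.LsF.ite_eq, Cfsg.Agent.LsF.decide_eq])); decide +kernel)

theorem tab2_g0g2 : tab (S2 [3, 1, 2, 0, 6, 5, 4] [3, 0, 1, 4, 5, 6, 2]) =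
    [[0, 4, 2, 12, 28, 10, 12, 32], [0, 8, 6, 6, 28, 2, 26, 24], [0, 4, 2, 12, 28, 10, 12, 32], [0, 4, 8, 14, 24, 8, 26, 16]] := by
  delta tab S2 cl fx comp
  rewrite [cnt_eq, getD_eq]
  (refine of_decide_eq_true ?_; (try (rewrite [Cfsg.Agent.LsF.nadd_pat, Cfsg.Agent.LsF.nmod_pat, Cfsg.Agent.LsF.nbeq_pat, Cfsg.Agent.LsF.instDecEq_eq, Cfsg.Agent.LsF.map_eq, Cfsg.Agent.LsF.flatMap_eq, Cfsg.Agent.LsF.range_eq, Cfsg.Agent.LsF.countP_eq, Cfsg.Agent.LsF.dListEq_eq, Cfsg.Agent.LsF.ite_eq, Cfsg.Agent.LsF.decide_eq])); decide +kernel)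

theorem tab2_g7g7 : tab (S2 [1, 0, 3, 2, 4, 5, 6] [1, 0, 3, 2, 4, 5, 6]) =
    [[2, 26, 32, 0, 0, 0, 40, 0], [0, 16, 0, 0, 52, 32, 0, 0], [2, 26, 32, 0, 0, 0, 40, 0], [0, 16, 0, 0, 52, 32, 0, 0]] := by
  delta tab S2 cl fx comp
  rewrite [cnt_eq, getD_eq]
  (refine of_decide_eq_true ?_; (try (rewrite [Cfsg.Agent.LsF.nadd_pat, Cfsg.Agent.LsF.nmod_pat, Cfsg.Agent.LsF.nbeq_pat, Cfsg.Agent.LsF.instDecEq_eq, Cfsg.Agent.LsF.map_eq, Cfsg.Agent.LsF.flatMap_eq, Cfsg.Agent.LsF.range_eq, Cfsg.Agent.LsF.countP_eq, Cfsg.Agent.LsF.dListEq_eq, Cfsg.Agent.LsF.ite_eq, Cfsg.Agent.LsF.decide_eq])); decide +kernel)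

theorem tab2_g3g3 : tab (S2 [6, 0, 4, 3, 5, 2, 1] [6, 0, 4, 3, 5, 2, 1]) =
    [[1, 1, 6, 18, 24, 10, 20, 20], [0, 6, 4, 16, 26, 4, 20, 24], [0, 14, 0, 6, 28, 4, 20, 28], [0, 6, 4, 16, 26, 4, 20, 24]] := by
  delta tab S2 cl fx comp
  rewrite [cnt_eq, getD_eq]
  (refine of_decide_eq_true ?_; (try (rewrite [Cfsg.Agent.LsF.nadd_pat, Cfsg.Agent.LsF.nmod_pat, Cfsg.Agent.LsF.nbeq_pat, Cfsg.Agent.LsF.instDecEq_eq, Cfsg.Agent.LsF.map_eq, Cfsg.Agent.LsF.flatMap_eq, Cfsg.Agent.LsF.range_eq, Cfsg.Agent.LsF.countP_eq, Cfsg.Agent.LsF.dListEq_eq, Cfsg.Agent.LsF.ite_eq, Cfsg.Agent.LsF.decide_eq])); decide +kernel)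

end Cfsg.Agent.H4.F4Kill
end

-- part: H4/F4KillOne
section
/-!
# S5926, trace identities for `A₇`: characters of `5:4` that occur once (helper4)
-/

set_option autoImplicit false

namespace Cfsg.Agent.H4.F4Kill

open Cfsg.Agent.H952.F4 Module Equiv

section Sum

variable {K V : Type*} [Field K] [AddCommGroup V] [Module K V]
  (ρ : Representation K A7 V)

/-- `20` times the idempotent of the character `λ` with `λ(c) = μ⁻¹`. -/
noncomputable def EE (μ : K) : Module.End K V := (BL.map fun x => μ ^ x.1 • (ρ x.2 : Module.End K V)).sum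

theorem tr_list {ι : Type*} (l : List ι) (f : ι → Module.End K V) :
    LinearMap.trace K V (l.map f).sum = (l.map fun x => LinearMap.trace K V (f x)).sum := by
  rw [map_list_sum, List.map_map]
  rfl

theorem sum_fm {ι M : Type*} [AddCommMonoid M] (l : List ι) (f : ι → List M) :
    (l.flatMap f).sum = (l.map fun x => (f x).sum).sum := by
  induction l with
  | nil => rfl
  | cons a l ih => rw [List.flatMap_cons, List.sum_append, List.map_cons, List.sum_cons, ih]

variable {ρ}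

theorem tr_EE1 {t : ℕ → K} (ht : Tr ρ (t 0) (t 1) (t 2) (t 3) (t 4) (t 5) (t 6) (t 7)) (μ : K) (g : A7) :
    LinearMap.trace K V (EE ρ μ * ρ g) = val μ t (S1 (code (g : Perm (Fin 7)))) := by
  unfold EE val S1
  rw [← BC_eq, List.map_map, List.map_map, ← List.sum_map_mul_right, tr_list]
  congr 1
  apply List.map_congr_left
  intro x _
  rw [smul_mul_assoc, ← map_mul, map_smul, tr_code ρ ht, smul_eq_mul]
  simp only [Function.comp_apply, Subgroup.coe_mul, code_mul]

theorem tr_EE2 {t : ℕ → K} (ht : Tr ρ (t 0) (t 1) (t 2) (t 3) (t 4) (t 5) (t 6) (t 7)) {μ : K} (hμ : μ ^ 4 = 1)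
    (g h : A7) :
    LinearMap.trace K V (EE ρ μ * ρ g * (EE ρ μ * ρ h)) =
      val μ t (S2 (code (g : Perm (Fin 7))) (code (h : Perm (Fin 7)))) := by
  have h1 : ∀ k : A7, EE ρ μ * ρ k = (BL.map fun x => μ ^ x.1 • (ρ (x.2 * k) : Module.End K V)).sum := by
    intro k
    unfold EE
    rw [← List.sum_map_mul_right]
    congr 1
    apply List.map_congr_left
    intro x _
    rw [smul_mul_assoc, ← map_mul]
  rw [h1, h1, ← List.sum_map_mul_right, tr_list]
  unfold val S2
  rw [← BC_eq, List.map_flatMap, List.flatMap_map, sum_fm]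
  congr 1
  apply List.map_congr_left
  intro x _
  rw [← List.sum_map_mul_left, tr_list, List.map_map, List.map_map]
  congr 1
  apply List.map_congr_left
  intro y _
  rw [smul_mul_assoc, mul_smul_comm, smul_smul, ← map_mul, map_smul, tr_code ρ ht, smul_eq_mul, ← pow_add]
  simp only [Function.comp_apply, Subgroup.coe_mul, code_mul]
  congr 1
  conv_lhs => rw [← Nat.div_add_mod (x.1 + y.1) 4, pow_add, pow_mul, hμ, one_pow, one_mul]

/-- The image of `EE` lies in the eigenspace. -/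
theorem EE_mem {μ l : K} (hμ : μ ^ 4 = 1) (hl : l * μ = 1) (v : V) :
    EE ρ μ v ∈ es (ρ z) 1 ⊓ es (ρ c) l := by
  have hZ : (ρ z : Module.End K V) ^ 5 = 1 := by rw [← map_pow, z5, map_one]
  have hC : (ρ c : Module.End K V) ^ 4 = 1 := by rw [← map_pow, c4, map_one]
  have hCZ : (ρ c : Module.End K V) * ρ z = ρ z ^ 2 * ρ c := by rw [← map_pow, ← map_mul, ← map_mul, cz]
  set Z : Module.End K V := ρ z with hZd
  set C : Module.End K V := ρ c with hCd
  have hE : EE ρ μ = (1 + Z + Z ^ 2 + Z ^ 3 + Z ^ 4) * (1 + μ • C + μ ^ 2 • C ^ 2 + μ ^ 3 • C ^ 3) := by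
    unfold EE BL
    rw [List.map_flatMap, sum_fm]
    rw [show List.range 4 = [0, 1, 2, 3] from rfl, show List.range 5 = [0, 1, 2, 3, 4] from rfl]
    simp only [List.map_cons, List.map_nil, List.sum_cons, List.sum_nil, map_mul, map_pow, pow_zero, pow_one,
      one_smul, mul_one, one_mul, ← hZd, ← hCd, add_zero, mul_add, add_mul, mul_smul_comm, smul_add]
    abel
  have h1 : Z * (1 + Z + Z ^ 2 + Z ^ 3 + Z ^ 4) = 1 + Z + Z ^ 2 + Z ^ 3 + Z ^ 4 := by
    have : Z * (1 + Z + Z ^ 2 + Z ^ 3 + Z ^ 4) = Z + Z ^ 2 + Z ^ 3 + Z ^ 4 + Z ^ 5 := by noncomm_ring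
    rw [this, hZ]
    abel
  have hCZ2 : C * Z ^ 2 = Z ^ 4 * C := by
    rw [pow_two, ← mul_assoc, hCZ, mul_assoc, hCZ, ← mul_assoc, ← pow_add]
  have hCZ3 : C * Z ^ 3 = Z * C := by
    rw [pow_succ, ← mul_assoc, hCZ2, mul_assoc, hCZ, ← mul_assoc, ← pow_add, pow_succ' Z 5, hZ, mul_one]
  have hCZ4 : C * Z ^ 4 = Z ^ 3 * C := by
    rw [pow_succ, ← mul_assoc, hCZ3, mul_assoc, hCZ, ← mul_assoc, ← pow_succ']
  have h2 : C * (1 + Z + Z ^ 2 + Z ^ 3 + Z ^ 4) = (1 + Z + Z ^ 2 + Z ^ 3 + Z ^ 4) * C := by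
    simp only [mul_add, add_mul, hCZ, hCZ2, hCZ3, hCZ4, mul_one, one_mul]
    abel
  have hl3 : l = μ ^ 3 := by
    have : l * μ ^ 4 = μ ^ 3 := by rw [pow_succ' μ 3, ← mul_assoc, hl, one_mul]
    rw [hμ, mul_one] at this
    exact this
  have h3 : C * (1 + μ • C + μ ^ 2 • C ^ 2 + μ ^ 3 • C ^ 3) =
      l • (1 + μ • C + μ ^ 2 • C ^ 2 + μ ^ 3 • C ^ 3) := by
    have l2 : l * μ ^ 2 = μ := by rw [pow_two, ← mul_assoc, hl, one_mul]
    have l3 : l * μ ^ 3 = μ ^ 2 := by rw [pow_succ' μ 2, ← mul_assoc, hl, one_mul]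
    simp only [mul_add, smul_add, smul_smul, mul_smul_comm, mul_one, l2, l3, hl, one_smul]
    rw [← pow_two, ← pow_succ', ← pow_succ', hC, hl3]
    abel
  rw [Submodule.mem_inf]
  refine ⟨?_, ?_⟩
  · change EE ρ μ v ∈ Module.End.eigenspace Z 1
    rw [Module.End.mem_eigenspace_iff, one_smul, hE]
    change (Z * (_ * _)) v = _
    rw [← mul_assoc, h1]
  · change EE ρ μ v ∈ Module.End.eigenspace C l
    rw [Module.End.mem_eigenspace_iff, hE]
    change (C * (_ * _)) v = _
    rw [← mul_assoc, h2, mul_assoc, h3, mul_smul_comm]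
    rfl

/-- `EE` is a scalar on the eigenspace. -/
theorem EE_scalar {μ l : K} (hl : l * μ = 1) (v : V) (hv : v ∈ es (ρ z) 1 ⊓ es (ρ c) l) :
    EE ρ μ v = (20 : K) • v := by
  rw [Submodule.mem_inf] at hv
  have h1 : ρ z v = v := by
    have := (Module.End.mem_eigenspace_iff.mp (show v ∈ Module.End.eigenspace (ρ z) 1 from hv.1))
    rwa [one_smul] at this
  have h2 : ρ c v = l • v := Module.End.mem_eigenspace_iff.mp (show v ∈ Module.End.eigenspace (ρ c) l from hv.2)
  have h3 : ∀ b : ℕ, ρ (c ^ b) v = l ^ b • v := by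
    intro b
    induction b with
    | zero => simp
    | succ b ih =>
      rw [pow_succ', map_mul, Module.End.mul_apply, ih, map_smul, h2, smul_smul, ← pow_succ]
  have h4 : ∀ (a : ℕ) , ρ (z ^ a) v = v := by
    intro a
    induction a with
    | zero => simp
    | succ a ih => rw [pow_succ', map_mul, Module.End.mul_apply, ih, h1]
  have h5 : ∀ a b : ℕ, (μ ^ b • (ρ (z ^ a * c ^ b) : Module.End K V)) v = v := by
    intro a b
    rw [LinearMap.smul_apply, map_mul, Module.End.mul_apply, h3, map_smul, h4, smul_smul, ← mul_pow, mul_comm μ l, hl,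
      one_pow, one_smul]
  unfold EE BL
  rw [List.map_flatMap, sum_fm]
  rw [show List.range 4 = [0, 1, 2, 3] from rfl, show List.range 5 = [0, 1, 2, 3, 4] from rfl]
  simp only [List.map_cons, List.map_nil, List.sum_cons, List.sum_nil, LinearMap.add_apply, LinearMap.zero_apply, h5,
    add_zero]
  module

end Sum

end Cfsg.Agent.H4.F4Kill
end

-- part: H4/F4KillB
section
/-!
# S5926, B2: the characters of `5:4` of order 2 and 4 occur once (helper4)

`Cfsg.Agent.H952.F4.Kill.rel_one`.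
-/

set_option autoImplicit false

namespace Cfsg.Agent.H4.F4Kill

open Cfsg.Agent.H952.F4 Module Equiv

theorem code_g0 : code (g0 : Perm (Fin 7)) = [3, 1, 2, 0, 6, 5, 4] := by decide
theorem code_g2 : code (g2 : Perm (Fin 7)) = [3, 0, 1, 4, 5, 6, 2] := by decide
theorem code_g7 : code (g7 : Perm (Fin 7)) = [1, 0, 3, 2, 4, 5, 6] := by decide
theorem code_g3 : code (g3 : Perm (Fin 7)) = [6, 0, 4, 3, 5, 2, 1] := by decide

section Val

variable {K : Type*} [CommRing K]

theorem vi_g0 (t : ℕ → K) {μ : K} (h : μ * μ = -1) : val μ t (S1 [3, 1, 2, 0, 6, 5, 4]) =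
    0 := by
  rw [val_eq μ t tab1_g0 (by decide +kernel)]
  simp [Finset.sum_range_succ]
  linear_combination ((t 1 + 2 * t 3 + 2 * t 6) + μ * (t 5 + 2 * t 6 + 2 * t 7)) * h

theorem vi_g0g0 (t : ℕ → K) {μ : K} (h : μ * μ = -1) : val μ t (S2 [3, 1, 2, 0, 6, 5, 4] [3, 1, 2, 0, 6, 5, 4]) =
    2 * t 0 - 10 * t 1 - 2 * t 2 - 8 * t 3 + 32 * t 4 - 6 * t 5 - 8 * t 7 := by
  rw [val_eq μ t tab2_g0g0 (S2_lt _ _)]
  simp [Finset.sum_range_succ]
  linear_combination ((18 * t 1 + 2 * t 2 + 24 * t 3 + 8 * t 5 + 24 * t 6 + 24 * t 7) + μ * (20 * t 4 + 16 * t 5 + 32 * t 6 + 32 * t 7)) * h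

theorem vi_g0g2 (t : ℕ → K) {μ : K} (h : μ * μ = -1) : val μ t (S2 [3, 1, 2, 0, 6, 5, 4] [3, 0, 1, 4, 5, 6, 2]) =
    μ * (4 * t 1 - 2 * t 2 - 8 * t 3 + 4 * t 4 - 6 * t 5 + 8 * t 7) := by
  rw [val_eq μ t tab2_g0g2 (S2_lt _ _)]
  simp [Finset.sum_range_succ]
  linear_combination ((4 * t 1 + 2 * t 2 + 12 * t 3 + 28 * t 4 + 10 * t 5 + 12 * t 6 + 32 * t 7) + μ * (4 * t 1 + 8 * t 2 + 14 * t 3 + 24 * t 4 + 8 * t 5 + 26 * t 6 + 16 * t 7)) * h

theorem vm_1 (t : ℕ → K) : val (-1) t (S1 [0, 1, 2, 3, 4, 5, 6]) =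
    t 0 + 5 * t 1 - 10 * t 4 + 4 * t 6 := by
  rw [val_eq (-1) t tab1_1 (by decide +kernel)]
  simp [Finset.sum_range_succ]
  ring

theorem vm_g0 (t : ℕ → K) : val (-1) t (S1 [3, 1, 2, 0, 6, 5, 4]) =
    2 * t 1 + 4 * t 3 - 2 * t 5 - 4 * t 7 := by
  rw [val_eq (-1) t tab1_g0 (by decide +kernel)]
  simp [Finset.sum_range_succ]
  ring

theorem vm_g0g0 (t : ℕ → K) : val (-1) t (S2 [3, 1, 2, 0, 6, 5, 4] [3, 1, 2, 0, 6, 5, 4]) =
    2 * t 0 + 26 * t 1 + 2 * t 2 + 40 * t 3 - 8 * t 4 - 22 * t 5 - 16 * t 6 - 24 * t 7 := by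
  rw [val_eq (-1) t tab2_g0g0 (S2_lt _ _)]
  simp [Finset.sum_range_succ]
  ring

theorem vm_g7 (t : ℕ → K) : val (-1) t (S1 [1, 0, 3, 2, 4, 5, 6]) =
    4 * t 2 - 4 * t 4 - 4 * t 5 + 4 * t 6 := by
  rw [val_eq (-1) t tab1_g7 (by decide +kernel)]
  simp [Finset.sum_range_succ]
  ring

theorem vm_g7g7 (t : ℕ → K) : val (-1) t (S2 [1, 0, 3, 2, 4, 5, 6] [1, 0, 3, 2, 4, 5, 6]) =
    4 * t 0 + 20 * t 1 + 64 * t 2 - 104 * t 4 - 64 * t 5 + 80 * t 6 := by
  rw [val_eq (-1) t tab2_g7g7 (S2_lt _ _)]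
  simp [Finset.sum_range_succ]
  ring

theorem vm_g3 (t : ℕ → K) : val (-1) t (S1 [6, 0, 4, 3, 5, 2, 1]) =
    t 1 - 3 * t 4 + 2 * t 5 := by
  rw [val_eq (-1) t tab1_g3 (by decide +kernel)]
  simp [Finset.sum_range_succ]
  ring

theorem vm_g3g3 (t : ℕ → K) : val (-1) t (S2 [6, 0, 4, 3, 5, 2, 1] [6, 0, 4, 3, 5, 2, 1]) =
    t 0 + 3 * t 1 - 2 * t 2 - 8 * t 3 + 6 * t 5 := by
  rw [val_eq (-1) t tab2_g3g3 (S2_lt _ _)]
  simp [Finset.sum_range_succ]
  ring

end Val

section Rel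

variable {K V : Type*} [Field K] [AddCommGroup V] [Module K V] [FiniteDimensional K V]
  {ρ : Representation K A7 V}

theorem rel_mul {t : ℕ → K} (ht : Tr ρ (t 0) (t 1) (t 2) (t 3) (t 4) (t 5) (t 6) (t 7)) {μ l : K} (hμ : μ ^ 4 = 1)
    (hl : l * μ = 1) (hW : finrank K ↥(es (ρ z) 1 ⊓ es (ρ c) l) = 1) (g h : A7) :
    val μ t (S1 (code (g : Perm (Fin 7)))) * val μ t (S1 (code (h : Perm (Fin 7)))) =
      val μ t (S2 (code (g : Perm (Fin 7))) (code (h : Perm (Fin 7)))) := by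
  rw [← tr_EE1 ht, ← tr_EE1 ht, ← tr_EE2 ht hμ]
  exact rank_one (EE_mem hμ hl) hW _ _

theorem rel_tr {t : ℕ → K} (ht : Tr ρ (t 0) (t 1) (t 2) (t 3) (t 4) (t 5) (t 6) (t 7)) {μ l : K} (hμ : μ ^ 4 = 1)
    (hl : l * μ = 1) (hW : finrank K ↥(es (ρ z) 1 ⊓ es (ρ c) l) = 1) :
    val μ t (S1 [0, 1, 2, 3, 4, 5, 6]) = 20 := by
  have h := tr_EE1 ht μ 1
  rw [map_one, mul_one, rank_one_trace (EE_mem hμ hl) hW (EE_scalar hl)] at h
  rw [h]
  rfl

/-- The first two relations. -/
theorem rel_i {t : ℕ → K} (ht : Tr ρ (t 0) (t 1) (t 2) (t 3) (t 4) (t 5) (t 6) (t 7)) (h2 : (2 : K) ≠ 0)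
    {i : K} (hi : i * i = -1) (hW : finrank K ↥(es (ρ z) 1 ⊓ es (ρ c) i) = 1) :
    (t 0 - 5 * t 1 - t 2 - 4 * t 3 + 16 * t 4 - 3 * t 5 - 4 * t 7 = 0) ∧
    (2 * t 1 - t 2 - 4 * t 3 + 2 * t 4 - 3 * t 5 + 4 * t 7 = 0) := by
  have hμ : (-i) ^ 4 = 1 := by linear_combination (i * i - 1) * hi
  have hl : i * (-i) = 1 := by linear_combination - hi
  have hmi : (-i) * (-i) = -1 := by linear_combination hi
  have hi0 : -i ≠ 0 := by
    intro h
    rw [h] at hmi
    simp at hmi
  have r1 := rel_mul ht hμ hl hW g0 g0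
  have r2 := rel_mul ht hμ hl hW g0 g2
  rw [code_g0, vi_g0 t hmi, vi_g0g0 t hmi] at r1
  rw [code_g0, code_g2, vi_g0 t hmi, vi_g0g2 t hmi] at r2
  constructor
  · apply (mul_eq_zero_iff_left h2).mp
    linear_combination - r1
  · apply (mul_eq_zero_iff_left h2).mp
    apply (mul_eq_zero_iff_left hi0).mp
    linear_combination - r2

/-- The last three relations. -/
theorem rel_m {t : ℕ → K} (ht : Tr ρ (t 0) (t 1) (t 2) (t 3) (t 4) (t 5) (t 6) (t 7))
    (hW : finrank K ↥(es (ρ z) 1 ⊓ es (ρ c) (-1)) = 1) :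
    ((4 * (t 2 - t 5 - t 4 + t 6)) ^ 2 = 16 * (4 * (t 2 - t 5 - t 4 + t 6)) + 80) ∧
    ((2 * t 1 - 2 * t 5 + 4 * t 3 - 4 * t 7) ^ 2 = 8 * (2 * t 1 - 2 * t 5 + 4 * t 3 - 4 * t 7) -
      8 * (t 5 - t 3 - t 4 + t 6) + 2 * (t 2 + 2 * t 4 + t 5 - 8 * t 6 + 4 * t 7) + 40) ∧
    ((t 1 - 3 * t 4 + 2 * t 5) ^ 2 = -2 * (2 * t 1 - 2 * t 5 + 4 * t 3 - 4 * t 7) -
      2 * (-t 1 - t 2 + t 3 - 2 * t 4 - t 6 + 4 * t 7) - 2 * (t 5 - t 3 - t 4 + t 6) -
      4 * (t 2 - t 5 - t 4 + t 6) + 20) := by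
  have hμ : (-1 : K) ^ 4 = 1 := by norm_num
  have hl : (-1 : K) * (-1) = 1 := by norm_num
  have r0 := rel_tr ht hμ hl hW
  have r1 := rel_mul ht hμ hl hW g7 g7
  have r2 := rel_mul ht hμ hl hW g0 g0
  have r3 := rel_mul ht hμ hl hW g3 g3
  rw [vm_1] at r0
  rw [code_g7, vm_g7, vm_g7g7] at r1
  rw [code_g0, vm_g0, vm_g0g0] at r2
  rw [code_g3, vm_g3, vm_g3g3] at r3
  refine ⟨?_, ?_, ?_⟩
  · linear_combination r1 + 4 * r0
  · linear_combination r2 + 2 * r0
  · linear_combination r3 + r0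

theorem enum' (g : A7) (m : Multiset ℕ) (hm : m = (g : Perm (Fin 7)).cycleType) :
    m = 0 ∨ m = {3} ∨ m = {2, 2} ∨ m = {5} ∨ m = {4, 2} ∨ m = {3, 3} ∨ m = {7} ∨ m = {3, 2, 2} := by
  subst hm
  have hsgn : Perm.sign (g : Perm (Fin 7)) = 1 := Perm.mem_alternatingGroup.mp g.2
  have hfx := fx_code (g : Perm (Fin 7))
  have hev : Even ((g : Perm (Fin 7)).cycleType.sum + Multiset.card (g : Perm (Fin 7)).cycleType) := by
    rw [Perm.sign_of_cycleType] at hsgn
    by_contra hodd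
    rw [Nat.not_even_iff_odd] at hodd
    rw [hodd.neg_one_pow] at hsgn
    exact absurd hsgn (by decide)
  exact enum _ (fun n hn => Perm.two_le_of_mem_cycleType hn) (by omega) hev

theorem ct_z : (z : Perm (Fin 7)).cycleType = {5} := by
  have hfx := fx_code (z : Perm (Fin 7))
  rw [show fx (code (z : Perm (Fin 7))) = 2 by decide] at hfx
  rcases enum' z _ rfl with h | h | h | h | h | h | h | h
  all_goals first | exact h | (exfalso; rw [h] at hfx; revert hfx; decide)

theorem ct_c : (c : Perm (Fin 7)).cycleType = {4, 2} := by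
  have hfx := fx_code (c : Perm (Fin 7))
  rw [show fx (code (c : Perm (Fin 7))) = 1 by decide] at hfx
  have h3 := pow3_iff (c : Perm (Fin 7))
  rcases enum' c _ rfl with h | h | h | h | h | h | h | h
  all_goals first | exact h | (exfalso; rw [h] at hfx; revert hfx; decide) | skip
  exfalso
  rw [h] at h3
  exact absurd (h3.mpr (by decide)) (by decide)

end Rel

end Cfsg.Agent.H4.F4Kill

namespace Cfsg.Agent.H952.F4.Kill

open Cfsg.Agent.H952.F4 Cfsg.Agent.H4.F4Kill Module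

variable {K V : Type*} [Field K] [IsAlgClosed K] [AddCommGroup V] [Module K V] [FiniteDimensional K V]
  (ρ : Representation K ↥(alternatingGroup (Fin 7)) V)

/-- B2: the characters of `5:4` of order 2 and 4 occur once -/
theorem rel_one {t1 t2 t3 t33 t4 t6 t5 t7 : K} (ht : Tr ρ t1 t2 t3 t33 t4 t6 t5 t7) (h2 : (2 : K) ≠ 0)
    (h5 : (5 : K) ≠ 0) {i : K} (hi : i * i = -1)
    (hz : ∀ g : ↥(alternatingGroup (Fin 7)), (g : Equiv.Perm (Fin 7)).cycleType = {5} → ev (ρ g) 1 = 7)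
    (hc : ∀ g : ↥(alternatingGroup (Fin 7)), (g : Equiv.Perm (Fin 7)).cycleType = {4, 2} →
      ev (ρ g) (-1) = 6 ∧ ev (ρ g) i = 6)
    (hd : finrank K V = 27) :
    (t1 - 5 * t2 - t3 - 4 * t33 + 16 * t4 - 3 * t6 - 4 * t7 = 0) ∧
    (2 * t2 - t3 - 4 * t33 + 2 * t4 - 3 * t6 + 4 * t7 = 0) ∧
    ((4 * (t3 - t6 - t4 + t5)) ^ 2 = 16 * (4 * (t3 - t6 - t4 + t5)) + 80) ∧
    ((2 * t2 - 2 * t6 + 4 * t33 - 4 * t7) ^ 2 = 8 * (2 * t2 - 2 * t6 + 4 * t33 - 4 * t7) -
      8 * (t6 - t33 - t4 + t5) + 2 * (t3 + 2 * t4 + t6 - 8 * t5 + 4 * t7) + 40) ∧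
    ((t2 - 3 * t4 + 2 * t6) ^ 2 = -2 * (2 * t2 - 2 * t6 + 4 * t33 - 4 * t7) -
      2 * (-t2 - t3 + t33 - 2 * t4 - t5 + 4 * t7) - 2 * (t6 - t33 - t4 + t5) -
      4 * (t3 - t6 - t4 + t5) + 20) := by
  have hfr : ∀ {μ : K}, μ ^ 4 = 1 → ev (ρ c) μ = 6 → finrank K ↥(es (ρ z) 1 ⊓ es (ρ c) μ) = 1 := by
    intro μ hμ hev
    have h := Eig.frob ρ (m := 5) (by norm_num) (by exact_mod_cast h5) (z := z) (y := c) (a := 2) (k := 4)
      Cfsg.Agent.H4.F4Kill.z5
      (by rw [cz, mul_assoc, mul_inv_cancel, mul_one])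
      ((orderOf_eq_iff (by norm_num)).mpr ⟨by decide, fun n h1 h2 => by interval_cases n <;> decide⟩)
      (by norm_num) c4 hμ
    rw [hev, hz z ct_z, hd] at h
    omega
  have hm1 := hfr (μ := -1) (by norm_num) (hc c ct_c).1
  have hi1 := hfr (μ := i) (by linear_combination (i * i - 1) * hi) (hc c ct_c).2
  let t : ℕ → K := fun n => [t1, t2, t3, t33, t4, t6, t5, t7].getD n 0
  have ht' : Tr ρ (t 0) (t 1) (t 2) (t 3) (t 4) (t 5) (t 6) (t 7) := ht
  obtain ⟨r1, r2⟩ := rel_i ht' h2 hi hi1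
  obtain ⟨r3, r4, r5⟩ := rel_m ht' hm1
  exact ⟨r1, r2, r3, r4, r5⟩

end Cfsg.Agent.H952.F4.Kill
end

-- part: H952/F4/KillB
section
/-! Umbrella: `Cfsg.Agent.H952.F4.Kill.rel_one`. -/
end

-- part: H450/F4/CoreB
section
/-!
# S5926, task F-K1: no `A₇` in characteristic not 2, 5 (abstract form)
-/

set_option autoImplicit false

namespace Cfsg.Agent.H450.F4

open Cfsg Module
open Cfsg.Agent.H952.F4

variable {p : ℕ} [Fact p.Prime] {K : Type*} [Field K] [IsAlgClosed K] [CharP K p]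
  {VL VJ : Type*} [AddCommGroup VL] [Module K VL] [FiniteDimensional K VL]
  [AddCommGroup VJ] [Module K VJ] [FiniteDimensional K VJ]

/-- **No `A₇`.** -/
theorem core_seven (hp2 : p ≠ 2) (hp5 : p ≠ 5) {L : Representation K A7 VL}
    {J : Representation K A7 VJ} (T : Tab p L J) (hL : finrank K VL = 52) (hJ : finrank K VJ = 27)
    {u : VJ} (hu : u ≠ 0) (hfix : ∀ g, J g u = u) : False := by
  have hpp : p.Prime := Fact.out
  have h2 : (2 : K) ≠ 0 := by exact_mod_cast ne_zero_of (K := K) (p := p) Nat.prime_two hp2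
  have h5 : (5 : K) ≠ 0 := by exact_mod_cast ne_zero_of (K := K) (p := p) Nat.prime_five hp5
  obtain ⟨i, hi⟩ := IsAlgClosed.exists_eq_mul_self (-1 : K)
  have hi' : i * i = -1 := hi.symm
  -- 5-elements
  have hz5 : ∀ g : A7, (g : Equiv.Perm (Fin 7)).cycleType = {5} →
      ev (J g) 1 = 7 ∧ ev (L g) 1 = 12 ∧ LinearMap.trace K VJ (J g) = 2 ∧
        LinearMap.trace K VL (L g) = 2 := fun g hg => by
    obtain ⟨h1, h3, h4⟩ := rat_five hg
    exact T.five_rat hp5 g h1 h3 h4
  obtain ⟨z1, z2, z3, z4⟩ := hz5 ez ct_z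
  -- the Frobenius group
  have hord : orderOf ((2 : ℕ) : ZMod 5) = 4 := by
    rw [orderOf_eq_iff (by norm_num)]
    decide
  have fJ : ∀ μ : K, μ ^ 4 = 1 → 4 * ev (J ec) μ + 7 =
      4 * finrank K ↥(es (J ez) 1 ⊓ es (J ec) μ) + 27 := by
    intro μ hμ
    have := Eig.frob J Nat.prime_five (by exact_mod_cast h5) z_pow cz hord (by norm_num) c_pow hμ
    rwa [z1, hJ] at this
  have fL : ∀ μ : K, μ ^ 4 = 1 → 4 * ev (L ec) μ + 12 =
      4 * finrank K ↥(es (L ez) 1 ⊓ es (L ec) μ) + 52 := by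
    intro μ hμ
    have := Eig.frob L Nat.prime_five (by exact_mod_cast h5) z_pow cz hord (by norm_num) c_pow hμ
    rwa [z2, hL] at this
  have hneg : ((-1 : K)) ^ 4 = 1 := by norm_num
  have nJ : ev (J (ec * ec)) 1 = ev (J ec) 1 + ev (J ec) (-1) := by
    rw [map_mul]; exact Eig.ev_neg h2 _
  have nL : ev (L (ec * ec)) 1 = ev (L ec) 1 + ev (L ec) (-1) := by
    rw [map_mul]; exact Eig.ev_neg h2 _
  -- the traces
  obtain ⟨l1, l2, l3, l33, l4, l6, l5, l7, TL⟩ := exists_tr_seven L fun g hg =>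
    (trace_inv_J T hg).2
  obtain ⟨t1, t2, t3, t33, t4, t6, t5, t7, TJ⟩ := exists_tr_seven J fun g hg =>
    (trace_inv_J T hg).1
  have hl5 : l5 = 2 := by rw [← TL.five ez ct_z, z4]
  have ht5 : t5 = 2 := by rw [← TJ.five ez ct_z, z3]
  have ht1 : t1 = 27 := by
    rw [← TJ.one, map_one, LinearMap.trace_one, hJ]; norm_num
  -- elements of order 3
  have h3ne : ∀ g : A7, ((g : Equiv.Perm (Fin 7)).cycleType = {3} ∨
      (g : Equiv.Perm (Fin 7)).cycleType = {3, 3}) → g ≠ 1 := by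
    rintro g hg rfl
    change (1 : Equiv.Perm (Fin 7)).cycleType = {3} ∨ (1 : Equiv.Perm (Fin 7)).cycleType = {3, 3} at hg
    rw [Equiv.Perm.cycleType_one] at hg
    revert hg
    decide
  have hy1 : ey ≠ 1 := h3ne ey (Or.inr ct_y)
  have h31 : e3 ≠ 1 := h3ne e3 (Or.inl ct_3)
  -- involutions
  have hinv : ec * ec * (ec * ec) = 1 := by decide +kernel
  have hc2 := T.two hp2 (ec * ec) c_sq hinv
  have hf := T.four hp2 ec c_sq c_pow
  have hJ1 := fJ 1 (one_pow _)
  have hJn := fJ (-1) hneg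
  have hLn := fL (-1) hneg
  rcases hf with ⟨a1, a2, a3, a4, a5, a6⟩ | ⟨a1, a2, a3, a4, a5, a6⟩ | ⟨a1, a2, a3, a4, a5, a6⟩ |
    ⟨a1, a2, a3, a4, a5, a6⟩ | ⟨a1, a2, a3, a4, a5, a6⟩
  · -- (11, 5): the fixed vector
    rw [a3] at hJ1
    have h0 : finrank K ↥(es (J ez) 1 ⊓ es (J ec) 1) = 0 := by omega
    rw [Submodule.finrank_eq_zero] at h0
    apply hu
    have hmem : u ∈ es (J ez) 1 ⊓ es (J ec) 1 := by
      refine ⟨mem_es.2 ?_, mem_es.2 ?_⟩
      · rw [hfix, one_smul]
      · rw [hfix, one_smul]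
    rw [h0] at hmem
    exact (Submodule.mem_bot K).1 hmem
  · rw [a1, a3] at nJ; omega
  · -- the adjoint module
    rw [a2, a4] at nL
    have hev : ev (L ec) (-1) = 10 := by omega
    have hc : ∀ g : A7, (g : Equiv.Perm (Fin 7)).cycleType = {4, 2} → ev (L g) (-1) = 10 := by
      intro g hg
      obtain ⟨x, rfl⟩ := conj_c hg
      rw [ev_conj]
      exact hev
    obtain ⟨r1, r2⟩ := Kill.rel_sgn_zero L TL h2 h5 (fun g hg => (hz5 g hg).2.1) hc hL
    have hl4 : l4 = 4 := by rw [← TL.four ec ct_c, a6]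
    have hl2 : l2 = -4 := by
      rw [← TL.two (ec * ec) ct_c2]
      rcases hc2 with ⟨b1, b2, b3, b4⟩ | ⟨b1, b2, b3, b4⟩
      · exact b4
      · omega
    rw [hl2, hl4] at r1
    rw [hl4, hl5] at r2
    have hl6 : l6 = 8 := by
      have : 2 * (l6 - 8) = 0 := by linear_combination r1
      exact sub_eq_zero.1 ((mul_eq_zero.1 this).resolve_left h2)
    have hl33 : l33 = 6 := by rw [hl6] at r2; linear_combination -r2
    by_cases hp3 : p = 3
    · subst hp3
      have e1 := Eig.trace_pow_char 3 (L ey)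
      rw [← map_pow, y_pow, map_one, LinearMap.trace_one, hL, TL.threeb ey ct_y, hl33] at e1
      have h3 : (3 : K) = 0 := by
        have := CharP.cast_eq_zero K 3
        exact_mod_cast this
      have h4 : (1 : K) = 0 := by
        push_cast at e1
        linear_combination e1 + (72 - 17) * h3
      exact one_ne_zero h4
    · have h3 : (3 : K) ≠ 0 := by exact_mod_cast ne_zero_of (K := K) (p := p) Nat.prime_three hp3
      rcases T.three hp3 ey hy1 y_pow with ⟨-, -, -, b⟩ | ⟨-, -, -, b⟩ | ⟨-, -, -, b⟩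
      · rw [TL.threeb ey ct_y, hl33] at b
        have : (1 : K) = 0 := by linear_combination -b
        exact one_ne_zero this
      · rw [TL.threeb ey ct_y, hl33] at b
        have : (1 : K) = 0 := by linear_combination -b
        exact one_ne_zero this
      · rw [TL.threeb ey ct_y, hl33] at b
        have h8 : (2 : K) ^ 3 = 0 := by linear_combination b
        exact h2 (pow_eq_zero_iff (by norm_num) |>.1 h8)
  · -- the 27-dimensional module
    rw [a1, a3] at nJ
    have hev : ev (J ec) (-1) = 6 := by omega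
    have hevi : ev (J ec) i = 6 := by
      have e1 := Eig.ev_i h2 hi' (T := J ec) (by rw [← map_pow, c_pow, map_one])
      have e2 := T.four_i hp2 ec c_pow i hi'
      rw [← map_mul, a1, hJ, ← e2] at e1
      omega
    have hc : ∀ g : A7, (g : Equiv.Perm (Fin 7)).cycleType = {4, 2} →
        ev (J g) (-1) = 6 ∧ ev (J g) i = 6 := by
      intro g hg
      obtain ⟨x, rfl⟩ := conj_c hg
      rw [ev_conj, ev_conj]
      exact ⟨hev, hevi⟩
    obtain ⟨r1, r2, r3, r4, r5⟩ :=
      Kill.rel_one J TJ h2 h5 hi' (fun g hg => (hz5 g hg).1) hc hJ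
    have ht4 : t4 = 3 := by rw [← TJ.four ec ct_c, a5]
    have ht2 : t2 = 3 := by
      rw [← TJ.two (ec * ec) ct_c2]
      rcases hc2 with ⟨b1, b2, b3, b4⟩ | ⟨b1, b2, b3, b4⟩
      · exact b3
      · omega
    rw [ht1, ht2, ht4] at r1
    rw [ht2, ht4] at r2
    rw [ht4, ht5] at r3
    rw [ht2, ht4, ht5] at r4 r5
    -- `t7 = 6`, `t3 + 4 t33 + 3 t6 = 36`
    have ht7 : t7 = 6 := by
      have : (2 : K) ^ 3 * (t7 - 6) = 0 := by linear_combination r2 - r1
      exact sub_eq_zero.1 ((mul_eq_zero.1 this).resolve_left (pow_ne_zero _ h2))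
    have hS : t3 + 4 * t33 + 3 * t6 = 36 := by
      rw [ht7] at r1
      linear_combination -r1
    rw [ht7] at r4 r5
    have hw : (t3 - t6 - 6) * (t3 - t6) = 0 := by
      have : (2 : K) ^ 4 * ((t3 - t6 - 6) * (t3 - t6)) = 0 := by linear_combination r3
      exact (mul_eq_zero.1 this).resolve_left (pow_ne_zero _ h2)
    by_cases hp3 : p = 3
    · subst hp3
      have h3 : (3 : K) = 0 := by
        have := CharP.cast_eq_zero K 3
        exact_mod_cast this
      have e1 := Eig.trace_pow_char 3 (J ey)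
      rw [← map_pow, y_pow, map_one, LinearMap.trace_one, hJ, TJ.threeb ey ct_y] at e1
      have e2 := Eig.trace_pow_char 3 (J e3)
      rw [← map_pow, e3_pow, map_one, LinearMap.trace_one, hJ, TJ.three e3 ct_3] at e2
      have e3' := Eig.trace_pow_char 3 (J e6)
      rw [← map_pow, TJ.two (e6 ^ 3) ct_63, TJ.six e6 ct_6, ht2] at e3'
      have h33 : t33 = 0 := by
        refine (pow_eq_zero_iff (n := 3) (by norm_num)).1 ?_
        rw [← e1]; push_cast; linear_combination 9 * h3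
      have h30 : t3 = 0 := by
        refine (pow_eq_zero_iff (n := 3) (by norm_num)).1 ?_
        rw [← e2]; push_cast; linear_combination 9 * h3
      have h60 : t6 = 0 := by
        refine (pow_eq_zero_iff (n := 3) (by norm_num)).1 ?_
        rw [← e3']; exact h3
      rw [h33, h30, h60] at r4
      have : (2 : K) = 0 := by linear_combination r4 - 130 * h3
      exact h2 this
    · have h3 : (3 : K) ≠ 0 := by exact_mod_cast ne_zero_of (K := K) (p := p) Nat.prime_three hp3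
      have v3 : t3 = 9 ∨ t3 = 0 := by
        rcases T.three hp3 e3 h31 e3_pow with ⟨-, -, b, -⟩ | ⟨-, -, b, -⟩ | ⟨-, -, b, -⟩ <;>
          rw [TJ.three e3 ct_3] at b
        · exact Or.inl b
        · exact Or.inr b
        · exact Or.inr b
      have v33 : t33 = 9 ∨ t33 = 0 := by
        rcases T.three hp3 ey hy1 y_pow with ⟨-, -, b, -⟩ | ⟨-, -, b, -⟩ | ⟨-, -, b, -⟩ <;>
          rw [TJ.threeb ey ct_y] at b
        · exact Or.inl b
        · exact Or.inr b
        · exact Or.inr b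
      have n9 : (3 : K) ^ 2 ≠ 0 := pow_ne_zero _ h3
      have n72 : (2 : K) ^ 3 * 3 ^ 2 ≠ 0 := mul_ne_zero (pow_ne_zero _ h2) n9
      have n27 : (3 : K) ^ 3 ≠ 0 := pow_ne_zero _ h3
      rcases mul_eq_zero.1 hw with hw | hw
      · -- `t6 = t3 - 6`
        have h6 : t6 = t3 - 6 := by linear_combination -hw
        rw [h6] at hS
        -- `4 (t3 + t33) = 54`
        rcases v3 with v3 | v3 <;> rcases v33 with v33 | v33 <;> rw [v3, v33] at hS
        · exact mul_ne_zero h2 n9 (by linear_combination hS)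
        · exact mul_ne_zero h2 n9 (by linear_combination -hS)
        · exact mul_ne_zero h2 n9 (by linear_combination -hS)
        · exact mul_ne_zero h2 n27 (by linear_combination -hS)
      · have h6 : t6 = t3 := by linear_combination -hw
        rw [h6] at hS
        rcases v3 with v3 | v3 <;> rcases v33 with v33 | v33 <;> rw [v3, v33] at hS
        · exact mul_ne_zero (pow_ne_zero 2 h2) n9 (by linear_combination hS)
        · rw [h6, v3, v33] at r5
          exact n72 (by linear_combination r5)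
        · rw [h6, v3, v33] at r5
          exact n72 (by linear_combination r5)
        · exact mul_ne_zero (pow_ne_zero 2 h2) n9 (by linear_combination -hS)
  · rw [a1, a3] at nJ; omega

end Cfsg.Agent.H450.F4
end

-- part: H952/F4/NoSevenFive
section
/-!
# S5926, task F-K1: the 7-elements of `A₇ < F₄` in characteristic 5
-/

set_option autoImplicit false

namespace Cfsg.Agent.H952.F4.NoSeven

open Cfsg Cfsg.Lie Module
open Cfsg.Agent.H450.F4
open Cfsg.Agent.ChevalleyStructure.E6Min.Tables Cfsg.Agent.ChevalleyStructure.E6Min.Basic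
open Cfsg.Agent.GpExc.Field (emb emb_injective)
open Cfsg.Agent.BpExc.TorAll Cfsg.Agent.BpExc.TorChev

universe u

theorem finrank_L (K : Type u) [Field K] : finrank K (chevF4.Idx → K) = 52 := by
  rw [Module.finrank_fintype_fun_eq_card]
  decide

theorem finrank_J (K : Type u) [Field K] : finrank K (I27 → K) = 27 := by
  rw [Module.finrank_fintype_fun_eq_card]
  decide

theorem u0_ne (K : Type u) [Field K] : u0 K ≠ 0 := by
  intro h
  have := congrFun h (0, 0, 0)
  simp [u0] at this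

/-- the trace as a linear map -/
def trL (K : Type u) [Field K] : (I27 → K) →ₗ[K] K where
  toFun := tr1
  map_add' x y := by
    change (mat3 (x + y) 0).trace = (mat3 x 0).trace + (mat3 y 0).trace
    rw [← Matrix.trace_add]
    rfl
  map_smul' c x := by
    change (mat3 (c • x) 0).trace = c • (mat3 x 0).trace
    rw [← Matrix.trace_smul]
    rfl

/-- K2 -/
theorem seven_five {F : Type u} [Field F] [Finite F] [CharP F 5] {ρ : ↥(chevF4.group F) →* GL I27 F} (hρ : IsJ ρ)
    (φ : ↥(alternatingGroup (Fin 7)) →* ↥(chevF4.group F)) (hφ : Function.Injective φ)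
    (g : ↥(alternatingGroup (Fin 7))) (hg : orderOf g = 7) : ev (JK ρ (φ g)) 1 = 9 := by
  have hF5 : Fact (Nat.Prime 5) := ⟨Nat.prime_five⟩
  have hcharK : CharP (AlgebraicClosure F) 5 :=
    charP_of_injective_algebraMap (algebraMap F (AlgebraicClosure F)).injective 5
  obtain ⟨ρ', hρ'⟩ := JMod.exists_isJ (AlgebraicClosure F)
  let f := algebraMap F (AlgebraicClosure F)
  have T := tab_comp (Tor.tab_closed 5 (Cfsg.Agent.H944.RootVals.hAlg_closure 5 F) hρ') ((emb hF4 f).comp φ)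
    ((emb_injective hF4 f).comp hφ)
  have h2 : (2 : AlgebraicClosure F) ≠ 0 := by
    have := ne_zero_of (K := AlgebraicClosure F) (p := 5) Nat.prime_two (by norm_num)
    exact_mod_cast this
  have h3 : (3 : AlgebraicClosure F) ≠ 0 := by
    have := ne_zero_of (K := AlgebraicClosure F) (p := 5) Nat.prime_three (by norm_num)
    exact_mod_cast this
  have key := core_five T (finrank_J _) (τ := (3 : AlgebraicClosure F)⁻¹ • trL (AlgebraicClosure F))
    (fun g x => by
      change (3 : AlgebraicClosure F)⁻¹ * tr1 (JK ρ' _ x) = (3 : AlgebraicClosure F)⁻¹ * tr1 x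
      rw [Inv.tr1_inv hρ' h2])
    (u := u0 _) (by
      change (3 : AlgebraicClosure F)⁻¹ * tr1 (u0 (AlgebraicClosure F)) = 1
      rw [Jord.tr1_u0, inv_mul_cancel₀ h3])
    (fun g => Inv.u0_inv hρ' _) (ct_of_order hg)
  have h4 := Chg.ev_J f hρ hρ' (φ g) 1
  rw [map_one] at h4
  rw [← h4]
  exact key

end Cfsg.Agent.H952.F4.NoSeven
end

-- part: H952/F4/NoSeven
section
/-!
# S5926, task F-K1: no `A₇` in `F₄`, characteristic not 2, 5
-/

set_option autoImplicit false

namespace Cfsg.Agent.H952.F4.NoSeven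

open Cfsg Cfsg.Lie Module
open Cfsg.Agent.H450.F4
open Cfsg.Agent.ChevalleyStructure.E6Min.Tables Cfsg.Agent.ChevalleyStructure.E6Min.Basic
open Cfsg.Agent.GpExc.Field (emb emb_injective)
open Cfsg.Agent.BpExc.TorAll Cfsg.Agent.BpExc.TorChev

universe u

/-- K1 -/
theorem no_seven (p : ℕ) [Fact p.Prime] (hp2 : p ≠ 2) (hp5 : p ≠ 5) {K : Type u} [Field K] [IsAlgClosed K]
    [CharP K p] (hK : HAlg p K) (φ : ↥(alternatingGroup (Fin 7)) →* ↥(chevF4.group K))
    (hφ : Function.Injective φ) : False := by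
  obtain ⟨ρ, hρ⟩ := JMod.exists_isJ K
  have T := tab_comp (Tor.tab_closed p hK hρ) φ hφ
  exact core_seven hp2 hp5 T (finrank_L K) (finrank_J K) (u0_ne K) fun g => Inv.u0_inv hρ (φ g)

end Cfsg.Agent.H952.F4.NoSeven
end
end

-- part: H834/F4/Tab
section
set_option linter.all false
open scoped Cfsg.Agent.FastGrp

/-!
# S5926, F-E4 (helper834): elements of order 5 of the torus of `F₄`

`chk_all` : for the 625 vectors `v ∈ (ℤ/5)⁴`: if exactly five of the 27 coordinates have value 0 then the other values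
have multiplicities `6, 5, 5, 6` or `5, 6, 6, 5`, and the properties A, B, E hold for the class of multiplicity 12.
-/

set_option autoImplicit false

namespace Cfsg.Agent.H834.F4

open Cfsg.Lie Cfsg.Agent.H952.F4
open Cfsg.Agent.ChevalleyStructure.E6Min.Tables Cfsg.Agent.ChevalleyStructure.E6Min.Basic
open Cfsg.Agent.Nodes.RGDChev

/-- the weights modulo 5 -/
def rN : List (ℕ × ℕ × ℕ × ℕ) :=
[(0, 0, 0, 0), (0, 1, 0, 0), (1, 3, 2, 1), (0, 4, 0, 0), (0, 0, 0, 0), (1, 2, 2, 1), (4, 2, 3, 4), (4, 3, 3, 4), (0, 0, 0, 0), (4, 0, 0, 0), (1, 2, 1, 0), (1, 2, 1, 1), (4, 4, 0, 0), (1, 1, 1, 0), (1, 1, 1, 1), (3, 2, 3, 4), (0, 4, 4, 4), (0, 4, 4, 0), (1, 0, 0, 0), (1, 1, 0, 0), (2, 3, 2, 1), (4, 3, 4, 0), (4, 4, 4, 0), (0, 1, 1, 1), (4, 3, 4, 4), (4, 4, 4, 4), (0, 1, 1, 0)]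

/-- coordinates of a table entry -/
def rq (m : ℕ) : Fin 4 → ℕ :=
  ![(rN.getD m (0, 0, 0, 0)).1, (rN.getD m (0, 0, 0, 0)).2.1, (rN.getD m (0, 0, 0, 0)).2.2.1, (rN.getD m (0, 0, 0, 0)).2.2.2]

theorem rq_spec : ∀ m : Fin 27, (wtab.getD m.val 48 = 48 ∧ rq m.val = 0) ∨
    (wtab.getD m.val 48 ≠ 48 ∧ ∀ i : Fin 4, (5 : ℤ) ∣ vec chevF4 4 (wtab.getD m.val 48) i - (rq m.val i : ℤ)) := by
  decide +kernel

/-- the values of the coordinates -/
def vals (a b c d : ℕ) : List ℕ := rN.map fun t => (a * t.1 + b * t.2.1 + c * t.2.2.1 + d * t.2.2.2) % 5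

def inC (L : List ℕ) (e m : ℕ) : Bool := L.getD m 9 == e || L.getD m 9 == 5 - e

def chkA (L : List ℕ) (e k : ℕ) : Bool :=
  T.all fun row => row.all fun t => !(t.2.1 == k && inC L e t.2.2) && !(t.2.2 == k && inC L e t.2.1)

def chkB (L : List ℕ) (e k : ℕ) : Bool :=
  (List.range 27).all fun y => L.getD y 9 != 0 || y == k ||
    (List.range 27).any fun m => (Tm m).any fun t => (t.2.1 == y && inC L e t.2.2) || (t.2.2 == y && inC L e t.2.1)

def chkE (L : List ℕ) (k : ℕ) : Bool :=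
  (List.range 27).all fun m => m == k ||
    (Tm m).all fun t => (L.getD t.2.1 9 != 0 || t.2.1 == k) || (L.getD t.2.2 9 != 0 || t.2.2 == k)

def chk (L : List ℕ) : Bool := L.count 0 != 5 ||
  (((L.count 1 == 6 && L.count 4 == 6 && L.count 2 == 5 && L.count 3 == 5) ||
    (L.count 1 == 5 && L.count 4 == 5 && L.count 2 == 6 && L.count 3 == 6)) &&
  [1, 2].all fun e => L.count e + L.count (5 - e) != 12 ||
    [0, 4, 8].any fun k => chkA L e k && chkB L e k && chkE L k)

section Fast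
open Cfsg.Agent

private noncomputable def msk (p : ℕ → Bool) (L : List ℕ) : ℕ :=
  List.rec (nat_lit 0) (fun a _ ih => Bool.rec (Nat.mul (nat_lit 2) ih) (Nat.succ (Nat.mul (nat_lit 2) ih)) (p a)) L
private def tb (n m : ℕ) : Bool := Nat.beq (Nat.mod (Nat.shiftRight n m) (nat_lit 2)) (nat_lit 1)

private theorem tb_msk (p : ℕ → Bool) (hd : p 9 = false) : ∀ (L : List ℕ) (m : ℕ), p (L.getD m 9) = tb (msk p L) m
  | [], m => by
    show p 9 = Nat.beq (0 >>> m % 2) 1
    rw [Nat.zero_shiftRight, hd]; rfl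
  | a :: L, 0 => by
    show p a = Nat.beq ((Bool.rec (2 * msk p L) (2 * msk p L + 1) (p a) : ℕ) % 2) 1
    cases p a
    · show false = Nat.beq (2 * _ % 2) 1
      rw [Nat.mul_mod_right]; rfl
    · show true = Nat.beq ((2 * _ + 1) % 2) 1
      rw [Nat.mul_add_mod]; rfl
  | a :: L, m + 1 => by
    refine (tb_msk p hd L m).trans ?_
    show Nat.beq (msk p L >>> m % 2) 1 = Nat.beq ((Bool.rec (2 * msk p L) (2 * msk p L + 1) (p a) : ℕ) >>> (m + 1) % 2) 1
    rw [Nat.shiftRight_succ_inside]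
    refine congrArg (fun x => Nat.beq (x >>> m % 2) 1) ?_
    cases p a
    · show _ = 2 * _ / 2
      omega
    · show _ = (2 * _ + 1) / 2
      omega

private noncomputable def body (z c : ℕ → Bool) : Bool := LsF.any [0, 4, 8] fun k => LsF.and (LsF.and
  (LsF.all T fun row => LsF.all row fun t =>
    LsF.and (LsF.not (LsF.and (Nat.beq t.2.1 k) (c t.2.2))) (LsF.not (LsF.and (Nat.beq t.2.2 k) (c t.2.1))))
  (LsF.all (LsF.range 27) fun y => LsF.or (LsF.or (LsF.not (z y)) (Nat.beq y k)) (LsF.any (LsF.range 27) fun m =>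
    LsF.any (Tm m) fun t => LsF.or (LsF.and (Nat.beq t.2.1 y) (c t.2.2)) (LsF.and (Nat.beq t.2.2 y) (c t.2.1)))))
  (LsF.all (LsF.range 27) fun m => LsF.or (Nat.beq m k) (LsF.all (Tm m) fun t =>
    LsF.or (LsF.or (LsF.not (z t.2.1)) (Nat.beq t.2.1 k)) (LsF.or (LsF.not (z t.2.2)) (Nat.beq t.2.2 k))))

private noncomputable def fp (n : ℕ) (f : ℕ → Bool) : Bool := Nat.rec (f 0) (fun k _ => f k) (Nat.succ n)
private noncomputable def pe (e a : ℕ) : Bool := LsF.or (Nat.beq a e) (Nat.beq a (Nat.sub 5 e))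
private noncomputable def bd (L : List ℕ) (e : ℕ) : Bool :=
  fp (msk (fun a => Nat.beq a 0) L) fun Z => fp (msk (pe e) L) fun C => body (tb Z) (tb C)

private theorem bd_eq (L : List ℕ) (e : ℕ) (h : pe e 9 = false) :
    ([0, 4, 8].any fun k => chkA L e k && chkB L e k && chkE L k) = bd L e := by
  show _ = body (tb (msk (fun a => Nat.beq a 0) L)) (tb (msk (pe e) L))
  rw [← funext (tb_msk (fun a => Nat.beq a 0) rfl L), ← funext (tb_msk (pe e) h L)]
  delta chkA chkB chkE inC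
  rewrite [LsF.nbeq_pat, LsF.nbne_pat, LsF.and_eq, LsF.or_eq, LsF.not_eq, LsF.all_eq, LsF.any_eq, LsF.range_eq]
  rfl

private noncomputable def ck (n : ℕ → ℕ) (b : ℕ → Bool) : Bool := LsF.or (LsF.nbne (n 0) 5) (LsF.and
  (LsF.or (LsF.and (LsF.and (LsF.and (Nat.beq (n 1) 6) (Nat.beq (n 4) 6)) (Nat.beq (n 2) 5)) (Nat.beq (n 3) 5))
    (LsF.and (LsF.and (LsF.and (Nat.beq (n 1) 5) (Nat.beq (n 4) 5)) (Nat.beq (n 2) 6)) (Nat.beq (n 3) 6)))
  (LsF.and (LsF.or (LsF.nbne (Nat.add (n 1) (n 4)) 12) (b 1)) (LsF.or (LsF.nbne (Nat.add (n 2) (n 3)) 12) (b 2))))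

private theorem chk_eq : chk = fun L => ck (fun e => LsF.countP (fun x => Nat.beq x e) L) (bd L) := by
  funext L
  delta chk
  rw [List.all_cons, List.all_cons, List.all_nil, Bool.and_true, bd_eq L 1 rfl, bd_eq L 2 rfl]
  rewrite [LsF.nbeq_pat, LsF.nbne_pat, LsF.instNBEq_pat, LsF.and_eq, LsF.or_eq, LsF.count_eq]
  rfl

private theorem vals_eq : vals = fun a b c d => LsF.map (fun t : ℕ × ℕ × ℕ × ℕ => Nat.mod (Nat.add (Nat.add (Nat.add
    (Nat.mul a t.1) (Nat.mul b t.2.1)) (Nat.mul c t.2.2.1)) (Nat.mul d t.2.2.2)) (nat_lit 5)) rN := by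
  delta vals
  rw [LsF.map_eq]
  rfl

end Fast

private theorem chk_x : allLt 5 (fun a => allLt 5 fun b => allLt 5 fun c => allLt 5 fun d => chk (vals a b c d)) = true := by
  rw [chk_eq, vals_eq]; decide +kernel

theorem chk_all : allLt 5 (fun a => allLt 5 fun b => allLt 5 fun c => allLt 5 fun d => chk (vals a b c d)) = true :=
  chk_x

end Cfsg.Agent.H834.F4
end

-- part: H952/F4/Two_mg
section
prune_inst 0x1400400000200000000000440000c0200000002000000008000000000000c400000002000000010000000000000004000000000404000000e000000000000000000000020400000000010800000000000000000000000000000000000000000000000000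
set_option linter.all false
open scoped Cfsg.Agent.FastGrp

-- part: H952/F4/Two
section
/-! Umbrella: `Cfsg.Agent.H952.F4.Two.exists_pkg`. -/
end

-- part: H834/F4/Core
section
/-!
# S5926, F-E4 (helper834): the algebra of the claim `Tor.axis`
-/

set_option autoImplicit false

namespace Cfsg.Agent.H834.F4

open Cfsg.Lie Cfsg.Agent.H952.F4
open Cfsg.Agent.ChevalleyStructure.E6Min.Tables Cfsg.Agent.ChevalleyStructure.E6Min.Basic

variable {K : Type*} [Field K]

/-- the coordinate vector -/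
def E (K : Type*) [Field K] (k : ℕ) : I27 → K := Pi.single (dec k) 1

theorem E_apply {k m : ℕ} (hk : k < 27) (hm : m < 27) : E K k (dec m) = if m = k then 1 else 0 := by
  unfold E
  by_cases h : m = k
  · rw [if_pos h, h, Pi.single_eq_same]
  · rw [if_neg h, Pi.single_eq_of_ne]
    intro h5
    exact h ((dec_eq_iff hm hk).1 h5)

theorem mem_T {m : ℕ} (hm : m < 27) : Tm m ∈ T := by
  have h : T.length = 27 := rfl
  rw [Tm, List.getD_eq_getElem _ _ (h ▸ hm)]
  exact List.getElem_mem _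

theorem propA {L : List ℕ} {e k : ℕ} (hk : k < 27) (h : chkA L e k = true) {w : I27 → K}
    (hw : ∀ m < 27, inC L e m = false → w (dec m) = 0) : cr (E K k) w = 0 := by
  apply ext27
  intro m hm
  rw [cr_apply _ _ hm, Pi.zero_apply]
  apply List.sum_eq_zero
  intro z hz
  obtain ⟨t, ht, rfl⟩ := List.mem_map.1 hz
  have h1 := List.all_eq_true.1 (List.all_eq_true.1 h _ (mem_T hm)) t ht
  obtain ⟨hn, hr⟩ := rows_ok ⟨m, hm⟩
  obtain ⟨-, h2, h3⟩ := hr t ht
  rw [E_apply hk h2, E_apply hk h3]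
  rw [Bool.and_eq_true, Bool.not_eq_true', Bool.not_eq_true', Bool.and_eq_false_iff, Bool.and_eq_false_iff] at h1
  obtain ⟨h4, h5⟩ := h1
  have e1 : (if t.2.1 = k then (1 : K) else 0) * w (dec t.2.2) = 0 := by
    rcases h4 with h4 | h4
    · rw [if_neg (by simpa using h4), zero_mul]
    · rw [hw _ h3 h4, mul_zero]
  have e2 : w (dec t.2.1) * (if t.2.2 = k then (1 : K) else 0) = 0 := by
    rcases h5 with h5 | h5
    · rw [if_neg (by simpa using h5), mul_zero]
    · rw [hw _ h2 h5, zero_mul]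
  rw [e1, e2, add_zero, mul_zero]

theorem propB {L : List ℕ} {e k : ℕ} (h : chkB L e k = true) {c : I27 → K}
    (hc : ∀ m < 27, L.getD m 9 ≠ 0 → c (dec m) = 0)
    (hw : ∀ w : I27 → K, (∀ m < 27, inC L e m = false → w (dec m) = 0) → cr c w = 0) :
    ∀ y < 27, y ≠ k → c (dec y) = 0 := by
  intro y hy hyk
  have h1 := List.all_eq_true.1 h y (List.mem_range.2 hy)
  simp only [Bool.or_eq_true, bne_iff_ne, beq_iff_eq, List.any_eq_true, Bool.and_eq_true, List.mem_range] at h1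
  rcases h1 with (h1 | h1) | ⟨m, hm, t, ht, h2⟩
  · exact hc y hy h1
  · exact absurd h1 hyk
  · obtain ⟨hn, hr⟩ := rows_ok ⟨m, hm⟩
    obtain ⟨hs, h3, h4⟩ := hr t ht
    have key : ∀ γ : ℕ, γ < 27 → inC L e γ = true → ((t.2.1 = y ∧ t.2.2 = γ) ∨ (t.2.1 = γ ∧ t.2.2 = y)) →
        c (dec y) = 0 := by
      intro γ hγ hin hcase
      have h5 := cr_single c hm ht hcase
      rw [hw (Pi.single (dec γ) 1), Pi.zero_apply] at h5
      · rcases hs with hs | hs
        · rw [hs] at h5; simpa using h5.symm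
        · rw [hs] at h5; simpa using h5.symm
      · intro m' hm' hin'
        have h6 := E_apply (K := K) hγ hm'
        unfold E at h6
        rw [h6, if_neg]
        rintro rfl
        rw [hin] at hin'
        exact absurd hin' (by simp)
    rcases h2 with ⟨h2, h2'⟩ | ⟨h2, h2'⟩
    · exact key _ h4 h2' (Or.inl ⟨h2, rfl⟩)
    · exact key _ h3 h2' (Or.inr ⟨rfl, h2⟩)

theorem propE {L : List ℕ} {k : ℕ} (h : chkE L k = true) {x : I27 → K}
    (hx : ∀ m < 27, L.getD m 9 ≠ 0 → x (dec m) = 0) (hk : x (dec k) = 0) :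
    ∀ y < 27, y ≠ k → sh x (dec y) = 0 := by
  intro m hm hmk
  have h1 := List.all_eq_true.1 h m (List.mem_range.2 hm)
  simp only [Bool.or_eq_true, bne_iff_ne, beq_iff_eq, List.all_eq_true] at h1
  have h2 := h1.resolve_left hmk
  obtain ⟨hn, hr⟩ := rows_ok ⟨m, hm⟩
  rw [sh_apply _ hm]
  apply List.sum_eq_zero
  intro z hz
  obtain ⟨t, ht, rfl⟩ := List.mem_map.1 hz
  obtain ⟨-, h3, h4⟩ := hr t ht
  rcases h2 t ht with (h5 | h5) | h5 | h5
  · rw [hx _ h3 h5, zero_mul, mul_zero]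
  · rw [h5, hk, zero_mul, mul_zero]
  · rw [hx _ h4 h5, mul_zero, mul_zero]
  · rw [h5, hk, mul_zero, mul_zero]

theorem eq_smul_E {k : ℕ} (hk : k < 27) {c : I27 → K} (h : ∀ y < 27, y ≠ k → c (dec y) = 0) :
    c = c (dec k) • E K k := by
  apply ext27
  intro m hm
  rw [Pi.smul_apply, E_apply hk hm, smul_eq_mul]
  by_cases hmk : m = k
  · rw [if_pos hmk, mul_one, hmk]
  · rw [if_neg hmk, mul_zero, h m hm hmk]

theorem tr1_E {k : ℕ} (hk : k = 0 ∨ k = 4 ∨ k = 8) : tr1 (E K k) = 1 := by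
  have h1 : k < 27 := by omega
  have h0 : tr1 (E K k) = E K k (dec 0) + E K k (dec 4) + E K k (dec 8) := by
    simp only [tr1, Matrix.trace, Fin.sum_univ_three]
    rfl
  rw [h0, E_apply h1 (by omega), E_apply h1 (by omega), E_apply h1 (by omega)]
  rcases hk with rfl | rfl | rfl <;> simp

theorem tf_E {k : ℕ} (hk : k = 0 ∨ k = 4 ∨ k = 8) (x : I27 → K) : tf x (E K k) = x (dec k) := by
  have h1 : k < 27 := by omega
  have h0 : ∀ i a b : Fin 3, E K k (i, a, b) = if (i, a, b) = dec k then 1 else 0 := by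
    intro i a b
    unfold E
    rw [Pi.single_apply]
  have d0 : dec 0 = ((0, 0, 0) : I27) := rfl
  have d4 : dec 4 = ((0, 1, 1) : I27) := rfl
  have d8 : dec 8 = ((0, 2, 2) : I27) := rfl
  simp only [tf, Matrix.trace, Fin.sum_univ_three, Matrix.diag_apply, Matrix.mul_apply, mat3, Matrix.of_apply]
  rcases hk with rfl | rfl | rfl
  · simp [h0, d0]
  · simp [h0, d4]
  · simp [h0, d8]

theorem core (h2 : (2 : K) ≠ 0) {L : List ℕ} {e k : ℕ} (hk : k = 0 ∨ k = 4 ∨ k = 8) (hkL : L.getD k 9 = 0)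
    (hA : chkA L e k = true) (hB : chkB L e k = true) (hE : chkE L k = true) (s : (I27 → K) →ₗ[K] (I27 → K))
    (hsJ : ∀ x : I27 → K, (∀ m < 27, L.getD m 9 ≠ 0 → x (dec m) = 0) →
      ∀ m < 27, L.getD m 9 ≠ 0 → s x (dec m) = 0)
    (hsU : ∀ w : I27 → K, (∀ m < 27, inC L e m = false → w (dec m) = 0) →
      ∃ w' : I27 → K, (∀ m < 27, inC L e m = false → w' (dec m) = 0) ∧ s w' = w)
    (hcr : ∀ x y, cr (s x) (s y) = s (cr x y)) (htf : ∀ x y, tf (s x) (s y) = tf x y)
    (htr : ∀ x, tr1 (s x) = tr1 x) (x : I27 → K) (hx : ∀ m < 27, L.getD m 9 ≠ 0 → x (dec m) = 0)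
    (hsx : s x = -x) (w : I27 → K) (hw : ∀ m < 27, inC L e m = false → w (dec m) = 0) : cr (sh x) w = 0 := by
  have hk27 : k < 27 := by omega
  -- `E` is in the fixed space
  have hEJ : ∀ m < 27, L.getD m 9 ≠ 0 → E K k (dec m) = 0 := by
    intro m hm hne
    rw [E_apply hk27 hm, if_neg]
    rintro rfl
    exact hne hkL
  have h1 : ∀ w : I27 → K, (∀ m < 27, inC L e m = false → w (dec m) = 0) → cr (s (E K k)) w = 0 := by
    intro w hw
    obtain ⟨w', hw', rfl⟩ := hsU w hw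
    rw [hcr, propA hk27 hA hw', map_zero]
  have h3 := eq_smul_E hk27 (propB hB (hsJ _ hEJ) h1)
  have h4 : s (E K k) (dec k) = 1 := by
    have h5 := htr (E K k)
    rw [h3, tr1_E hk] at h5
    have h6 : tr1 (s (E K k) (dec k) • E K k) = s (E K k) (dec k) * tr1 (E K k) := by
      simp only [tr1, mat3, Matrix.trace, Fin.sum_univ_three, Matrix.diag_apply, Pi.smul_apply, smul_eq_mul,
        Matrix.of_apply]
      ring
    rw [h6, tr1_E hk, mul_one] at h5
    exact h5
  rw [h4, one_smul] at h3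
  have h5 : x (dec k) = 0 := by
    have h6 := htf x (E K k)
    rw [h3, hsx, tf_E hk, tf_E hk, Pi.neg_apply] at h6
    have h7 : (2 : K) * x (dec k) = 0 := by linear_combination -h6
    exact (mul_eq_zero.1 h7).resolve_left h2
  have h6 := eq_smul_E hk27 (propE hE hx h5)
  have h7 : ∀ (c : K) (x y : I27 → K), cr (c • x) y = c • cr x y := by
    intro c x y
    apply ext27
    intro m hm
    rw [Pi.smul_apply, cr_apply _ _ hm, cr_apply _ _ hm, smul_eq_mul, ← List.sum_map_mul_left]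
    congr 1
    apply List.map_congr_left
    intro t _
    simp only [Pi.smul_apply, smul_eq_mul]
    ring
  rw [h6, h7, propA hk27 hA hw, smul_zero]

end Cfsg.Agent.H834.F4
end

-- part: H834/F4/Cnt
section
/-!
# S5926, F-E4 (helper834): ranks and counting
-/

set_option autoImplicit false

namespace Cfsg.Agent.H834.F4

open Cfsg.Lie Cfsg.Agent.H952.F4 Module
open Cfsg.Agent.ChevalleyStructure.E6Min.Tables Cfsg.Agent.ChevalleyStructure.E6Min.Basic

section Sum

variable {M : Type*} [AddCommMonoid M]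

theorem sum_I27 (g : ℕ → M) : ∑ p : I27, g (code p) = ∑ m ∈ Finset.range 27, g m := by
  refine Finset.sum_nbij' code dec ?_ ?_ ?_ ?_ ?_
  · intro p _
    exact Finset.mem_range.2 (code_lt p)
  · intro m _
    exact Finset.mem_univ _
  · intro p _
    exact dec_code p
  · intro m hm
    exact code_dec (Finset.mem_range.1 hm)
  · intro p _
    rfl

theorem sum_range_list (L : List ℕ) (g : ℕ → M) : ∑ m ∈ Finset.range L.length, g (L.getD m 9) = (L.map g).sum := by
  induction L with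
  | nil => simp
  | cons x L ih =>
    rw [List.length_cons, Finset.sum_range_succ', List.map_cons, List.sum_cons, ← ih, add_comm]
    simp only [_root_.List.getD_eq_getElem?_getD, _root_.List.length_cons, _root_.lt_add_iff_pos_left, _root_.Order.lt_add_one_iff, _root_.zero_le, _root_.getElem?_pos, _root_.List.getElem_cons_zero, _root_.Option.getD_some, _root_.List.getElem?_cons_succ]

theorem sum_counts {L : List ℕ} (hL : ∀ x ∈ L, x < 5) (g : ℕ → M) :
    (L.map g).sum = L.count 0 • g 0 + L.count 1 • g 1 + L.count 2 • g 2 + L.count 3 • g 3 + L.count 4 • g 4 := by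
  induction L with
  | nil => simp
  | cons x L ih =>
    rw [List.map_cons, List.sum_cons, ih (fun y hy => hL y (List.mem_cons_of_mem _ hy))]
    have hx : x < 5 := hL x (List.mem_cons_self ..)
    interval_cases x <;> simp only [List.count_cons, beq_iff_eq, if_true, reduceIte, add_zero,
      OfNat.ofNat_ne_zero, OfNat.zero_ne_ofNat, OfNat.one_ne_ofNat, OfNat.ofNat_ne_one, zero_ne_one, one_ne_zero,
      Nat.reduceEqDiff, add_smul, one_smul] <;> abel

end Sum

section Vals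

theorem vals_length (a b c d : ℕ) : (vals a b c d).length = 27 := rfl

theorem vals_lt (a b c d : ℕ) : ∀ x ∈ vals a b c d, x < 5 := by
  intro x hx
  obtain ⟨t, -, rfl⟩ := List.mem_map.1 hx
  exact Nat.mod_lt _ (by omega)

theorem vals_getD (a b c d : ℕ) {m : ℕ} (hm : m < 27) :
    (vals a b c d).getD m 9 = (a * rq m 0 + b * rq m 1 + c * rq m 2 + d * rq m 3) % 5 := by
  interval_cases m <;> rfl

theorem sum_vals {M : Type*} [AddCommMonoid M] (a b c d : ℕ) (g : ℕ → M) :
    ∑ p : I27, g ((vals a b c d).getD (code p) 9) =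
      (vals a b c d).count 0 • g 0 + (vals a b c d).count 1 • g 1 + (vals a b c d).count 2 • g 2 +
        (vals a b c d).count 3 • g 3 + (vals a b c d).count 4 • g 4 := by
  rw [← sum_counts (vals_lt a b c d), ← sum_range_list, vals_length]
  exact sum_I27 fun m => g ((vals a b c d).getD m 9)

end Vals

section Mat

variable {K : Type*} [Field K]

/-- the quadratic polynomial `x² - μ x + 1` -/
def qm (A : Matrix I27 I27 K) (μ : K) : Matrix I27 I27 K := A * A - μ • A + 1

theorem ker_rank (A : Matrix I27 I27 K) (μ : K) :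
    finrank K ↥(LinearMap.ker (Matrix.toLin' A * Matrix.toLin' A - μ • Matrix.toLin' A + 1)) + (qm A μ).rank = 27 := by
  have h1 : Matrix.toLin' A * Matrix.toLin' A - μ • Matrix.toLin' A + 1 = Matrix.toLin' (qm A μ) := by
    unfold qm
    rw [map_add, map_sub, map_smul, Matrix.toLin'_one, Matrix.toLin'_mul]
    rfl
  rw [h1]
  have h2 := LinearMap.finrank_range_add_finrank_ker (Matrix.toLin' (qm A μ))
  rw [Module.finrank_fintype_fun_eq_card] at h2
  have h3 : Fintype.card I27 = 27 := by simp [I27]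
  rw [h3] at h2
  rw [add_comm]
  exact h2

theorem qm_map {F : Type*} [Field F] (f : F →+* K) (A : Matrix I27 I27 F) (μ : F) :
    (qm A μ).map f = qm (A.map f) (f μ) := by
  unfold qm
  ext i j
  simp [Matrix.mul_apply, Matrix.one_apply, apply_ite f, map_sum]

theorem qm_conj (P : GL I27 K) (A : Matrix I27 I27 K) (μ : K) :
    qm ((P : Matrix I27 I27 K) * A * ((P⁻¹ : GL I27 K) : Matrix I27 I27 K)) μ =
      (P : Matrix I27 I27 K) * qm A μ * ((P⁻¹ : GL I27 K) : Matrix I27 I27 K) := by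
  have h1 : ((P⁻¹ : GL I27 K) : Matrix I27 I27 K) * (P : Matrix I27 I27 K) = 1 := by
    rw [← Units.val_mul, inv_mul_cancel, Units.val_one]
  have h2 : (P : Matrix I27 I27 K) * ((P⁻¹ : GL I27 K) : Matrix I27 I27 K) = 1 := by
    rw [← Units.val_mul, mul_inv_cancel, Units.val_one]
  unfold qm
  generalize ((P⁻¹ : GL I27 K) : Matrix I27 I27 K) = Q at *
  generalize (P : Matrix I27 I27 K) = P at *
  have h3 : P * A * Q * (P * A * Q) = P * (A * A) * Q := by
    calc P * A * Q * (P * A * Q) = P * A * (Q * P) * (A * Q) := by simp only [mul_assoc]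
      _ = _ := by rw [h1, mul_one]; simp only [mul_assoc]
  rw [h3, mul_add, mul_sub, add_mul, sub_mul, mul_one, h2, mul_smul_comm, smul_mul_assoc]

theorem rank_conj (P : GL I27 K) (A : Matrix I27 I27 K) :
    ((P : Matrix I27 I27 K) * A * ((P⁻¹ : GL I27 K) : Matrix I27 I27 K)).rank = A.rank := by
  have hP : IsUnit (P : Matrix I27 I27 K).det := (Matrix.isUnit_iff_isUnit_det _).1 P.isUnit
  have hQ : IsUnit ((P⁻¹ : GL I27 K) : Matrix I27 I27 K).det := (Matrix.isUnit_iff_isUnit_det _).1 (P⁻¹).isUnit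
  rw [Matrix.rank_mul_eq_left_of_isUnit_det _ _ hQ, Matrix.rank_mul_eq_right_of_isUnit_det _ _ hP]

theorem rank_qm_diagonal [DecidableEq K] (D : I27 → K) (μ : K) :
    (∑ p : I27, if D p * D p - μ * D p + 1 = 0 then 1 else 0) + (qm (Matrix.diagonal D) μ).rank = 27 := by
  have h1 : qm (Matrix.diagonal D) μ = Matrix.diagonal fun p => D p * D p - μ * D p + 1 := by
    unfold qm
    rw [Matrix.diagonal_mul_diagonal, ← Matrix.diagonal_smul, ← Matrix.diagonal_one]
    ext i j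
    by_cases hij : i = j
    · subst hij; simp
    · simp [hij]
  have h4 := Finset.card_filter_add_card_filter_not (s := (Finset.univ : Finset I27))
    (p := fun i => D i * D i - μ * D i + 1 = 0)
  have h5 : (Finset.univ : Finset I27).card = 27 := by
    rw [Finset.card_univ]; simp [I27]
  rw [h5] at h4
  rw [h1, Matrix.rank_diagonal, ← Finset.card_filter, Fintype.card_subtype]
  exact h4

end Mat

end Cfsg.Agent.H834.F4
end

-- part: H834/F4/Dg
section
/-!
# S5926, F-E4 (helper834): elements of order 5 over an algebraically closed field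
-/

set_option autoImplicit false

namespace Cfsg.Agent.H834.F4

open Cfsg.Lie Cfsg.Agent.H952.F4 Module
open Cfsg.Agent.ChevalleyStructure.E6Min.Tables Cfsg.Agent.ChevalleyStructure.E6Min.Basic
open Cfsg.Agent.GpExc.Field (emb)
open Cfsg.Agent.BpExc.TorAll Cfsg.Agent.BpExc.TorChev Cfsg.Agent.BpExc
open Cfsg.Agent.Nodes.RGDChev

universe u

theorem simple_vec : ∀ i : Fin 4, ∃ s : Fin chevF4.nroots, ∀ j : Fin 4, vec chevF4 4 s j = if j = i then 1 else 0 := by
  intro i
  fin_cases i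
  · exact ⟨⟨33, by decide⟩, by decide +kernel⟩
  · exact ⟨⟨27, by decide⟩, by decide +kernel⟩
  · exact ⟨⟨25, by decide⟩, by decide +kernel⟩
  · exact ⟨⟨24, by decide⟩, by decide +kernel⟩

theorem exists_diag (p : ℕ) [Fact p.Prime] {K : Type u} [Field K] [IsAlgClosed K] [CharP K p] (hK : HAlg p K)
    (hp5 : p ≠ 5) {ρ : ↥(chevF4.group K) →* GL I27 K} (hρ : IsJ ρ) {x : ↥(chevF4.group K)} (hx : x ^ 5 = 1) {ζ : K}
    (hζ : IsPrimitiveRoot ζ 5) : ∃ g : ↥(chevF4.group K), ∃ a < 5, ∃ b < 5, ∃ c < 5, ∃ d < 5,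
      (((ρ g * ρ x * (ρ g)⁻¹ : GL I27 K)) : Matrix I27 I27 K) =
        Matrix.diagonal fun p => ζ ^ (vals a b c d).getD (code p) 9 := by
  have hcop : Nat.Coprime 5 p := (Nat.coprime_primes (by norm_num) Fact.out).2 (Ne.symm hp5)
  obtain ⟨g, hg⟩ := H944.TorAnyChev.exists_conj_mem_TT H815.F4Tor.typeF4 p hK (by norm_num) hcop hx
  obtain ⟨c, hL, hJ⟩ := Tor.diag hρ hg
  have ht5 : (g * x * g⁻¹) ^ 5 = 1 := by rw [conj_pow, hx, mul_one, mul_inv_cancel]
  have hc5 : ∀ i, c i ^ 5 = 1 := by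
    intro i
    obtain ⟨s, hs⟩ := simple_vec i
    have h1 : ((((g * x * g⁻¹ : ↥(chevF4.group K)) : GL chevF4.Idx K) :
        Matrix chevF4.Idx chevF4.Idx K)) ^ 5 = 1 := by
      rw [← Units.val_pow_eq_pow_val, ← Subgroup.coe_pow, ht5]
      rfl
    rw [hL, Matrix.diagonal_pow, ← Matrix.diagonal_one] at h1
    have h2 := congrFun (Matrix.diagonal_injective h1) (Sum.inr s)
    simp only [Pi.pow_apply, Sum.elim_inr] at h2
    rw [← Units.val_pow_eq_pow_val, ← Units.val_one, Units.val_inj] at h2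
    have h3 : ∏ j, c j ^ vec chevF4 4 s j = c i := by
      rw [Finset.prod_eq_single i]
      · rw [hs, if_pos rfl, zpow_one]
      · intro j _ hj
        rw [hs, if_neg hj, zpow_zero]
      · intro h; exact absurd (Finset.mem_univ _) h
    rw [h3] at h2
    exact h2
  have hv : ∀ i, ∃ k < 5, ζ ^ k = c i := by
    intro i
    apply hζ.eq_pow_of_pow_eq_one
    rw [← Units.val_pow_eq_pow_val, hc5, Units.val_one]
  choose v hv5 hv using hv
  refine ⟨g, v 0, hv5 0, v 1, hv5 1, v 2, hv5 2, v 3, hv5 3, ?_⟩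
  have e1 : (ρ g * ρ x * (ρ g)⁻¹ : GL I27 K) = ρ (g * x * g⁻¹) := by rw [map_mul, map_mul, map_inv]
  rw [e1, hJ]
  congr 1
  funext q
  have hq : code q < 27 := code_lt q
  rw [vals_getD _ _ _ _ hq, ← pow_eq_pow_mod _ hζ.pow_eq_one]
  rcases rq_spec ⟨code q, hq⟩ with ⟨h1, h2⟩ | ⟨h1, h2⟩
  · rw [if_pos h1]
    dsimp only at h2
    rw [h2]
    simp
  · rw [if_neg h1]
    dsimp only at h2
    have h3 : ∀ i, c i ^ vec chevF4 4 (wtab.getD (code q) 48) i = c i ^ rq (code q) i := by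
      intro i
      obtain ⟨k, hk⟩ := h2 i
      have h4 : vec chevF4 4 (wtab.getD (code q) 48) i = (rq (code q) i : ℤ) + 5 * k := by linarith only [hk]
      rw [h4, zpow_add, zpow_mul, zpow_natCast]
      have h5 : c i ^ (5 : ℤ) = 1 := by
        have := hc5 i
        exact_mod_cast this
      rw [h5, one_zpow, mul_one]
    rw [Finset.prod_congr rfl fun i _ => h3 i, Fin.prod_univ_four]
    push_cast
    rw [← hv 0, ← hv 1, ← hv 2, ← hv 3, ← pow_mul, ← pow_mul, ← pow_mul, ← pow_mul, ← pow_add, ← pow_add, ← pow_add]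

theorem trace_conj {K : Type*} [Field K] (P : GL I27 K) (A : Matrix I27 I27 K) :
    ((P : Matrix I27 I27 K) * A * ((P⁻¹ : GL I27 K) : Matrix I27 I27 K)).trace = A.trace := by
  rw [Matrix.trace_mul_comm, ← mul_assoc, ← Units.val_mul, inv_mul_cancel, Units.val_one, one_mul]

/-- the invariants of an element with a known diagonal form -/
theorem invariants {K : Type u} [Field K] [DecidableEq K] {ρ : ↥(chevF4.group K) →* GL I27 K}
    {x g : ↥(chevF4.group K)} {ζ : K} (hζ : IsPrimitiveRoot ζ 5) {a b c d : ℕ}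
    (h : (((ρ g * ρ x * (ρ g)⁻¹ : GL I27 K)) : Matrix I27 I27 K) =
        Matrix.diagonal fun p => ζ ^ (vals a b c d).getD (code p) 9) (μ : K) :
    ((vals a b c d).count 0 = ev (JK ρ x) 1) ∧
    finrank K ↥(LinearMap.ker (JK ρ x * JK ρ x - μ • JK ρ x + 1)) =
      (vals a b c d).count 0 * (if (1 : K) - μ + 1 = 0 then 1 else 0) +
      (vals a b c d).count 1 * (if ζ ^ 2 - μ * ζ + 1 = 0 then 1 else 0) +
      (vals a b c d).count 2 * (if ζ ^ 4 - μ * ζ ^ 2 + 1 = 0 then 1 else 0) +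
      (vals a b c d).count 3 * (if ζ ^ 6 - μ * ζ ^ 3 + 1 = 0 then 1 else 0) +
      (vals a b c d).count 4 * (if ζ ^ 8 - μ * ζ ^ 4 + 1 = 0 then 1 else 0) ∧
    LinearMap.trace K _ (JK ρ x) = (vals a b c d).count 0 + (vals a b c d).count 1 * ζ +
      (vals a b c d).count 2 * ζ ^ 2 + (vals a b c d).count 3 * ζ ^ 3 + (vals a b c d).count 4 * ζ ^ 4 ∧
    LinearMap.trace K _ (JK ρ (x * x)) = (vals a b c d).count 0 + (vals a b c d).count 1 * ζ ^ 2 +
      (vals a b c d).count 2 * ζ ^ 4 + (vals a b c d).count 3 * ζ ^ 6 + (vals a b c d).count 4 * ζ ^ 8 := by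
  have hne : ∀ i, 0 < i → i < 5 → ζ ^ i ≠ 1 := fun i hi hi5 => hζ.pow_ne_one_of_pos_of_lt hi.ne' hi5
  set! A : Matrix I27 I27 K := ((ρ x : GL I27 K) : Matrix I27 I27 K) with hA
  set! D : I27 → K := fun p => ζ ^ (vals a b c d).getD (code p) 9 with hD; rewrite [← hD] at h
  have h' : ((ρ g : GL I27 K) : Matrix I27 I27 K) * A * (((ρ g)⁻¹ : GL I27 K) : Matrix I27 I27 K) =
    Matrix.diagonal D := by rw [← h, Units.val_mul, Units.val_mul]
  have hJ : JK ρ x = Matrix.toLin' A := rfl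
  refine ⟨?_, ?_, ?_, ?_⟩
  · have h1 := H815.F4Chg.ev_toLin A (1 : K)
    have h3 : Fintype.card I27 = 27 := by simp [I27]
    rw [← rank_conj (ρ g), h3, ← hJ] at h1
    have h2 : ((ρ g : GL I27 K) : Matrix I27 I27 K) * (A - (1 : K) • 1) * (((ρ g)⁻¹ : GL I27 K) : Matrix I27 I27 K) =
        Matrix.diagonal fun p => D p - 1 := by
      rw [mul_sub, sub_mul, h', one_smul, mul_one, ← Units.val_mul, mul_inv_cancel, Units.val_one,
        ← Matrix.diagonal_one]
      ext i j
      by_cases hij : i = j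
      · subst hij; simp
      · simp [hij]
    rw [h2, Matrix.rank_diagonal, Fintype.card_subtype] at h1
    have h4 := Finset.card_filter_add_card_filter_not (s := (Finset.univ : Finset I27)) (p := fun i => D i - 1 = 0)
    have h5 : (Finset.univ : Finset I27).card = 27 := by
      rw [Finset.card_univ]; simp [I27]
    rw [h5] at h4
    have h6 : (Finset.univ.filter fun i : I27 => D i - 1 = 0).card = (vals a b c d).count 0 := by
      rw [Finset.card_filter]
      have h7 := sum_vals (M := ℕ) a b c d (fun v => if ζ ^ v - 1 = 0 then 1 else 0)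
      have e1 : (if ζ ^ 1 - 1 = 0 then 1 else 0 : ℕ) = 0 := if_neg (sub_ne_zero.2 (hne 1 (by omega) (by omega)))
      have e2 : (if ζ ^ 2 - 1 = 0 then 1 else 0 : ℕ) = 0 := if_neg (sub_ne_zero.2 (hne 2 (by omega) (by omega)))
      have e3 : (if ζ ^ 3 - 1 = 0 then 1 else 0 : ℕ) = 0 := if_neg (sub_ne_zero.2 (hne 3 (by omega) (by omega)))
      have e4 : (if ζ ^ 4 - 1 = 0 then 1 else 0 : ℕ) = 0 := if_neg (sub_ne_zero.2 (hne 4 (by omega) (by omega)))
      have e0 : (if ζ ^ 0 - 1 = 0 then 1 else 0 : ℕ) = 1 := if_pos (by simp)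
      rw [e0, e1, e2, e3, e4] at h7
      simp only [smul_eq_mul, mul_one, mul_zero, add_zero] at h7
      exact h7
    have h8 : ev (JK ρ x) 1 + (Finset.univ.filter fun i : I27 => ¬ (D i - 1 = 0)).card = 27 := h1
    have h9 : (Finset.univ.filter fun i : I27 => D i - 1 = 0).card +
      (Finset.univ.filter fun i : I27 => ¬ (D i - 1 = 0)).card = 27 := h4
    omega
  · have h1 := ker_rank A μ
    rw [← rank_conj (ρ g), ← qm_conj, h'] at h1
    have h2 := rank_qm_diagonal D μ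
    have h3 : finrank K ↥(LinearMap.ker (JK ρ x * JK ρ x - μ • JK ρ x + 1)) =
        ∑ p : I27, if D p * D p - μ * D p + 1 = 0 then 1 else 0 := by
      rw [hJ]; omega
    rw [h3]
    have h7 := sum_vals (M := ℕ) a b c d (fun v => if ζ ^ v * ζ ^ v - μ * ζ ^ v + 1 = 0 then 1 else 0)
    have e : ∀ v, ζ ^ v * ζ ^ v = ζ ^ (2 * v) := fun v => by rw [← pow_add, two_mul]
    simp only [smul_eq_mul, e] at h7
    simp only [hD, e]
    rw [h7]
    norm_num only [_root_.pow_zero, _root_.mul_one, _root_.mul_ite, _root_.MulZeroClass.mul_zero, _root_.pow_one, _root_.Nat.add_left_cancel_iff]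
  · have h1 : LinearMap.trace K _ (JK ρ x) = (Matrix.diagonal D).trace := by
      rw [hJ, Matrix.trace_toLin'_eq, ← h', trace_conj]
    rw [h1, Matrix.trace_diagonal]
    have h7 := sum_vals a b c d (fun v => ζ ^ v)
    rw [h7]
    simp only [_root_.pow_zero, _root_.nsmul_eq_mul, _root_.mul_one, _root_.pow_one]
  · have h1 : LinearMap.trace K _ (JK ρ (x * x)) = (Matrix.diagonal D * Matrix.diagonal D).trace := by
      have h2 : JK ρ (x * x) = Matrix.toLin' (A * A) := by
        show Matrix.toLin' ((ρ (x * x) : GL I27 K) : Matrix I27 I27 K) = _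
        rw [map_mul, Units.val_mul]
      have h3 : Matrix.diagonal D * Matrix.diagonal D =
          ((ρ g : GL I27 K) : Matrix I27 I27 K) * (A * A) * (((ρ g)⁻¹ : GL I27 K) : Matrix I27 I27 K) := by
        have h4 : (((ρ g)⁻¹ : GL I27 K) : Matrix I27 I27 K) * ((ρ g : GL I27 K) : Matrix I27 I27 K) = 1 := by
          rw [← Units.val_mul, inv_mul_cancel, Units.val_one]
        rw [← h']
        calc _ = ((ρ g : GL I27 K) : Matrix I27 I27 K) * A * ((((ρ g)⁻¹ : GL I27 K) : Matrix I27 I27 K) *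
              ((ρ g : GL I27 K) : Matrix I27 I27 K)) * (A * (((ρ g)⁻¹ : GL I27 K) : Matrix I27 I27 K)) := by
              simp only [mul_assoc]
          _ = _ := by rw [h4, mul_one]; simp only [mul_assoc]
      rw [h2, Matrix.trace_toLin'_eq, h3, trace_conj]
    rw [h1, Matrix.diagonal_mul_diagonal, Matrix.trace_diagonal]
    have h7 := sum_vals a b c d (fun v => ζ ^ v * ζ ^ v)
    rw [h7]
    simp only [nsmul_eq_mul]
    ring

end Cfsg.Agent.H834.F4
end

-- part: H834/F4/Ax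
section
/-!
# S5926, F-E4 (helper834): `axis_dim`, `axis` relative to a representation over the closure
-/

set_option autoImplicit false

namespace Cfsg.Agent.H834.F4

open Cfsg.Lie Cfsg.Agent.H952.F4 Module
open Cfsg.Agent.ChevalleyStructure.E6Min.Tables Cfsg.Agent.ChevalleyStructure.E6Min.Basic
open Cfsg.Agent.GpExc.Field (emb emb_injective)
open Cfsg.Agent.BpExc.TorAll Cfsg.Agent.BpExc.TorChev Cfsg.Agent.BpExc
open Cfsg.Agent.Nodes.RGDChev

universe u

section Root

variable {K : Type u} [Field K]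

theorem prim_of_golden (h5 : (5 : K) ≠ 0) {ζ μ : K} (hμ : μ * μ + μ = 1) (hζ : ζ * ζ - μ * ζ + 1 = 0) :
    IsPrimitiveRoot ζ 5 := by
  have h1 : ζ ^ 4 + ζ ^ 3 + ζ ^ 2 + ζ + 1 = 0 := by
    linear_combination (ζ ^ 2 + (μ + 1) * ζ + 1) * hζ + ζ ^ 2 * hμ
  have h2 : ζ ^ 5 = 1 := by linear_combination (ζ - 1) * h1
  have h3 : ζ ≠ 1 := by
    rintro rfl
    apply h5
    linear_combination h1
  have := Fact.mk (by norm_num : Nat.Prime 5)
  rw [IsPrimitiveRoot.iff_orderOf]
  exact orderOf_eq_prime h2 h3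

/-- the roots of `x² - μ x + 1` among the powers of `ζ` -/
theorem roots_cases [DecidableEq K] {ζ μ : K} (hζ : IsPrimitiveRoot ζ 5) {n0 n1 n2 n3 n4 : ℕ}
    (h0 : n0 = 5) (h : n0 * (if (1 : K) - μ + 1 = 0 then 1 else 0) + n1 * (if ζ ^ 2 - μ * ζ + 1 = 0 then 1 else 0) +
      n2 * (if ζ ^ 4 - μ * ζ ^ 2 + 1 = 0 then 1 else 0) + n3 * (if ζ ^ 6 - μ * ζ ^ 3 + 1 = 0 then 1 else 0) +
      n4 * (if ζ ^ 8 - μ * ζ ^ 4 + 1 = 0 then 1 else 0) = 12) :
    (n1 + n4 = 12 ∧ (1 : K) - μ + 1 ≠ 0 ∧ ζ ^ 2 - μ * ζ + 1 = 0 ∧ ζ ^ 4 - μ * ζ ^ 2 + 1 ≠ 0 ∧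
      ζ ^ 6 - μ * ζ ^ 3 + 1 ≠ 0 ∧ ζ ^ 8 - μ * ζ ^ 4 + 1 = 0) ∨
    (n2 + n3 = 12 ∧ (1 : K) - μ + 1 ≠ 0 ∧ ζ ^ 2 - μ * ζ + 1 ≠ 0 ∧ ζ ^ 4 - μ * ζ ^ 2 + 1 = 0 ∧
      ζ ^ 6 - μ * ζ ^ 3 + 1 = 0 ∧ ζ ^ 8 - μ * ζ ^ 4 + 1 ≠ 0) := by
  have hz5 := hζ.pow_eq_one
  have hz0 : ζ ≠ 0 := hζ.ne_zero (by norm_num)
  have z1 : ζ - 1 ≠ 0 := sub_ne_zero.2 (by
    have := hζ.pow_ne_one_of_pos_of_lt (l := 1) (by norm_num) (by norm_num); rwa [pow_one] at this)
  have z2 : ζ ^ 2 - 1 ≠ 0 := sub_ne_zero.2 (hζ.pow_ne_one_of_pos_of_lt (by norm_num) (by norm_num))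
  have z3 : ζ ^ 3 - 1 ≠ 0 := sub_ne_zero.2 (hζ.pow_ne_one_of_pos_of_lt (by norm_num) (by norm_num))
  have e4 : ζ ^ 8 - μ * ζ ^ 4 + 1 = ζ ^ 3 * (ζ ^ 2 - μ * ζ + 1) := by linear_combination (ζ ^ 3 - 1) * hz5
  have e3 : ζ ^ 6 - μ * ζ ^ 3 + 1 = ζ * (ζ ^ 4 - μ * ζ ^ 2 + 1) := by linear_combination (ζ - 1) * hz5
  have i4 : ζ ^ 8 - μ * ζ ^ 4 + 1 = 0 ↔ ζ ^ 2 - μ * ζ + 1 = 0 := by
    rw [e4, mul_eq_zero, or_iff_right (pow_ne_zero _ hz0)]
  have i3 : ζ ^ 6 - μ * ζ ^ 3 + 1 = 0 ↔ ζ ^ 4 - μ * ζ ^ 2 + 1 = 0 := by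
    rw [e3, mul_eq_zero, or_iff_right hz0]
  have c01 : (1 : K) - μ + 1 = 0 → ζ ^ 2 - μ * ζ + 1 = 0 → False := by
    intro h0 h1
    have h2 : (ζ - 1) * (ζ - 1) = 0 := by linear_combination h1 - ζ * h0
    exact z1 (mul_self_eq_zero.1 h2)
  have c02 : (1 : K) - μ + 1 = 0 → ζ ^ 4 - μ * ζ ^ 2 + 1 = 0 → False := by
    intro h0 h1
    have h2 : (ζ ^ 2 - 1) * (ζ ^ 2 - 1) = 0 := by linear_combination h1 - ζ ^ 2 * h0
    exact z2 (mul_self_eq_zero.1 h2)
  have c12 : ζ ^ 2 - μ * ζ + 1 = 0 → ζ ^ 4 - μ * ζ ^ 2 + 1 = 0 → False := by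
    intro h0 h1
    have h2 : (ζ - 1) * (ζ ^ 3 - 1) = 0 := by linear_combination h1 - ζ * h0
    exact (mul_eq_zero.1 h2).elim z1 z3
  by_cases a0 : (1 : K) - μ + 1 = 0
  · exfalso
    rw [if_pos a0, if_neg (c01 a0), if_neg (c02 a0), if_neg (fun h => c02 a0 (i3.1 h)),
      if_neg (fun h => c01 a0 (i4.1 h))] at h
    (solve | lia | omega)
  · by_cases a1 : ζ ^ 2 - μ * ζ + 1 = 0
    · left
      have a2 := c12 a1
      rw [if_neg a0, if_pos a1, if_neg a2, if_neg (fun h => a2 (i3.1 h)), if_pos (i4.2 a1)] at h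
      exact ⟨by (clear * - h; solve | lia | omega), a0, a1, a2, fun h => a2 (i3.1 h), i4.2 a1⟩
    · by_cases a2 : ζ ^ 4 - μ * ζ ^ 2 + 1 = 0
      · right
        rw [if_neg a0, if_neg a1, if_pos a2, if_pos (i3.2 a2), if_neg (fun h => a1 (i4.1 h))] at h
        exact ⟨by (clear * - h; solve | lia | omega), a0, a1, a2, i3.2 a2, fun h => a1 (i4.1 h)⟩
      · exfalso
        rw [if_neg a0, if_neg a1, if_neg a2, if_neg (fun h => a2 (i3.1 h)), if_neg (fun h => a1 (i4.1 h))] at h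
        (clear * - h; solve | lia | omega)

/-- the kernel of the quadratic polynomial and a change of fields -/
theorem finrank_map {F : Type u} [Field F] (f : F →+* K) {ρ : ↥(chevF4.group F) →* GL I27 F}
    {ρ' : ↥(chevF4.group K) →* GL I27 K} (h : IsJ ρ) (h' : IsJ ρ') (z : ↥(chevF4.group F)) (μ : F) :
    finrank K ↥(LinearMap.ker (JK ρ' (emb hF4 f z) * JK ρ' (emb hF4 f z) - f μ • JK ρ' (emb hF4 f z) + 1)) =
      finrank F ↥(LinearMap.ker (JK ρ z * JK ρ z - μ • JK ρ z + 1)) := by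
  have h1 := ker_rank ((ρ z : GL I27 F) : Matrix I27 I27 F) μ
  have h2 := ker_rank ((ρ' (emb hF4 f z) : GL I27 K) : Matrix I27 I27 K) (f μ)
  rw [H815.F4Chg.J_map f h h' z, ← qm_map, H593.RobinsonRank.rank_map] at h2
  have e1 : JK ρ z = Matrix.toLin' ((ρ z : GL I27 F) : Matrix I27 I27 F) := rfl
  have e2 : JK ρ' (emb hF4 f z) = Matrix.toLin' (((ρ z : GL I27 F) : Matrix I27 I27 F).map f) := by
    rw [← H815.F4Chg.J_map f h h' z]; rfl
  rw [e1, e2]
  omega

theorem chk_of {a b c d : ℕ} (ha : a < 5) (hb : b < 5) (hc : c < 5) (hd : d < 5) : chk (vals a b c d) = true :=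
  allLt_spec (allLt_spec (allLt_spec (allLt_spec chk_all a ha) b hb) c hc) d hd

/-- the multiplicities -/
theorem counts {L : List ℕ} (h : chk L = true) (h0 : L.count 0 = 5) :
    (L.count 1 = 6 ∧ L.count 4 = 6 ∧ L.count 2 = 5 ∧ L.count 3 = 5) ∨
      (L.count 1 = 5 ∧ L.count 4 = 5 ∧ L.count 2 = 6 ∧ L.count 3 = 6) := by
  unfold chk at h
  rw [h0] at h
  simp only [bne_self_eq_false, Bool.false_or, Bool.and_eq_true, Bool.or_eq_true, beq_iff_eq] at h
  obtain ⟨h, -⟩ := h
  rcases h with ⟨⟨⟨h1, h2⟩, h3⟩, h4⟩ | ⟨⟨⟨h1, h2⟩, h3⟩, h4⟩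
  · exact Or.inl ⟨h1, h2, h3, h4⟩
  · exact Or.inr ⟨h1, h2, h3, h4⟩

theorem chk_axis {L : List ℕ} (h : chk L = true) (h0 : L.count 0 = 5) {e : ℕ} (he : e = 1 ∨ e = 2)
    (hc : L.count e + L.count (5 - e) = 12) :
    ∃ k, (k = 0 ∨ k = 4 ∨ k = 8) ∧ chkA L e k = true ∧ chkB L e k = true ∧ chkE L k = true := by
  unfold chk at h
  rw [h0] at h
  simp only [bne_self_eq_false, Bool.false_or, Bool.and_eq_true] at h
  obtain ⟨-, h⟩ := h
  have h1 := List.all_eq_true.1 h e (by simpa using he)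
  rw [hc] at h1
  simp only [bne_self_eq_false, Bool.false_or] at h1
  obtain ⟨k, hk, hk2⟩ := List.any_eq_true.1 h1
  simp only [Bool.and_eq_true] at hk2
  exact ⟨k, by simpa using hk, hk2.1.1, hk2.1.2, hk2.2⟩

end Root

section Main

variable {F K : Type u} [Field F] [Field K] [IsAlgClosed K]

theorem axis_dim_aux (p : ℕ) [Fact p.Prime] [CharP K p] (hK : HAlg p K) (f : F →+* K) (hp5 : p ≠ 5)
    {ρ : ↥(chevF4.group F) →* GL I27 F} {ρ' : ↥(chevF4.group K) →* GL I27 K} (hρ : IsJ ρ) (hρ' : IsJ ρ')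
    {z : ↥(chevF4.group F)} (hz : z ^ 5 = 1) (h5 : ev (JK ρ z) 1 = 5) (μ : F) (hμ : μ * μ + μ = 1) :
    (finrank F ↥(LinearMap.ker (JK ρ z * JK ρ z - μ • JK ρ z + 1)) = 12 ∧
      LinearMap.trace F _ (JK ρ z) - LinearMap.trace F _ (JK ρ (z * z)) = 2 * μ + 1) ∨
    (finrank F ↥(LinearMap.ker (JK ρ z * JK ρ z - μ • JK ρ z + 1)) = 10 ∧
      LinearMap.trace F _ (JK ρ z) - LinearMap.trace F _ (JK ρ (z * z)) = -(2 * μ + 1)) := by
  classical
  have h5K : (5 : K) ≠ 0 := by
    intro h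
    have h1 : ((5 : ℕ) : K) = 0 := by exact_mod_cast h
    rw [CharP.cast_eq_zero_iff K p] at h1
    exact hp5 ((Nat.prime_dvd_prime_iff_eq Fact.out (by norm_num)).1 h1)
  set! ν := f μ with hν
  have hνν : ν * ν + ν = 1 := by rw [hν, ← map_mul, ← map_add, hμ, map_one]
  obtain ⟨ζ, hζ⟩ : ∃ ζ : K, ζ * ζ - ν * ζ + 1 = 0 := by
    have hdeg : (Polynomial.C (1 : K) * Polynomial.X ^ 2 + Polynomial.C (-ν) * Polynomial.X + Polynomial.C 1).degree ≠ 0 := by
      rw [Polynomial.degree_quadratic one_ne_zero]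
      norm_num
    obtain ⟨ζ, hζ⟩ := IsAlgClosed.exists_root _ hdeg
    refine ⟨ζ, ?_⟩
    rw [Polynomial.IsRoot, Polynomial.eval_add, Polynomial.eval_add, Polynomial.eval_mul, Polynomial.eval_mul,
      Polynomial.eval_pow, Polynomial.eval_X, Polynomial.eval_C, Polynomial.eval_C] at hζ
    linear_combination hζ
  have hprim := prim_of_golden h5K hνν hζ
  have hz5 := hprim.pow_eq_one
  have hz' : (emb hF4 f z) ^ 5 = 1 := by rw [← map_pow, hz, map_one]
  obtain ⟨g, a, ha, b, hb, c, hc, d, hd, hdiag⟩ := exists_diag p hK hp5 hρ' hz' hprim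
  obtain ⟨i1, i2, i3, i4⟩ := invariants hprim hdiag ν
  have h0 : (vals a b c d).count 0 = 5 := by
    rw [i1, ← map_one f, Chg.ev_J f hρ hρ', h5]
  rw [finrank_map f hρ hρ'] at i2
  rw [Chg.trace_J f hρ hρ'] at i3
  rw [← map_mul (emb hF4 f), Chg.trace_J f hρ hρ'] at i4
  have c0 : (1 : K) - ν + 1 ≠ 0 := by
    intro h
    apply h5K
    linear_combination hνν + (3 + ν) * h
  have c1 : ζ ^ 2 - ν * ζ + 1 = 0 := by linear_combination hζ
  have c4 : ζ ^ 8 - ν * ζ ^ 4 + 1 = 0 := by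
    linear_combination ζ ^ 3 * c1 + (ζ ^ 3 - 1) * hz5
  have h2ν : 2 * ν + 1 ≠ 0 := by
    intro h
    apply h5K
    linear_combination (2 * ν + 1) * h - 4 * hνν
  have hs : ζ + ζ ^ 4 = ν := by
    have h1 : ζ * (ζ + ζ ^ 4 - ν) = 0 := by linear_combination c1 + hz5
    have := (mul_eq_zero.1 h1).resolve_left (hprim.ne_zero (by norm_num))
    linear_combination this
  have hs2 : ζ ^ 2 + ζ ^ 3 = -1 - ν := by
    have h1 : ζ ^ 4 + ζ ^ 3 + ζ ^ 2 + ζ + 1 = 0 := by
      linear_combination (ζ ^ 2 + (ν + 1) * ζ + 1) * hζ + ζ ^ 2 * hνν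
    linear_combination h1 - hs
  have c2 : ζ ^ 4 - ν * ζ ^ 2 + 1 ≠ 0 := by
    intro h
    apply h2ν
    have h1 : ζ ^ 2 * (2 * ν + 1) = 0 := by
      linear_combination -h + ζ ^ 2 * hs2 - hz5
    exact (mul_eq_zero.1 h1).resolve_left (pow_ne_zero _ (hprim.ne_zero (by norm_num)))
  have c3 : ζ ^ 6 - ν * ζ ^ 3 + 1 ≠ 0 := by
    intro h
    apply c2
    have h1 : ζ * (ζ ^ 4 - ν * ζ ^ 2 + 1) = 0 := by linear_combination h - (ζ - 1) * hz5
    exact (mul_eq_zero.1 h1).resolve_left (hprim.ne_zero (by norm_num))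
  rw [if_neg c0, if_pos c1, if_neg c2, if_neg c3, if_pos c4] at i2
  rcases counts (chk_of ha hb hc hd) h0 with ⟨n1, n4, n2, n3⟩ | ⟨n1, n4, n2, n3⟩
  · left
    refine ⟨by omega, ?_⟩
    apply f.injective
    rw [map_sub, i3, i4, n1, n2, n3, n4, map_add, map_mul, map_one, ← hν]
    push_cast
    rw [map_ofNat]
    linear_combination hs - hs2 - (5 * ζ + 6 * ζ ^ 3) * hz5
  · right
    refine ⟨by omega, ?_⟩
    apply f.injective
    rw [map_sub, i3, i4, n1, n2, n3, n4, map_neg, map_add, map_mul, map_one, ← hν]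
    push_cast
    rw [map_ofNat]
    linear_combination hs2 - hs - (6 * ζ + 5 * ζ ^ 3) * hz5

end Main

end Cfsg.Agent.H834.F4
end

-- part: H834/F4/Ax2
section
/-!
# S5926, F-E4 (helper834): `axis` relative to a representation over the closure
-/

set_option autoImplicit false

namespace Cfsg.Agent.H834.F4

open Cfsg.Lie Cfsg.Agent.H952.F4 Module
open Cfsg.Agent.ChevalleyStructure.E6Min.Tables Cfsg.Agent.ChevalleyStructure.E6Min.Basic
open Cfsg.Agent.GpExc.Field (emb emb_injective)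
open Cfsg.Agent.BpExc.TorAll Cfsg.Agent.BpExc.TorChev Cfsg.Agent.BpExc
open Cfsg.Agent.Nodes.RGDChev

universe u

theorem exists_prim {K : Type u} [Field K] [IsAlgClosed K] (h2 : (2 : K) ≠ 0) (h5 : (5 : K) ≠ 0) :
    ∃ ζ : K, IsPrimitiveRoot ζ 5 := by
  obtain ⟨r, hr⟩ := IsAlgClosed.exists_pow_nat_eq (5 : K) (n := 2) (by norm_num)
  obtain ⟨y, hy⟩ := IsAlgClosed.exists_pow_nat_eq (((r - 1) / 2) ^ 2 - 4 : K) (n := 2) (by norm_num)
  refine ⟨((r - 1) / 2 + y) / 2, prim_of_golden h5 (μ := (r - 1) / 2) ?_ ?_⟩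
  · field_simp
    linear_combination hr
  · field_simp
    field_simp at hy
    linear_combination hy

section Main

variable {F K : Type u} [Field F] [Field K]

theorem JK_emb (f : F →+* K) {ρ : ↥(chevF4.group F) →* GL I27 F} {ρ' : ↥(chevF4.group K) →* GL I27 K}
    (hρ : IsJ ρ) (hρ' : IsJ ρ') (g : ↥(chevF4.group F)) (v : I27 → F) :
    JK ρ' (emb hF4 f g) (fun p => f (v p)) = fun p => f (JK ρ g v p) := by
  rw [Inv.JK_apply, Inv.JK_apply, H815.F4Chg.J_map f hρ hρ' g]
  funext p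
  exact (RingHom.map_mulVec f _ v p).symm

/-- the diagonal action -/
theorem JK_diag {ρ' : ↥(chevF4.group K) →* GL I27 K} {x g : ↥(chevF4.group K)} {D : I27 → K}
    (h : (((ρ' g * ρ' x * (ρ' g)⁻¹ : GL I27 K)) : Matrix I27 I27 K) = Matrix.diagonal D) (v : I27 → K) (p : I27) :
    JK ρ' (g * x * g⁻¹) v p = D p * v p := by
  have e1 : (ρ' g * ρ' x * (ρ' g)⁻¹ : GL I27 K) = ρ' (g * x * g⁻¹) := by rw [map_mul, map_mul, map_inv]
  rw [Inv.JK_apply, ← e1, h, Matrix.mulVec_diagonal]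

theorem axis_aux [IsAlgClosed K] (p : ℕ) [Fact p.Prime] [CharP K p] (hK : HAlg p K) (f : F →+* K) (hp2 : p ≠ 2)
    (hp5 : p ≠ 5) {ρ : ↥(chevF4.group F) →* GL I27 F} {ρ' : ↥(chevF4.group K) →* GL I27 K} (hρ : IsJ ρ)
    (hρ' : IsJ ρ') {z s : ↥(chevF4.group F)} (hz : z ^ 5 = 1) (hs : s * z * s⁻¹ = z⁻¹) (h5 : ev (JK ρ z) 1 = 5)
    (μ : F) (hμ : finrank F ↥(LinearMap.ker (JK ρ z * JK ρ z - μ • JK ρ z + 1)) = 12)
    (x : I27 → F) (hx : JK ρ z x = x) (hsx : JK ρ s x = -x) (w : I27 → F)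
    (hw : JK ρ z (JK ρ z w) - μ • JK ρ z w + w = 0) : cr (sh x) w = 0 := by
  classical
  have h5K : (5 : K) ≠ 0 := by
    intro h
    have h1 : ((5 : ℕ) : K) = 0 := by exact_mod_cast h
    rw [CharP.cast_eq_zero_iff K p] at h1
    exact hp5 ((Nat.prime_dvd_prime_iff_eq Fact.out (by norm_num)).1 h1)
  have h2K : (2 : K) ≠ 0 := by
    intro h
    have h1 : ((2 : ℕ) : K) = 0 := by exact_mod_cast h
    rw [CharP.cast_eq_zero_iff K p] at h1
    exact hp2 ((Nat.prime_dvd_prime_iff_eq Fact.out (by norm_num)).1 h1)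
  obtain ⟨ζ, hprim⟩ := exists_prim h2K h5K
  have hz' : (emb hF4 f z) ^ 5 = 1 := by rw [← map_pow, hz, map_one]
  obtain ⟨g, a, ha, b, hb, c, hc, d, hd, hdiag⟩ := exists_diag p hK hp5 hρ' hz' hprim
  obtain ⟨i1, i2, -, -⟩ := invariants hprim hdiag (f μ)
  have h0 : (vals a b c d).count 0 = 5 := by
    rw [i1, ← map_one f, Chg.ev_J f hρ hρ', h5]
  rw [finrank_map f hρ hρ', hμ] at i2
  have hrc := roots_cases hprim h0 i2.symm
  set! L := vals a b c d with hL; rewrite [← hL] at hrc h0 i2 i1 hdiag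
  set! ν := f μ with hν; rewrite [← hν] at hrc i2
  -- the class
  obtain ⟨e, he, hce, hroots⟩ : ∃ e, (e = 1 ∨ e = 2) ∧ L.count e + L.count (5 - e) = 12 ∧
      ∀ v < 5, (ζ ^ v * ζ ^ v - ν * ζ ^ v + 1 = 0 ↔ (v = e ∨ v = 5 - e)) := by
    rcases hrc with ⟨n, r0, r1, r2, r3, r4⟩ | ⟨n, r0, r1, r2, r3, r4⟩
    · refine ⟨1, Or.inl rfl, n, ?_⟩
      intro v hv
      rw [← pow_add, ← two_mul]
      interval_cases v
      · simp only [mul_zero, pow_zero, mul_one]
        exact iff_of_false r0 (by decide)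
      · simp only [mul_one, pow_one]
        exact iff_of_true r1 (by decide)
      · exact iff_of_false r2 (by decide)
      · exact iff_of_false r3 (by decide)
      · exact iff_of_true r4 (by decide)
    · refine ⟨2, Or.inr rfl, n, ?_⟩
      intro v hv
      rw [← pow_add, ← two_mul]
      interval_cases v
      · simp only [mul_zero, pow_zero, mul_one]
        exact iff_of_false r0 (by decide)
      · simp only [mul_one, pow_one]
        exact iff_of_false r1 (by decide)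
      · exact iff_of_true r2 (by decide)
      · exact iff_of_true r3 (by decide)
      · exact iff_of_false r4 (by decide)
  obtain ⟨k, hk, hA, hB, hE⟩ := chk_axis (chk_of ha hb hc hd) h0 he hce
  have hkL : L.getD k 9 = 0 := by
    rw [hL, vals_getD _ _ _ _ (by omega)]
    rcases hk with rfl | rfl | rfl <;> simp [rq, rN]
  set! t := g * emb hF4 f z * g⁻¹ with ht
  set! S := g * emb hF4 f s * g⁻¹ with hS
  have hSt : S * t * S⁻¹ = t⁻¹ := by
    rw [hS, ht]
    have h1 : emb hF4 f s * emb hF4 f z * (emb hF4 f s)⁻¹ = (emb hF4 f z)⁻¹ := by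
      rw [← map_mul, ← map_inv, ← map_mul, hs, map_inv]
    calc g * emb hF4 f s * g⁻¹ * (g * emb hF4 f z * g⁻¹) * (g * emb hF4 f s * g⁻¹)⁻¹
        = g * (emb hF4 f s * emb hF4 f z * (emb hF4 f s)⁻¹) * g⁻¹ := by group
      _ = _ := by rw [h1]; group
  have hval : ∀ m < 27, L.getD m 9 < 5 := by
    intro m hm
    rw [hL, vals_getD _ _ _ _ hm]
    exact Nat.mod_lt _ (by norm_num)
  have hD : ∀ (v : I27 → K) (m : ℕ), m < 27 → JK ρ' t v (dec m) = ζ ^ L.getD m 9 * v (dec m) := by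
    intro v m hm
    rw [ht, JK_diag hdiag, code_dec hm]
  have hJ : ∀ v : I27 → K, JK ρ' t v = v ↔ ∀ m < 27, L.getD m 9 ≠ 0 → v (dec m) = 0 := by
    intro v
    constructor
    · intro h m hm hne
      have h1 := congrFun h (dec m)
      rw [hD v m hm] at h1
      have h2 : (ζ ^ L.getD m 9 - 1) * v (dec m) = 0 := by linear_combination h1
      exact (mul_eq_zero.1 h2).resolve_left (sub_ne_zero.2 (hprim.pow_ne_one_of_pos_of_lt hne (hval m hm)))
    · intro h
      apply ext27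
      intro m hm
      rw [hD v m hm]
      by_cases h1 : L.getD m 9 = 0
      · rw [h1, pow_zero, one_mul]
      · rw [h m hm h1, mul_zero]
  have hU : ∀ v : I27 → K, JK ρ' t (JK ρ' t v) - ν • JK ρ' t v + v = 0 ↔
      ∀ m < 27, inC L e m = false → v (dec m) = 0 := by
    intro v
    have hin : ∀ m, inC L e m = true ↔ (L.getD m 9 = e ∨ L.getD m 9 = 5 - e) := by
      intro m
      simp [inC]
    constructor
    · intro h m hm hne
      have h1 := congrFun h (dec m)
      rw [Pi.add_apply, Pi.sub_apply, Pi.smul_apply, hD _ m hm, hD v m hm, Pi.zero_apply, smul_eq_mul] at h1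
      have h2 : (ζ ^ L.getD m 9 * ζ ^ L.getD m 9 - ν * ζ ^ L.getD m 9 + 1) * v (dec m) = 0 := by
        linear_combination h1
      refine (mul_eq_zero.1 h2).resolve_left ?_
      rw [hroots _ (hval m hm), ← hin, hne]
      simp
    · intro h
      apply ext27
      intro m hm
      rw [Pi.add_apply, Pi.sub_apply, Pi.smul_apply, hD _ m hm, hD v m hm, Pi.zero_apply, smul_eq_mul]
      rcases Bool.eq_false_or_eq_true (inC L e m) with h1 | h1
      · rw [hin, ← hroots _ (hval m hm)] at h1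
        linear_combination v (dec m) * h1
      · rw [h m hm h1]
        ring
  -- the vectors over `K`
  set! x' : I27 → K := JK ρ' g (fun p => f (x p)) with hx'
  set! w' : I27 → K := JK ρ' g (fun p => f (w p)) with hw'
  have hmul : ∀ (a b : ↥(chevF4.group K)) (v : I27 → K), JK ρ' (a * b) v = JK ρ' a (JK ρ' b v) := by
    intro a b v
    rw [map_mul, Module.End.mul_apply]
  have hconj : ∀ (y : ↥(chevF4.group F)) (v : I27 → F),
      JK ρ' (g * emb hF4 f y * g⁻¹) (JK ρ' g (fun p => f (v p))) = JK ρ' g (fun p => f (JK ρ y v p)) := by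
    intro y v
    rw [hmul, Inv.JK_inv_apply, hmul, JK_emb f hρ hρ']
  have q1 : JK ρ' t x' = x' := by rw [ht, hx', hconj, hx]
  have q2 : JK ρ' S x' = -x' := by
    rw [hS, hx', hconj, hsx, ← map_neg]
    congr 1
    funext p
    rw [Pi.neg_apply, Pi.neg_apply, map_neg]
  have q3 : JK ρ' t (JK ρ' t w') - ν • JK ρ' t w' + w' = 0 := by
    rw [ht, hw', hconj, hconj, ← map_smul, ← map_sub, ← map_add]
    have h1 : ((fun p => f (JK ρ z (JK ρ z w) p)) - ν • (fun p => f (JK ρ z w p)) + fun p => f (w p)) =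
        (0 : I27 → K) := by
      funext p
      have h2 := congrArg f (congrFun hw p)
      rw [Pi.add_apply, Pi.sub_apply, Pi.smul_apply, smul_eq_mul, map_add, map_sub, map_mul, Pi.zero_apply,
        map_zero] at h2
      exact h2
    rw [h1, map_zero]
  have key : cr (sh x') w' = 0 := by
    refine core h2K hk hkL hA hB hE (JK ρ' S) ?_ ?_ (Inv.cr_inv hρ' h2K S) (Inv.tf_inv hρ' h2K S)
      (Inv.tr1_inv hρ' h2K S) x' ((hJ x').1 q1) q2 w' ((hU w').1 q3)
    · intro v hv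
      rw [← hJ] at hv ⊢
      -- `t (S v) = S (t⁻¹ v)`
      have h1 : t * S = S * t⁻¹ := by
        have h2 : S * t⁻¹ * S⁻¹ = t := by
          have := congrArg (·⁻¹) hSt
          simp only [mul_inv_rev, inv_inv, ← mul_assoc] at this
          exact this
        calc t * S = (S * t⁻¹ * S⁻¹) * S := by rw [h2]
          _ = S * t⁻¹ := by group
      have h2 : JK ρ' t⁻¹ v = v := by
        conv_lhs => rw [← hv]
        rw [Inv.JK_inv_apply]
      rw [← hmul, h1, hmul, h2]
    · intro v hv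
      rw [← hU] at hv
      refine ⟨JK ρ' S⁻¹ v, ?_, Inv.JK_apply_inv S v⟩
      rw [← hU]
      have h1 : t * S⁻¹ = S⁻¹ * t⁻¹ := by rw [← hSt]; group
      have h2 : ∀ u : I27 → K, JK ρ' t (JK ρ' S⁻¹ u) = JK ρ' S⁻¹ (JK ρ' t⁻¹ u) := by
        intro u
        rw [← hmul, h1, hmul]
      rw [h2, h2, ← map_smul, ← map_sub, ← map_add]
      have h3 : JK ρ' t⁻¹ (JK ρ' t⁻¹ v) - ν • JK ρ' t⁻¹ v + v =
          JK ρ' t⁻¹ (JK ρ' t⁻¹ (JK ρ' t (JK ρ' t v) - ν • JK ρ' t v + v)) := by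
        rw [map_add, map_add, map_sub, map_sub, map_smul, map_smul, Inv.JK_inv_apply, Inv.JK_inv_apply]
        abel
      rw [h3, hv, map_zero, map_zero, map_zero]
  rw [hx', hw', Inv.sh_inv hρ' h2K, Inv.cr_inv hρ' h2K, sh_map, cr_map] at key
  have h1 : (fun p => f (cr (sh x) w p)) = (0 : I27 → K) := by
    rw [← Inv.JK_inv_apply (ρ := ρ') g (fun p => f (cr (sh x) w p)), key, map_zero]
  funext p
  apply f.injective
  rw [Pi.zero_apply, map_zero]
  exact congrFun h1 p

end Main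

end Cfsg.Agent.H834.F4
end

-- part: H952/F4/TorAxis
section
/-!
# S5926, F-E4 (helper834): `Tor.axis_dim`, `Tor.axis`
-/

set_option autoImplicit false

namespace Cfsg.Agent.H952.F4.Tor

open Cfsg Cfsg.Lie Module
open Cfsg.Agent.ChevalleyStructure Cfsg.Agent.ChevalleyStructure.Elts
open Cfsg.Agent.ChevalleyStructure.E6Min.Tables Cfsg.Agent.ChevalleyStructure.E6Min.Basic
open Cfsg.Agent.BpExc.TorAll

universe u

theorem hAlg_closure (p : ℕ) [Fact p.Prime] (F : Type u) [Field F] [Finite F] [CharP F p] :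
    HAlg p (AlgebraicClosure F) := by
  let _ := ZMod.algebra F p
  have : Algebra.IsAlgebraic (ZMod p) F := Algebra.IsAlgebraic.of_finite _ _
  have : Algebra.IsAlgebraic (ZMod p) (AlgebraicClosure F) := Algebra.IsAlgebraic.trans (ZMod p) F _
  exact hAlg_of_isAlgebraic p _

/-- E5: the eigenvalues of an element of order 5 with 5-dimensional fixed space -/
theorem axis_dim (p : ℕ) [Fact p.Prime] {F : Type u} [Field F] [Finite F] [CharP F p] (hp2 : p ≠ 2) (hp5 : p ≠ 5)
    {ρ : ↥(chevF4.group F) →* GL I27 F} (hρ : IsJ ρ) {z : ↥(chevF4.group F)} (hz1 : z ≠ 1) (hz : z ^ 5 = 1)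
    (h5 : ev (JK ρ z) 1 = 5) (μ : F) (hμ : μ * μ + μ = 1) :
    (finrank F ↥(LinearMap.ker (JK ρ z * JK ρ z - μ • JK ρ z + 1)) = 12 ∧
      LinearMap.trace F _ (JK ρ z) - LinearMap.trace F _ (JK ρ (z * z)) = 2 * μ + 1) ∨
    (finrank F ↥(LinearMap.ker (JK ρ z * JK ρ z - μ • JK ρ z + 1)) = 10 ∧
      LinearMap.trace F _ (JK ρ z) - LinearMap.trace F _ (JK ρ (z * z)) = -(2 * μ + 1)) := by
  have : CharP (AlgebraicClosure F) p := charP_of_injective_algebraMap (algebraMap F (AlgebraicClosure F)).injective p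
  obtain ⟨ρ', hρ'⟩ := JMod.exists_isJ (AlgebraicClosure F)
  exact H834.F4.axis_dim_aux p (hAlg_closure p F) (algebraMap F (AlgebraicClosure F)) hp5 hρ hρ' hz h5 μ hμ

/-- E4: an element `z` of order 5 with 5-dimensional fixed space on the 27-dimensional module -/
theorem axis (p : ℕ) [Fact p.Prime] {F : Type u} [Field F] [Finite F] [CharP F p] (hp2 : p ≠ 2) (hp5 : p ≠ 5)
    {ρ : ↥(chevF4.group F) →* GL I27 F} (hρ : IsJ ρ) {z s : ↥(chevF4.group F)} (hz1 : z ≠ 1) (hz : z ^ 5 = 1)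
    (hs : s * z * s⁻¹ = z⁻¹) (h5 : ev (JK ρ z) 1 = 5) (μ : F)
    (hμ : finrank F ↥(LinearMap.ker (JK ρ z * JK ρ z - μ • JK ρ z + 1)) = 12)
    (x : I27 → F) (hx : JK ρ z x = x) (hsx : JK ρ s x = -x) (w : I27 → F)
    (hw : JK ρ z (JK ρ z w) - μ • JK ρ z w + w = 0) : cr (sh x) w = 0 := by
  have : CharP (AlgebraicClosure F) p := charP_of_injective_algebraMap (algebraMap F (AlgebraicClosure F)).injective p
  obtain ⟨ρ', hρ'⟩ := JMod.exists_isJ (AlgebraicClosure F)
  exact H834.F4.axis_aux p (hAlg_closure p F) (algebraMap F (AlgebraicClosure F)) hp2 hp5 hρ hρ' hz hs h5 μ hμ x hx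
    hsx w hw

end Cfsg.Agent.H952.F4.Tor
end

private theorem dce_79de5c5aa0a1 : _root_.True := by
  try have : _root_.True := by simp only [_root_.Cfsg.Agent.H834.F4.rq.eq_1]
  try have : _root_.True := by simp only [_root_.Cfsg.Agent.H834.F4.rN.eq_1]
  try have : _root_.True := by simp only [_root_.Cfsg.Agent.H952.F4.tr1.eq_1]
  try have : _root_.True := by simp only [_root_.Cfsg.Agent.H834.F4.inC.eq_1]
  try have : _root_.True := by simp only [_root_.Cfsg.Agent.H952.F4.tf.eq_1]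
  exact _root_.True.intro
end

-- part: H952/F4/Common
section
set_option linter.all false
open scoped Cfsg.Agent.FastGrp

/-!
# S5926: common nontrivial stabilizers (helper570)

* `card_le` : at most `2 q ^ 25` vectors `y` have given `tr1 y`, `tf y y`;
* `common_stab` : any two vectors of the 27-dimensional module have a common nontrivial stabilizer in `F₄(q)`.
-/

set_option autoImplicit false

namespace Cfsg.Agent.H952.F4.Fix

open Cfsg Cfsg.Lie Module
open Cfsg.Agent.ChevalleyStructure Cfsg.Agent.ChevalleyStructure.Elts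
open Cfsg.Agent.ChevalleyStructure.E6Min.Tables Cfsg.Agent.ChevalleyStructure.E6Min.Basic

universe u

/-- the coordinates different from `(0,0,0)`, `(0,0,1)`, `(0,1,0)` -/
abbrev Oth : Type := {x : I27 // x ≠ (0, 0, 0) ∧ x ≠ (0, 0, 1) ∧ x ≠ (0, 1, 0)}

theorem card_oth : Fintype.card Oth = 24 := by decide

theorem sub_eq {F : Type u} [Field F] {y z : I27 → F} (h : ∀ x : I27, x ≠ (0, 0, 0) → x ≠ (0, 0, 1) → x ≠ (0, 1, 0) →
    y x = z x) (ht : tr1 y = tr1 z) : y (0, 0, 0) = z (0, 0, 0) ∧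
      tf y y - tf z z = 2 * (y (0, 0, 1) * y (0, 1, 0) - z (0, 0, 1) * z (0, 1, 0)) := by
  have h011 := h (0, 1, 1) (by decide) (by decide) (by decide)
  have h022 := h (0, 2, 2) (by decide) (by decide) (by decide)
  have h0 : y (0, 0, 0) = z (0, 0, 0) := by
    simp only [tr1, Matrix.trace, Fin.sum_univ_three, Matrix.diag_apply] at ht
    change y (0, 0, 0) + y (0, 1, 1) + y (0, 2, 2) = z (0, 0, 0) + z (0, 1, 1) + z (0, 2, 2) at ht
    rw [h011, h022] at ht
    linear_combination ht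
  refine ⟨h0, ?_⟩
  have h002 := h (0, 0, 2) (by decide) (by decide) (by decide)
  have h012 := h (0, 1, 2) (by decide) (by decide) (by decide)
  have h020 := h (0, 2, 0) (by decide) (by decide) (by decide)
  have h021 := h (0, 2, 1) (by decide) (by decide) (by decide)
  have h1 : ∀ i j, y (1, i, j) = z (1, i, j) := fun i j => h _ (by simp) (by simp) (by simp)
  have h2 : ∀ i j, y (2, i, j) = z (2, i, j) := fun i j => h _ (by simp) (by simp) (by simp)
  have e1 : mat3 y 1 = mat3 z 1 := by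
    ext i j
    exact h1 i j
  have e2 : mat3 y 2 = mat3 z 2 := by
    ext i j
    exact h2 i j
  unfold tf
  rw [e1, e2]
  simp only [Matrix.trace, Fin.sum_univ_three, Matrix.diag_apply, Matrix.mul_apply]
  have hm : ∀ (w : I27 → F) (i j : Fin 3), mat3 w 0 i j = w (0, i, j) := fun w i j => rfl
  simp only [hm, h0, h002, h012, h020, h021, h011, h022]
  ring

/-- at most `2 q ^ 25` vectors have given invariants -/
theorem card_le {F : Type u} [Field F] [Finite F] (h2 : (2 : F) ≠ 0) (t s : F) :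
    Nat.card {y : I27 → F // tr1 y = t ∧ tf y y = s} ≤ 2 * Nat.card F ^ 25 := by
  classical
  let _ : Fintype F := Fintype.ofFinite F
  let f : {y : I27 → F // tr1 y = t ∧ tf y y = s} → (Oth → F) × F × Bool := fun y =>
    (fun x => y.1 x.1, if y.1 (0, 0, 1) = 0 then (y.1 (0, 1, 0), false) else (y.1 (0, 0, 1), true))
  have hf : Function.Injective f := by
    rintro ⟨y, hy1, hy2⟩ ⟨z, hz1, hz2⟩ h
    have h1 : (fun x : Oth => y x.1) = fun x => z x.1 := congrArg Prod.fst h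
    have h3 : (if y (0, 0, 1) = 0 then (y (0, 1, 0), false) else (y (0, 0, 1), true)) =
        (if z (0, 0, 1) = 0 then (z (0, 1, 0), false) else (z (0, 0, 1), true)) := congrArg Prod.snd h
    have h4 : ∀ x : I27, x ≠ (0, 0, 0) → x ≠ (0, 0, 1) → x ≠ (0, 1, 0) → y x = z x := fun x a b c =>
      congrFun h1 ⟨x, a, b, c⟩
    obtain ⟨h5, h6⟩ := sub_eq h4 (hy1.trans hz1.symm)
    rw [hy2, hz2, sub_self] at h6
    have h7 : y (0, 0, 1) * y (0, 1, 0) = z (0, 0, 1) * z (0, 1, 0) := by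
      have := (mul_eq_zero.1 h6.symm).resolve_left h2
      exact sub_eq_zero.1 this
    have h8 : y (0, 0, 1) = z (0, 0, 1) ∧ y (0, 1, 0) = z (0, 1, 0) := by
      by_cases hy : y (0, 0, 1) = 0
      · by_cases hz : z (0, 0, 1) = 0
        · rw [if_pos hy, if_pos hz] at h3
          exact ⟨hy.trans hz.symm, congrArg Prod.fst h3⟩
        · rw [if_pos hy, if_neg hz] at h3
          exact absurd (congrArg Prod.snd h3) (by simp)
      · by_cases hz : z (0, 0, 1) = 0
        · rw [if_neg hy, if_pos hz] at h3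
          exact absurd (congrArg Prod.snd h3) (by simp)
        · rw [if_neg hy, if_neg hz] at h3
          have h9 : y (0, 0, 1) = z (0, 0, 1) := congrArg Prod.fst h3
          refine ⟨h9, ?_⟩
          rw [h9] at h7
          exact mul_left_cancel₀ hz h7
    apply Subtype.ext
    funext x
    by_cases a : x = (0, 0, 0)
    · rw [a]; exact h5
    by_cases b : x = (0, 0, 1)
    · rw [b]; exact h8.1
    by_cases c : x = (0, 1, 0)
    · rw [c]; exact h8.2
    exact h4 x a b c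
  have h1 := Nat.card_le_card_of_injective f hf
  refine h1.trans (le_of_eq ?_)
  rw [Nat.card_prod, Nat.card_prod, Nat.card_fun, Nat.card_eq_fintype_card (α := Oth), card_oth,
    Nat.card_eq_fintype_card (α := Bool), Fintype.card_bool]
  ring

/-- the order of `F₄(q)` -/
theorem card_gt {F : Type u} [Field F] [Finite F] (h2 : (2 : F) ≠ 0) :
    2 * Nat.card F ^ 25 * (2 * Nat.card F ^ 25) < Nat.card ↥(chevF4.group F) := by
  classical
  let _ : Fintype F := Fintype.ofFinite F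
  have hq : 3 ≤ Nat.card F := by
    rw [Nat.card_eq_fintype_card]
    by_contra hcon
    push Not at hcon
    have h1 : 1 < Fintype.card F := Fintype.one_lt_card
    have h3 : Fintype.card F = 2 := by omega
    apply h2
    have h4 : (Fintype.card F : F) = 0 := Nat.cast_card_eq_zero F
    rw [h3] at h4
    exact_mod_cast h4
  rw [Cfsg.Agent.S1062.result (F := F) (q := Nat.card F) (Nat.card_eq_fintype_card).symm]
  set q := Nat.card F with hqdef
  have e1 : 8 * q ^ 2 ≤ 9 * (q ^ 2 - 1) := by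
    have : 9 ≤ q ^ 2 := by nlinarith
    omega
  have hp : ∀ k, 6 ≤ k → 100 * q ^ k ≤ 101 * (q ^ k - 1) := by
    intro k hk
    have h3 : 101 ≤ q ^ k := by
      calc 101 ≤ 3 ^ 6 := by norm_num
        _ ≤ 3 ^ k := Nat.pow_le_pow_right (by norm_num) hk
        _ ≤ q ^ k := Nat.pow_le_pow_left hq k
    omega
  have h6 := hp 6 le_rfl
  have h8 := hp 8 (by norm_num)
  have h12 := hp 12 (by norm_num)
  have key : (8 * q ^ 2) * (100 * q ^ 6) * (100 * q ^ 8) * (100 * q ^ 12) ≤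
      (9 * (q ^ 2 - 1)) * (101 * (q ^ 6 - 1)) * (101 * (q ^ 8 - 1)) * (101 * (q ^ 12 - 1)) :=
    Nat.mul_le_mul (Nat.mul_le_mul (Nat.mul_le_mul e1 h6) h8) h12
  have hq2 : 9 ≤ q ^ 2 := by nlinarith
  have hpos : 0 < q ^ 50 := by positivity
  set A := (q ^ 2 - 1) * (q ^ 6 - 1) * (q ^ 8 - 1) * (q ^ 12 - 1) with hA
  have key2 : 8000000 * q ^ 28 ≤ 9272709 * A := by
    calc 8000000 * q ^ 28 = (8 * q ^ 2) * (100 * q ^ 6) * (100 * q ^ 8) * (100 * q ^ 12) := by ring
      _ ≤ _ := key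
      _ = 9272709 * A := by rw [hA]; ring
  have h3 : 4 * q ^ 26 * 9272709 < 9272709 * A := by
    refine lt_of_lt_of_le ?_ key2
    have h4 : q ^ 28 = q ^ 26 * q ^ 2 := by ring
    have h5 : 0 < q ^ 26 := by positivity
    rw [h4]
    nlinarith
  have h4 : 4 * q ^ 26 < A := by
    have : 9272709 * (4 * q ^ 26) < 9272709 * A := by
      calc 9272709 * (4 * q ^ 26) = 4 * q ^ 26 * 9272709 := by ring
        _ < _ := h3
    exact Nat.lt_of_mul_lt_mul_left this
  calc 2 * q ^ 25 * (2 * q ^ 25) = q ^ 24 * (4 * q ^ 26) := by ring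
    _ < q ^ 24 * A := Nat.mul_lt_mul_of_pos_left h4 (by positivity)
    _ = q ^ 24 * (q ^ 2 - 1) * (q ^ 6 - 1) * (q ^ 8 - 1) * (q ^ 12 - 1) := by rw [hA]; ring

theorem common_stab_of {F : Type u} [Field F] [Finite F] (h2 : (2 : F) ≠ 0) {ρ : ↥(chevF4.group F) →* GL I27 F}
    (htf : ∀ (g : ↥(chevF4.group F)) (x : I27 → F), tf (JK ρ g x) (JK ρ g x) = tf x x)
    (htr : ∀ (g : ↥(chevF4.group F)) (x : I27 → F), tr1 (JK ρ g x) = tr1 x) (a b : I27 → F) :
    ∃ g : ↥(chevF4.group F), g ≠ 1 ∧ JK ρ g a = a ∧ JK ρ g b = b := by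
  classical
  by_contra hcon
  push Not at hcon
  let f : ↥(chevF4.group F) → {y : I27 → F // tr1 y = tr1 a ∧ tf y y = tf a a} ×
      {y : I27 → F // tr1 y = tr1 b ∧ tf y y = tf b b} := fun g =>
    (⟨JK ρ g a, htr g a, htf g a⟩, ⟨JK ρ g b, htr g b, htf g b⟩)
  have hf : Function.Injective f := by
    intro g g' h
    have h1 : JK ρ g a = JK ρ g' a := congrArg (fun z => (z.1 : I27 → F)) h
    have h3 : JK ρ g b = JK ρ g' b := congrArg (fun z => (z.2 : I27 → F)) h
    by_contra hne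
    refine hcon (g'⁻¹ * g) (fun h0 => hne (inv_mul_eq_one.1 h0).symm) ?_ ?_
    · rw [map_mul, Module.End.mul_apply, h1, ← Module.End.mul_apply, ← map_mul, inv_mul_cancel, map_one]
      rfl
    · rw [map_mul, Module.End.mul_apply, h3, ← Module.End.mul_apply, ← map_mul, inv_mul_cancel, map_one]
      rfl
  have h1 := Nat.card_le_card_of_injective f hf
  rw [Nat.card_prod] at h1
  have h3 := (h1.trans (Nat.mul_le_mul (card_le h2 _ _) (card_le h2 _ _)))
  exact absurd (card_gt (F := F) h2) (not_lt.2 h3)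

/-- F3: any two vectors of `J` have a common nontrivial stabilizer -/
theorem common_stab {F : Type u} [Field F] [Finite F] (h2 : (2 : F) ≠ 0) {ρ : ↥(chevF4.group F) →* GL I27 F}
    (hρ : IsJ ρ) (a b : I27 → F) : ∃ g : ↥(chevF4.group F), g ≠ 1 ∧ JK ρ g a = a ∧ JK ρ g b = b :=
  common_stab_of h2 (fun g x => Inv.tf_inv hρ h2 g x x) (fun g x => Inv.tr1_inv hρ h2 g x) a b

end Cfsg.Agent.H952.F4.Fix

private theorem dce_9e3d03faffda : _root_.True := by
  try have : _root_.True := by simp only [_root_.Cfsg.Agent.H952.F4.tr1.eq_1]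
  exact _root_.True.intro
end
end
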