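import Mathlib.RepresentationTheory.Basic
import Mathlib.Tactic.LinearCombination
import Mathlib.Tactic.Module
import Mathlib.Tactic.FieldSimp
import Cfsg.Agent.H952.F4.Scott_m3
import Cfsg.Agent.H952.F4.Jord
import Cfsg.Agent.H952.F4.KillBase_m3
import Cfsg.Agent.S1054
import Cfsg.Agent.S1062
import Mathlib
import Cfsg.Agent.H952.F4.FixV_m3
import Cfsg.Agent.H952.F4.NoSeven_m3
import Cfsg.Agent.H952.F4.TorDiag_m3
import Cfsg.Agent.H952.F4.AFive
import Cfsg.Agent.H927.F4Two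
import Cfsg.Agent.H65.E6Ext_m3
import Cfsg.Agent.H952.F4.MaxA
import Cfsg.Agent.GpExc.Field
import Cfsg.Agent.BpExc.AsmN_m3
import Cfsg.Agent.S2657
import Cfsg.Agent.Lib.FastPerm
import Cfsg.Agent.FastGrp
import Cfsg.Agent.Prune
set_option linter.all false
prune_inst 0x7ffffffffbfcf9dfdfff7e7faededffdffbb3fffe6dff9cb7fe067ff0bdf4b80c9e5fbad8bea90fe0ef7e21410f87b53fbfffeffeb6fdc7ffffd5ff41ffbffdffdf7b50951df8cb40f3c0fff03f0778e7f3fffffffffffffffffffffffffffbeffffffffffff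
open scoped Cfsg.Agent.FastGrp

-- part: H55/F4/SpecAbs
section
/-!
# S5926, F-M2: the algebra generated by three axes, abstract version (helper55)

`Cub F V` : a cubic norm structure (norm `N`, adjoint `sh`, its polarization `cr`, trace form `T`, trace `tr`, unit `u`).
`Cub.axes_algebra` : three vectors `X i` permuted up to signs by `A₄` and spanning an icosahedral module generate `q` times
a system of orthogonal idempotents.
-/

set_option autoImplicit false
set_option linter.unusedVariables false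

namespace Cfsg.Agent.H55.F4

universe u v

/-- a cubic norm structure -/
structure Cub (F : Type u) (V : Type v) [Field F] [AddCommGroup V] [Module F V] where
  T : V → V → F
  N : V → F
  sh : V → V
  cr : V → V → V
  tr : V → F
  u : V
  T_comm : ∀ x y, T x y = T y x
  T_add : ∀ x x' y, T (x + x') y = T x y + T x' y
  T_smul : ∀ (c : F) x y, T (c • x) y = c * T x y
  T_u : ∀ x, T u x = tr x
  tr_u : tr u = 3
  sh_add : ∀ x y, sh (x + y) = sh x + sh y + cr x y
  sh_smul : ∀ (c : F) x, sh (c • x) = c ^ 2 • sh x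
  cr_comm : ∀ x y, cr x y = cr y x
  cr_add : ∀ x x' y, cr (x + x') y = cr x y + cr x' y
  cr_smul : ∀ (c : F) x y, cr (c • x) y = c • cr x y
  cr_self : ∀ x, cr x x = (2 : F) • sh x
  cr_u : ∀ x, cr u x = tr x • u - x
  N_smul : ∀ (c : F) x, N (c • x) = c ^ 3 * N x
  N_add : ∀ x y, N (x + y) = N x + T (sh x) y + T x (sh y) + N y
  T_sh_self : ∀ x, T (sh x) x = 3 * N x
  tr_cr : ∀ x y, tr (cr x y) = tr x * tr y - T x y
  tr_sh : ∀ x, 2 * tr (sh x) = tr x ^ 2 - T x x
  T_cr : ∀ x y z, T (cr x y) z = T x (cr y z)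
  sh_sh : ∀ x, sh (sh x) = N x • x
  cr_sh_cr : ∀ x y, cr (sh x) (cr x y) = N x • y + T (sh x) y • x
  sh_cr : ∀ x y, sh (cr x y) + cr (sh x) (sh y) = T (sh x) y • y + T x (sh y) • x

namespace Cub

variable {F : Type u} {V : Type v} [Field F] [AddCommGroup V] [Module F V] (C : Cub F V)

theorem T_add' (x y y' : V) : C.T x (y + y') = C.T x y + C.T x y' := by
  rw [C.T_comm, C.T_add, C.T_comm y, C.T_comm y']

theorem T_smul' (c : F) (x y : V) : C.T x (c • y) = c * C.T x y := by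
  rw [C.T_comm, C.T_smul, C.T_comm y]

theorem T_neg (x y : V) : C.T (-x) y = -C.T x y := by
  rw [← neg_one_smul F x, C.T_smul, neg_one_mul]

theorem T_neg' (x y : V) : C.T x (-y) = -C.T x y := by
  rw [C.T_comm, C.T_neg, C.T_comm y]

theorem cr_smul' (c : F) (x y : V) : C.cr x (c • y) = c • C.cr x y := by
  rw [C.cr_comm, C.cr_smul, C.cr_comm y]

theorem cr_neg (x y : V) : C.cr (-x) y = -C.cr x y := by
  rw [← neg_one_smul F x, C.cr_smul, neg_one_smul]

theorem cr_neg' (x y : V) : C.cr x (-y) = -C.cr x y := by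
  rw [C.cr_comm, C.cr_neg, C.cr_comm y]

theorem sh_neg (x : V) : C.sh (-x) = C.sh x := by
  rw [← neg_one_smul F x, C.sh_smul, neg_one_sq, one_smul]

theorem N_neg (x : V) : C.N (-x) = -C.N x := by
  rw [← neg_one_smul F x, C.N_smul]
  ring

theorem tr_add (x y : V) : C.tr (x + y) = C.tr x + C.tr y := by
  rw [← C.T_u, ← C.T_u, ← C.T_u, C.T_add']

theorem tr_neg (x : V) : C.tr (-x) = -C.tr x := by
  rw [← C.T_u, ← C.T_u, C.T_neg']

theorem tr_smul (c : F) (x : V) : C.tr (c • x) = c * C.tr x := by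
  rw [← C.T_u, ← C.T_u, C.T_smul']

theorem sh_three (a b c : F) (x y z : V) : C.sh (a • x + b • y + c • z) =
    a ^ 2 • C.sh x + b ^ 2 • C.sh y + c ^ 2 • C.sh z + (a * b) • C.cr x y + (a * c) • C.cr x z +
      (b * c) • C.cr y z := by
  rw [C.sh_add, C.sh_add, C.cr_add]
  simp only [C.sh_smul, C.cr_smul, C.cr_smul', smul_smul]
  abel

theorem N_three (a b c : F) (x y z : V) (hx : C.N x = 0) (hy : C.N y = 0) (hz : C.N z = 0)
    (h1 : C.T (C.sh x) y = 0) (h2 : C.T (C.sh y) x = 0) (h3 : C.T (C.sh x) z = 0) (h4 : C.T (C.sh z) x = 0)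
    (h5 : C.T (C.sh y) z = 0) (h6 : C.T (C.sh z) y = 0) :
    C.N (a • x + b • y + c • z) = a * b * c * C.T (C.cr x y) z := by
  rw [C.T_comm] at h2 h4 h6
  rw [C.N_add, C.N_add, C.sh_add]
  simp only [C.sh_smul, C.N_smul, C.cr_smul, C.cr_smul', C.T_add, C.T_smul, C.T_smul', hx, hy, hz, h1, h2, h3,
    h4, h5, h6]
  ring

end Cub

/-- the algebra generated by three axes -/
theorem axes_algebra {F : Type u} {V : Type v} [Field F] [AddCommGroup V] [Module F V] (C : Cub F V)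
    (h2 : (2 : F) ≠ 0) (h5 : (5 : F) ≠ 0) (v0 v1 c3 z5 : V →ₗ[F] V)
    (hu0 : v0 C.u = C.u) (hu1 : v1 C.u = C.u)
    (hT0 : ∀ x y, C.T (v0 x) (v0 y) = C.T x y) (hT1 : ∀ x y, C.T (v1 x) (v1 y) = C.T x y)
    (hTc : ∀ x y, C.T (c3 x) (c3 y) = C.T x y)
    (hs0 : ∀ x, v0 (C.sh x) = C.sh (v0 x)) (hs1 : ∀ x, v1 (C.sh x) = C.sh (v1 x))
    (hsc : ∀ x, c3 (C.sh x) = C.sh (c3 x)) (hsz : ∀ x, z5 (C.sh x) = C.sh (z5 x))
    (hN0 : ∀ x, C.N (v0 x) = C.N x) (hN1 : ∀ x, C.N (v1 x) = C.N x) (hNz : ∀ x, C.N (z5 x) = C.N x)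
    (hfix : ∀ x : V, C.tr x = 0 → v0 x = x → v1 x = x → c3 x = x → z5 x = x → ∃ c : F, x = c • C.u)
    (huc : c3 C.u = C.u) (huz : z5 C.u = C.u)
    {t : F} {X : Fin 3 → V} (ht : t * t = t + 1)
    (h0 : v0 (X 0) = X 0 ∧ v0 (X 1) = -X 1 ∧ v0 (X 2) = -X 2)
    (h1 : v1 (X 0) = -X 0 ∧ v1 (X 1) = X 1 ∧ v1 (X 2) = -X 2)
    (hc : c3 (X 0) = X 1 ∧ c3 (X 1) = X 2 ∧ c3 (X 2) = X 0)
    (hz0 : (2 : F) • z5 (X 0) = (t - 1) • X 0 - t • X 1 + X 2)
    (hz1 : (2 : F) • z5 (X 1) = t • X 0 + X 1 + (t - 1) • X 2)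
    (hz2 : (2 : F) • z5 (X 2) = -X 0 + (t - 1) • X 1 + t • X 2)
    (hq : C.T (X 0) (X 0) ≠ 0)
    (h3 : (3 : F) = 0 → C.cr (C.sh (X 1 + t • X 2)) (X 0) = 0) :
    ∃ (q : F) (e Y : Fin 3 → V), q ≠ 0 ∧ (∀ i, e i ≠ 0) ∧ e 0 + e 1 + e 2 = q • C.u ∧
      (∀ i, C.sh (e i) = 0) ∧ (∀ i, C.tr (e i) = q) ∧
      C.cr (e 0) (e 1) = q • e 2 ∧ C.cr (e 1) (e 2) = q • e 0 ∧ C.cr (e 2) (e 0) = q • e 1 ∧
      (∀ i, C.sh (Y i) = -q • e i) ∧ (∀ i, C.cr (e i) (Y i) = -q • Y i) ∧ (∀ i j, i ≠ j → C.cr (e i) (Y j) = 0) ∧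
      (∀ i, e i = -C.sh (X i)) ∧ Y 0 = C.cr (X 1) (X 2) ∧ Y 1 = C.cr (X 2) (X 0) ∧ Y 2 = C.cr (X 0) (X 1) := by
  obtain ⟨h00, h01, h02⟩ := h0
  obtain ⟨h10, h11, h12⟩ := h1
  obtain ⟨hc0, hc1, hc2⟩ := hc
  have self0 : ∀ a : F, a = -a → a = 0 := by
    intro a ha
    have h : 2 * a = 0 := by linear_combination ha
    exact (mul_eq_zero.1 h).resolve_left h2
  -- the norms
  have N0 : C.N (X 0) = 0 := self0 _ (by rw [← C.N_neg, ← h10, hN1])
  have N1 : C.N (X 1) = 0 := self0 _ (by rw [← C.N_neg, ← h01, hN0])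
  have N2 : C.N (X 2) = 0 := self0 _ (by rw [← C.N_neg, ← h02, hN0])
  -- the adjoints are fixed by `v0`, `v1`
  have s00 : v0 (C.sh (X 0)) = C.sh (X 0) := by rw [hs0, h00]
  have s01 : v0 (C.sh (X 1)) = C.sh (X 1) := by rw [hs0, h01, C.sh_neg]
  have s02 : v0 (C.sh (X 2)) = C.sh (X 2) := by rw [hs0, h02, C.sh_neg]
  have s10 : v1 (C.sh (X 0)) = C.sh (X 0) := by rw [hs1, h10, C.sh_neg]
  have s11 : v1 (C.sh (X 1)) = C.sh (X 1) := by rw [hs1, h11]
  have s12 : v1 (C.sh (X 2)) = C.sh (X 2) := by rw [hs1, h12, C.sh_neg]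
  have T0 : ∀ y, v1 y = y → C.T y (X 0) = 0 := fun y hy => self0 _ (by
    rw [← C.T_neg', ← h10]
    nth_rw 1 [← hT1, hy])
  have T1 : ∀ y, v0 y = y → C.T y (X 1) = 0 := fun y hy => self0 _ (by
    rw [← C.T_neg', ← h01]
    nth_rw 1 [← hT0, hy])
  have T2 : ∀ y, v0 y = y → C.T y (X 2) = 0 := fun y hy => self0 _ (by
    rw [← C.T_neg', ← h02]
    nth_rw 1 [← hT0, hy])
  -- orthogonality
  have T01 : C.T (X 0) (X 1) = 0 := T1 _ h00
  have T02 : C.T (X 0) (X 2) = 0 := T2 _ h00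
  have T12 : C.T (X 1) (X 2) = 0 := by
    apply self0
    rw [← C.T_neg']
    nth_rw 1 [← hT1, h11, h12]
  have t0 : C.tr (X 0) = 0 := by rw [← C.T_u]; exact T0 _ hu1
  have t1 : C.tr (X 1) = 0 := by rw [← C.T_u]; exact T1 _ hu0
  have t2 : C.tr (X 2) = 0 := by rw [← C.T_u]; exact T2 _ hu0
  -- the trilinear form
  have TX : C.T (C.cr (X 0) (X 1)) (X 2) = 0 := by
    have h : C.N ((2 : F) • z5 (X 0)) = 0 := by rw [C.N_smul, hNz, N0, mul_zero]
    have h' : (t - 1) • X 0 - t • X 1 + X 2 = (t - 1) • X 0 + (-t) • X 1 + (1 : F) • X 2 := by module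
    rw [hz0, h', C.N_three _ _ _ _ _ _ N0 N1 N2 (T1 _ s00) (T0 _ s11) (T2 _ s00) (T0 _ s12) (T2 _ s01)
      (T1 _ s02)] at h
    have h4 : (t - 1) * -t * 1 = -1 := by linear_combination -ht
    rw [h4, neg_one_mul, neg_eq_zero] at h
    exact h
  set q : F := C.T (X 0) (X 0) / 2 with hqdef
  have hq0 : q ≠ 0 := div_ne_zero hq h2
  have T00 : C.T (X 0) (X 0) = 2 * q := by rw [hqdef]; field_simp
  have T11 : C.T (X 1) (X 1) = 2 * q := by rw [← T00, ← hc0, hTc]
  have T22 : C.T (X 2) (X 2) = 2 * q := by rw [← T11, ← hc1, hTc]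
  have cancel2 : ∀ a b : F, 2 * a = 2 * b → a = b := fun a b h => mul_left_cancel₀ h2 h
  have r0 : C.tr (C.sh (X 0)) = -q := cancel2 _ _ (by rw [C.tr_sh, t0, T00]; ring)
  have r1 : C.tr (C.sh (X 1)) = -q := cancel2 _ _ (by rw [C.tr_sh, t1, T11]; ring)
  have r2 : C.tr (C.sh (X 2)) = -q := cancel2 _ _ (by rw [C.tr_sh, t2, T22]; ring)
  -- the idempotents
  set e : Fin 3 → V := fun i => -C.sh (X i) with he
  have he' : ∀ i, e i = -C.sh (X i) := fun _ => rfl
  have tre : ∀ i, C.tr (e i) = q := by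
    intro i
    fin_cases i
    · show C.tr (-C.sh (X 0)) = q
      rw [C.tr_neg, r0, neg_neg]
    · show C.tr (-C.sh (X 1)) = q
      rw [C.tr_neg, r1, neg_neg]
    · show C.tr (-C.sh (X 2)) = q
      rw [C.tr_neg, r2, neg_neg]
  have NX : ∀ i, C.N (X i) = 0 := by
    intro i
    fin_cases i
    · exact N0
    · exact N1
    · exact N2
  have she : ∀ i, C.sh (e i) = 0 := by
    intro i
    rw [he', C.sh_neg, C.sh_sh, NX, zero_smul]
  -- the sum is fixed
  have hsum : ∃ κ : F, e 0 + e 1 + e 2 = κ • C.u := by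
    have hz : z5 (C.sh (X 0) + C.sh (X 1) + C.sh (X 2)) = C.sh (X 0) + C.sh (X 1) + C.sh (X 2) := by
      have h4 : (4 : F) ≠ 0 := by
        have : (4 : F) = 2 * 2 := by norm_num
        rw [this]
        exact mul_ne_zero h2 h2
      have k0 : (4 : F) • z5 (C.sh (X 0)) = (t - 1) ^ 2 • C.sh (X 0) + (-t) ^ 2 • C.sh (X 1) + (1 : F) ^ 2 • C.sh (X 2) +
          ((t - 1) * -t) • C.cr (X 0) (X 1) + ((t - 1) * 1) • C.cr (X 0) (X 2) + (-t * 1) • C.cr (X 1) (X 2) := by
        rw [← C.sh_three, hsz]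
        have : (4 : F) = 2 ^ 2 := by norm_num
        rw [this, ← C.sh_smul, hz0]
        congr 1
        module
      have k1 : (4 : F) • z5 (C.sh (X 1)) = t ^ 2 • C.sh (X 0) + (1 : F) ^ 2 • C.sh (X 1) + (t - 1) ^ 2 • C.sh (X 2) +
          (t * 1) • C.cr (X 0) (X 1) + (t * (t - 1)) • C.cr (X 0) (X 2) + (1 * (t - 1)) • C.cr (X 1) (X 2) := by
        rw [← C.sh_three, hsz]
        have : (4 : F) = 2 ^ 2 := by norm_num
        rw [this, ← C.sh_smul, hz1]
        congr 1
        module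
      have k2 : (4 : F) • z5 (C.sh (X 2)) = (-1 : F) ^ 2 • C.sh (X 0) + (t - 1) ^ 2 • C.sh (X 1) + t ^ 2 • C.sh (X 2) +
          (-1 * (t - 1)) • C.cr (X 0) (X 1) + (-1 * t) • C.cr (X 0) (X 2) + ((t - 1) * t) • C.cr (X 1) (X 2) := by
        rw [← C.sh_three, hsz]
        have : (4 : F) = 2 ^ 2 := by norm_num
        rw [this, ← C.sh_smul, hz2]
        congr 1
        module
      have k3 : (4 : F) • z5 (C.sh (X 0) + C.sh (X 1) + C.sh (X 2)) =
          (4 : F) • (C.sh (X 0) + C.sh (X 1) + C.sh (X 2)) := by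
        rw [map_add, map_add, smul_add, smul_add, k0, k1, k2]
        have a1 : (t - 1) ^ 2 + t ^ 2 + 1 = 4 := by linear_combination 2 * ht
        have a2 : t * t - t = 1 := by linear_combination ht
        have e1 : (t - 1) ^ 2 • C.sh (X 0) + (-t) ^ 2 • C.sh (X 1) + (1 : F) ^ 2 • C.sh (X 2) +
          ((t - 1) * -t) • C.cr (X 0) (X 1) + ((t - 1) * 1) • C.cr (X 0) (X 2) + (-t * 1) • C.cr (X 1) (X 2) +
          (t ^ 2 • C.sh (X 0) + (1 : F) ^ 2 • C.sh (X 1) + (t - 1) ^ 2 • C.sh (X 2) +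
          (t * 1) • C.cr (X 0) (X 1) + (t * (t - 1)) • C.cr (X 0) (X 2) + (1 * (t - 1)) • C.cr (X 1) (X 2)) +
          ((-1 : F) ^ 2 • C.sh (X 0) + (t - 1) ^ 2 • C.sh (X 1) + t ^ 2 • C.sh (X 2) +
          (-1 * (t - 1)) • C.cr (X 0) (X 1) + (-1 * t) • C.cr (X 0) (X 2) + ((t - 1) * t) • C.cr (X 1) (X 2)) =
          ((t - 1) ^ 2 + t ^ 2 + 1) • (C.sh (X 0) + C.sh (X 1) + C.sh (X 2)) +
          (1 - (t * t - t)) • C.cr (X 0) (X 1) + ((t * t - t) - 1) • C.cr (X 0) (X 2) +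
          ((t * t - t) - 1) • C.cr (X 1) (X 2) := by module
        rw [e1, a1, a2, sub_self, zero_smul, zero_smul, zero_smul, add_zero, add_zero, add_zero]
      exact smul_right_injective V h4 k3
    obtain ⟨c, hcc⟩ := hfix (-(C.sh (X 0) + C.sh (X 1) + C.sh (X 2)) - q • C.u) (by
        rw [sub_eq_add_neg, C.tr_add, C.tr_neg, C.tr_neg, C.tr_add, C.tr_add, C.tr_smul, C.tr_u, r0, r1, r2]
        ring)
      (by rw [map_sub, map_neg, map_add, map_add, map_smul, s00, s01, s02, hu0])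
      (by rw [map_sub, map_neg, map_add, map_add, map_smul, s10, s11, s12, hu1])
      (by
        rw [map_sub, map_neg, map_add, map_add, map_smul, hsc, hsc, hsc, hc0, hc1, hc2, huc]
        congr 2
        abel)
      (by rw [map_sub, map_neg, map_smul, hz, huz])
    refine ⟨c + q, ?_⟩
    rw [add_smul, ← hcc, he', he', he']
    abel
  obtain ⟨κ, hκ⟩ := hsum
  -- products of the idempotents under the trace form
  have Tee : ∀ i, C.T (e i) (e i) = q * q := by
    intro i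
    have h := C.tr_sh (e i)
    rw [she i, tre i] at h
    have h0' : C.tr (0 : V) = 0 := by
      rw [← C.T_u, C.T_comm, ← zero_smul F (0 : V), C.T_smul, zero_mul]
    rw [h0', mul_zero] at h
    linear_combination h
  have ec0 : c3 (e 0) = e 1 := by rw [he', he', map_neg, hsc, hc0]
  have ec1 : c3 (e 1) = e 2 := by rw [he', he', map_neg, hsc, hc1]
  have ec2 : c3 (e 2) = e 0 := by rw [he', he', map_neg, hsc, hc2]
  have E12 : C.T (e 1) (e 2) = C.T (e 0) (e 1) := by
    have h := hTc (e 0) (e 1)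
    rwa [ec0, ec1] at h
  have E20 : C.T (e 2) (e 0) = C.T (e 0) (e 1) := by
    have h := hTc (e 1) (e 2)
    rwa [ec1, ec2, E12] at h
  have hκT : κ * q = q * q + 2 * C.T (e 0) (e 1) := by
    have h : C.T (e 0 + e 1 + e 2) (e 0) = κ * q := by rw [hκ, C.T_smul, C.T_u, tre]
    rw [C.T_add, C.T_add, Tee, C.T_comm (e 1), E20] at h
    rw [← h]
    ring
  have hκq : κ = q := by
    by_cases h30 : (3 : F) = 0
    · have h := h3 h30
      have h6 : C.T (C.cr (C.sh (X 1 + t • X 2)) (X 0)) (X 0) = 0 := by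
        rw [h, ← zero_smul F (0 : V), C.T_smul, zero_mul]
      have h7 : X 1 + t • X 2 = (0 : F) • X 0 + (1 : F) • X 1 + t • X 2 := by module
      rw [C.T_cr, C.cr_self, C.T_smul', h7, C.sh_three] at h6
      have h8 := (mul_eq_zero.1 h6).resolve_left h2
      have Y0e : C.T (C.cr (X 1) (X 2)) (C.sh (X 0)) = 0 := by
        apply self0
        have hv : v1 (C.cr (X 1) (X 2)) = -C.cr (X 1) (X 2) := by
          have k := C.sh_add (X 1) (X 2)
          have k' : C.cr (X 1) (X 2) = C.sh (X 1 + X 2) - C.sh (X 1) - C.sh (X 2) := by rw [k]; abel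
          have k'' := C.sh_add (X 1) (-X 2)
          rw [C.cr_neg', C.sh_neg] at k''
          rw [k', map_sub, map_sub, s11, s12, hs1, map_add, h11, h12, k'', k]
          abel
        rw [← C.T_neg, ← hv]
        nth_rw 1 [← hT1, s10]
      have f1 : C.T (C.sh (X 1)) (C.sh (X 0)) = C.T (e 0) (e 1) := by
        rw [he', he', C.T_neg, C.T_neg', neg_neg, C.T_comm]
      have f2 : C.T (C.sh (X 2)) (C.sh (X 0)) = C.T (e 0) (e 1) := by
        rw [← E20, he', he', C.T_neg, C.T_neg', neg_neg]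
      simp only [C.T_add, C.T_smul, f1, f2, Y0e] at h8
      have h9 : (1 + t * t) * C.T (e 0) (e 1) = 0 := by linear_combination h8
      have h10' : (1 + t * t) ≠ 0 := by
        intro h11'
        have h12' : t = -2 := by linear_combination h11' - ht
        rw [h12'] at ht
        apply h5
        linear_combination ht
      have h11' := (mul_eq_zero.1 h9).resolve_left h10'
      rw [h11', mul_zero, add_zero] at hκT
      exact mul_right_cancel₀ hq0 hκT
    · have h : C.tr (e 0 + e 1 + e 2) = κ * 3 := by rw [hκ, C.tr_smul, C.tr_u]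
      rw [C.tr_add, C.tr_add, tre, tre, tre] at h
      have h' : (3 : F) * (κ - q) = 0 := by linear_combination -h
      exact sub_eq_zero.1 ((mul_eq_zero.1 h').resolve_left h30)
  rw [hκq] at hκ
  -- products of the idempotents
  have cre : ∀ i, C.cr (e i) (e i) = 0 := fun i => by rw [C.cr_self, she, smul_zero]
  have ue : ∀ i, C.cr (e 0 + e 1 + e 2) (e i) = q • (e 0 + e 1 + e 2) - q • e i := by
    intro i
    rw [hκ, C.cr_smul, C.cr_u, tre, smul_sub]
  have u0' := ue 0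
  have u1' := ue 1
  have u2' := ue 2
  rw [C.cr_add, C.cr_add, cre] at u0' u1' u2'
  rw [C.cr_comm (e 1) (e 0)] at u0'
  rw [C.cr_comm (e 2) (e 1)] at u1'
  rw [C.cr_comm (e 0) (e 2)] at u2'
  have cancelV : ∀ a b : V, (2 : F) • a = (2 : F) • b → a = b := fun a b h => smul_right_injective V h2 h
  have p01 : C.cr (e 0) (e 1) = q • e 2 := by
    apply cancelV
    have h : (2 : F) • C.cr (e 0) (e 1) = (0 + C.cr (e 0) (e 1) + C.cr (e 2) (e 0)) +
        (C.cr (e 0) (e 1) + 0 + C.cr (e 1) (e 2)) - (C.cr (e 2) (e 0) + C.cr (e 1) (e 2) + 0) := by module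
    rw [h, u0', u1', u2']
    module
  have p12 : C.cr (e 1) (e 2) = q • e 0 := by
    apply cancelV
    have h : (2 : F) • C.cr (e 1) (e 2) = (C.cr (e 0) (e 1) + 0 + C.cr (e 1) (e 2)) +
        (C.cr (e 2) (e 0) + C.cr (e 1) (e 2) + 0) - (0 + C.cr (e 0) (e 1) + C.cr (e 2) (e 0)) := by module
    rw [h, u0', u1', u2']
    module
  have p20 : C.cr (e 2) (e 0) = q • e 1 := by
    apply cancelV
    have h : (2 : F) • C.cr (e 2) (e 0) = (0 + C.cr (e 0) (e 1) + C.cr (e 2) (e 0)) +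
        (C.cr (e 2) (e 0) + C.cr (e 1) (e 2) + 0) - (C.cr (e 0) (e 1) + 0 + C.cr (e 1) (e 2)) := by module
    rw [h, u0', u1', u2']
    module
  -- the vectors `Y`
  have shs : ∀ x y : V, C.T (C.sh x) y = 0 → C.T (C.sh y) x = 0 → C.sh (C.cr x y) = -C.cr (-C.sh x) (-C.sh y) := by
    intro x y hx hy
    have h := C.sh_cr x y
    rw [C.T_comm] at hy
    rw [hx, hy, zero_smul, zero_smul, add_zero] at h
    rw [C.cr_neg, C.cr_neg', neg_neg]
    exact eq_neg_of_add_eq_zero_left h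
  have y0 : C.sh (C.cr (X 1) (X 2)) = -q • e 0 := by
    rw [shs _ _ (T2 _ s01) (T1 _ s02), neg_smul, ← p12]
  have y1 : C.sh (C.cr (X 2) (X 0)) = -q • e 1 := by
    rw [shs _ _ (T0 _ s12) (T2 _ s00), neg_smul, ← p20]
  have y2 : C.sh (C.cr (X 0) (X 1)) = -q • e 2 := by
    rw [shs _ _ (T1 _ s00) (T0 _ s11), neg_smul, ← p01]
  have ecr : ∀ x y : V, C.N x = 0 → C.T (C.sh x) y = 0 → C.cr (-C.sh x) (C.cr x y) = 0 := by
    intro x y hx hy
    rw [C.cr_neg, C.cr_sh_cr, hx, hy, zero_smul, zero_smul, add_zero, neg_zero]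
  have a10 : C.cr (e 1) (C.cr (X 1) (X 2)) = 0 := ecr _ _ N1 (T2 _ s01)
  have a20 : C.cr (e 2) (C.cr (X 1) (X 2)) = 0 := by rw [C.cr_comm (X 1)]; exact ecr _ _ N2 (T1 _ s02)
  have a21 : C.cr (e 2) (C.cr (X 2) (X 0)) = 0 := ecr _ _ N2 (T0 _ s12)
  have a01 : C.cr (e 0) (C.cr (X 2) (X 0)) = 0 := by rw [C.cr_comm (X 2)]; exact ecr _ _ N0 (T2 _ s00)
  have a02 : C.cr (e 0) (C.cr (X 0) (X 1)) = 0 := ecr _ _ N0 (T1 _ s00)
  have a12 : C.cr (e 1) (C.cr (X 0) (X 1)) = 0 := by rw [C.cr_comm (X 0)]; exact ecr _ _ N1 (T0 _ s11)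
  have tY : ∀ x y : V, C.tr x = 0 → C.T x y = 0 → C.cr (e 0 + e 1 + e 2) (C.cr x y) = -q • C.cr x y := by
    intro x y hx hxy
    rw [hκ, C.cr_smul, C.cr_u, C.tr_cr, hx, hxy, zero_mul, sub_zero, zero_smul, zero_sub, smul_neg, neg_smul]
  have b0 : C.cr (e 0) (C.cr (X 1) (X 2)) = -q • C.cr (X 1) (X 2) := by
    rw [← tY _ _ t1 T12, C.cr_add, C.cr_add, a10, a20, add_zero, add_zero]
  have b1 : C.cr (e 1) (C.cr (X 2) (X 0)) = -q • C.cr (X 2) (X 0) := by
    rw [← tY _ _ t2 (by rw [C.T_comm]; exact T02), C.cr_add, C.cr_add, a21, a01, add_zero, zero_add]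
  have b2 : C.cr (e 2) (C.cr (X 0) (X 1)) = -q • C.cr (X 0) (X 1) := by
    rw [← tY _ _ t0 T01, C.cr_add, C.cr_add, a02, a12, add_zero, zero_add]
  refine ⟨q, e, ![C.cr (X 1) (X 2), C.cr (X 2) (X 0), C.cr (X 0) (X 1)], hq0, ?_, hκ, she, tre, p01, p12, p20, ?_, ?_, ?_,
    he', rfl, rfl, rfl⟩
  · intro i h
    have h' := tre i
    rw [h, ← C.T_u, C.T_comm, ← zero_smul F (0 : V), C.T_smul, zero_mul] at h'
    exact hq0 h'.symm
  · intro i
    fin_cases i
    · exact y0
    · exact y1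
    · exact y2
  · intro i
    fin_cases i
    · exact b0
    · exact b1
    · exact b2
  · intro i j hij
    fin_cases i <;> fin_cases j
    · exact absurd rfl hij
    · exact a01
    · exact a02
    · exact a10
    · exact absurd rfl hij
    · exact a12
    · exact a20
    · exact a21
    · exact absurd rfl hij

end Cfsg.Agent.H55.F4
end

-- part: H55/F4/Spec
section
/-!
# S5926, F-M2: the algebra generated by the three axes (helper55)
-/

set_option autoImplicit false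
set_option linter.unusedVariables false

namespace Cfsg.Agent.H952.F4

open Cfsg Cfsg.Lie Module
open Cfsg.Agent.ChevalleyStructure.E6Min.Tables Cfsg.Agent.ChevalleyStructure.E6Min.Basic
open Cfsg.Agent.H55.F4

universe u

namespace Spec

/-- the 27-dimensional algebra -/
def cub (F : Type u) [Field F] : Cub F (I27 → F) where
  T := tf
  N := cubicT
  sh := sh
  cr := cr
  tr := tr1
  u := u0 F
  T_comm := Jord.tf_comm
  T_add := Jord.tf_add_left
  T_smul := Jord.tf_smul_left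
  T_u := Jord.tf_u0
  tr_u := Jord.tr1_u0
  sh_add := Jord.sh_add
  sh_smul := Jord.sh_smul
  cr_comm := Jord.cr_comm
  cr_add := Jord.cr_add_left
  cr_smul := Jord.cr_smul_left
  cr_self := Jord.cr_self
  cr_u := Jord.cr_u0
  N_smul := Jord.N_smul
  N_add := Jord.N_add
  T_sh_self := Jord.tf_sh_self
  tr_cr := Jord.tr1_cr
  tr_sh := Jord.tr1_sh
  T_cr := Jord.tf_cr
  sh_sh := Jord.sh_sh
  cr_sh_cr := Jord.cr_sh_cr
  sh_cr := Jord.sh_cr

set_option maxRecDepth 100000 in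
theorem exists_word : ∀ g : ↥(alternatingGroup (Fin 5)), ∃ i : Fin 5, ∃ j : Fin 3, ∃ k l : Fin 2,
    g = z5 ^ (i : ℕ) * c3 ^ (j : ℕ) * v0 ^ (k : ℕ) * v1 ^ (l : ℕ) := by (set_option synthInstance.maxSize 9000 in open scoped Cfsg.Agent.Lib.FastPerm in decide +kernel)

/-- vectors fixed by the generators are fixed -/
theorem fixed_of_gens {F V : Type*} [Field F] [AddCommGroup V] [Module F V]
    (ρ : Representation F ↥(alternatingGroup (Fin 5)) V) {x : V} (h0 : ρ v0 x = x) (h1 : ρ v1 x = x) (hc : ρ c3 x = x)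
    (hz : ρ z5 x = x) (g : ↥(alternatingGroup (Fin 5))) : ρ g x = x := by
  have hpow : ∀ (a : ↥(alternatingGroup (Fin 5))), ρ a x = x → ∀ n : ℕ, ρ (a ^ n) x = x := by
    intro a ha n
    induction n with
    | zero => simp only [_root_.pow_zero, _root_.map_one, _root_.Module.End.one_apply]
    | succ n ih => rw [pow_succ, map_mul, Module.End.mul_apply, ha, ih]
  obtain ⟨i, j, k, l, rfl⟩ := exists_word g
  rw [map_mul, map_mul, map_mul, Module.End.mul_apply, Module.End.mul_apply, Module.End.mul_apply, hpow _ h1, hpow _ h0,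
    hpow _ hc, hpow _ hz]

/-- M2: the algebra. `X 0, X 1, X 2` as in M1 in the 27-dimensional module, `q = T(X 0, X 0) / 2 ≠ 0`,
`e i = - (X i)^#`, `Y 0 = X 1 × X 2` etc.: `e i` are `q` times orthogonal idempotents. -/
theorem algebra {F : Type u} [Field F] (h2 : (2 : F) ≠ 0) (h5 : (5 : F) ≠ 0)
    (ρ : Representation F ↥(alternatingGroup (Fin 5)) (I27 → F))
    (hu : ∀ g, ρ g (u0 F) = u0 F) (htf : ∀ g x y, tf (ρ g x) (ρ g y) = tf x y) (hsh : ∀ g x, ρ g (sh x) = sh (ρ g x))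
    (hN : ∀ g x, cubicT (ρ g x) = cubicT x)
    (hfix : ∀ x : I27 → F, tr1 x = 0 → (∀ g, ρ g x = x) → ∃ c : F, x = c • u0 F)
    {t : F} {X : Fin 3 → I27 → F} (ht : t * t = t + 1) (hX : ∀ i, X i ≠ 0)
    (h0 : ρ v0 (X 0) = X 0 ∧ ρ v0 (X 1) = -X 1 ∧ ρ v0 (X 2) = -X 2)
    (h1 : ρ v1 (X 0) = -X 0 ∧ ρ v1 (X 1) = X 1 ∧ ρ v1 (X 2) = -X 2)
    (hc : ρ c3 (X 0) = X 1 ∧ ρ c3 (X 1) = X 2 ∧ ρ c3 (X 2) = X 0)
    (hz0 : (2 : F) • ρ z5 (X 0) = (t - 1) • X 0 - t • X 1 + X 2)
    (hz1 : (2 : F) • ρ z5 (X 1) = t • X 0 + X 1 + (t - 1) • X 2)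
    (hz2 : (2 : F) • ρ z5 (X 2) = -X 0 + (t - 1) • X 1 + t • X 2)
    (hq : tf (X 0) (X 0) ≠ 0)
    (h3 : (3 : F) = 0 → cr (sh (X 1 + t • X 2)) (X 0) = 0) :
    ∃ (q : F) (e Y : Fin 3 → I27 → F), q ≠ 0 ∧ (∀ i, e i ≠ 0) ∧ e 0 + e 1 + e 2 = q • u0 F ∧
      (∀ i, sh (e i) = 0) ∧ (∀ i, tr1 (e i) = q) ∧
      cr (e 0) (e 1) = q • e 2 ∧ cr (e 1) (e 2) = q • e 0 ∧ cr (e 2) (e 0) = q • e 1 ∧
      (∀ i, sh (Y i) = -q • e i) ∧ (∀ i, cr (e i) (Y i) = -q • Y i) ∧ (∀ i j, i ≠ j → cr (e i) (Y j) = 0) ∧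
      (∀ i, e i = -sh (X i)) ∧ Y 0 = cr (X 1) (X 2) ∧ Y 1 = cr (X 2) (X 0) ∧ Y 2 = cr (X 0) (X 1) :=
  axes_algebra (cub F) h2 h5 (ρ v0) (ρ v1) (ρ c3) (ρ z5) (hu v0) (hu v1) (htf v0) (htf v1) (htf c3) (hsh v0) (hsh v1)
    (hsh c3) (hsh z5) (hN v0) (hN v1) (hN z5)
    (fun x hx a b c d => hfix x hx (fixed_of_gens ρ a b c d)) (hu c3) (hu z5) ht h0 h1 hc hz0 hz1 hz2 hq h3

end Spec

end Cfsg.Agent.H952.F4
end

-- part: H742/F4CasesSpec
section
/-!
# S5926, F-Z1 (helper742): the special case of `A₅`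

`Cases.spec` : involutions with 15-dimensional, elements of order 5 with 5-dimensional fixed space on the
27-dimensional module.
-/

set_option autoImplicit false

namespace Cfsg.Agent.H952.F4

open Cfsg Cfsg.Lie Module
open Cfsg.Agent.ChevalleyStructure Cfsg.Agent.ChevalleyStructure.Elts
open Cfsg.Agent.ChevalleyStructure.E6Min.Tables Cfsg.Agent.ChevalleyStructure.E6Min.Basic

universe u

namespace Cases
open MaxA

variable {F : Type u} [Field F] [Finite F]

/-! ### numbers -/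

theorem sub_one_ge {q : ℕ} (hq : 2 ≤ q) (k : ℕ) : q ^ k ≤ q ^ (k + 1) - 1 := by
  have h1 : q ^ (k + 1) = q ^ k * q := pow_succ _ _
  have h2 : 0 < q ^ k := Nat.pow_pos (by omega)
  have h3 : q ^ k * 2 ≤ q ^ k * q := Nat.mul_le_mul_left _ hq
  omega

/-- the order of `F₄(q)` is large -/
theorem card_bound {H : Subgroup ↥(chevF4.group F)} (hH : Nat.card ↥H ≤ 120) (h2 : (2 : F) ≠ 0) {d : ℕ} (hd : d ≤ 26) :
    Nat.card ↥H * Nat.card F ^ d < Nat.card ↥(chevF4.group F) * (Nat.card F - 1) := by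
  classical
  have _ := Fintype.ofFinite F
  set q := Nat.card F with hq
  have hq1 : 1 < q := Finite.one_lt_card
  have hq3 : 3 ≤ q := by
    by_contra hcon
    have h3 : q = 2 := by omega
    apply h2
    have h4 : ((Nat.card F : ℕ) : F) = 0 := by rw [Nat.card_eq_fintype_card]; exact Nat.cast_card_eq_zero F
    rw [← hq, h3] at h4
    exact_mod_cast h4
  have hc : Nat.card ↥(chevF4.group F) = q ^ 24 * (q ^ 2 - 1) * (q ^ 6 - 1) * (q ^ 8 - 1) * (q ^ 12 - 1) :=
    Cfsg.Agent.S1062.result (by rw [hq, Nat.card_eq_fintype_card])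
  have h48 : q ^ 48 ≤ Nat.card ↥(chevF4.group F) := by
    rw [hc]
    calc q ^ 48 = q ^ 24 * q ^ 1 * q ^ 5 * q ^ 7 * q ^ 11 := by rw [← pow_add, ← pow_add, ← pow_add, ← pow_add]
      _ ≤ _ := by
        refine Nat.mul_le_mul (Nat.mul_le_mul (Nat.mul_le_mul (Nat.mul_le_mul_left _ ?_) ?_) ?_) ?_
        · exact sub_one_ge (by omega) 1
        · exact sub_one_ge (by omega) 5
        · exact sub_one_ge (by omega) 7
        · exact sub_one_ge (by omega) 11
  have h26 : q ^ d ≤ q ^ 26 := Nat.pow_le_pow_right (by omega) hd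
  have h22 : 120 < q ^ 22 := lt_of_lt_of_le (by norm_num) (Nat.pow_le_pow_left hq3 22)
  calc Nat.card ↥H * q ^ d ≤ 120 * q ^ 26 := Nat.mul_le_mul hH h26
    _ < q ^ 22 * q ^ 26 := Nat.mul_lt_mul_of_pos_right h22 (Nat.pow_pos (by omega))
    _ = q ^ 48 := by rw [← pow_add]
    _ ≤ Nat.card ↥(chevF4.group F) * 1 := by rw [mul_one]; exact h48
    _ ≤ _ := Nat.mul_le_mul_left _ (by omega)

/-! ### the group `A₅` -/

theorem v0_sq : v0 * v0 = 1 := by decide
theorem z5_pow : z5 ^ 5 = 1 := by decide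
theorem v0_z5 : v0 * z5 * v0⁻¹ = z5⁻¹ := by decide
theorem v0_ne : v0 ≠ 1 := by decide
theorem z5_ne : z5 ≠ 1 := by decide

theorem order_v0 : orderOf v0 = 2 := orderOf_eq_prime (by rw [pow_two, v0_sq]) v0_ne
theorem order_z5 : orderOf z5 = 5 := by
  have : Fact (Nat.Prime 5) := ⟨by norm_num⟩
  exact orderOf_eq_prime z5_pow z5_ne

theorem words : ∀ a : ↥(alternatingGroup (Fin 5)), ∃ (i : Fin 5) (j : Fin 3) (k l : Fin 2),
    a = z5 ^ (i : ℕ) * c3 ^ (j : ℕ) * v0 ^ (k : ℕ) * v1 ^ (l : ℕ) := by (set_option synthInstance.maxSize 9000 in open scoped Cfsg.Agent.Lib.FastPerm in decide +kernel)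

/-! ### generalities on representations -/

section rep

variable {G V : Type*} [Group G] [AddCommGroup V] [Module F V] (σ : Representation F G V)

omit [Finite F] in
theorem mem_es {T : Module.End F V} {μ : F} {v : V} : v ∈ es T μ ↔ T v = μ • v := Module.End.mem_eigenspace_iff

omit [Finite F] in
theorem act_pow_fix {z : G} {x : V} (hx : σ z x = x) (k : ℕ) : σ (z ^ k) x = x := by
  induction k with
  | zero => rw [pow_zero]; exact rone σ x
  | succ k ih => rw [pow_succ, rmul, hx, ih]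

omit [Finite F] in
/-- the stabilizer of a submodule (one inclusion is enough for a finite group) -/
theorem span_stable (W : Submodule F V) {a b : G} (ha : ∀ w ∈ W, σ a w ∈ W) (hb : ∀ w ∈ W, σ b w ∈ W) :
    ∀ w ∈ W, σ (a * b) w ∈ W := by
  intro w hw
  rw [rmul]
  exact ha _ (hb _ hw)

omit [Finite F] in
theorem span_stable_pow (W : Submodule F V) {a : G} (ha : ∀ w ∈ W, σ a w ∈ W) (k : ℕ) :
    ∀ w ∈ W, σ (a ^ k) w ∈ W := by
  induction k with
  | zero => intro w hw; rw [pow_zero, rone]; exact hw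
  | succ k ih => rw [pow_succ]; exact span_stable σ W ih ha

omit [Finite F] in
theorem stable_span {X : Fin 3 → V} {a : G} (h : ∀ i, σ a (X i) ∈ Submodule.span F (Set.range X)) :
    ∀ w ∈ Submodule.span F (Set.range X), σ a w ∈ Submodule.span F (Set.range X) := by
  intro w hw
  induction hw using Submodule.span_induction with
  | mem x hx => obtain ⟨i, rfl⟩ := hx; exact h i
  | zero => rw [map_zero]; exact zero_mem _
  | add x y _ _ hx hy => rw [map_add]; exact add_mem hx hy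
  | smul c x _ hx => rw [map_smul]; exact Submodule.smul_mem _ _ hx

end rep

omit [Finite F] in
/-- the 3-dimensional module is stable -/
theorem stable_all {V : Type*} [AddCommGroup V] [Module F V] (h2 : (2 : F) ≠ 0)
    (σ : Representation F ↥(alternatingGroup (Fin 5)) V) {t : F} {X : Fin 3 → V}
    (h0 : σ v0 (X 0) = X 0 ∧ σ v0 (X 1) = -X 1 ∧ σ v0 (X 2) = -X 2)
    (h1 : σ v1 (X 0) = -X 0 ∧ σ v1 (X 1) = X 1 ∧ σ v1 (X 2) = -X 2)
    (hc : σ c3 (X 0) = X 1 ∧ σ c3 (X 1) = X 2 ∧ σ c3 (X 2) = X 0)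
    (hz0 : (2 : F) • σ z5 (X 0) = (t - 1) • X 0 - t • X 1 + X 2)
    (hz1 : (2 : F) • σ z5 (X 1) = t • X 0 + X 1 + (t - 1) • X 2)
    (hz2 : (2 : F) • σ z5 (X 2) = -X 0 + (t - 1) • X 1 + t • X 2) (a : ↥(alternatingGroup (Fin 5))) :
    ∀ w ∈ Submodule.span F (Set.range X), σ a w ∈ Submodule.span F (Set.range X) := by
  have hX : ∀ i, X i ∈ Submodule.span F (Set.range X) := fun i => Submodule.subset_span ⟨i, rfl⟩
  have half : ∀ v : V, (2 : F) • v ∈ Submodule.span F (Set.range X) → v ∈ Submodule.span F (Set.range X) := by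
    intro v hv
    have h := Submodule.smul_mem _ (2 : F)⁻¹ hv
    rwa [smul_smul, inv_mul_cancel₀ h2, one_smul] at h
  have hv0 : ∀ w ∈ Submodule.span F (Set.range X), σ v0 w ∈ Submodule.span F (Set.range X) := by
    refine stable_span σ fun i => ?_
    fin_cases i
    · change σ v0 (X 0) ∈ _; rw [h0.1]; exact hX 0
    · change σ v0 (X 1) ∈ _; rw [h0.2.1]; exact neg_mem (hX 1)
    · change σ v0 (X 2) ∈ _; rw [h0.2.2]; exact neg_mem (hX 2)
  have hv1 : ∀ w ∈ Submodule.span F (Set.range X), σ v1 w ∈ Submodule.span F (Set.range X) := by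
    refine stable_span σ fun i => ?_
    fin_cases i
    · change σ v1 (X 0) ∈ _; rw [h1.1]; exact neg_mem (hX 0)
    · change σ v1 (X 1) ∈ _; rw [h1.2.1]; exact hX 1
    · change σ v1 (X 2) ∈ _; rw [h1.2.2]; exact neg_mem (hX 2)
  have hc3 : ∀ w ∈ Submodule.span F (Set.range X), σ c3 w ∈ Submodule.span F (Set.range X) := by
    refine stable_span σ fun i => ?_
    fin_cases i
    · change σ c3 (X 0) ∈ _; rw [hc.1]; exact hX 1
    · change σ c3 (X 1) ∈ _; rw [hc.2.1]; exact hX 2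
    · change σ c3 (X 2) ∈ _; rw [hc.2.2]; exact hX 0
  have hz5 : ∀ w ∈ Submodule.span F (Set.range X), σ z5 w ∈ Submodule.span F (Set.range X) := by
    refine stable_span σ fun i => half _ ?_
    fin_cases i
    · change (2 : F) • σ z5 (X 0) ∈ _
      rw [hz0]
      exact add_mem (sub_mem (Submodule.smul_mem _ _ (hX 0)) (Submodule.smul_mem _ _ (hX 1))) (hX 2)
    · change (2 : F) • σ z5 (X 1) ∈ _
      rw [hz1]
      exact add_mem (add_mem (Submodule.smul_mem _ _ (hX 0)) (hX 1)) (Submodule.smul_mem _ _ (hX 2))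
    · change (2 : F) • σ z5 (X 2) ∈ _
      rw [hz2]
      exact add_mem (add_mem (neg_mem (hX 0)) (Submodule.smul_mem _ _ (hX 1))) (Submodule.smul_mem _ _ (hX 2))
  obtain ⟨i, j, k, l, rfl⟩ := words a
  exact span_stable σ _ (span_stable σ _ (span_stable σ _ (span_stable_pow σ _ hz5 _) (span_stable_pow σ _ hc3 _))
    (span_stable_pow σ _ hv0 _)) (span_stable_pow σ _ hv1 _)

/-! ### the trace form -/

omit [Finite F] in
theorem tf_neg_left (x y : I27 → F) : tf (-x) y = -tf x y := by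
  rw [← neg_one_smul F x, Jord.tf_smul_left, neg_one_mul]

omit [Finite F] in
theorem tf_neg_right (x y : I27 → F) : tf x (-y) = -tf x y := by
  rw [Jord.tf_comm, tf_neg_left, Jord.tf_comm]

omit [Finite F] in
theorem tf_add_right (x y y' : I27 → F) : tf x (y + y') = tf x y + tf x y' := by
  rw [Jord.tf_comm, Jord.tf_add_left, Jord.tf_comm y, Jord.tf_comm y']

omit [Finite F] in
theorem tf_smul_right (c : F) (x y : I27 → F) : tf x (c • y) = c * tf x y := by
  rw [Jord.tf_comm, Jord.tf_smul_left, Jord.tf_comm]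

omit [Finite F] in
theorem tf_sub_right (x y y' : I27 → F) : tf x (y - y') = tf x y - tf x y' := by
  rw [sub_eq_add_neg, tf_add_right, tf_neg_right, sub_eq_add_neg]

omit [Finite F] in
theorem tf_sum_right {ι : Type*} (s : Finset ι) (x : I27 → F) (y : ι → I27 → F) :
    tf x (∑ i ∈ s, y i) = ∑ i ∈ s, tf x (y i) := by
  classical
  induction s using Finset.induction_on with
  | empty => rw [Finset.sum_empty, Finset.sum_empty]
             rw [← zero_smul F (0 : I27 → F), tf_smul_right, zero_mul]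
  | insert a s ha ih => rw [Finset.sum_insert ha, Finset.sum_insert ha, tf_add_right, ih]

omit [Finite F] in
/-- `T(X 0, X 0) ≠ 0` -/
theorem tf_ne (h2 : (2 : F) ≠ 0) (h5 : (5 : F) ≠ 0) (σ : Representation F ↥(alternatingGroup (Fin 5)) (I27 → F))
    (htf : ∀ g x y, tf (σ g x) (σ g y) = tf x y)
    (hd : finrank F ↥(es (σ z5) 1 ⊓ es (σ v0) (-1)) = 1) {t : F} {X : Fin 3 → I27 → F}
    (h1 : σ v1 (X 0) = -X 0 ∧ σ v1 (X 1) = X 1 ∧ σ v1 (X 2) = -X 2)
    (hc : σ c3 (X 0) = X 1 ∧ σ c3 (X 1) = X 2 ∧ σ c3 (X 2) = X 0) (hx0 : X 1 + t • X 2 ≠ 0)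
    (hzx : σ z5 (X 1 + t • X 2) = X 1 + t • X 2) (hsx : σ v0 (X 1 + t • X 2) = -(X 1 + t • X 2)) :
    tf (X 0) (X 0) ≠ 0 := by
  intro hq
  set x := X 1 + t • X 2 with hx
  have e12 : tf (X 1) (X 2) = 0 := by
    have h := htf v1 (X 1) (X 2)
    rw [h1.2.1, h1.2.2, tf_neg_right] at h
    have h3 : (2 : F) * tf (X 1) (X 2) = 0 := by linear_combination -h
    exact (mul_eq_zero.1 h3).resolve_left h2
  have e11 : tf (X 1) (X 1) = 0 := by
    have h := htf c3 (X 0) (X 0)
    rw [hc.1, hq] at h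
    exact h
  have e22 : tf (X 2) (X 2) = 0 := by
    have h := htf c3 (X 1) (X 1)
    rw [hc.2.1, e11] at h
    exact h
  have exx : tf x x = 0 := by
    rw [hx, Jord.tf_add_left, tf_add_right, tf_add_right, Jord.tf_smul_left, Jord.tf_smul_left, tf_smul_right,
      tf_smul_right, Jord.tf_comm (X 2) (X 1), e11, e12, e22]
    ring
  apply hx0
  refine Jord.tf_nondeg fun y => ?_
  set y1 : I27 → F := ∑ k ∈ Finset.range 5, σ (z5 ^ k) y with hy1
  have hzy1 : σ z5 y1 = y1 := by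
    rw [hy1, map_sum]
    have h : ∀ k, σ z5 (σ (z5 ^ k) y) = σ (z5 ^ (k + 1)) y := by
      intro k
      rw [← rmul, ← pow_succ']
    rw [Finset.sum_congr rfl fun k _ => h k, Finset.sum_range_succ, z5_pow, Finset.sum_range_succ' _ 4, pow_zero]
  have hsy : σ z5 (σ v0 y1) = σ v0 y1 := by
    have h3 : z5 * v0 = v0 * z5⁻¹ := by decide
    have h4 : σ z5⁻¹ y1 = y1 := by
      conv_lhs => rw [← hzy1]
      exact rinv σ z5 y1
    rw [← rmul, h3, rmul, h4]
  set y2 := y1 - σ v0 y1 with hy2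
  have m2 : y2 ∈ es (σ z5) 1 ⊓ es (σ v0) (-1) := by
    refine ⟨mem_es.2 ?_, mem_es.2 ?_⟩
    · rw [one_smul, hy2, map_sub, hzy1, hsy]
    · rw [hy2, map_sub, ← rmul, v0_sq, rone, neg_one_smul, neg_sub]
  have mx : x ∈ es (σ z5) 1 ⊓ es (σ v0) (-1) :=
    ⟨mem_es.2 (by rw [one_smul, hzx]), mem_es.2 (by rw [neg_one_smul, hsx])⟩
  obtain ⟨c, hcc⟩ := (finrank_eq_one_iff_of_nonzero' (⟨x, mx⟩ : ↥(es (σ z5) 1 ⊓ es (σ v0) (-1)))
    (fun h => hx0 (congrArg Subtype.val h))).1 hd ⟨y2, m2⟩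
  have hcc' : c • x = y2 := congrArg Subtype.val hcc
  have k1 : tf x y2 = 0 := by rw [← hcc', tf_smul_right, exx, mul_zero]
  have k2 : tf x y1 = 5 * tf x y := by
    rw [hy1, tf_sum_right]
    have h : ∀ k, tf x (σ (z5 ^ k) y) = tf x y := by
      intro k
      have h4 := htf (z5 ^ k) x y
      rwa [act_pow_fix σ hzx k] at h4
    rw [Finset.sum_congr rfl fun k _ => h k, Finset.sum_const, Finset.card_range, nsmul_eq_mul, Nat.cast_ofNat]
  have k3 : tf x (σ v0 y1) = -tf x y1 := by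
    have h4 := htf v0 x y1
    rw [hsx, tf_neg_left] at h4
    linear_combination -h4
  have k4 : (2 * 5 : F) * tf x y = 0 := by
    have h4 : tf x y2 = tf x y1 - tf x (σ v0 y1) := by rw [hy2, tf_sub_right]
    rw [k1, k3, k2] at h4
    linear_combination -h4
  exact (mul_eq_zero.1 k4).resolve_left (mul_ne_zero h2 h5)

/-- the pointwise stabilizer of `e i`, `Y i` -/
def ptStab {ρ : ↥(chevF4.group F) →* GL I27 F} (e Y : Fin 3 → I27 → F) : Subgroup ↥(chevF4.group F) where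
  carrier := {g | (∀ i, JK ρ g (e i) = e i) ∧ ∀ i, JK ρ g (Y i) = Y i}
  one_mem' := ⟨fun i => rone (JK ρ) _, fun i => rone (JK ρ) _⟩
  mul_mem' := by
    rintro g h ⟨h1, h2⟩ ⟨h3, h4⟩
    exact ⟨fun i => by rw [rmul, h3, h1], fun i => by rw [rmul, h4, h2]⟩
  inv_mem' := by
    rintro g ⟨h1, h2⟩
    exact ⟨fun i => by conv_lhs => rw [← h1 i, rinv],
      fun i => by conv_lhs => rw [← h2 i, rinv]⟩

/-- `Cases.spec` with `Tor.tab_finite`, `Tor.axis_dim`, `Tor.axis` as hypotheses. -/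
theorem spec_of (p : ℕ) [Fact p.Prime] [CharP F p] (hp2 : p ≠ 2) (hp5 : p ≠ 5)
    {H : Subgroup ↥(chevF4.group F)}
    {ρ : ↥(chevF4.group F) →* GL I27 F} (hρ : IsJ ρ) {φ : ↥(alternatingGroup (Fin 5)) →* ↥(chevF4.group F)}
    (htab : Tab p (LK F) (JK ρ))
    (haxd : ∀ {z : ↥(chevF4.group F)} (_ : z ≠ 1) (_ : z ^ 5 = 1)
      (_ : ev (JK ρ z) 1 = 5) (μ : F) (_ : μ * μ + μ = 1),
      (finrank F ↥(LinearMap.ker (JK ρ z * JK ρ z - μ • JK ρ z + 1)) = 12 ∧
        LinearMap.trace F _ (JK ρ z) - LinearMap.trace F _ (JK ρ (z * z)) = 2 * μ + 1) ∨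
      (finrank F ↥(LinearMap.ker (JK ρ z * JK ρ z - μ • JK ρ z + 1)) = 10 ∧
        LinearMap.trace F _ (JK ρ z) - LinearMap.trace F _ (JK ρ (z * z)) = -(2 * μ + 1)))
    (haxis : ∀ {z s : ↥(chevF4.group F)} (_ : z ≠ 1) (_ : z ^ 5 = 1)
      (_ : s * z * s⁻¹ = z⁻¹) (_ : ev (JK ρ z) 1 = 5) (μ : F)
      (_ : finrank F ↥(LinearMap.ker (JK ρ z * JK ρ z - μ • JK ρ z + 1)) = 12)
      (x : I27 → F) (_ : JK ρ z x = x) (_ : JK ρ s x = -x) (w : I27 → F)
      (_ : JK ρ z (JK ρ z w) - μ • JK ρ z w + w = 0), cr (sh x) w = 0)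
    (hfix : ∀ x : I27 → F, tr1 x = 0 → (∀ g, JK ρ (φ g) x = x) → ∃ c : F, x = c • u0 F)
    (hcs : ∀ a b : I27 → F, ∃ g : ↥(chevF4.group F), g ≠ 1 ∧ JK ρ g a = a ∧ JK ρ g b = b)
    (hM : MaxAlt H 5 φ) (h2 : ∀ g, orderOf g = 2 → ev (JK ρ (φ g)) 1 = 15)
    (_h3 : p ≠ 3 → ∀ g, orderOf g = 3 → ev (JK ρ (φ g)) 1 = 9)
    (h5 : ∀ g, orderOf g = 5 → ev (JK ρ (φ g)) 1 = 5) : False := by
  classical
  have hp := (Fact.out : p.Prime)
  have ne_of : ∀ r : ℕ, r.Prime → p ≠ r → ((r : ℕ) : F) ≠ 0 := by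
    intro r hr hpr h
    exact hpr ((Nat.prime_dvd_prime_iff_eq hp hr).1 ((CharP.cast_eq_zero_iff F p r).1 h))
  have two_ne : (2 : F) ≠ 0 := by exact_mod_cast ne_of 2 Nat.prime_two hp2
  have five_ne : (5 : F) ≠ 0 := by exact_mod_cast ne_of 5 Nat.prime_five hp5
  have hs : IsSimpleGroup ↥(chevF4.group F) := (Cfsg.Agent.S1054.result chevF4 (by simp)).1
  have hz1 : φ z5 ≠ 1 := fun h => z5_ne (hM.inj (by rw [h, map_one]))
  have hzp : φ z5 ^ 5 = 1 := by rw [← map_pow, z5_pow, map_one]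
  -- `H = A`
  have hHA : H = φ.range := by
    rcases hM.five rfl with h | h
    · exact h
    · exfalso
      obtain ⟨x, hx, he⟩ := h (φ z5) ⟨z5, rfl⟩ hz1 hzp
      have h1 := (htab.five_rat hp5 (φ z5) hz1 hzp ⟨x, he⟩).1
      rw [h5 z5 order_z5] at h1
      omega
  let σ : Representation F ↥(alternatingGroup (Fin 5)) (I27 → F) := MonoidHom.comp (JK ρ) φ
  have hσ : ∀ g, σ g = JK ρ (φ g) := fun g => rfl
  have h27 : finrank F (I27 → F) = 27 := by
    rw [Module.finrank_fintype_fun_eq_card]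
    decide +kernel
  have hd : finrank F ↥(es (σ z5) 1 ⊓ es (σ v0) (-1)) = 1 := by
    have e1 : ev (σ v0) 1 = 15 := h2 v0 order_v0
    have e5 : ev (σ z5) 1 = 5 := h5 z5 order_z5
    have e2 := Eig.ev_neg two_ne (σ v0)
    have e3 : ev (σ v0 * σ v0) 1 = 27 := by
      rw [← map_mul, v0_sq, map_one]
      have h4 : Module.End.eigenspace (1 : Module.End F (I27 → F)) 1 = ⊤ := by
        rw [eq_top_iff]
        intro v _
        rw [Module.End.mem_eigenspace_iff, one_smul, Module.End.one_apply]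
      rw [ev, h4, finrank_top, h27]
    have e4 := Eig.dihedral two_ne σ (z := z5) (s := v0) (m := 5) (by decide) (by exact_mod_cast five_ne) z5_pow
      v0_sq v0_z5 (μ := -1) (Or.inr rfl)
    rw [h27, e5] at e4
    omega
  obtain ⟨t, X, ht, hX, h0, h1, hc, hz0, hz1', hz2⟩ := Spec.axes two_ne five_ne σ hd
  -- the fixed vector of `z5`
  set x := X 1 + t • X 2 with hx
  have hzx : σ z5 x = x := by
    have h4 : (2 : F) • σ z5 x = (2 : F) • x := by
      rw [hx, map_add, map_smul, smul_add, smul_comm (2 : F) t, hz1', hz2]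
      have ht' : t * (t - 1) = 1 := by linear_combination ht
      have h6 : t • (-X 0 + (t - 1) • X 1 + t • X 2) = -(t • X 0) + X 1 + (t + 1) • X 2 := by
        rw [smul_add, smul_add, smul_smul, smul_smul, ht', ht, one_smul, smul_neg]
      rw [h6]
      module
    have h5' := congrArg (fun v => (2 : F)⁻¹ • v) h4
    simpa only [smul_smul, inv_mul_cancel₀ two_ne, one_smul] using h5'
  have hsx : σ v0 x = -x := by
    rw [hx, map_add, map_smul, h0.2.1, h0.2.2, smul_neg, neg_add]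
  have hx0 : x ≠ 0 := by
    intro h
    have h4 : σ v1 x = 0 := by rw [h, map_zero]
    rw [hx, map_add, map_smul, h1.2.1, h1.2.2, smul_neg] at h4
    have h6 : (2 : F) • X 1 = 0 := by
      have h7 : X 1 + t • X 2 + (X 1 + -(t • X 2)) = 0 := by rw [h4, ← hx, h, add_zero]
      rw [← h7]
      module
    exact hX 1 ((smul_eq_zero.1 h6).resolve_left two_ne)
  have htf : ∀ g x y, tf (σ g x) (σ g y) = tf x y := fun g x y => Inv.tf_inv hρ two_ne (φ g) x y
  have hsh : ∀ g x, σ g (sh x) = sh (σ g x) := fun g x => (Inv.sh_inv hρ two_ne (φ g) x).symm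
  have hq := tf_ne two_ne five_ne σ htf hd h1 hc hx0 hzx hsx
  -- characteristic 3
  have hch3 : (3 : F) = 0 → cr (sh (X 1 + t • X 2)) (X 0) = 0 := by
    intro _
    have hμ : (t - 1) * (t - 1) + (t - 1) = 1 := by linear_combination ht
    have hw : JK ρ (φ z5) (JK ρ (φ z5) (X 0)) - (t - 1) • JK ρ (φ z5) (X 0) + X 0 = 0 := by
      rw [← hσ]
      have k1 : (2 : F) • ((2 : F) • σ z5 (σ z5 (X 0))) = (-(2 * t)) • X 0 - (2 : F) • X 1 + (2 * t - 2) • X 2 := by
        rw [← map_smul, hz0, map_add, map_sub, map_smul, map_smul, smul_add, smul_sub, smul_comm (2 : F) (t - 1),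
          smul_comm (2 : F) t, hz0, hz1', hz2]
        have a1 : (t - 1) * (t - 1) = 2 - t := by linear_combination ht
        have a2 : (t - 1) * t = 1 := by linear_combination ht
        have a3 : t * t = t + 1 := ht
        have a4 : t * (t - 1) = 1 := by linear_combination ht
        have b1 : (t - 1) • ((t - 1) • X 0 - t • X 1 + X 2) = (2 - t) • X 0 - X 1 + (t - 1) • X 2 := by
          rw [smul_add, smul_sub, smul_smul, smul_smul, a1, a2, one_smul]
        have b2 : t • (t • X 0 + X 1 + (t - 1) • X 2) = (t + 1) • X 0 + t • X 1 + X 2 := by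
          rw [smul_add, smul_add, smul_smul, smul_smul, a3, a4, one_smul]
        rw [b1, b2]
        module
      have k2 : (2 : F) • ((2 : F) • ((t - 1) • σ z5 (X 0))) = (4 - 2 * t) • X 0 - (2 : F) • X 1 + (2 * t - 2) • X 2 := by
        rw [smul_comm (2 : F) (t - 1), hz0]
        have a1 : (t - 1) * (t - 1) = 2 - t := by linear_combination ht
        have a2 : (t - 1) * t = 1 := by linear_combination ht
        have b1 : (t - 1) • ((t - 1) • X 0 - t • X 1 + X 2) = (2 - t) • X 0 - X 1 + (t - 1) • X 2 := by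
          rw [smul_add, smul_sub, smul_smul, smul_smul, a1, a2, one_smul]
        rw [b1]
        module
      have k3 : (2 : F) • ((2 : F) • (σ z5 (σ z5 (X 0)) - (t - 1) • σ z5 (X 0) + X 0)) = 0 := by
        rw [smul_add, smul_sub, smul_add, smul_sub, k1, k2]
        module
      exact (smul_eq_zero.1 ((smul_eq_zero.1 k3).resolve_left two_ne)).resolve_left two_ne
    rcases haxd hz1 hzp (h5 z5 order_z5) (t - 1) hμ with ⟨h12, -⟩ | ⟨-, htr⟩
    · refine haxis (z := φ z5) (s := φ v0) hz1 hzp ?_ (h5 z5 order_z5) (t - 1) h12 x hzx hsx (X 0) hw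
      rw [← map_inv, ← map_mul, ← map_mul, v0_z5, map_inv]
    · exfalso
      have h4 := Spec.trace_diff two_ne five_ne σ hd ht hX h0 h1 hc hz0 hz1' hz2
      rw [hσ, hσ, map_mul φ, htr] at h4
      have h6 : (2 : F) * (2 * t - 1) = 0 := by linear_combination -h4
      have h7 : 2 * t - 1 = 0 := (mul_eq_zero.1 h6).resolve_left two_ne
      exact five_ne (by linear_combination (-(4 : F)) * ht + (2 * t - 1) * h7)
  obtain ⟨q, e, Y, hq0, he0, hesum, hshe, -, c01, c12, -, -, hcreY, hcreYj, hedef, hY0, hY1, hY2⟩ :=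
    Spec.algebra two_ne five_ne σ (fun g => Inv.u0_inv hρ (φ g)) htf hsh (fun g x => Inv.N_inv hρ (φ g) x) hfix
      ht hX h0 h1 hc hz0 hz1' hz2 hq hch3
  let C : Subgroup ↥(chevF4.group F) := ptStab (ρ := ρ) e Y
  have memC : ∀ g, g ∈ C ↔ (∀ i, JK ρ g (e i) = e i) ∧ ∀ i, JK ρ g (Y i) = Y i := fun g => Iff.rfl
  -- `C` fixes `sh w` and `cr w w'` for `w, w'` in the 3-dimensional module
  have cr_add_right : ∀ x y y' : I27 → F, cr x (y + y') = cr x y + cr x y' := by
    intro x y y'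
    rw [Jord.cr_comm, Jord.cr_add_left, Jord.cr_comm y, Jord.cr_comm y']
  have cr_smul_right : ∀ (c : F) (x y : I27 → F), cr x (c • y) = c • cr x y := by
    intro c x y
    rw [Jord.cr_comm, Jord.cr_smul_left, Jord.cr_comm]
  have fixX : ∀ g ∈ C, ∀ i j, JK ρ g (cr (X i) (X j)) = cr (X i) (X j) := by
    intro g hg i j
    obtain ⟨k1, k2⟩ := (memC g).1 hg
    have hshX : ∀ i, JK ρ g (sh (X i)) = sh (X i) := by
      intro i
      have h4 := k1 i
      rw [hedef, map_neg, neg_inj] at h4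
      exact h4
    have a01 : JK ρ g (cr (X 0) (X 1)) = cr (X 0) (X 1) := by rw [← hY2]; exact k2 2
    have a12 : JK ρ g (cr (X 1) (X 2)) = cr (X 1) (X 2) := by rw [← hY0]; exact k2 0
    have a20 : JK ρ g (cr (X 2) (X 0)) = cr (X 2) (X 0) := by rw [← hY1]; exact k2 1
    have aii : ∀ i, JK ρ g (cr (X i) (X i)) = cr (X i) (X i) := by
      intro i
      rw [Jord.cr_self, map_smul, hshX]
    have a10 := a01
    rw [Jord.cr_comm] at a10
    have a21 := a12
    rw [Jord.cr_comm] at a21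
    have a02 := a20
    rw [Jord.cr_comm] at a02
    fin_cases i <;> fin_cases j
    · exact aii 0
    · exact a01
    · exact a02
    · exact a10
    · exact aii 1
    · exact a12
    · exact a20
    · exact a21
    · exact aii 2
  have fixW : ∀ g ∈ C, ∀ w ∈ Submodule.span F (Set.range X), ∀ w' ∈ Submodule.span F (Set.range X),
      JK ρ g (cr w w') = cr w w' := by
    intro g hg w hw w' hw'
    induction hw using Submodule.span_induction with
    | mem x hx =>
      obtain ⟨i, rfl⟩ := hx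
      induction hw' using Submodule.span_induction with
      | mem x hx => obtain ⟨j, rfl⟩ := hx; exact fixX g hg i j
      | zero => rw [← zero_smul F (0 : I27 → F), cr_smul_right, zero_smul, map_zero]
      | add x y _ _ hx hy => rw [cr_add_right, map_add, hx, hy]
      | smul c x _ hx => rw [cr_smul_right, map_smul, hx]
    | zero => rw [← zero_smul F (0 : I27 → F), Jord.cr_smul_left, zero_smul, map_zero]
    | add x y _ _ hx hy => rw [Jord.cr_add_left, map_add, hx, hy]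
    | smul c x _ hx => rw [Jord.cr_smul_left, map_smul, hx]
  have fixS : ∀ g ∈ C, ∀ w ∈ Submodule.span F (Set.range X), JK ρ g (sh w) = sh w := by
    intro g hg w hw
    have h4 := fixW g hg w hw w hw
    rw [Jord.cr_self, map_smul] at h4
    have h6 := congrArg (fun v => (2 : F)⁻¹ • v) h4
    simpa only [smul_smul, inv_mul_cancel₀ two_ne, one_smul] using h6
  have hXm : ∀ i, X i ∈ Submodule.span F (Set.range X) := fun i => Submodule.subset_span ⟨i, rfl⟩
  have hst := stable_all two_ne σ h0 h1 hc hz0 hz1' hz2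
  -- `H` normalizes `C`
  have hcrσ : ∀ g x y, JK ρ g (cr x y) = cr (JK ρ g x) (JK ρ g y) := fun g x y => (Inv.cr_inv hρ two_ne g x y).symm
  have hshσ : ∀ g x, JK ρ g (sh x) = sh (JK ρ g x) := fun g x => (Inv.sh_inv hρ two_ne g x).symm
  have hnorm : ∀ a : ↥(alternatingGroup (Fin 5)), ∀ c ∈ C, φ a * c * (φ a)⁻¹ ∈ C := by
    intro a c hcC
    have back : ∀ v, JK ρ (φ a) (JK ρ (φ a)⁻¹ v) = v := by
      intro v
      rw [← rmul, mul_inv_cancel, rone]
    have hstab : ∀ i, JK ρ (φ a)⁻¹ (X i) ∈ Submodule.span F (Set.range X) := by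
      intro i
      rw [← map_inv]
      exact hst a⁻¹ (X i) (hXm i)
    have keyc : ∀ i j, JK ρ (φ a * c * (φ a)⁻¹) (cr (X i) (X j)) = cr (X i) (X j) := by
      intro i j
      rw [rmul, rmul, hcrσ (φ a)⁻¹, fixW c hcC _ (hstab i) _ (hstab j), hcrσ, back, back]
    rw [memC]
    constructor
    · intro i
      rw [hedef, map_neg, rmul, rmul, hshσ (φ a)⁻¹, fixS c hcC _ (hstab i), hshσ, back]
    · intro i
      fin_cases i
      · change JK ρ _ (Y 0) = Y 0
        rw [hY0]; exact keyc 1 2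
      · change JK ρ _ (Y 1) = Y 1
        rw [hY1]; exact keyc 2 0
      · change JK ρ _ (Y 2) = Y 2
        rw [hY2]; exact keyc 0 1
  -- `C ≠ 1`
  have hC : C ≠ ⊥ := by
    obtain ⟨g, hg1, hga, hgb⟩ := hcs (e 1 - e 2) (Y 0 + Y 1 + Y 2)
    have s12 : sh (e 1 - e 2) = -(q • e 0) := by
      have k1 : e 1 - e 2 = e 1 + (-1 : F) • e 2 := by rw [neg_one_smul, sub_eq_add_neg]
      rw [k1, Jord.sh_add, Jord.sh_smul, hshe, hshe, smul_zero, cr_smul_right, c12, neg_one_smul, zero_add, zero_add]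
    have g0 : JK ρ g (e 0) = e 0 := by
      have k1 := hshσ g (e 1 - e 2)
      rw [hga, s12, map_neg, map_smul, neg_inj] at k1
      have k2 : q • (JK ρ g (e 0) - e 0) = 0 := by rw [smul_sub, k1, sub_self]
      exact sub_eq_zero.1 ((smul_eq_zero.1 k2).resolve_left hq0)
    have gs : JK ρ g (e 1) + JK ρ g (e 2) = e 1 + e 2 := by
      have k1 : JK ρ g (e 0 + e 1 + e 2) = e 0 + e 1 + e 2 := by rw [hesum, map_smul, Inv.u0_inv hρ]
      rw [map_add, map_add, g0, add_assoc, add_assoc] at k1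
      exact add_left_cancel k1
    have gd : JK ρ g (e 1) - JK ρ g (e 2) = e 1 - e 2 := by rw [← map_sub, hga]
    have g1 : JK ρ g (e 1) = e 1 := by
      have k1 : (2 : F) • (JK ρ g (e 1) - e 1) = 0 := by
        calc (2 : F) • (JK ρ g (e 1) - e 1) = (JK ρ g (e 1) + JK ρ g (e 2)) + (JK ρ g (e 1) - JK ρ g (e 2)) -
              (2 : F) • e 1 := by module
          _ = 0 := by rw [gs, gd]; module
      exact sub_eq_zero.1 ((smul_eq_zero.1 k1).resolve_left two_ne)
    have g2 : JK ρ g (e 2) = e 2 := by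
      rw [g1] at gs
      exact add_left_cancel gs
    have ge : ∀ i, JK ρ g (e i) = e i := by
      intro i
      fin_cases i
      · exact g0
      · exact g1
      · exact g2
    have gY : ∀ i, JK ρ g (Y i) = Y i := by
      intro i
      have k1 : cr (e i) (Y 0 + Y 1 + Y 2) = -q • Y i := by
        rw [cr_add_right, cr_add_right]
        fin_cases i
        · change cr (e 0) (Y 0) + cr (e 0) (Y 1) + cr (e 0) (Y 2) = -q • Y 0
          rw [hcreY, hcreYj 0 1 (by decide), hcreYj 0 2 (by decide), add_zero, add_zero]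
        · change cr (e 1) (Y 0) + cr (e 1) (Y 1) + cr (e 1) (Y 2) = -q • Y 1
          rw [hcreY, hcreYj 1 0 (by decide), hcreYj 1 2 (by decide), zero_add, add_zero]
        · change cr (e 2) (Y 0) + cr (e 2) (Y 1) + cr (e 2) (Y 2) = -q • Y 2
          rw [hcreY, hcreYj 2 0 (by decide), hcreYj 2 1 (by decide), zero_add, zero_add]
      have k2 := hcrσ g (e i) (Y 0 + Y 1 + Y 2)
      rw [ge, hgb, k1, map_smul] at k2
      have k3 : (-q) • (JK ρ g (Y i) - Y i) = 0 := by rw [smul_sub, k2, sub_self]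
      exact sub_eq_zero.1 ((smul_eq_zero.1 k3).resolve_left (neg_ne_zero.2 hq0))
    intro h
    have k1 : g ∈ C := ⟨ge, gY⟩
    rw [h, Subgroup.mem_bot] at k1
    exact hg1 k1
  have hrange : ¬ φ.range ≤ C := by
    intro hle
    have h4 := ((memC _).1 (hle ⟨c3, rfl⟩)).1 0
    have h6 : JK ρ (φ c3) (e 0) = e 1 := by
      rw [hedef, map_neg, hshσ, ← hσ, hc.1, ← hedef]
    rw [h6] at h4
    rw [h4, Jord.cr_self, hshe, smul_zero] at c01
    exact he0 2 ((smul_eq_zero.1 c01.symm).resolve_left hq0)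
  have hN : H ≤ Subgroup.normalizer (C : Set ↥(chevF4.group F)) := by
    rw [hHA]
    rintro _ ⟨a, rfl⟩
    rw [Subgroup.mem_normalizer_iff]
    intro c
    refine ⟨fun h => hnorm a c h, fun h => ?_⟩
    have h4 := hnorm a⁻¹ _ h
    rw [map_inv] at h4
    convert h4 using 1
    group
  rcases eq_or_lt_of_le hN with h | h
  · apply hrange
    refine hM.min C ?_ ?_ hC
    · rw [h]; exact Subgroup.le_normalizer
    · intro x hx b hb
      rw [h] at hx
      exact (Subgroup.mem_normalizer_iff.1 hx b).1 hb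
  · have h4 : C.Normal := Subgroup.normalizer_eq_top_iff.1 (hM.coatom.2 _ h)
    rcases h4.eq_bot_or_eq_top with h6 | h6
    · exact hC h6
    · apply hrange
      rw [h6]
      exact le_top

end Cases

end Cfsg.Agent.H952.F4
end

-- part: H952/F4/CasesSpec
section
/-!
# S5926, F-Z1: the special case of `A₅` (helper742, helper790)
-/

set_option autoImplicit false

namespace Cfsg.Agent.H952.F4.Cases

open Cfsg Cfsg.Lie Module
open Cfsg.Agent.ChevalleyStructure Cfsg.Agent.ChevalleyStructure.Elts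
open Cfsg.Agent.ChevalleyStructure.E6Min.Tables Cfsg.Agent.ChevalleyStructure.E6Min.Basic
open MaxA

universe u

variable {F : Type u} [Field F] [Finite F] {H : Subgroup ↥(chevF4.group F)}

theorem spec (p : ℕ) [Fact p.Prime] [CharP F p] (hp2 : p ≠ 2) (hp5 : p ≠ 5)
    {ρ : ↥(chevF4.group F) →* GL I27 F} (hρ : IsJ ρ) {φ : ↥(alternatingGroup (Fin 5)) →* ↥(chevF4.group F)}
    (hM : MaxAlt H 5 φ) (h2 : ∀ g, orderOf g = 2 → ev (JK ρ (φ g)) 1 = 15)
    (h3 : p ≠ 3 → ∀ g, orderOf g = 3 → ev (JK ρ (φ g)) 1 = 9)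
    (h5 : ∀ g, orderOf g = 5 → ev (JK ρ (φ g)) 1 = 5) : False := by
  have two_ne : (2 : F) ≠ 0 := by
    intro h
    have h' : ((2 : ℕ) : F) = 0 := by exact_mod_cast h
    rw [CharP.cast_eq_zero_iff F p, Nat.prime_dvd_prime_iff_eq Fact.out Nat.prime_two] at h'
    exact hp2 h'
  have hs : IsSimpleGroup ↥(chevF4.group F) := (Cfsg.Agent.S1054.result chevF4 (by simp)).1
  have hcard : Nat.card ↥H ≤ 120 := by
    have h4 := hM.card
    rw [if_neg (by norm_num)] at h4
    exact h4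
  -- no fixed vectors on `V`
  have key : ∀ (V : Type u) [AddCommGroup V] [Module F V] [FiniteDimensional F V]
      (τ : Representation F ↥(chevF4.group F) V), τ.invariants = ⊥ → finrank F V ≤ 26 →
      ∀ v : V, (∀ g ∈ (φ.range : Set ↥(chevF4.group F)), τ g v = v) → v = 0 := by
    intro V _ _ _ τ hτ hV v hv
    have h4 := no_fixed τ hτ hM (by norm_num) (card_bound hcard two_ne hV)
    have h6 : v ∈ Representation.invariants (MonoidHom.comp τ φ) := mem_inv.2 fun a ha => hv a ha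
    rw [h4] at h6
    exact h6
  have hfix : ∀ x : I27 → F, tr1 x = 0 → (∀ g, JK ρ (φ g) x = x) → ∃ c : F, x = c • u0 F := by
    intro y hy hfy
    have hfy' : ∀ g ∈ (φ.range : Set ↥(chevF4.group F)), JK ρ g y = y := by
      rintro _ ⟨g, rfl⟩
      exact hfy g
    by_cases hp3 : p = 3
    · subst hp3
      obtain ⟨V, _, _, τ, hMod, hX⟩ := Fix.exists_V25 hρ
      have := hMod.fin
      exact hX _ (key V τ hMod.inv (by rw [hMod.dim]; norm_num)) y hy hfy'
    · obtain ⟨V, _, _, τ, hMod, hX⟩ := Fix.exists_V26 p hp2 hp3 hρ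
      have := hMod.fin
      exact hX _ (key V τ hMod.inv (by rw [hMod.dim])) y hfy'
  exact spec_of p hp2 hp5 hρ (Tor.tab_finite p hρ) (fun hz1 hz h5' μ hμ => Tor.axis_dim p hp2 hp5 hρ hz1 hz h5' μ hμ)
    (fun hz1 hz hs' h5' μ hμ x hx hsx w hw => Tor.axis p hp2 hp5 hρ hz1 hz hs' h5' μ hμ x hx hsx w hw) hfix
    (Fix.common_stab two_ne hρ) hM h2 h3 h5

end Cfsg.Agent.H952.F4.Cases
end

-- part: H952/F4/CasesFive
section
/-!
# S5926: the case `n = 5`
-/

set_option autoImplicit false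

namespace Cfsg.Agent.H952.F4.Cases

open Cfsg Cfsg.Lie Module
open Cfsg.Agent.ChevalleyStructure Cfsg.Agent.ChevalleyStructure.Elts
open Cfsg.Agent.ChevalleyStructure.E6Min.Tables Cfsg.Agent.ChevalleyStructure.E6Min.Basic

universe u

variable {F : Type u} [Field F] [Finite F] {H : Subgroup ↥(chevF4.group F)}
  {φ : ↥(alternatingGroup (Fin 5)) →* ↥(chevF4.group F)}

namespace Five

theorem card_G : Nat.card ↥(chevF4.group F) = NF (Nat.card F) := by
  have := Fintype.ofFinite F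
  rw [S1062.result (F := F) rfl, Nat.card_eq_fintype_card, NF]

theorem card_H (hM : MaxAlt H 5 φ) : Nat.card ↥H ≤ 120 := by
  have h := hM.card
  rw [if_neg (by norm_num)] at h
  exact h

theorem simpleG : IsSimpleGroup ↥(chevF4.group F) := (S1054.result chevF4 (by simp)).1

/-- the number condition of `no_fixed` -/
theorem num {q h d g : ℕ} (hq : 2 ≤ q) (hh : h ≤ 120) (hd : d ≤ 26) (hg : q ^ 52 ≤ 2 * g) :
    h * q ^ d < g * (q - 1) := by
  have h1 : q ^ d ≤ q ^ 26 := Nat.pow_le_pow_right (by omega) hd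
  have h2 : h * q ^ d ≤ 120 * q ^ 26 := Nat.mul_le_mul hh h1
  have h3 : 2 ^ 26 ≤ q ^ 26 := Nat.pow_le_pow_left hq 26
  have h4 : q ^ 52 = q ^ 26 * q ^ 26 := by rw [← pow_add]
  have h5 : 2 ^ 26 * q ^ 26 ≤ q ^ 26 * q ^ 26 := Nat.mul_le_mul_right _ h3
  have h6 : g * 1 ≤ g * (q - 1) := Nat.mul_le_mul_left _ (by omega)
  have h7 : 0 < q ^ 26 := by positivity
  rw [h4] at hg
  omega

theorem two_le : 2 ≤ Nat.card F := Finite.one_lt_card

/-- Scott's lemma for a module with form -/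
theorem scottF (hM : MaxAlt H 5 φ) {V : Type*} [AddCommGroup V] [Module F V] [FiniteDimensional F V]
    (σ : Representation F ↥(chevF4.group F) V) (hd : finrank F V ≤ 26) (hinv : σ.invariants = ⊥)
    (hform : ∃ B : V →ₗ[F] V →ₗ[F] F, (∀ v, (∀ w, B v w = 0) → v = 0) ∧ (∀ g v w, B (σ g v) (σ g w) = B v w))
    {x y : ↥(alternatingGroup (Fin 5))} (hgen : Subgroup.closure {x, y} = ⊤) :
    ev (σ (φ x)) 1 + ev (σ (φ y)) 1 + ev (σ (φ (x * y))) 1 ≤ finrank F V := by
  obtain ⟨B, hB1, hB2⟩ := hform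
  have := simpleG (F := F)
  have h1 : Representation.invariants (MonoidHom.comp σ φ) = ⊥ := by
    apply MaxA.no_fixed σ hinv hM le_rfl
    rw [card_G]
    exact num two_le (card_H hM) hd (NF_ge two_le)
  have h2 := Scott.scott_form (MonoidHom.comp σ φ) hgen B hB1 (fun g v w => hB2 (φ g) v w)
  rw [h1, finrank_bot] at h2
  exact h2

/-- Scott's lemma for the adjoint module: many invariants -/
theorem exists_inv (hM : MaxAlt H 5 φ) (h2 : (2 : F) ≠ 0) {x y : ↥(alternatingGroup (Fin 5))}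
    (hgen : Subgroup.closure {x, y} = ⊤) {m : ℕ}
    (h : 52 + 2 * m < ev (LK F (φ x)) 1 + ev (LK F (φ y)) 1 + ev (LK F (φ (x * y))) 1 + 2) :
    ∃ k l : ℕ, m ≤ k + l ∧ (H = φ.range → l = 0) ∧
      ((Nat.card F ^ k - 1) + (Nat.card F ^ l - 1)) * NF (Nat.card F) ≤
        Nat.card ↥H * (Nat.card F ^ 52 - 1) := by
  have := simpleG (F := F)
  have hd : finrank F (chevF4.Idx → F) = 52 := by
    rw [Module.finrank_fintype_fun_eq_card]
    decide
  have h3 := Scott.scott (MonoidHom.comp (LK F) φ) hgen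
  have h4 : (Representation.dual (MonoidHom.comp (LK F) φ) : Representation F _ _) =
      MonoidHom.comp (LK F).dual φ := by
    ext g f v
    simp only [Representation.dual_apply, MonoidHom.comp_apply, map_inv]
  rw [h4, hd] at h3
  have h3' : ev (LK F (φ x)) 1 + ev (LK F (φ y)) 1 + ev (LK F (φ (x * y))) 1 ≤
    52 + finrank F (Representation.invariants (MonoidHom.comp (LK F) φ)) +
      finrank F (Representation.invariants (MonoidHom.comp (LK F).dual φ)) := h3
  have key : m ≤ finrank F (Representation.invariants (MonoidHom.comp (LK F) φ)) ∨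
      m ≤ finrank F (Representation.invariants (MonoidHom.comp (LK F).dual φ)) := by (clear * - h h3'; omega)
  rcases key with hk | hk
  · obtain ⟨k, l, e1, e2, e3⟩ := MaxA.few_fixed (LK F) (Fix.L_invariants F) hM rfl h2
    rw [hd, card_G] at e3
    exact ⟨k, l, by omega, e2, e3⟩
  · obtain ⟨k, l, e1, e2, e3⟩ := MaxA.few_fixed (LK F).dual (Fix.L_dual_invariants F) hM rfl h2
    rw [Subspace.dual_finrank_eq, hd, card_G] at e3
    exact ⟨k, l, by omega, e2, e3⟩

end Five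

open Five

theorem five_two [CharP F 2] (hM : MaxAlt H 5 φ) : False := by
  have : Fact (Nat.Prime 2) := ⟨Nat.prime_two⟩
  obtain ⟨M, N, _, _, _, _, ρ, σ, hP⟩ := Two.exists_pkg F
  have := hP.m.fin
  have := hP.n.fin
  have hfm : ∃ B : M →ₗ[F] M →ₗ[F] F, (∀ v, (∀ w, B v w = 0) → v = 0) ∧
      (∀ g v w, B (ρ g v) (ρ g w) = B v w) := by
    obtain ⟨B, -, h1, h2⟩ := hP.m.form
    exact ⟨B, h1, h2⟩
  have hfn : ∃ B : N →ₗ[F] N →ₗ[F] F, (∀ v, (∀ w, B v w = 0) → v = 0) ∧
      (∀ g v w, B (σ g v) (σ g w) = B v w) := by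
    obtain ⟨B, -, h1, h2⟩ := hP.n.form
    exact ⟨B, h1, h2⟩
  have inv13 : ∀ {W : Type u} [AddCommGroup W] [Module F W] [FiniteDimensional F W]
      (τ : Representation F ↥(chevF4.group F) W) (_ : finrank F W = 26) (x : ↥(alternatingGroup (Fin 5)))
      (_ : orderOf x = 2), 13 ≤ ev (τ (φ x)) 1 := by
    intro W _ _ _ τ hd x hx
    have h := Eig.le_mul_ev 2 (T := τ (φ x)) (by
      rw [← map_pow, ← map_pow, ← hx, pow_orderOf_eq_one, map_one, map_one])
    omega
  have hne : ∀ {m : ℕ} {x : ↥(alternatingGroup (Fin 5))}, orderOf x = m → m ≠ 1 → φ x ≠ 1 := by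
    intro m x hx hm h
    rw [← orderOf_injective φ hM.inj, h, orderOf_one] at hx
    omega
  have hpw : ∀ {m : ℕ} {x : ↥(alternatingGroup (Fin 5))}, orderOf x = m → φ x ^ m = 1 := by
    intro m x hx
    rw [← map_pow, ← hx, pow_orderOf_eq_one, map_one]
  -- a pair of type (2,5,5)
  have c1 : ∀ {W : Type u} [AddCommGroup W] [Module F W] [FiniteDimensional F W]
      (τ : Representation F ↥(chevF4.group F) W) (_ : finrank F W = 26) (_ : τ.invariants = ⊥)
      (_ : ∃ B : W →ₗ[F] W →ₗ[F] F, (∀ v, (∀ w, B v w = 0) → v = 0) ∧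
        (∀ g v w, B (τ g v) (τ g w) = B v w)), ev (τ (φ z5)) 1 < 8 := by
    intro W _ _ _ τ hd hi hf
    by_contra hc
    obtain ⟨x, y, hgen, hx, hy, hxy⟩ := gen255 Gen.gen5
    have h1 := scottF hM τ hd.le hi hf hgen
    have h2 := inv13 τ hd x hx
    have h3 : ∀ {y : ↥(alternatingGroup (Fin 5))}, orderOf y = 5 → ev (τ (φ y)) 1 = ev (τ (φ z5)) 1 := by
      intro y hy
      exact ev_five (ρ := MonoidHom.comp τ φ) (g := y) (powo hy) (ne_one_of_order hy (by norm_num))
    rw [h3 hy, h3 hxy, hd] at h1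
    omega
  have hz := hP.five (φ z5) (fun h => z5_ne (hM.inj (h.trans (map_one φ).symm)))
    (by rw [← map_pow, z5_five, map_one])
  have d1 := c1 ρ hP.m.dim hP.m.inv hfm
  have d2 := c1 σ hP.n.dim hP.n.inv hfn
  have d3 : ev (ρ (φ z5)) 1 = 6 := by omega
  obtain ⟨x, y, hgen, hx, hy, hxy⟩ := gen235 Gen.gen5
  have h1 := scottF hM ρ hP.m.dim.le hP.m.inv hfm hgen
  have h2 := inv13 ρ hP.m.dim x hx
  have h3 := hP.three (φ y) (hne hy (by norm_num)) (hpw hy)
  have h4 : ev (ρ (φ (x * y))) 1 = ev (ρ (φ z5)) 1 :=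
    ev_five (ρ := MonoidHom.comp ρ φ) (g := x * y) (powo hxy) (ne_one_of_order hxy (by norm_num))
  rw [hP.m.dim] at h1
  omega

namespace Five

theorem card_ge (p : ℕ) [Fact p.Prime] [CharP F p] : p ≤ Nat.card F := by
  have := Fintype.ofFinite F
  obtain ⟨n, -, hn⟩ := FiniteField.card F p
  rw [Nat.card_eq_fintype_card, hn]
  exact Nat.le_self_pow n.ne_zero p

theorem cast_ne (p : ℕ) [hp : Fact p.Prime] [CharP F p] {m : ℕ} (hm : m.Prime) (h : p ≠ m) : (m : F) ≠ 0 := by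
  rw [Ne, CharP.cast_eq_zero_iff F p m]
  exact fun h1 => h ((Nat.prime_dvd_prime_iff_eq hp.out hm).1 h1)

variable {V : Type*} [AddCommGroup V] [Module F V] [FiniteDimensional F V]

theorem e2 (τ : Representation F ↥(chevF4.group F) V) {x : ↥(alternatingGroup (Fin 5))} (hx : orderOf x = 2) :
    ev (τ (φ x)) 1 = ev (τ (φ v0)) 1 :=
  ev_two (ρ := MonoidHom.comp τ φ) (g := x) (by rw [← pow_two]; exact powo hx) (ne_one_of_order hx (by norm_num))

theorem e3 (τ : Representation F ↥(chevF4.group F) V) {x : ↥(alternatingGroup (Fin 5))} (hx : orderOf x = 3) :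
    ev (τ (φ x)) 1 = ev (τ (φ c3)) 1 :=
  ev_three (ρ := MonoidHom.comp τ φ) (g := x) (powo hx) (ne_one_of_order hx (by norm_num))

theorem e5 (τ : Representation F ↥(chevF4.group F) V) {x : ↥(alternatingGroup (Fin 5))} (hx : orderOf x = 5) :
    ev (τ (φ x)) 1 = ev (τ (φ z5)) 1 :=
  ev_five (ρ := MonoidHom.comp τ φ) (g := x) (powo hx) (ne_one_of_order hx (by norm_num))

theorem cop (hi : Function.Injective φ) {p m : ℕ} {x : ↥(alternatingGroup (Fin 5))} (hx : orderOf x = m)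
    (hp : p.Prime) (hm : m.Prime) (h : p ≠ m) : (orderOf (φ x)).Coprime p := by
  rw [orderOf_injective φ hi, hx]
  exact (Nat.coprime_primes hm hp).2 (Ne.symm h)

theorem ov0 : orderOf v0 = 2 := by
  have : Fact (Nat.Prime 2) := ⟨Nat.prime_two⟩
  exact orderOf_eq_prime (by rw [pow_two]; exact v0_sq) v0_ne

theorem oc3 : orderOf c3 = 3 := by
  have : Fact (Nat.Prime 3) := ⟨Nat.prime_three⟩
  exact orderOf_eq_prime c3_cube c3_ne

theorem oz5 : orderOf z5 = 5 := by
  have : Fact (Nat.Prime 5) := ⟨Nat.prime_five⟩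
  exact orderOf_eq_prime z5_five z5_ne

end Five

theorem five_three [CharP F 3] (hM : MaxAlt H 5 φ) : False := by
  have : Fact (Nat.Prime 3) := ⟨Nat.prime_three⟩
  have n1 : φ v0 ≠ 1 := fun h => v0_ne (hM.inj (h.trans (map_one φ).symm))
  have n3 : φ z5 ≠ 1 := fun h => z5_ne (hM.inj (h.trans (map_one φ).symm))
  have s1 : φ v0 * φ v0 = 1 := by rw [← map_mul, v0_sq, map_one]
  have s2 : φ c3 ^ 3 = 1 := by rw [← map_pow, c3_cube, map_one]
  have s3 : φ z5 ^ 5 = 1 := by rw [← map_pow, z5_five, map_one]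
  obtain ⟨ρ, hρ⟩ := JMod.exists_isJ F
  have T := Tor.tab_finite 3 hρ
  obtain ⟨V, _, _, σ, hσ, -⟩ := Fix.exists_V25 hρ
  have := hσ.fin
  have h2F : (2 : F) ≠ 0 := by exact_mod_cast cast_ne (F := F) 3 Nat.prime_two (by norm_num)
  have h5F : ((5 : ℕ) : F) ≠ 0 := cast_ne (F := F) 3 Nat.prime_five (by norm_num)
  obtain ⟨x, y, hgen, hx, hy, hxy⟩ := gen235 Gen.gen5
  have a2 := hσ.ev_eq (φ v0) (cop hM.inj ov0 Nat.prime_three Nat.prime_two (by norm_num))
  have a5 := hσ.ev_eq (φ z5) (cop hM.inj oz5 Nat.prime_three Nat.prime_five (by norm_num))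
  have t5 := T.five (by norm_num) (φ z5) n3 s3
  rcases T.two (by norm_num) (φ v0) n1 s1 with ⟨b1, -⟩ | ⟨b1, b2, -⟩
  · have c1 := scottF hM σ (by rw [hσ.dim]; norm_num) hσ.inv hσ.form hgen
    rw [e2 σ hx, e3 σ hy, e5 σ hxy, hσ.dim] at c1
    have c2 := Eig.le_mul_ev 3 (T := σ (φ c3)) (by rw [← map_pow, s2, map_one])
    rw [hσ.dim] at c2
    have c3' : ev (JK ρ (φ z5)) 1 = 5 := by omega
    exact spec 3 (by norm_num) (by norm_num) hρ hM (fun g hg => by rw [e2 (JK ρ) hg, b1])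
      (fun h => absurd rfl h) (fun g hg => by rw [e5 (JK ρ) hg, c3'])
  · have c1 := Eig.dihedral h2F (MonoidHom.comp σ φ) (z := z5) (s := v0) (m := 5) (by decide) h5F z5_five v0_sq inv5
      (Or.inl rfl)
    rw [hσ.dim] at c1
    have c1' : 2 * finrank F ↥(es (σ (φ z5)) 1 ⊓ es (σ (φ v0)) 1) + 25 =
      2 * ev (σ (φ v0)) 1 + ev (σ (φ z5)) 1 := c1
    have hH : H = φ.range := by
      rcases hM.five rfl with h | h
      · exact h
      · obtain ⟨g, -, hg⟩ := h (φ z5) ⟨z5, rfl⟩ n3 s3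
        have := (T.five_rat (by norm_num) (φ z5) n3 s3 ⟨g, hg⟩).1
        omega
    obtain ⟨k, l, d1, d2, d3⟩ := exists_inv hM h2F hgen (m := 7) (by
      have c2 := Eig.le_mul_ev 3 (T := LK F (φ c3)) (by rw [← map_pow, s2, map_one])
      have hd : finrank F (chevF4.Idx → F) = 52 := by
        rw [Module.finrank_fintype_fun_eq_card]
        decide
      rw [hd] at c2
      rw [e2 (LK F) hx, e3 (LK F) hy, e5 (LK F) hxy]
      (clear * - t5 b2 c2; omega))
    have hl := d2 hH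
    have h3 : 3 ≤ Nat.card F := card_ge 3
    refine num_false (q := Nat.card F) (c := 7) two_le (Or.inl (by omega)) (card_H hM) ?_ d3
    calc 241 < 3 ^ 7 := by norm_num
      _ ≤ Nat.card F ^ 7 := Nat.pow_le_pow_left h3 7

theorem five_big (p : ℕ) [hp : Fact p.Prime] [CharP F p] (hp5 : 5 ≤ p) (hM : MaxAlt H 5 φ) : False := by
  have n1 : φ v0 ≠ 1 := fun h => v0_ne (hM.inj (h.trans (map_one φ).symm))
  have n2 : φ c3 ≠ 1 := fun h => c3_ne (hM.inj (h.trans (map_one φ).symm))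
  have n3 : φ z5 ≠ 1 := fun h => z5_ne (hM.inj (h.trans (map_one φ).symm))
  have s1 : φ v0 * φ v0 = 1 := by rw [← map_mul, v0_sq, map_one]
  have s2 : φ c3 ^ 3 = 1 := by rw [← map_pow, c3_cube, map_one]
  have s3 : φ z5 ^ 5 = 1 := by rw [← map_pow, z5_five, map_one]
  obtain ⟨ρ, hρ⟩ := JMod.exists_isJ F
  have T := Tor.tab_finite p hρ
  obtain ⟨V, _, _, σ, hσ, -⟩ := Fix.exists_V26 p (by omega) (by omega) hρ
  have := hσ.fin
  have h2F : (2 : F) ≠ 0 := by exact_mod_cast cast_ne (F := F) p Nat.prime_two (by omega)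
  have h3F : ((3 : ℕ) : F) ≠ 0 := cast_ne (F := F) p Nat.prime_three (by omega)
  obtain ⟨x, y, hgen, hx, hy, hxy⟩ := gen235 Gen.gen5
  have a2 := hσ.ev_eq (φ v0) (cop hM.inj ov0 hp.out Nat.prime_two (by omega))
  have a3 := hσ.ev_eq (φ c3) (cop hM.inj oc3 hp.out Nat.prime_three (by omega))
  have t3 := T.three (by omega) (φ c3) n2 s2
  rcases T.two (by omega) (φ v0) n1 s1 with ⟨b1, -⟩ | ⟨b1, b2, -⟩
  · have c1 := scottF hM σ (by rw [hσ.dim]) hσ.inv hσ.form hgen
    rw [e2 σ hx, e3 σ hy, e5 σ hxy, hσ.dim] at c1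
    by_cases h5 : p = 5
    · subst h5
      have c2 := Eig.le_mul_ev 5 (T := σ (φ z5)) (by rw [← map_pow, s3, map_one])
      rw [hσ.dim] at c2
      omega
    · have a5 := hσ.ev_eq (φ z5) (cop hM.inj oz5 hp.out Nat.prime_five h5)
      have t5 := T.five h5 (φ z5) n3 s3
      have c2 : ev (JK ρ (φ z5)) 1 = 5 := by omega
      have c3' : ev (JK ρ (φ c3)) 1 = 9 := by omega
      exact spec p (by omega) h5 hρ hM (fun g hg => by rw [e2 (JK ρ) hg, b1])
        (fun _ g hg => by rw [e3 (JK ρ) hg, c3']) (fun g hg => by rw [e5 (JK ρ) hg, c2])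
  · have hd : finrank F (chevF4.Idx → F) = 52 := by
      rw [Module.finrank_fintype_fun_eq_card]
      decide
    have c3' : ev (LK F (φ c3)) 1 = 22 := by
      obtain ⟨s, i1, i2, i3⟩ := inv3
      have c1 := Eig.dihedral h2F (MonoidHom.comp (LK F) φ) (z := c3) (s := s) (m := 3) (by decide) h3F c3_cube i1 i3
        (Or.inl rfl)
      rw [hd] at c1
      have c1' : 2 * finrank F ↥(es (LK F (φ c3)) 1 ⊓ es (LK F (φ s)) 1) + 52 =
        2 * ev (LK F (φ s)) 1 + ev (LK F (φ c3)) 1 := c1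
      have c2 : ev (LK F (φ s)) 1 = ev (LK F (φ v0)) 1 := ev_two (ρ := MonoidHom.comp (LK F) φ) (g := s) i1 i2
      have c4 : finrank F ↥(es (LK F (φ c3)) 1 ⊓ es (LK F (φ s)) 1) ≤ ev (LK F (φ c3)) 1 :=
        Submodule.finrank_mono inf_le_left
      omega
    have c5 : 11 ≤ ev (LK F (φ z5)) 1 := by
      by_cases h5 : p = 5
      · subst h5
        have c2 := Eig.le_mul_ev 5 (T := LK F (φ z5)) (by rw [← map_pow, s3, map_one])
        rw [hd] at c2
        omega
      · have t5 := T.five h5 (φ z5) n3 s3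
        omega
    obtain ⟨k, l, d1, d2, d3⟩ := exists_inv hM h2F hgen (m := 9) (by
      rw [e2 (LK F) hx, e3 (LK F) hy, e5 (LK F) hxy]
      omega)
    have h3 : 5 ≤ Nat.card F := hp5.trans (card_ge p)
    refine num_false (q := Nat.card F) (c := 5) two_le (by omega) (card_H hM) ?_ d3
    calc 241 < 5 ^ 5 := by norm_num
      _ ≤ Nat.card F ^ 5 := Nat.pow_le_pow_left h3 5

end Cfsg.Agent.H952.F4.Cases
end

-- part: H541/SixTwo/Perm
section
/-!
# Permutations of six letters (helper541)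

* `iota : A₅ →* A₆`, the stabilizer of the point 5; cycle types;
* transitivity;
* elements of order 5.
-/

set_option autoImplicit false

namespace Cfsg.Agent.H541.SixTwo

open Equiv Equiv.Perm

/-- `Fin 5` as the points of `Fin 6` different from 5 -/
def emb5 : Fin 5 ≃ {x : Fin 6 // x ≠ 5} := finSuccAboveEquiv (5 : Fin 6)

/-- the point stabilizer -/
noncomputable def iota : ↥(alternatingGroup (Fin 5)) →* ↥(alternatingGroup (Fin 6)) :=
  ((Equiv.Perm.extendDomainHom emb5).comp (alternatingGroup (Fin 5)).subtype).codRestrict (alternatingGroup (Fin 6))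
    (fun g => by
      rw [Equiv.Perm.mem_alternatingGroup]
      simp only [MonoidHom.coe_comp, Subgroup.coe_subtype, Function.comp_apply, Equiv.Perm.extendDomainHom_apply]
      rw [Equiv.Perm.sign_extendDomain]
      exact Equiv.Perm.mem_alternatingGroup.1 g.2)

theorem iota_coe (g : ↥(alternatingGroup (Fin 5))) :
    ((iota g : ↥(alternatingGroup (Fin 6))) : Perm (Fin 6)) = (g : Perm (Fin 5)).extendDomain emb5 := rfl

theorem iota_injective : Function.Injective iota := by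
  intro a b hab
  have h := congrArg (fun x : ↥(alternatingGroup (Fin 6)) => (x : Perm (Fin 6))) hab
  exact Subtype.ext (Equiv.Perm.extendDomainHom_injective emb5 h)

theorem iota_cycleType (g : ↥(alternatingGroup (Fin 5))) :
    ((iota g : ↥(alternatingGroup (Fin 6))) : Perm (Fin 6)).cycleType = (g : Perm (Fin 5)).cycleType := by
  rw [iota_coe, Equiv.Perm.cycleType_extendDomain]

theorem exists_iota {g : ↥(alternatingGroup (Fin 6))} (hg : (g : Perm (Fin 6)) 5 = 5) : ∃ g', iota g' = g := by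
  have h : ∀ x : Fin 6, (g : Perm (Fin 6)) x ≠ 5 ↔ x ≠ 5 := by
    intro x
    rw [not_iff_not]
    constructor
    · intro hx
      exact (g : Perm (Fin 6)).injective (hx.trans hg.symm)
    · rintro rfl
      exact hg
  have key : ((emb5.permCongr.symm ((g : Perm (Fin 6)).subtypePerm h) : Perm (Fin 5))).extendDomain emb5 =
      (g : Perm (Fin 6)) := by
    ext1 x
    by_cases hx : x ≠ 5
    · rw [Equiv.Perm.extendDomain_apply_subtype (p := fun y : Fin 6 => y ≠ 5) (b := x) _ _ hx]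
      simp [Equiv.permCongr_apply, Equiv.permCongr_symm]
    · rw [Equiv.Perm.extendDomain_apply_not_subtype (p := fun y : Fin 6 => y ≠ 5) (b := x) _ _ hx]
      rw [ne_eq, not_not] at hx
      rw [hx, hg]
  refine ⟨⟨emb5.permCongr.symm ((g : Perm (Fin 6)).subtypePerm h), ?_⟩, ?_⟩
  · rw [Equiv.Perm.mem_alternatingGroup, ← Equiv.Perm.sign_extendDomain _ emb5, key]
    exact Equiv.Perm.mem_alternatingGroup.1 g.2
  · apply Subtype.ext
    rw [iota_coe]
    exact key

theorem trans_two {i j k l : Fin 6} (hij : i ≠ j) (hkl : k ≠ l) :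
    ∃ g : ↥(alternatingGroup (Fin 6)), (g : Perm (Fin 6)) i = k ∧ (g : Perm (Fin 6)) j = l := by
  have h4 := alternatingGroup.isMultiplyPretransitive (Fin 6)
  have h2 : MulAction.IsMultiplyPretransitive ↥(alternatingGroup (Fin 6)) (Fin 6) 2 :=
    MulAction.isMultiplyPretransitive_of_le (n := Nat.card (Fin 6) - 2) (by simp) (by simp)
  rw [MulAction.is_two_pretransitive_iff] at h2
  obtain ⟨g, h⟩ := h2 hij hkl
  exact ⟨g, h⟩

theorem trans_one (i k : Fin 6) : ∃ g : ↥(alternatingGroup (Fin 6)), (g : Perm (Fin 6)) i = k := by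
  obtain ⟨j, hj⟩ := exists_ne i
  obtain ⟨l, hl⟩ := exists_ne k
  obtain ⟨g, hg, -⟩ := trans_two hj.symm hl.symm
  exact ⟨g, hg⟩

end Cfsg.Agent.H541.SixTwo
end

-- part: H541/SixTwo/Core
section
/-!
# Representations of `A₆` with a vector fixed by the point stabilizer (helper541)
-/

set_option autoImplicit false

namespace Cfsg.Agent.H541.SixTwo

open Equiv Equiv.Perm Module
open Cfsg.Agent.H952.F4 (ev es)

/-- the alternating group of degree 6 -/
abbrev A6 : Type := ↥(alternatingGroup (Fin 6))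
/-- the alternating group of degree 5 -/
abbrev A5 : Type := ↥(alternatingGroup (Fin 5))

/-! ### the form on fixed spaces -/
section Fix

variable {F M G : Type*} [Field F] [AddCommGroup M] [Module F M] [Group G]

theorem mem_es (T : M →ₗ[F] M) (v : M) : v ∈ es T 1 ↔ T v = v := by
  rw [es, Module.End.mem_eigenspace_iff, one_smul]

theorem finrank_fix_orth [FiniteDimensional F M] (ρ : Representation F G M) (B : LinearMap.BilinForm F M)
    (hB0 : ∀ v, B v v = 0) (hB : ∀ v, (∀ w, B v w = 0) → v = 0) (hinv : ∀ g v w, B (ρ g v) (ρ g w) = B v w)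
    {g : G} {m : ℕ} (hm : (m : F) ≠ 0) (hg : g ^ m = 1) (U : Submodule F M) (hU : ∀ v ∈ U, ρ g v ∈ U) :
    finrank F ↥(es (ρ g) 1 ⊓ B.orthogonal U) + finrank F ↥(es (ρ g) 1 ⊓ U) = ev (ρ g) 1 := by
  classical
  have halt : B.IsAlt := hB0
  have hrefl : B.IsRefl := halt.isRefl
  set E : Submodule F M := es (ρ g) 1 with hE
  -- the averaging map
  set P : M →ₗ[F] M := (m : F)⁻¹ • ∑ i ∈ Finset.range m, ρ (g ^ i) with hP
  have hPapp : ∀ v, P v = (m : F)⁻¹ • ∑ i ∈ Finset.range m, ρ (g ^ i) v := by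
    intro v
    rw [hP, LinearMap.smul_apply, LinearMap.sum_apply]
  have hPE : ∀ v, P v ∈ E := by
    intro v
    rw [hE, mem_es, hPapp, map_smul, map_sum]
    congr 1
    have h1 : ∀ i, ρ g (ρ (g ^ i) v) = ρ (g ^ (i + 1)) v := by
      intro i
      rw [pow_succ', map_mul, Module.End.mul_apply]
    simp_rw [h1]
    have h2 : ∑ i ∈ Finset.range m, ρ (g ^ (i + 1)) v + ρ (g ^ 0) v =
        ∑ i ∈ Finset.range m, ρ (g ^ i) v + ρ (g ^ m) v := by
      rw [← Finset.sum_range_succ' (fun i => ρ (g ^ i) v) m, Finset.sum_range_succ]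
    rw [hg, pow_zero] at h2
    exact add_right_cancel h2
  have hfix : ∀ v ∈ E, ∀ i : ℕ, ρ (g ^ i) v = v := by
    intro v hv i
    rw [hE, mem_es] at hv
    induction i with
    | zero => simp only [_root_.pow_zero, _root_.map_one, _root_.Module.End.one_apply]
    | succ i ih => rw [pow_succ, map_mul, Module.End.mul_apply, hv, ih]
  have hBP : ∀ v ∈ E, ∀ u, B v (P u) = B v u := by
    intro v hv u
    rw [hPapp, map_smul, map_sum]
    have h1 : ∀ i ∈ Finset.range m, B v (ρ (g ^ i) u) = B v u := by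
      intro i _
      conv_lhs => rw [← hfix v hv i]
      rw [hinv]
    rw [Finset.sum_congr rfl h1, Finset.sum_const, Finset.card_range, nsmul_eq_mul, smul_eq_mul, ← mul_assoc,
      inv_mul_cancel₀ hm, one_mul]
  have hPU : ∀ u ∈ U, P u ∈ U := by
    intro u hu
    rw [hPapp]
    refine U.smul_mem _ (U.sum_mem fun i _ => ?_)
    have : ∀ i : ℕ, ρ (g ^ i) u ∈ U := by
      intro i
      induction i with
      | zero => simpa only [_root_.pow_zero, _root_.map_one, _root_.Module.End.one_apply] using hu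
      | succ i ih => rw [pow_succ', map_mul, Module.End.mul_apply]; exact hU _ ih
    exact this i
  -- the restricted form
  set BE : LinearMap.BilinForm F ↥E := B.restrict E with hBE
  have hBEalt : BE.IsAlt := fun v => hB0 _
  have hBErefl : BE.IsRefl := hBEalt.isRefl
  have hleft : ∀ v : ↥E, (∀ w : ↥E, BE v w = 0) → v = 0 := by
    intro v h
    apply Subtype.ext
    apply hB
    intro w
    rw [← hBP v.1 v.2 w]
    exact h ⟨P w, hPE w⟩
  have hnd : BE.Nondegenerate := by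
    refine ⟨hleft, ?_⟩
    intro w h
    exact hleft w fun v => hBErefl _ _ (h v)
  have h1 := LinearMap.BilinForm.finrank_orthogonal hnd (U.comap E.subtype)
  have e1 : (U.comap E.subtype).map E.subtype = E ⊓ U := Submodule.map_comap_subtype _ _
  have e2 : (BE.orthogonal (U.comap E.subtype)).map E.subtype = E ⊓ B.orthogonal U := by
    ext v
    constructor
    · rintro ⟨v', hv', rfl⟩
      refine ⟨v'.2, ?_⟩
      intro u hu
      apply hrefl
      change B v'.1 u = 0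
      rw [← hBP v'.1 v'.2 u]
      apply hrefl
      exact hv' ⟨P u, hPE u⟩ (hPU u hu)
    · rintro ⟨hv, hv'⟩
      refine ⟨⟨v, hv⟩, ?_, rfl⟩
      intro u hu
      exact hv' u.1 hu
  have f1 : finrank F ↥(E ⊓ U) = finrank F ↥(U.comap E.subtype) := by
    rw [← e1]
    exact Submodule.finrank_map_subtype_eq _ _
  have f2 : finrank F ↥(E ⊓ B.orthogonal U) = finrank F ↥(BE.orthogonal (U.comap E.subtype)) := by
    rw [← e2]
    exact Submodule.finrank_map_subtype_eq _ _
  have h3 : finrank F ↥(U.comap E.subtype) ≤ finrank F ↥E := Submodule.finrank_le _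
  rw [f1, f2]
  unfold ev
  change _ = finrank F ↥E
  omega

end Fix

/-! ### the six vectors -/
section Orbit

variable {F M : Type*} [Field F] [AddCommGroup M] [Module F M] (τ : Representation F A6 M)

/-- the six vectors -/
noncomputable def W (w : M) (i : Fin 6) : M := τ (Classical.choose (trans_one 5 i)) w

variable {τ} {w : M} (hfix : ∀ g : A6, (g : Perm (Fin 6)) 5 = 5 → τ g w = w)

include hfix in
theorem tau_W (g : A6) (i : Fin 6) : τ g (W τ w i) = W τ w ((g : Perm (Fin 6)) i) := by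
  have h1 := Classical.choose_spec (trans_one 5 i)
  have h2 := Classical.choose_spec (trans_one 5 ((g : Perm (Fin 6)) i))
  unfold W
  set a := Classical.choose (trans_one 5 i)
  set b := Classical.choose (trans_one 5 ((g : Perm (Fin 6)) i))
  have h3 : τ (b⁻¹ * (g * a)) w = w := hfix _ (by
    simp only [Subgroup.coe_mul, InvMemClass.coe_inv, Perm.coe_mul, Function.comp_apply, h1]
    rw [← h2]
    simp)
  calc τ g (τ a w) = τ (b * (b⁻¹ * (g * a))) w := by
        rw [mul_inv_cancel_left, map_mul, Module.End.mul_apply]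
    _ = τ b w := by rw [map_mul, Module.End.mul_apply, h3]

include hfix in
theorem W_five : W τ w 5 = w := by
  have h1 := Classical.choose_spec (trans_one 5 5)
  exact hfix _ h1

variable (hτ : τ.invariants = ⊥) (hw : w ≠ 0)

include hfix hτ in
theorem sum_W : ∑ i, W τ w i = 0 := by
  have h : ∑ i, W τ w i ∈ τ.invariants := by
    intro g
    rw [map_sum]
    simp_rw [tau_W hfix]
    exact Equiv.sum_comp (g : Perm (Fin 6)) (W τ w)
  rw [hτ] at h
  exact h

include hfix hτ hw in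
theorem W_ne {i j : Fin 6} (hij : i ≠ j) : W τ w i ≠ W τ w j := by
  intro h
  have h2 : ∀ k l, W τ w k = W τ w l := by
    intro k l
    by_cases hkl : k = l
    · rw [hkl]
    · obtain ⟨g, hg1, hg2⟩ := trans_two hij hkl
      rw [← hg1, ← hg2, ← tau_W hfix, ← tau_W hfix, h]
  have h3 : w ∈ τ.invariants := by
    intro g
    conv_lhs => rw [← W_five hfix]
    rw [tau_W hfix, h2 _ 5, W_five hfix]
  rw [hτ] at h3
  exact hw h3

/-- 0 → 2 → 1 → 0 -/
def gA : A6 := ⟨swap (0 : Fin 6) 2 * swap (2 : Fin 6) 1, by rw [Equiv.Perm.mem_alternatingGroup]; decide⟩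

/-- 0 → 3 → 4 → 0 -/
def gB : A6 := ⟨swap (0 : Fin 6) 3 * swap (3 : Fin 6) 4, by rw [Equiv.Perm.mem_alternatingGroup]; decide⟩

include hfix hτ hw in
theorem rel_zero_one {a : Fin 6 → F} (ha : ∑ i, a i • W τ w i = 0) : a 0 = a 1 := by
  have e0 : (gA : Perm (Fin 6)) 0 = 2 := by decide
  have e1 : (gA : Perm (Fin 6)) 1 = 0 := by decide
  have e2 : (gA : Perm (Fin 6)) 2 = 1 := by decide
  have e3 : (gA : Perm (Fin 6)) 3 = 3 := by decide
  have e4 : (gA : Perm (Fin 6)) 4 = 4 := by decide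
  have e5 : (gA : Perm (Fin 6)) 5 = 5 := by decide
  have d0 : (gB : Perm (Fin 6)) 0 = 3 := by decide
  have d1 : (gB : Perm (Fin 6)) 1 = 1 := by decide
  have d2 : (gB : Perm (Fin 6)) 2 = 2 := by decide
  have h1 := congrArg (τ gA) ha
  rw [map_sum, map_zero] at h1
  simp only [map_smul, tau_W hfix] at h1
  rw [Fin.sum_univ_six] at ha h1
  rw [e0, e1, e2, e3, e4, e5] at h1
  have h2 : (a 0 - a 1) • W τ w 0 + (a 1 - a 2) • W τ w 1 + (a 2 - a 0) • W τ w 2 = 0 := by
    rw [← sub_self (0 : M)]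
    nth_rewrite 1 [← ha]
    rw [← h1]
    module
  have h3 := congrArg (τ gB) h2
  rw [map_zero] at h3
  simp only [map_add, map_smul, tau_W hfix] at h3
  rw [d0, d1, d2] at h3
  have h4 : (a 0 - a 1) • (W τ w 0 - W τ w 3) = 0 := by
    rw [← sub_self (0 : M)]
    nth_rewrite 1 [← h2]
    rw [← h3]
    module
  rcases smul_eq_zero.1 h4 with h5 | h5
  · exact sub_eq_zero.1 h5
  · exact absurd (sub_eq_zero.1 h5) (W_ne hfix hτ hw (by decide))

include hfix hτ hw in
theorem rel_const {a : Fin 6 → F} (ha : ∑ i, a i • W τ w i = 0) (i j : Fin 6) : a i = a j := by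
  by_cases hij : i = j
  · rw [hij]
  obtain ⟨g, hg0, hg1⟩ := trans_two (show (0 : Fin 6) ≠ 1 by decide) hij
  have h : ∑ k, a ((g : Perm (Fin 6)) k) • W τ w k = 0 := by
    have h1 := congrArg (τ g⁻¹) ha
    rw [map_sum, map_zero] at h1
    simp only [map_smul, tau_W hfix] at h1
    rw [← Equiv.sum_comp (g : Perm (Fin 6))] at h1
    simpa only [_root_.InvMemClass.coe_inv, _root_.Equiv.Perm.coe_inv, _root_.Equiv.symm_apply_apply] using h1
  have := rel_zero_one hfix hτ hw h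
  rwa [hg0, hg1] at this

/-! ### the element of order 5 -/

/-- 0 → 1 → 2 → 3 → 4 → 0 -/
def zA : A5 := ⟨swap (0 : Fin 5) 1 * swap (1 : Fin 5) 2 * swap (2 : Fin 5) 3 * swap (3 : Fin 5) 4, by rw [Equiv.Perm.mem_alternatingGroup]; decide⟩

/-- 0 → 2 → 1 → 0 -/
def tA : A5 := ⟨swap (0 : Fin 5) 1 * swap (0 : Fin 5) 2, by rw [Equiv.Perm.mem_alternatingGroup]; decide⟩

theorem orderOf_zA : orderOf zA = 5 :=
  haveI : Fact (Nat.Prime 5) := ⟨by norm_num⟩
  orderOf_eq_prime (by decide) (by decide)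

theorem orderOf_tA : orderOf tA = 3 :=
  haveI : Fact (Nat.Prime 3) := ⟨by norm_num⟩
  orderOf_eq_prime (by decide) (by decide)

theorem iota_zA : ((iota zA : A6) : Perm (Fin 6)) 0 = 1 ∧ ((iota zA : A6) : Perm (Fin 6)) 1 = 2 ∧
    ((iota zA : A6) : Perm (Fin 6)) 2 = 3 ∧ ((iota zA : A6) : Perm (Fin 6)) 3 = 4 ∧
    ((iota zA : A6) : Perm (Fin 6)) 4 = 0 ∧ ((iota zA : A6) : Perm (Fin 6)) 5 = 5 := by
  rw [iota_coe]
  decide

theorem iota_tA : ((iota tA : A6) : Perm (Fin 6)) 3 = 3 ∧ ((iota tA : A6) : Perm (Fin 6)) 4 = 4 ∧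
    ((iota tA : A6) : Perm (Fin 6)) 5 = 5 := by
  rw [iota_coe]
  decide

/-- the span of the six vectors -/
noncomputable def NN (τ : Representation F A6 M) (w : M) : Submodule F M := Submodule.span F (Set.range (W τ w))

include hfix in
theorem NN_inv (g : A6) {v : M} (hv : v ∈ NN τ w) : τ g v ∈ NN τ w := by
  rw [NN, Submodule.mem_span_range_iff_exists_fun] at hv
  obtain ⟨a, rfl⟩ := hv
  rw [map_sum]
  refine Submodule.sum_mem _ fun i _ => ?_
  rw [map_smul, tau_W hfix]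
  exact Submodule.smul_mem _ _ (Submodule.subset_span ⟨_, rfl⟩)

include hfix hτ hw in
theorem z_le [FiniteDimensional F M] : finrank F ↥(es (τ (iota zA)) 1 ⊓ NN τ w) ≤ 1 := by
  have h : es (τ (iota zA)) 1 ⊓ NN τ w ≤ Submodule.span F {W τ w 5} := by
    rintro v ⟨hv1, hv2⟩
    have hv1 := (mem_es _ _).1 hv1
    have hv2 : v ∈ Submodule.span F (Set.range (W τ w)) := hv2
    rw [Submodule.mem_span_range_iff_exists_fun] at hv2
    obtain ⟨a, rfl⟩ := hv2
    obtain ⟨e0, e1, e2, e3, e4, e5⟩ := iota_zA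
    rw [map_sum] at hv1
    simp only [map_smul, tau_W hfix] at hv1
    rw [Fin.sum_univ_six, Fin.sum_univ_six, e0, e1, e2, e3, e4, e5] at hv1
    have h2 : ∑ i, (![a 4 - a 0, a 0 - a 1, a 1 - a 2, a 2 - a 3, a 3 - a 4, 0] : Fin 6 → F) i • W τ w i = 0 := by
      rw [Fin.sum_univ_six]
      rw [← sub_eq_zero] at hv1
      simp only [Matrix.cons_val]
      rw [← hv1]
      module
    have h3 := rel_const hfix hτ hw h2
    have h30 := h3 0 5
    have h31 := h3 1 5
    have h32 := h3 2 5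
    have h33 := h3 3 5
    simp only [Matrix.cons_val] at h30 h31 h32 h33
    have i0 : a 4 = a 0 := sub_eq_zero.1 h30
    have i1 : a 1 = a 0 := (sub_eq_zero.1 h31).symm
    have i2 : a 2 = a 0 := (sub_eq_zero.1 h32).symm.trans i1
    have i3 : a 3 = a 0 := (sub_eq_zero.1 h33).symm.trans i2
    rw [Submodule.mem_span_singleton]
    refine ⟨a 5 - a 0, ?_⟩
    have hs := sum_W hfix hτ
    rw [Fin.sum_univ_six] at hs ⊢
    rw [i0, i1, i2, i3]
    have : (a 5 - a 0) • W τ w 5 + a 0 • (W τ w 0 + W τ w 1 + W τ w 2 + W τ w 3 + W τ w 4 + W τ w 5) =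
        a 0 • W τ w 0 + a 0 • W τ w 1 + a 0 • W τ w 2 + a 0 • W τ w 3 + a 0 • W τ w 4 + a 5 • W τ w 5 := by module
    rw [hs, smul_zero, add_zero] at this
    exact this
  exact (Submodule.finrank_mono h).trans ((finrank_span_le_card _).trans (by simp))

include hfix hτ hw in
theorem t_ge [FiniteDimensional F M] : 3 ≤ finrank F ↥(es (τ (iota tA)) 1 ⊓ NN τ w) := by
  obtain ⟨e3, e4, e5⟩ := iota_tA
  have hli : LinearIndependent F ![W τ w 3, W τ w 4, W τ w 5] := by
    rw [Fintype.linearIndependent_iff]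
    intro g hg
    rw [Fin.sum_univ_three] at hg
    simp only [Matrix.cons_val] at hg
    have h2 : ∑ i, (![0, 0, 0, g 0, g 1, g 2] : Fin 6 → F) i • W τ w i = 0 := by
      rw [Fin.sum_univ_six]
      simp only [Matrix.cons_val]
      rw [← hg]
      module
    have h3 := rel_const hfix hτ hw h2
    have h30 := h3 3 0
    have h31 := h3 4 0
    have h32 := h3 5 0
    simp only [Matrix.cons_val] at h30 h31 h32
    intro i
    fin_cases i
    · exact h30
    · exact h31
    · exact h32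
  have h1 := finrank_span_eq_card hli
  rw [Fintype.card_fin] at h1
  refine (show 3 = _ from h1.symm).le.trans ?_
  apply Submodule.finrank_mono
  rw [Submodule.span_le]
  rintro _ ⟨i, rfl⟩
  fin_cases i
  · exact ⟨(mem_es _ _).2 (by change τ (iota tA) (W τ w 3) = W τ w 3; rw [tau_W hfix, e3]),
      Submodule.subset_span ⟨3, rfl⟩⟩
  · exact ⟨(mem_es _ _).2 (by change τ (iota tA) (W τ w 4) = W τ w 4; rw [tau_W hfix, e4]),
      Submodule.subset_span ⟨4, rfl⟩⟩
  · exact ⟨(mem_es _ _).2 (by change τ (iota tA) (W τ w 5) = W τ w 5; rw [tau_W hfix, e5]),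
      Submodule.subset_span ⟨5, rfl⟩⟩

include hfix hτ in
theorem isotropic [CharP F 2] (B : LinearMap.BilinForm F M) (hB0 : ∀ v, B v v = 0)
    (hinv : ∀ g v w, B (τ g v) (τ g w) = B v w) (i j : Fin 6) : B (W τ w i) (W τ w j) = 0 := by
  by_cases hij : i = j
  · rw [hij, hB0]
  have hk : ∀ k l : Fin 6, k ≠ l → B (W τ w k) (W τ w l) = B (W τ w i) (W τ w j) := by
    intro k l hkl
    obtain ⟨g, hg1, hg2⟩ := trans_two hij hkl
    rw [← hg1, ← hg2, ← tau_W hfix, ← tau_W hfix, hinv]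
  have hs := congrArg (B (W τ w 5)) (sum_W hfix hτ)
  rw [Fin.sum_univ_six, map_zero] at hs
  simp only [map_add] at hs
  rw [hk 5 0 (by decide), hk 5 1 (by decide), hk 5 2 (by decide), hk 5 3 (by decide), hk 5 4 (by decide), hB0] at hs
  have h2 : (2 : F) = 0 := CharTwo.two_eq_zero
  linear_combination hs - 2 * B (W τ w i) (W τ w j) * h2

end Orbit

end Cfsg.Agent.H541.SixTwo
end

-- part: H541/SixTwo/Main
section
/-!
# S5926, characteristic 2, degree 6: the proof from the results on which it rests (helper541)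

`Deps` lists the results used (Scott's lemma, unipotent elements, the group algebra of `A₅`, generating pairs, the two
modules, no fixed vectors); `six_two_of` is the theorem.
-/

set_option autoImplicit false

namespace Cfsg.Agent.H541.SixTwo

open Equiv Equiv.Perm Module
open Cfsg.Lie Cfsg.Agent.H952.F4

universe u

/-- the results used -/
structure Deps : Prop where
  scott_form : ∀ {K V : Type u} {G : Type} [Field K] [AddCommGroup V] [Module K V] [FiniteDimensional K V] [Group G]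
    (ρ : Representation K G V) {x y : G} (_ : Subgroup.closure {x, y} = ⊤)
    (B : V →ₗ[K] V →ₗ[K] K) (_ : ∀ v, (∀ w, B v w = 0) → v = 0) (_ : ∀ g v w, B (ρ g v) (ρ g w) = B v w),
    ev (ρ x) 1 + ev (ρ y) 1 + ev (ρ (x * y)) 1 ≤ finrank K V + 2 * finrank K ρ.invariants
  le_mul_ev : ∀ {K V : Type u} [Field K] [AddCommGroup V] [Module K V] [FiniteDimensional K V] (p : ℕ)
    [Fact p.Prime] [CharP K p] {T : Module.End K V} (_ : T ^ p = 1), finrank K V ≤ p * ev T 1
  five_le_three : ∀ {K V : Type u} [Field K] [CharP K 2] [AddCommGroup V] [Module K V] [FiniteDimensional K V]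
    (ρ : Representation K ↥(alternatingGroup (Fin 5)) V) {z t : ↥(alternatingGroup (Fin 5))}
    (_ : orderOf z = 5) (_ : orderOf t = 3) (U W : Submodule K V) (_ : U ≤ W)
    (_ : ∀ g, ∀ v ∈ U, ρ g v ∈ U) (_ : ∀ g, ∀ v ∈ W, ρ g v ∈ W),
    finrank K ↥(es (ρ z) 1 ⊓ W) + finrank K ↥(es (ρ t) 1 ⊓ U) ≤
      finrank K ↥(es (ρ z) 1 ⊓ U) + finrank K ↥(es (ρ t) 1 ⊓ W)
  gen5 : GenT 5 {2, 2} {3} {5}
  gen6a : GenT 6 {2, 2} {5} {5}
  gen6b : GenT 6 {3} {3, 3} {5}
  exists_pkg : ∀ (F : Type u) [Field F] [Finite F] [CharP F 2],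
    ∃ (M N : Type u) (_ : AddCommGroup M) (_ : Module F M) (_ : AddCommGroup N) (_ : Module F N)
      (ρ : Representation F ↥(chevF4.group F) M) (σ : Representation F ↥(chevF4.group F) N), Pkg ρ σ
  no_fixed : ∀ {G : Type u} [Group G] [Finite G] [IsSimpleGroup G] {F V : Type u} [Field F] [Finite F]
    [AddCommGroup V] [Module F V] [FiniteDimensional F V] {H : Subgroup G} {n : ℕ}
    {φ : ↥(alternatingGroup (Fin n)) →* G} (ρ : Representation F G V) (_ : ρ.invariants = ⊥) (_ : MaxAlt H n φ)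
    (_ : 5 ≤ n) (_ : Nat.card ↥H * Nat.card F ^ finrank F V < Nat.card G * (Nat.card F - 1)),
    Representation.invariants (MonoidHom.comp ρ φ) = ⊥

/-! ### eigenspaces in characteristic 2 -/
section Ev

variable {F M G : Type*} [Field F] [AddCommGroup M] [Module F M] [Group G]

theorem ev_le_of_conj [FiniteDimensional F M] (ρ : Representation F G M) {x y g : G} {k : ℕ}
    (h : g * x * g⁻¹ = y ^ k) : ev (ρ y) 1 ≤ ev (ρ x) 1 := by
  have hx : x = g⁻¹ * y ^ k * g := by rw [← h]; group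
  have h1 : (es (ρ y) 1).map (ρ g⁻¹) ≤ es (ρ x) 1 := by
    rintro _ ⟨v, hv, rfl⟩
    have hv' : ρ y v = v := (mem_es _ _).1 hv
    rw [mem_es]
    have hk : ∀ n : ℕ, ρ (y ^ n) v = v := by
      intro n
      induction n with
      | zero => simp only [_root_.pow_zero, _root_.map_one, _root_.Module.End.one_apply]
      | succ n ih => rw [pow_succ, map_mul, Module.End.mul_apply, hv', ih]
    have : ρ x (ρ g⁻¹ v) = ρ (x * g⁻¹) v := by rw [map_mul, Module.End.mul_apply]
    rw [this, hx, mul_assoc, mul_inv_cancel, mul_one, map_mul, Module.End.mul_apply, hk]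
  have h2 : finrank F ↥((es (ρ y) 1).map (ρ g⁻¹)) = finrank F ↥(es (ρ y) 1) := by
    apply LinearEquiv.finrank_eq
    refine (Submodule.equivMapOfInjective _ ?_ _).symm
    intro a b hab
    have := congrArg (ρ g) hab
    rwa [← Module.End.mul_apply, ← Module.End.mul_apply, ← map_mul, mul_inv_cancel, map_one, Module.End.one_apply,
      Module.End.one_apply] at this
  calc ev (ρ y) 1 = finrank F ↥(es (ρ y) 1) := rfl
    _ = _ := h2.symm
    _ ≤ finrank F ↥(es (ρ x) 1) := Submodule.finrank_mono h1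
    _ = ev (ρ x) 1 := rfl

theorem ev_eq_of_five [FiniteDimensional F M] (τ : Representation F A6 M) {x y : A6} (hx : orderOf x = 5)
    (hy : orderOf y = 5) : ev (τ y) 1 = ev (τ x) 1 := by
  haveI : Fact (Nat.Prime 5) := ⟨by norm_num⟩
  have hcard : Nat.card A6 = 360 := by
    rw [nat_card_alternatingGroup]
    simp [Nat.factorial]
  have key : ∀ x y : A6, orderOf x = 5 → orderOf y = 5 → ev (τ y) 1 ≤ ev (τ x) 1 := by
    intro x y hx hy
    have hf : (Nat.card A6).factorization 5 = 1 := by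
      rw [hcard]
      rw [show (360 : ℕ) = 5 ^ 1 * 72 by norm_num, Nat.factorization_mul (by norm_num) (by norm_num)]
      rw [Nat.Prime.factorization_pow (by norm_num)]
      simp [Nat.factorization_eq_zero_of_not_dvd (show ¬ 5 ∣ 72 by norm_num)]
    let P : Sylow 5 A6 := Sylow.ofCard (Subgroup.zpowers x) (by rw [Nat.card_zpowers, hx, hf, pow_one])
    let Q : Sylow 5 A6 := Sylow.ofCard (Subgroup.zpowers y) (by rw [Nat.card_zpowers, hy, hf, pow_one])
    obtain ⟨g, hg⟩ := MulAction.exists_smul_eq A6 P Q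
    have h1 : g * x * g⁻¹ ∈ (Q : Subgroup A6) := by
      rw [← hg]
      refine ⟨x, Subgroup.mem_zpowers x, ?_⟩
      rfl
    have h2 : g * x * g⁻¹ ∈ Subgroup.zpowers y := h1
    rw [mem_zpowers_iff_mem_range_orderOf] at h2
    rw [Finset.mem_image] at h2
    obtain ⟨k, -, hk⟩ := h2
    exact ev_le_of_conj τ hk.symm
  exact le_antisymm (key _ _ hx hy) (key _ _ hy hx)

theorem ev_eq_of_three [FiniteDimensional F M] (τ : Representation F A6 M) {x y : A6}
    (hx : (x : Perm (Fin 6)).cycleType = {3}) (hy : (y : Perm (Fin 6)).cycleType = {3}) :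
    ev (τ y) 1 = ev (τ x) 1 := by
  have key : ∀ x y : A6, (x : Perm (Fin 6)).cycleType = {3} → (y : Perm (Fin 6)).cycleType = {3} →
      ev (τ y) 1 ≤ ev (τ x) 1 := by
    intro x y hx hy
    have h := alternatingGroup.isThreeCycle_isConj (α := Fin 6) (by simp) hx hy
    rw [isConj_iff] at h
    obtain ⟨g, hg⟩ := h
    exact ev_le_of_conj τ (g := g) (k := 1) (by rw [hg, pow_one])
  exact le_antisymm (key _ _ hx hy) (key _ _ hy hx)

end Ev

/-! ### orders of elements -/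
section Ord

theorem orderOf_of_cycleType {n : ℕ} {g : ↥(alternatingGroup (Fin n))} {s : Multiset ℕ}
    (h : (g : Perm (Fin n)).cycleType = s) : orderOf g = s.lcm := by
  rw [← h, Equiv.Perm.lcm_cycleType, Subgroup.orderOf_coe]

end Ord

/-! ### the contradiction -/

theorem core (D : Deps.{u}) {F M : Type u} [Field F] [CharP F 2] [AddCommGroup M] [Module F M] [FiniteDimensional F M]
    (τ : Representation F A6 M) (hτ : τ.invariants = ⊥) (B : M →ₗ[F] M →ₗ[F] F) (hB0 : ∀ v, B v v = 0)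
    (hB : ∀ v, (∀ w, B v w = 0) → v = 0) (hinv : ∀ g v w, B (τ g v) (τ g w) = B v w)
    (hdim : finrank F M = 26)
    (h2 : ∀ g : A6, orderOf g = 2 → 13 ≤ ev (τ g) 1)
    (h5 : ∀ g : A6, orderOf g = 5 → ev (τ g) 1 = 6)
    (h3 : ∀ g : A6, (g : Perm (Fin 6)).cycleType = {3} → ev (τ g) 1 = 8) : False := by
  obtain ⟨x, y, hxy, hx, hy, hz⟩ := D.gen5
  have hs := D.scott_form (τ.comp iota) hxy B hB (fun g v w => hinv _ _ _)
  have e1 : ev ((τ.comp iota) x) 1 = ev (τ (iota x)) 1 := rfl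
  have e2 : ev ((τ.comp iota) y) 1 = 8 := h3 (iota y) (by rw [iota_cycleType, hy])
  have e3 : ev ((τ.comp iota) (x * y)) 1 = 6 := h5 (iota (x * y)) (by
    rw [orderOf_of_cycleType (iota_cycleType (x * y)), hz]; rfl)
  have h13 := h2 (iota x) (by rw [orderOf_of_cycleType (iota_cycleType x), hx]; rfl)
  rw [e1, e2, e3, hdim] at hs
  have hpos : 0 < finrank F ↥(Representation.invariants (MonoidHom.comp τ iota)) := by omega
  haveI := Module.finrank_pos_iff.1 hpos
  obtain ⟨⟨w, hwi⟩, hw0⟩ := exists_ne (0 : ↥(Representation.invariants (MonoidHom.comp τ iota)))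
  have hw : w ≠ 0 := fun h => hw0 (Subtype.ext h)
  have hfix : ∀ g : A6, (g : Perm (Fin 6)) 5 = 5 → τ g w = w := by
    intro g hg
    obtain ⟨g', rfl⟩ := exists_iota hg
    exact hwi g'
  have h2F : (2 : F) = 0 := CharTwo.two_eq_zero
  have hz := finrank_fix_orth τ B hB0 hB hinv (g := iota zA) (m := 5)
    (by
      intro h
      push_cast at h
      have : (1 : F) = 0 := by linear_combination h - 2 * h2F
      exact one_ne_zero this)
    (by rw [← map_pow, show zA ^ 5 = 1 by decide, map_one]) (NN τ w) (fun v hv => NN_inv hfix _ hv)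
  have ht := finrank_fix_orth τ B hB0 hB hinv (g := iota tA) (m := 3)
    (by
      intro h
      push_cast at h
      have : (1 : F) = 0 := by linear_combination h - h2F
      exact one_ne_zero this)
    (by rw [← map_pow, show tA ^ 3 = 1 by decide, map_one]) (NN τ w) (fun v hv => NN_inv hfix _ hv)
  rw [h5 (iota zA) (by
    rw [orderOf_injective iota iota_injective, orderOf_zA])] at hz
  rw [h3 (iota tA) (by
    rw [iota_cycleType]
    exact isThreeCycle_swap_mul_swap_same (by decide) (by decide) (by decide))] at ht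
  have hiso : NN τ w ≤ LinearMap.BilinForm.orthogonal B (NN τ w) := by
    rw [NN, Submodule.span_le]
    rintro _ ⟨j, rfl⟩
    intro n hn
    change B n (W τ w j) = 0
    rw [Submodule.mem_span_range_iff_exists_fun] at hn
    obtain ⟨a, rfl⟩ := hn
    rw [map_sum, LinearMap.sum_apply]
    refine Finset.sum_eq_zero fun i _ => ?_
    rw [map_smul, LinearMap.smul_apply, isotropic hfix hτ B hB0 hinv, smul_zero]
  have hA := D.five_le_three (τ.comp iota) orderOf_zA orderOf_tA (NN τ w)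
    (LinearMap.BilinForm.orthogonal B (NN τ w)) hiso (fun g v hv => NN_inv hfix _ hv)
    (fun g v hv n hn => by
      change B n (τ (iota g) v) = 0
      have h1 : τ (iota g)⁻¹ n ∈ NN τ w := NN_inv hfix _ hn
      have h2 : B (τ (iota g)⁻¹ n) v = 0 := hv _ h1
      rw [← hinv (iota g), ← Module.End.mul_apply, ← map_mul, mul_inv_cancel, map_one, Module.End.one_apply] at h2
      exact h2)
  have q1 := z_le hfix hτ hw
  have q2 := t_ge hfix hτ hw
  have r1 : es ((τ.comp iota) zA) 1 = es (τ (iota zA)) 1 := rfl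
  have r2 : es ((τ.comp iota) tA) 1 = es (τ (iota tA)) 1 := rfl
  rw [r1, r2] at hA
  omega

/-! ### the theorem -/

variable {F : Type u} [Field F] [Finite F] {H : Subgroup ↥(chevF4.group F)}

theorem card_bound [CharP F 2] {φ : ↥(alternatingGroup (Fin 6)) →* ↥(chevF4.group F)} (hM : MaxAlt H 6 φ) :
    Nat.card ↥H * Nat.card F ^ 26 < Nat.card ↥(chevF4.group F) * (Nat.card F - 1) := by
  haveI := Fintype.ofFinite F
  have hc := Cfsg.Agent.S1062.result (F := F) rfl
  have hH : Nat.card ↥H ≤ 1440 := by simpa only [↓ _root_.reduceIte] using hM.card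
  have hq2 : 2 ≤ Nat.card F := Finite.one_lt_card
  rw [hc, ← Nat.card_eq_fintype_card]
  generalize Nat.card F = q at *
  have key : ∀ k : ℕ, q ^ k ≤ q ^ (k + 1) - 1 := by
    intro k
    have h1 : 1 ≤ q ^ k := Nat.one_le_pow _ _ (by omega)
    have h2 : q ^ k * 2 ≤ q ^ (k + 1) := by
      rw [pow_succ]
      exact Nat.mul_le_mul_left _ hq2
    omega
  have h22 : 1440 < q ^ 22 := lt_of_lt_of_le (by norm_num) (Nat.pow_le_pow_left hq2 22)
  calc Nat.card ↥H * q ^ 26 ≤ 1440 * q ^ 26 := Nat.mul_le_mul_right _ hH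
    _ < q ^ 22 * q ^ 26 := Nat.mul_lt_mul_of_pos_right h22 (by positivity)
    _ = q ^ 24 * q ^ 1 * q ^ 5 * q ^ 7 * q ^ 11 * 1 := by ring
    _ ≤ q ^ 24 * (q ^ 2 - 1) * (q ^ 6 - 1) * (q ^ 8 - 1) * (q ^ 12 - 1) * (q - 1) := by
      refine Nat.mul_le_mul (Nat.mul_le_mul (Nat.mul_le_mul (Nat.mul_le_mul (Nat.mul_le_mul le_rfl (key 1)) (key 5))
        (key 7)) (key 11)) (by omega)

theorem six_two_of (D : Deps.{u}) [CharP F 2] {φ : ↥(alternatingGroup (Fin 6)) →* ↥(chevF4.group F)} (hM : MaxAlt H 6 φ) : False := by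
  haveI hS : IsSimpleGroup ↥(chevF4.group F) := (Cfsg.Agent.S1054.result chevF4 (by simp)).1
  obtain ⟨M, N, _, _, _, _, ρ, σ, P⟩ := D.exists_pkg F
  haveI : Fact (Nat.Prime 2) := ⟨Nat.prime_two⟩
  -- Scott for `A₆`
  have inv : ∀ (V : Type u) [AddCommGroup V] [Module F V] (ρ : Representation F ↥(chevF4.group F) V), Mod26 ρ →
      Representation.invariants (MonoidHom.comp ρ φ) = ⊥ := by
    intro V _ _ ρ h
    haveI := h.fin
    exact D.no_fixed ρ h.inv hM (by norm_num) (by rw [h.dim]; exact card_bound hM)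
  have scott : ∀ (V : Type u) [AddCommGroup V] [Module F V] (ρ : Representation F ↥(chevF4.group F) V), Mod26 ρ →
      ∀ x y : ↥(alternatingGroup (Fin 6)), Subgroup.closure {x, y} = ⊤ →
      ev (ρ (φ x)) 1 + ev (ρ (φ y)) 1 + ev (ρ (φ (x * y))) 1 ≤ 26 := by
    intro V _ _ ρ h x y hxy
    haveI := h.fin
    obtain ⟨B, -, hB, hinv⟩ := h.form
    have := D.scott_form (ρ.comp φ) hxy B hB (fun g v w => hinv _ _ _)
    rw [inv V ρ h, finrank_bot, h.dim] at this
    exact this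
  have invol : ∀ (V : Type u) [AddCommGroup V] [Module F V] (ρ : Representation F ↥(chevF4.group F) V), Mod26 ρ →
      ∀ x : ↥(alternatingGroup (Fin 6)), orderOf x = 2 → 13 ≤ ev (ρ (φ x)) 1 := by
    intro V _ _ ρ h x hx
    haveI := h.fin
    have h1 : (ρ (φ x)) ^ 2 = 1 := by
      rw [← map_pow, ← map_pow, ← hx, pow_orderOf_eq_one, map_one, map_one]
    have := D.le_mul_ev 2 h1
    rw [h.dim] at this
    omega
  have five : ∀ (V : Type u) [AddCommGroup V] [Module F V] (ρ : Representation F ↥(chevF4.group F) V), Mod26 ρ →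
      ∀ x : ↥(alternatingGroup (Fin 6)), orderOf x = 5 → ev (ρ (φ x)) 1 < 8 := by
    intro V _ _ ρ h x hx
    by_contra hlt
    rw [not_lt] at hlt
    haveI := h.fin
    obtain ⟨a, b, hab, ha, hb, hc⟩ := D.gen6a
    have h1 := scott V ρ h a b hab
    have h2 := invol V ρ h a (by rw [orderOf_of_cycleType ha]; rfl)
    have h3 : ev (ρ (φ b)) 1 = ev (ρ (φ x)) 1 :=
      ev_eq_of_five (ρ.comp φ) hx (by rw [orderOf_of_cycleType hb]; rfl)
    have h4 : ev (ρ (φ (a * b))) 1 = ev (ρ (φ x)) 1 :=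
      ev_eq_of_five (ρ.comp φ) hx (by rw [orderOf_of_cycleType hc]; rfl)
    omega
  haveI := P.m.fin
  have h5 : ∀ x : ↥(alternatingGroup (Fin 6)), orderOf x = 5 → ev (ρ (φ x)) 1 = 6 := by
    intro x hx
    rcases P.five (φ x) (by
        intro h
        rw [← map_one φ] at h
        rw [hM.inj h, orderOf_one] at hx
        omega) (by rw [← map_pow, ← hx, pow_orderOf_eq_one, map_one]) with h | h | h
    · exact absurd (five M ρ P.m x hx) (not_lt.2 h)
    · exact absurd (five N σ P.n x hx) (not_lt.2 h)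
    · exact h.1
  have h3' : ∀ x : ↥(alternatingGroup (Fin 6)), orderOf x = 3 → ev (ρ (φ x)) 1 = 8 ∨ ev (ρ (φ x)) 1 = 14 := by
    intro x hx
    exact P.three (φ x) (by
        intro h
        rw [← map_one φ] at h
        rw [hM.inj h, orderOf_one] at hx
        omega) (by rw [← map_pow, ← hx, pow_orderOf_eq_one, map_one])
  obtain ⟨a, b, hab, ha, hb, hc⟩ := D.gen6b
  have h1 := scott M ρ P.m a b hab
  have h2 := h5 (a * b) (by rw [orderOf_of_cycleType hc]; rfl)
  have h3a := h3' a (by rw [orderOf_of_cycleType ha]; rfl)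
  have h3b := h3' b (by rw [orderOf_of_cycleType hb]; rfl)
  have h3 : ∀ x : ↥(alternatingGroup (Fin 6)), (x : Perm (Fin 6)).cycleType = {3} → ev (ρ (φ x)) 1 = 8 := by
    intro x hx
    have : ev (ρ (φ x)) 1 = ev (ρ (φ a)) 1 := ev_eq_of_three (ρ.comp φ) ha hx
    omega
  obtain ⟨B, hB0, hB, hinv⟩ := P.m.form
  exact core D (ρ.comp φ) (inv M ρ P.m) B hB0 hB (fun g v w => hinv _ _ _) P.m.dim (fun g hg => invol M ρ P.m g hg)
    (fun g hg => h5 g hg) (fun g hg => h3 g hg)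

end Cfsg.Agent.H541.SixTwo
end

-- part: H541/F4CasesSixTwo
section
/-!
# S5926, characteristic 2, degree 6 (helper541)
-/

set_option autoImplicit false

namespace Cfsg.Agent.H952.F4.Cases

open Module
open Cfsg.Lie Cfsg.Agent.H952.F4

universe u

variable {F : Type u} [Field F] [Finite F] {H : Subgroup ↥(chevF4.group F)}

/-- the results used in `Cfsg.Agent.H541.SixTwo` -/
theorem sixTwoDeps : Cfsg.Agent.H541.SixTwo.Deps.{u} where
  scott_form := Scott.scott_form
  le_mul_ev := Eig.le_mul_ev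
  five_le_three := AFive.five_le_three
  gen5 := Gen.gen5
  gen6a := Gen.gen6a
  gen6b := Gen.gen6b
  exists_pkg := Two.exists_pkg
  no_fixed := MaxA.no_fixed

/-- F*(H) is not of type `A₆` in characteristic 2 -/
theorem six_two [CharP F 2] {φ : ↥(alternatingGroup (Fin 6)) →* ↥(chevF4.group F)} (hM : MaxAlt H 6 φ) : False :=
  Cfsg.Agent.H541.SixTwo.six_two_of sixTwoDeps hM

end Cfsg.Agent.H952.F4.Cases
end

-- part: H952/F4/BigTwo
section
/-!
# S5926, part Z5: `7 ≤ n ≤ 10`, characteristic 2 (backup of helper952)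
-/

set_option autoImplicit false
set_option linter.unusedVariables false

namespace Cfsg.Agent.H952.F4.BigB

open Cfsg Cfsg.Lie Module Equiv
open Cfsg.Agent.H177.F4

universe u

variable {F : Type u} [Field F] [Finite F] {H : Subgroup ↥(chevF4.group F)} {n : ℕ}

theorem key {V : Type u} [AddCommGroup V] [Module F V] [CharP F 2] (hn : 7 ≤ n) (hn' : n ≤ 10)
    {φ : ↥(alternatingGroup (Fin n)) →* ↥(chevF4.group F)} (hM : MaxAlt H n φ)
    (τ : Representation F ↥(chevF4.group F) V) (hτ : Mod26 τ) {x₀ : ↥(alternatingGroup (Fin n))}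
    (hx₀ : (x₀ : Perm (Fin n)).cycleType = {7}) (h8 : ev (τ (φ x₀)) 1 = 8)
    (h5 : ∀ z : ↥(chevF4.group F), z ≠ 1 → z ^ 5 = 1 → (∃ g, g * z * g⁻¹ = z ^ 2) → ev (τ z) 1 = 6) : False := by
  have hfd := hτ.fin
  have hform : ∃ B : V →ₗ[F] V →ₗ[F] F, (∀ v, (∀ w, B v w = 0) → v = 0) ∧ (∀ g v w, B (τ g v) (τ g w) = B v w) := by
    obtain ⟨B, -, h1, h2⟩ := hτ.form
    exact ⟨B, h1, h2⟩
  have hinj := hM.inj
  have e2 : ∀ (a : ↥(alternatingGroup (Fin n))), a ^ 2 = 1 → 13 ≤ ev (τ (φ a)) 1 := by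
    intro a ha
    have h : (τ (φ a)) ^ 2 = 1 := by rw [← map_pow, ← map_pow, ha, map_one, map_one]
    have := Eig.le_mul_ev 2 h
    rw [hτ.dim] at this
    omega
  have e7 : ∀ (a : ↥(alternatingGroup (Fin n))), (a : Perm (Fin n)).cycleType = {7} → ev (τ (φ a)) 1 = 8 := by
    intro a ha
    rw [ev_seven hn φ τ ha hx₀, h8]
  have e5 : ∀ (a : ↥(alternatingGroup (Fin n))), a ≠ 1 → a ^ 5 = 1 → (∃ g, g * a * g⁻¹ = a ^ 2) →
      ev (τ (φ a)) 1 = 6 := by
    intro a ha ha' hg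
    obtain ⟨g, hg⟩ := hg
    refine h5 (φ a) ?_ (by rw [← map_pow, ha', map_one]) ⟨φ g, ?_⟩
    · intro h
      exact ha (hinj (h.trans (map_one φ).symm))
    · rw [← map_inv, ← map_mul, ← map_mul, hg, map_pow]
  rcases (by omega : n = 7 ∨ n = 8 ∨ n = 9 ∨ n = 10) with h | h | h | h
  · subst h
    obtain ⟨x, y, hgen, hx, hy, hxy⟩ := Gen.gen7
    have h1 := scott_le hM hn hn' τ hfd hτ.dim hform hτ.inv hgen
    have h2 := e2 x (pow_of_type hx (by decide))
    have h3 := e5 y (ne_one_of_type hy (by decide)) (pow_of_type hy (by decide)) (rat_five hn hy)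
    have h4 := e7 (x * y) hxy
    omega
  · subst h
    obtain ⟨x, y, hgen, hx, hy, hxy⟩ := Gen.gen8
    have h1 := scott_le hM hn hn' τ hfd hτ.dim hform hτ.inv hgen
    have h2 := e2 x (pow_of_type hx (by decide))
    have h3 := e7 y hy
    have h4 := e7 (x * y) hxy
    omega
  · subst h
    obtain ⟨x, y, hgen, hx, hy, hxy⟩ := Gen.gen9
    have h1 := scott_le hM hn hn' τ hfd hτ.dim hform hτ.inv hgen
    have h2 := e2 x (pow_of_type hx (by decide))
    have h3 := e7 y hy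
    have h4 := e7 (x * y) hxy
    omega
  · subst h
    obtain ⟨x, y, hgen, hx, hy, hxy⟩ := Gen.gen10
    have h1 := scott_le hM hn hn' τ hfd hτ.dim hform hτ.inv hgen
    have h2 := e2 x (pow_of_type hx (by decide))
    have h3 := e7 y hy
    have h4 := e5 (x * y) (ne_one_of_type hxy (by decide)) (pow_of_type hxy (by decide)) (rat_55 (le_refl 10) hxy)
    omega

theorem big_two [CharP F 2] (hn : 7 ≤ n) (hn' : n ≤ 10) {φ : ↥(alternatingGroup (Fin n)) →* ↥(chevF4.group F)}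
    (hM : MaxAlt H n φ) : False := by
  obtain ⟨M, N, _, _, _, _, ρ, σ, hP⟩ := Two.exists_pkg F
  obtain ⟨x, hx⟩ := exists_seven hn
  have hx1 : φ x ≠ 1 := by
    intro h
    exact ne_one_of_type hx (by decide) (hM.inj (h.trans (map_one φ).symm))
  have hx7 : φ x ^ 7 = 1 := by rw [← map_pow, pow_of_type hx (by decide), map_one]
  obtain ⟨g, hg⟩ := rat_seven hn hx
  rcases hP.seven_rat (φ x) hx1 hx7 ⟨φ g, by rw [← map_inv, ← map_mul, ← map_mul, hg, map_pow]⟩ with h | h
  · exact key hn hn' hM ρ hP.m hx h fun z h1 h2 h3 => (hP.five_rat z h1 h2 h3).1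
  · exact key hn hn' hM σ hP.n hx h fun z h1 h2 h3 => (hP.five_rat z h1 h2 h3).2

end Cfsg.Agent.H952.F4.BigB
end

-- part: H952/F4/BigFive
section
/-!
# S5926, part Z5: `7 ≤ n ≤ 10`, characteristic 5 (backup of helper952)
-/

set_option autoImplicit false
set_option linter.unusedVariables false

namespace Cfsg.Agent.H952.F4.BigB

open Cfsg Cfsg.Lie Module Equiv
open Cfsg.Agent.H177.F4
open Cfsg.Agent.GpExc.Field (emb emb_injective)

universe u

variable {F : Type u} [Field F] [Finite F]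

theorem two_fifteen [CharP F 5] {ρ : ↥(chevF4.group F) →* GL I27 F} (hρ : IsJ ρ)
    (ψ : ↥(alternatingGroup (Fin 7)) →* ↥(chevF4.group F)) (hψ : Function.Injective ψ) :
    ev (JK ρ (ψ qa)) 1 = 15 := by
  have hF5 : Fact (Nat.Prime 5) := ⟨Nat.prime_five⟩
  have hT := Tor.tab_finite 5 hρ
  obtain ⟨⟨ra, rb, rb', rab, rab'⟩, ⟨rt3, rt1, rta, rtb⟩, ⟨ru3, ru1, rua, rub⟩, ⟨rz, rw', rzw, rs, rsz, rsw⟩,
    ⟨rg, rr, rr', rm⟩, rne⟩ := rel7
  have hne : ∀ x : ↥(alternatingGroup (Fin 7)), x ≠ 1 → ψ x ≠ 1 := fun x hx h => hx (hψ (h.trans (map_one ψ).symm))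
  have h2F : (2 : F) ≠ 0 := by
    intro h
    have h1 : ((2 : ℕ) : F) = 0 := by exact_mod_cast h
    rw [CharP.cast_eq_zero_iff F 5] at h1
    omega
  rcases hT.two (by norm_num) (ψ qa) (hne _ rne) (by rw [← map_mul, ra, map_one]) with h | h
  · exact h.1
  exfalso
  have ha : ev (JK ρ (ψ qa)) 1 = 11 := h.1
  have cj : ∀ g x : ↥(alternatingGroup (Fin 7)), ev (JK ρ (ψ (g * x * g⁻¹))) 1 = ev (JK ρ (ψ x)) 1 :=
    fun g x => ev_map ψ (JK ρ) g x 1
  have hb : ev (JK ρ (ψ qb)) 1 = 11 := by rw [← rta, cj, ha]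
  have hab : ev (JK ρ (ψ (qa * qb))) 1 = 11 := by rw [← rtb, cj, hb]
  have hb' : ev (JK ρ (ψ qb')) 1 = 11 := by rw [← rua, cj, ha]
  have hab' : ev (JK ρ (ψ (qa * qb'))) 1 = 11 := by rw [← rub, cj, hb']
  have hs : ev (JK ρ (ψ qs)) 1 = 11 := by rw [← rm, cj, ha]
  let J : Representation F ↥(alternatingGroup (Fin 7)) (I27 → F) := MonoidHom.comp (JK ρ) ψ
  have hJ : ∀ x, J x = JK ρ (ψ x) := fun x => rfl
  have hd := finrank_J F
  -- elements of order three have fixed spaces of dimension 9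
  have three : ∀ a b t : ↥(alternatingGroup (Fin 7)), a * a = 1 → b * b = 1 → a * b = b * a → t ^ 3 = 1 → t ≠ 1 →
      t * a * t⁻¹ = b → t * b * t⁻¹ = a * b → ev (JK ρ (ψ a)) 1 = 11 → ev (JK ρ (ψ b)) 1 = 11 →
      ev (JK ρ (ψ (a * b))) 1 = 11 → ev (JK ρ (ψ t)) 1 = 9 := by
    intro a b t h1 h2 h3 h4 h4' h5 h6 e1 e2 e3
    have k1 := Eig.four h2F J h1 h2 h3
    have k2 := Eig.a4 h2F J h1 h2 h3 h4 h5 h6
    have k3 : finrank F ↥(es (J a) 1 ⊓ es (J b) 1 ⊓ es (J t) 1) ≤ finrank F ↥(es (J a) 1 ⊓ es (J b) 1) :=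
      Submodule.finrank_mono inf_le_left
    rw [hJ, hJ, hJ, e1, e2, e3, hd] at k1
    have k2' : 3 * ev (JK ρ (ψ t)) 1 + finrank F ↥(es (J a) 1 ⊓ es (J b) 1) =
        3 * finrank F ↥(es (J a) 1 ⊓ es (J b) 1 ⊓ es (J t) 1) + 27 := by rw [← hd]; exact k2
    have k4 := hT.three (by norm_num) (ψ t) (hne _ h4') (by rw [← map_pow, h4, map_one])
    have k1' : 2 * finrank F ↥(es (J a) 1 ⊓ es (J b) 1) + 27 = 11 + 11 + 11 := by
      rw [← k1]
      rfl
    rcases k4 with h | h | h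
    · rw [h.1] at k2'
      (clear * - k3 k2' k1'; omega)
    · exact h.1
    · exact h.1
  have ht : ev (JK ρ (ψ qt)) 1 = 9 := three qa qb qt ra rb rab rt3 rt1 rta rtb ha hb hab
  have hu : ev (JK ρ (ψ (qz * qw))) 1 = 9 := three qa qb' (qz * qw) ra rb' rab' ru3 ru1 rua rub ha hb' hab'
  have hz : ev (JK ρ (ψ qz)) 1 = 9 := by rw [← rr, cj, ht]
  have hw : ev (JK ρ (ψ qw)) 1 = 9 := by rw [← rr', cj, ht]
  have hu' : ev (JK ρ (ψ (qz * qw⁻¹))) 1 = 9 := by rw [← rg, cj, hu]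
  -- the algebraic closure
  have hcharK : CharP (AlgebraicClosure F) 5 :=
    charP_of_injective_algebraMap (algebraMap F (AlgebraicClosure F)).injective 5
  obtain ⟨ρ', hρ'⟩ := JMod.exists_isJ (AlgebraicClosure F)
  have h3K : (3 : AlgebraicClosure F) ≠ 0 := by
    intro h
    have h1 : ((3 : ℕ) : AlgebraicClosure F) = 0 := by exact_mod_cast h
    rw [CharP.cast_eq_zero_iff (AlgebraicClosure F) 5] at h1
    omega
  let f := algebraMap F (AlgebraicClosure F)
  let J' : Representation (AlgebraicClosure F) ↥(alternatingGroup (Fin 7)) (I27 → AlgebraicClosure F) :=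
    MonoidHom.comp (JK ρ') ((emb hF4 f).comp ψ)
  have hJ' : ∀ x, ev (J' x) 1 = ev (JK ρ (ψ x)) 1 := by
    intro x
    have := Chg.ev_J f hρ hρ' (ψ x) 1
    rw [map_one] at this
    exact this
  have k := Eig.nine h3K J' rz rw' rzw rs rsz rsw
  rw [hJ', hJ', hJ', hJ', hJ', hs, hz, hw, hu, hu', finrank_J] at k
  omega

theorem four_fifteen [CharP F 5] {ρ : ↥(chevF4.group F) →* GL I27 F} (hρ : IsJ ρ)
    (ψ : ↥(alternatingGroup (Fin 8)) →* ↥(chevF4.group F)) (hψ : Function.Injective ψ) :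
    ev (JK ρ (ψ ta)) 1 = 15 := by
  have hF5 : Fact (Nat.Prime 5) := ⟨Nat.prime_five⟩
  have hT := Tor.tab_finite 5 hρ
  obtain ⟨⟨ra, rb, rc, rab, rac, rbc⟩, ⟨u1, u2, u3, u4, u5, u6⟩, rne⟩ := rel8
  have hne : ψ ta ≠ 1 := fun h => rne (hψ (h.trans (map_one ψ).symm))
  have h2F : (2 : F) ≠ 0 := by
    intro h
    have h1 : ((2 : ℕ) : F) = 0 := by exact_mod_cast h
    rw [CharP.cast_eq_zero_iff F 5] at h1
    omega
  rcases hT.two (by norm_num) (ψ ta) hne (by rw [← map_mul, ra, map_one]) with h | h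
  · exact h.1
  exfalso
  have cj : ∀ g x : ↥(alternatingGroup (Fin 8)), ev (JK ρ (ψ (g * x * g⁻¹))) 1 = ev (JK ρ (ψ x)) 1 :=
    fun g x => ev_map ψ (JK ρ) g x 1
  let J : Representation F ↥(alternatingGroup (Fin 8)) (I27 → F) := MonoidHom.comp (JK ρ) ψ
  have hJ : ∀ x, J x = JK ρ (ψ x) := fun x => rfl
  have ha : ev (JK ρ (ψ ta)) 1 = 11 := h.1
  have hb : ev (JK ρ (ψ tb)) 1 = 11 := by rw [← u1, cj, ha]
  have hc : ev (JK ρ (ψ tc)) 1 = 11 := by rw [← u2, cj, hb]
  have hab : ev (JK ρ (ψ (ta * tb))) 1 = 11 := by rw [← u3, cj, hc]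
  have hbc : ev (JK ρ (ψ (tb * tc))) 1 = 11 := by rw [← u4, cj, hab]
  have habc : ev (JK ρ (ψ (ta * tb * tc))) 1 = 11 := by rw [← u5, cj, hbc]
  have hac : ev (JK ρ (ψ (ta * tc))) 1 = 11 := by rw [← u6, cj, habc]
  have k := Eig.eight h2F J ra rb rc rab rac rbc
  have hd := finrank_J F
  simp only [hJ] at k
  rw [ha, hb, hc, hab, hac, hbc, habc, hd] at k
  omega

variable {H : Subgroup ↥(chevF4.group F)} {n : ℕ}

theorem big_five [CharP F 5] (hn : 7 ≤ n) (hn' : n ≤ 10) {φ : ↥(alternatingGroup (Fin n)) →* ↥(chevF4.group F)}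
    (hM : MaxAlt H n φ) : False := by
  have hF5 : Fact (Nat.Prime 5) := ⟨Nat.prime_five⟩
  obtain ⟨ρ, hρ⟩ := JMod.exists_isJ F
  obtain ⟨V, _, _, σ, hσ, -⟩ := Fix.exists_V26 5 (by norm_num) (by norm_num) hρ
  have hfd := hσ.fin
  have e2 : ∀ x : ↥(alternatingGroup (Fin n)), (x : Perm (Fin n)).cycleType = {2, 2} → ev (σ (φ x)) 1 = 14 := by
    intro x hx
    obtain ⟨ι, hι, rfl⟩ := exists_emb hn qa x (hx.trans qa_type.symm)
    have h1 := two_fifteen hρ (φ.comp ι) (hM.inj.comp hι)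
    have h2 : (orderOf (φ (ι qa))).Coprime 5 := by
      have h3 : orderOf (φ (ι qa)) ∣ 2 := by
        apply orderOf_dvd_of_pow_eq_one
        rw [← map_pow, ← map_pow, pow_two, rel7.1.1, map_one, map_one]
      exact Nat.Coprime.coprime_dvd_left h3 (by norm_num)
    have h3 := hσ.ev_eq _ h2
    have h4 : ev (JK ρ (φ (ι qa))) 1 = 15 := h1
    omega
  have e4 : ∀ x : ↥(alternatingGroup (Fin n)), (x : Perm (Fin n)).cycleType = {2, 2, 2, 2} → 8 ≤ n →
      ev (σ (φ x)) 1 = 14 := by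
    intro x hx h8
    obtain ⟨ι, hι, rfl⟩ := exists_emb h8 ta x (hx.trans ta_type.symm)
    have h1 := four_fifteen hρ (φ.comp ι) (hM.inj.comp hι)
    have h2 : (orderOf (φ (ι ta))).Coprime 5 := by
      have h3 : orderOf (φ (ι ta)) ∣ 2 := by
        apply orderOf_dvd_of_pow_eq_one
        rw [← map_pow, ← map_pow, pow_two, rel8.1.1, map_one, map_one]
      exact Nat.Coprime.coprime_dvd_left h3 (by norm_num)
    have h3 := hσ.ev_eq _ h2
    have h4 : ev (JK ρ (φ (ι ta))) 1 = 15 := h1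
    omega
  have e7 : ∀ x : ↥(alternatingGroup (Fin n)), (x : Perm (Fin n)).cycleType = {7} → ev (σ (φ x)) 1 = 8 := by
    intro x hx
    have hc : (({7} : Multiset ℕ)) = (g7 : Perm (Fin 7)).cycleType := by decide +kernel
    obtain ⟨ι, hι, rfl⟩ := exists_emb hn ⟨g7, g7_mem⟩ x (hx.trans hc)
    have ho : orderOf (⟨g7, g7_mem⟩ : ↥(alternatingGroup (Fin 7))) = 7 := by
      rw [← Subgroup.orderOf_coe]
      show orderOf g7 = 7
      rw [← Perm.lcm_cycleType, ← hc, Multiset.lcm_singleton, normalize_eq]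
    have h1 := NoSeven.seven_five hρ (φ.comp ι) (hM.inj.comp hι) _ ho
    have h2 : (orderOf (φ (ι ⟨g7, g7_mem⟩))).Coprime 5 := by
      have h3 : orderOf (φ (ι ⟨g7, g7_mem⟩)) ∣ 7 := by
        apply orderOf_dvd_of_pow_eq_one
        have h4 := pow_orderOf_eq_one (⟨g7, g7_mem⟩ : ↥(alternatingGroup (Fin 7)))
        rw [ho] at h4
        rw [← map_pow, ← map_pow, h4, map_one, map_one]
      exact Nat.Coprime.coprime_dvd_left h3 (by norm_num)
    have h3 := hσ.ev_eq _ h2
    have h4 : ev (JK ρ (φ (ι ⟨g7, g7_mem⟩))) 1 = 9 := h1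
    omega
  have e5 : ∀ x : ↥(alternatingGroup (Fin n)), x ^ 5 = 1 → 6 ≤ ev (σ (φ x)) 1 := by
    intro x hx
    have h1 : (σ (φ x)) ^ 5 = 1 := by rw [← map_pow, ← map_pow, hx, map_one, map_one]
    have h2 := Eig.le_mul_ev 5 h1
    rw [hσ.dim] at h2
    omega
  rcases (by omega : n = 7 ∨ n = 8 ∨ n = 9 ∨ n = 10) with h | h | h | h
  · subst h
    obtain ⟨x, y, hgen, hx, hy, hxy⟩ := Gen.gen7
    have h1 := scott_le hM hn hn' σ hfd hσ.dim hσ.form hσ.inv hgen
    have h2 := e2 x hx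
    have h3 := e5 y (pow_of_type hy (by decide))
    have h4 := e7 (x * y) hxy
    omega
  · subst h
    obtain ⟨x, y, hgen, hx, hy, hxy⟩ := Gen.gen8
    have h1 := scott_le hM hn hn' σ hfd hσ.dim hσ.form hσ.inv hgen
    have h2 := e2 x hx
    have h3 := e7 y hy
    have h4 := e7 (x * y) hxy
    omega
  · subst h
    obtain ⟨x, y, hgen, hx, hy, hxy⟩ := Gen.gen9
    have h1 := scott_le hM hn hn' σ hfd hσ.dim hσ.form hσ.inv hgen
    have h2 := e4 x hx (by norm_num)
    have h3 := e7 y hy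
    have h4 := e7 (x * y) hxy
    omega
  · subst h
    obtain ⟨x, y, hgen, hx, hy, hxy⟩ := Gen.gen10
    have h1 := scott_le hM hn hn' σ hfd hσ.dim hσ.form hσ.inv hgen
    have h2 := e4 x hx (by norm_num)
    have h3 := e7 y hy
    have h4 := e5 (x * y) (pow_of_type hxy (by decide))
    omega

end Cfsg.Agent.H952.F4.BigB
end

-- part: H952/F4/Final
section
/-!
# S5926: the final assembly (helper952)
-/

set_option autoImplicit false

namespace Cfsg.Agent.H952.F4.Final
open Cfsg Cfsg.Lie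
open Cfsg.Agent.GpExc.Field (emb emb_injective)
universe u

/-- `A_m` in `A_n`, `m ≤ n` -/
theorem exists_alt {m n : ℕ} (hn : m ≤ n) : ∃ i : ↥(alternatingGroup (Fin m)) →* ↥(alternatingGroup (Fin n)),
    Function.Injective i := by
  classical
  let e : Fin m ≃ {x : Fin n // x ∈ Set.range (Fin.castLE hn)} := Equiv.ofInjective _ (Fin.castLE_injective hn)
  let f : Equiv.Perm (Fin m) →* Equiv.Perm (Fin n) := Equiv.Perm.extendDomainHom e
  have hf : Function.Injective f := Equiv.Perm.extendDomainHom_injective e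
  have hmem : ∀ x : ↥(alternatingGroup (Fin m)), f (x : Equiv.Perm (Fin m)) ∈ alternatingGroup (Fin n) := by
    intro x
    rw [Equiv.Perm.mem_alternatingGroup]
    show Equiv.Perm.sign (Equiv.Perm.extendDomain (x : Equiv.Perm (Fin m)) e) = 1
    rw [Equiv.Perm.sign_extendDomain]
    exact Equiv.Perm.mem_alternatingGroup.1 x.2
  refine ⟨(f.comp (alternatingGroup (Fin m)).subtype).codRestrict _ hmem, ?_⟩
  intro a b hab
  have h := congrArg Subtype.val hab
  exact Subtype.ext (hf h)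

theorem final {F : Type u} [Field F] [Fintype F] (p : ℕ) [Fact p.Prime] [CharP F p]
    (H : Subgroup ↥(chevF4.group F)) (hH : IsCoatom H) (n : ℕ) (hn : 5 ≤ n)
    (hA : Nonempty (↥(generalizedFittingSubgroup ↥H) ≃* ↥(alternatingGroup (Fin n)))) :
    n = 6 ∧ p ≠ 2 ∧ p ≠ 5 := by
  have hsimple : IsSimpleGroup ↥(chevF4.group F) := (S1054.result chevF4 (by simp)).1
  have : Finite ↥(chevF4.group F) := inferInstance
  obtain ⟨φ, hM⟩ := MaxA.exists_maxAlt hH hn hA
  have hp2 : 2 ≤ p := (Fact.out : p.Prime).two_le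
  -- `n ≤ 10` for `p ≠ 11`
  have hb : p ≠ 11 → n ≤ 10 := by
    intro hp
    have h := S2657.result (F := F) p n φ.range ⊥ ⟨(QuotientGroup.quotientBot).trans
      (MonoidHom.ofInjective hM.inj).symm⟩
    simpa [hp] using h
  have h7 : n < 7 := by
    by_contra h7
    push Not at h7
    by_cases h2 : p = 2
    · subst h2
      exact BigB.big_two h7 (hb (by norm_num)) hM
    by_cases h5 : p = 5
    · subst h5
      exact BigB.big_five h7 (hb (by norm_num)) hM
    obtain ⟨i, hi⟩ := exists_alt h7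
    have : CharP (AlgebraicClosure F) p := charP_of_injective_algebraMap (algebraMap F (AlgebraicClosure F)).injective p
    exact NoSeven.no_seven p h2 h5 (H944.RootVals.hAlg_closure p F)
      ((emb hF4 (algebraMap F (AlgebraicClosure F))).comp (φ.comp i))
      ((emb_injective hF4 _).comp (hM.inj.comp hi))
  have h5 : n ≠ 5 := by
    rintro rfl
    rcases (show p = 2 ∨ p = 3 ∨ 5 ≤ p by
      rcases Nat.lt_or_ge p 5 with h | h
      · interval_cases p
        · exact Or.inl rfl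
        · exact Or.inr (Or.inl rfl)
        · exact absurd (Fact.out : Nat.Prime 4) (by norm_num)
      · exact Or.inr (Or.inr h)) with h | h | h
    · subst h
      exact Cases.five_two hM
    · subst h
      exact Cases.five_three hM
    · exact Cases.five_big p h hM
  obtain rfl : n = 6 := by omega
  refine ⟨rfl, ?_, ?_⟩
  · rintro rfl
    exact Cases.six_two hM
  · rintro rfl
    exact Cases.six_five hM

end Cfsg.Agent.H952.F4.Final
end

private theorem dce_534471bbfc65 : _root_.True := by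
  try have : _root_.True := by simp only [_root_.Equiv.Perm.extendDomainHom.congr_simp]
  try have : _root_.True := by simp only [_root_.Cfsg.Agent.H541.SixTwo.NN.eq_1]
  try have : _root_.True := by simp only [_root_.Cfsg.Agent.H952.F4.Cases.Five.NF.eq_1]
  exact _root_.True.intro
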